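import Mathlib

/-!
Multiple transitivity from a stabiliser chain: if in a descending chain of permutation groups
`H k` (fixing the first `k` base points) each `H k` moves the base point `b k` to every point of
an invariant set `Ω` other than the earlier base points, then `H 0` maps the base points to any
distinct points of `Ω`.
-/

set_option autoImplicit false

namespace Cfsg.Agent.Lib.Helper21

theorem exists_map_chain {α : Type*} (H : ℕ → Subgroup (Equiv.Perm α)) (b : ℕ → α) (Ω : Set α)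
    (hle : ∀ k, H k ≤ H 0)
    (hfix : ∀ k, ∀ g ∈ H k, ∀ i, i < k → g (b i) = b i)
    (hΩ : ∀ g ∈ H 0, ∀ p ∈ Ω, g p ∈ Ω)
    (n : ℕ)
    (htrans : ∀ k, k < n → ∀ q ∈ Ω, (∀ j, j < k → q ≠ b j) → ∃ g ∈ H k, g (b k) = q)
    (y : ℕ → α) (hyΩ : ∀ i, i < n → y i ∈ Ω)
    (hy : ∀ i j, i < n → j < n → y i = y j → i = j) :
    ∃ g ∈ H 0, ∀ i, i < n → g (b i) = y i := by
  induction n with
  | zero => exact ⟨1, (H 0).one_mem, fun i hi => absurd hi (Nat.not_lt_zero i)⟩
  | succ n ih =>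
    obtain ⟨g, hg, hgy⟩ := ih (fun k hk => htrans k (Nat.lt_succ_of_lt hk))
      (fun i hi => hyΩ i (Nat.lt_succ_of_lt hi))
      (fun i j hi hj => hy i j (Nat.lt_succ_of_lt hi) (Nat.lt_succ_of_lt hj))
    have hqΩ : g⁻¹ (y n) ∈ Ω := hΩ _ ((H 0).inv_mem hg) _ (hyΩ n (Nat.lt_succ_self n))
    have hqne : ∀ j, j < n → g⁻¹ (y n) ≠ b j := by
      intro j hj e
      have h1 : y n = g (b j) := by rw [← e]; exact (g.apply_symm_apply (y n)).symm
      rw [hgy j hj] at h1
      have := hy _ _ (Nat.lt_succ_self n) (Nat.lt_succ_of_lt hj) h1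
      omega
    obtain ⟨h, hh, hhn⟩ := htrans n (Nat.lt_succ_self n) _ hqΩ hqne
    refine ⟨g * h, (H 0).mul_mem hg (hle n hh), fun i hi => ?_⟩
    rw [Equiv.Perm.mul_apply]
    rcases Nat.lt_succ_iff_lt_or_eq.1 hi with hi | rfl
    · rw [hfix n h hh i hi, hgy i hi]
    · rw [hhn]
      exact g.apply_symm_apply (y i)

end Cfsg.Agent.Lib.Helper21
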