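import Cfsg.Agent.Lib.Helper21.SteinerCounts

/-!
Double counting of the intersections of an arbitrary set of points with the blocks of a Steiner
system.
-/

set_option autoImplicit false

namespace Cfsg.Agent.Lib.Helper21

open Cfsg Finset

variable {α : Type*} [Fintype α] [DecidableEq α]

/-- Number of blocks meeting `X` in exactly `j` points. -/
noncomputable def setInterCount (B : Set (Finset α)) (X : Finset α) (j : ℕ) : ℕ :=
  ((blocksFinset B).filter (fun c => (X ∩ c).card = j)).card

/-- Double counting: `i`-subsets of a set `X` against the blocks containing them. -/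
theorem steiner_set_sum {B : Set (Finset α)} (X : Finset α) (i lam : ℕ)
    (hlam : ∀ S ⊆ X, S.card = i → ((blocksFinset B).filter (S ⊆ ·)).card = lam) :
    ∑ j ∈ range (X.card + 1), j.choose i * setInterCount B X j = (X.card).choose i * lam := by
  classical
  have hmaps : ∀ c ∈ blocksFinset B, (X ∩ c).card ∈ range (X.card + 1) := by
    intro c _
    rw [mem_range, Nat.lt_succ_iff]
    exact card_le_card inter_subset_left
  have hfib := Finset.sum_fiberwise_of_maps_to hmaps (fun c => ((X ∩ c).card).choose i)
  have hleft : ∑ j ∈ range (X.card + 1), j.choose i * setInterCount B X j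
      = ∑ c ∈ blocksFinset B, ((X ∩ c).card).choose i := by
    rw [← hfib]
    apply sum_congr rfl
    intro j _
    rw [setInterCount, mul_comm, ← smul_eq_mul, ← sum_const]
    apply sum_congr rfl
    intro c hc
    rw [mem_filter] at hc
    rw [hc.2]
  rw [hleft]
  have h := Finset.sum_card_bipartiteAbove_eq_sum_card_bipartiteBelow (s := X.powersetCard i)
    (t := blocksFinset B) (fun S c => S ⊆ c)
  have h1 : ∀ S ∈ X.powersetCard i,
      (bipartiteAbove (fun S c => S ⊆ c) (blocksFinset B) S).card = lam := by
    intro S hS
    rw [mem_powersetCard] at hS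
    rw [← hlam S hS.1 hS.2]
    rfl
  have h2 : ∀ c ∈ blocksFinset B,
      (bipartiteBelow (fun S c => S ⊆ c) (X.powersetCard i) c).card = ((X ∩ c).card).choose i := by
    intro c _
    have : bipartiteBelow (fun S c => S ⊆ c) (X.powersetCard i) c = (X ∩ c).powersetCard i := by
      ext S
      simp only [bipartiteBelow, mem_filter, mem_powersetCard, subset_inter_iff]
      tauto
    rw [this, card_powersetCard]
  rw [sum_congr rfl h1, sum_congr rfl h2, sum_const, card_powersetCard, smul_eq_mul] at h
  rw [← h]

end Cfsg.Agent.Lib.Helper21
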