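import Cfsg.Agent.Lib.Helper21.GolaySteiner
import Cfsg.Agent.Lib.Helper21.SteinerSet

/-!
Intersection numbers of dodecads of `Cfsg.golayCode` with octads and with each other.
-/

set_option autoImplicit false

namespace Cfsg.Agent.Lib.Helper21

open Cfsg Finset

theorem mem_dodecads_iff (d : Finset GolayPt) :
    d ∈ dodecads ↔ ∃ v ∈ golayCode, support₂ v = d ∧ d.card = 12 := by
  unfold dodecads wordsOfWeight supports
  constructor
  · rintro ⟨⟨v, hv, rfl⟩, hc⟩
    exact ⟨v, hv, rfl, hc⟩
  · rintro ⟨v, hv, rfl, hc⟩
    exact ⟨⟨v, hv, rfl⟩, hc⟩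

theorem mem_supports_iff (b : Finset GolayPt) :
    b ∈ supports (golayCode : Set (GolayPt → ZMod 2)) ↔ ∃ v ∈ golayCode, support₂ v = b := by
  unfold supports
  rfl

theorem supports_symmDiff {a b : Finset GolayPt}
    (ha : a ∈ supports (golayCode : Set (GolayPt → ZMod 2)))
    (hb : b ∈ supports (golayCode : Set (GolayPt → ZMod 2))) :
    symmDiff a b ∈ supports (golayCode : Set (GolayPt → ZMod 2)) := by
  obtain ⟨v, hv, rfl⟩ := ha
  obtain ⟨w, hw, rfl⟩ := hb
  exact ⟨v + w, golayCode.add_mem hv hw, support₂_add v w⟩

theorem supports_compl {a : Finset GolayPt}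
    (ha : a ∈ supports (golayCode : Set (GolayPt → ZMod 2))) :
    aᶜ ∈ supports (golayCode : Set (GolayPt → ZMod 2)) := by
  obtain ⟨v, hv, rfl⟩ := ha
  exact ⟨1 + v, golayCode.add_mem one_mem_golay hv, support₂_one_add v⟩

theorem supports_card {a : Finset GolayPt}
    (ha : a ∈ supports (golayCode : Set (GolayPt → ZMod 2))) :
    a.card = 0 ∨ a.card = 8 ∨ a.card = 12 ∨ a.card = 16 ∨ a.card = 24 := by
  obtain ⟨v, hv, rfl⟩ := ha
  rw [card_support₂]
  exact golay_weights v hv

theorem octads_sub_supports {o : Finset GolayPt} (ho : o ∈ octads) :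
    o ∈ supports (golayCode : Set (GolayPt → ZMod 2)) := ho.1

theorem dodecads_sub_supports {d : Finset GolayPt} (hd : d ∈ dodecads) :
    d ∈ supports (golayCode : Set (GolayPt → ZMod 2)) := hd.1

theorem inter_symmDiff_self (d x : Finset GolayPt) : d ∩ symmDiff d x = d \ x := by
  ext p
  simp only [mem_inter, mem_symmDiff, mem_sdiff]
  tauto

theorem card_inter_symmDiff (d x : Finset GolayPt) :
    (d ∩ symmDiff d x).card + (d ∩ x).card = d.card := by
  rw [inter_symmDiff_self]
  exact card_sdiff_add_card_inter d x

theorem card_inter_compl (d x : Finset GolayPt) : (d ∩ xᶜ).card + (d ∩ x).card = d.card := by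
  have : d ∩ xᶜ = d \ x := by
    ext p
    simp only [mem_inter, mem_compl, mem_sdiff]
  rw [this]
  exact card_sdiff_add_card_inter d x

/-- An octad meets a dodecad in 2, 4 or 6 points. -/
theorem octad_inter_dodecad {o d : Finset GolayPt} (ho : o ∈ octads) (hd : d ∈ dodecads) :
    (d ∩ o).card = 2 ∨ (d ∩ o).card = 4 ∨ (d ∩ o).card = 6 := by
  have h := card_symmDiff_add d o
  have hs := supports_card (supports_symmDiff (dodecads_sub_supports hd) (octads_sub_supports ho))
  rw [hd.2, ho.2] at h
  have hle : (d ∩ o).card ≤ 8 := by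
    rw [← ho.2]; exact card_le_card inter_subset_right
  omega

theorem dodecad_octad_counts {d : Finset GolayPt} (hd : d ∈ dodecads) :
    setInterCount octads d 2 = 132 ∧ setInterCount octads d 4 = 495 ∧
      setInterCount octads d 6 = 132 := by
  classical
  have hz : ∀ j, j ≠ 2 → j ≠ 4 → j ≠ 6 → setInterCount octads d j = 0 := by
    intro j h2 h4 h6
    rw [setInterCount, card_eq_zero, filter_eq_empty_iff]
    intro o ho
    rw [mem_blocksFinset] at ho
    rcases octad_inter_dodecad ho hd with h | h | h <;> omega
  have e0 := steiner_set_sum (B := octads) d 0 759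
    (fun S _ h => (lam_5_8_24 card_golayPt octads_steiner S).1 h)
  have e1 := steiner_set_sum (B := octads) d 1 253
    (fun S _ h => (lam_5_8_24 card_golayPt octads_steiner S).2.1 h)
  have e2 := steiner_set_sum (B := octads) d 2 77
    (fun S _ h => (lam_5_8_24 card_golayPt octads_steiner S).2.2.1 h)
  rw [hd.2] at e0 e1 e2
  simp only [sum_range_succ, sum_range_zero] at e0 e1 e2
  rw [hz 0 (by omega) (by omega) (by omega), hz 1 (by omega) (by omega) (by omega),
    hz 3 (by omega) (by omega) (by omega), hz 5 (by omega) (by omega) (by omega),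
    hz 7 (by omega) (by omega) (by omega), hz 8 (by omega) (by omega) (by omega),
    hz 9 (by omega) (by omega) (by omega), hz 10 (by omega) (by omega) (by omega),
    hz 11 (by omega) (by omega) (by omega), hz 12 (by omega) (by omega) (by omega)] at e0 e1 e2
  norm_num [Nat.choose] at e0 e1 e2
  omega

/-- Two distinct dodecads meet in 0, 4, 6 or 8 points. -/
theorem dodecad_inter {d d' : Finset GolayPt} (hd : d ∈ dodecads) (hd' : d' ∈ dodecads)
    (hne : d' ≠ d) :
    (d ∩ d').card = 0 ∨ (d ∩ d').card = 4 ∨ (d ∩ d').card = 6 ∨ (d ∩ d').card = 8 := by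
  have h := card_symmDiff_add d d'
  have hs := supports_card (supports_symmDiff (dodecads_sub_supports hd) (dodecads_sub_supports hd'))
  rw [hd.2, hd'.2] at h
  have hne12 : (d ∩ d').card ≠ 12 := by
    intro h12
    apply hne
    have h1 : d ∩ d' = d := eq_of_subset_of_card_le inter_subset_left (by rw [h12, hd.2])
    have h2 : d ∩ d' = d' := eq_of_subset_of_card_le inter_subset_right (by rw [h12, hd'.2])
    rw [← h2, h1]
  omega

theorem symmDiff_symmDiff_self' (d x : Finset GolayPt) : symmDiff d (symmDiff d x) = x := by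
  rw [← symmDiff_assoc, symmDiff_self, bot_symmDiff]

/-- The dodecads meeting `d` in 8 points correspond to the octads meeting `d` in 4 points. -/
theorem dodecad_count_eight {d : Finset GolayPt} (hd : d ∈ dodecads) :
    ((blocksFinset dodecads).filter (fun d' => (d ∩ d').card = 8)).card = 495 := by
  classical
  rw [← (dodecad_octad_counts hd).2.1, setInterCount]
  apply card_nbij' (fun x => symmDiff d x) (fun x => symmDiff d x)
  · intro d' hd'
    simp only [coe_filter, Set.mem_setOf_eq, mem_blocksFinset] at hd' ⊢
    have hc := card_symmDiff_add d d'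
    have hi := card_inter_symmDiff d d'
    rw [hd.2, hd'.1.2, hd'.2] at hc
    rw [hd.2, hd'.2] at hi
    refine ⟨⟨supports_symmDiff (dodecads_sub_supports hd) (dodecads_sub_supports hd'.1), ?_⟩, ?_⟩
    · omega
    · omega
  · intro o ho
    simp only [coe_filter, Set.mem_setOf_eq, mem_blocksFinset] at ho ⊢
    have hc := card_symmDiff_add d o
    have hi := card_inter_symmDiff d o
    rw [hd.2, ho.1.2, ho.2] at hc
    rw [hd.2, ho.2] at hi
    refine ⟨⟨supports_symmDiff (dodecads_sub_supports hd) (octads_sub_supports ho.1), ?_⟩, ?_⟩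
    · omega
    · omega
  · intro x _; exact symmDiff_symmDiff_self' d x
  · intro x _; exact symmDiff_symmDiff_self' d x

theorem dodecad_compl {d : Finset GolayPt} (hd : d ∈ dodecads) : dᶜ ∈ dodecads := by
  refine ⟨supports_compl (dodecads_sub_supports hd), ?_⟩
  rw [card_compl, hd.2, card_golayPt]

/-- The dodecads meeting `d` in 4 points are the complements of those meeting it in 8 points. -/
theorem dodecad_count_four {d : Finset GolayPt} (hd : d ∈ dodecads) :
    ((blocksFinset dodecads).filter (fun d' => (d ∩ d').card = 4)).card = 495 := by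
  classical
  rw [← dodecad_count_eight hd]
  apply card_nbij' (fun x => xᶜ) (fun x => xᶜ)
  · intro d' hd'
    simp only [coe_filter, Set.mem_setOf_eq, mem_blocksFinset] at hd' ⊢
    have hi := card_inter_compl d d'
    rw [hd.2, hd'.2] at hi
    exact ⟨dodecad_compl hd'.1, by omega⟩
  · intro d' hd'
    simp only [coe_filter, Set.mem_setOf_eq, mem_blocksFinset] at hd' ⊢
    have hi := card_inter_compl d d'
    rw [hd.2, hd'.2] at hi
    exact ⟨dodecad_compl hd'.1, by omega⟩
  · intro x _; exact compl_compl x
  · intro x _; exact compl_compl x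

theorem dodecad_count_six {d : Finset GolayPt} (hd : d ∈ dodecads) :
    ((blocksFinset dodecads).filter (fun d' => (d ∩ d').card = 6)).card = 1584 := by
  classical
  have htot : (blocksFinset dodecads).card = 2576 := by rw [← ncard_blocks, ncard_dodecads]
  have h12 : (blocksFinset dodecads).filter (fun d' => (d ∩ d').card = 12) = {d} := by
    ext d'
    simp only [mem_filter, mem_blocksFinset, mem_singleton]
    constructor
    · rintro ⟨hd', hc⟩
      by_contra hne
      rcases dodecad_inter hd hd' hne with h | h | h | h <;> omega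
    · rintro rfl
      exact ⟨hd, by rw [inter_self, hd.2]⟩
  have h0 : (blocksFinset dodecads).filter (fun d' => (d ∩ d').card = 0) = {dᶜ} := by
    ext d'
    simp only [mem_filter, mem_blocksFinset, mem_singleton, card_eq_zero]
    constructor
    · rintro ⟨hd', hc⟩
      apply eq_of_subset_of_card_le
      · intro x hx
        rw [mem_compl]
        intro hxd
        have : x ∈ d ∩ d' := mem_inter.2 ⟨hxd, hx⟩
        rw [hc] at this
        exact absurd this (notMem_empty _)
      · rw [(dodecad_compl hd).2, hd'.2]
    · rintro rfl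
      refine ⟨dodecad_compl hd, ?_⟩
      ext x
      simp
  have hmaps : ∀ d' ∈ blocksFinset dodecads, (d ∩ d').card ∈ ({0, 4, 6, 8, 12} : Finset ℕ) := by
    intro d' hd'
    rw [mem_blocksFinset] at hd'
    by_cases hne : d' = d
    · rw [hne, inter_self, hd.2]; decide
    · rcases dodecad_inter hd hd' hne with h | h | h | h <;> rw [h] <;> decide
  have hsum := card_eq_sum_card_fiberwise hmaps
  rw [htot] at hsum
  rw [sum_insert (by decide), sum_insert (by decide), sum_insert (by decide),
    sum_insert (by decide), sum_singleton, h0, h12, dodecad_count_four hd,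
    dodecad_count_eight hd, card_singleton, card_singleton] at hsum
  omega

end Cfsg.Agent.Lib.Helper21
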