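import Cfsg.Agent.Lib.Helper21.GolayCon
import Cfsg.Agent.Lib.Helper21.ChainTrans
import Cfsg.Agent.Lib.Helper21.GolayDodecads
import Cfsg.Prelude.Def_Spor_Mathieu

/-!
The stabiliser `Cfsg.Spor.M12` of the dodecad of squares and its point stabiliser
`Cfsg.Spor.M11`: orders, sharp `5`-transitivity on the dodecad, `3`-transitivity of `M11` on the
complement, and the same facts for an arbitrary dodecad.
-/

set_option autoImplicit false

namespace Cfsg.Agent.Lib.Helper21

open Cfsg
open scoped Pointwise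

theorem card_stabilizer_subgroup {G X : Type*} [Group G] [MulAction G X] (H : Subgroup G)
    (a : X) : Nat.card (MulAction.stabilizer H a) = Nat.card ↥(H ⊓ MulAction.stabilizer G a) := by
  have e : ↥(MulAction.stabilizer H a) ≃ ↥(H ⊓ MulAction.stabilizer G a) :=
    { toFun := fun x => ⟨((x : H) : G), ⟨(x : H).2, x.2⟩⟩
      invFun := fun y => ⟨⟨y, y.2.1⟩, y.2.2⟩
      left_inv := fun _ => rfl
      right_inv := fun _ => rfl }
  exact Nat.card_congr e

theorem mem_maskFS_diff (U : ℕ) (Fs : List ℕ) (q : GolayPt) (hU : q ∈ maskFS U)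
    (hF : ∀ j ∈ Fs, q ≠ ptN j) : q ∈ maskFS (U &&& (posMask Fs ^^^ 0xFFFFFF)) := by
  rw [maskFS_and, Finset.mem_inter, maskFS_compl, Finset.mem_compl]
  refine ⟨hU, fun h => ?_⟩
  rw [mem_maskFS, testBit_posMask] at h
  exact hF _ h (ptN_gEquiv q).symm

/-! ### The dodecad of squares -/

/-- Mask of the dodecad of squares. -/
def dsq : ℕ := 0x5335F

theorem maskFS_dsq : maskFS dsq = Spor.squareDodecad := by
  have h : toMask (qrWord 0) = dsq := by decide +kernel
  unfold Spor.squareDodecad
  rw [← h, ← fsMask_support₂, maskFS_fsMask]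

theorem squareDodecad_mem : Spor.squareDodecad ∈ dodecads := by
  rw [mem_dodecads_iff]
  refine ⟨qrWord 0, qrWord_mem 0, rfl, ?_⟩
  rw [← maskFS_dsq, card_maskFS _ (by decide)]
  decide +kernel

theorem stabM_dsq_iff (g : Equiv.Perm GolayPt) :
    StabM g dsq ↔ g • Spor.squareDodecad = Spor.squareDodecad := by
  unfold StabM
  rw [maskFS_dsq]

theorem conSub_dsq_nil : conSub [dsq] [] = Spor.M12 := by
  ext g
  unfold Spor.M12
  rw [mem_conSub, Subgroup.mem_inf]
  constructor
  · intro h
    exact ⟨h.1, (stabM_dsq_iff g).1 (h.2.1 dsq (by simp))⟩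
  · intro h
    refine ⟨h.1, fun D hD => ?_, fun i hi => absurd hi (List.not_mem_nil)⟩
    rw [List.mem_singleton] at hD
    rw [hD]
    exact (stabM_dsq_iff g).2 h.2

theorem conSub_dsq_zero : conSub [dsq] [0] = Spor.M11 := by
  unfold Spor.M11
  rw [conSub_cons, conSub_dsq_nil]
  rfl

/-- Fixed positions at level `k` of the chain of `M12`. -/
def m12Fs : ℕ → List ℕ
  | 0 => []
  | k + 1 => k :: m12Fs k

theorem mem_m12Fs (k i : ℕ) : i ∈ m12Fs k ↔ i < k := by
  induction k with
  | zero => simp [m12Fs]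
  | succ k ih =>
    rw [m12Fs, List.mem_cons, ih]
    omega

/-- Transversal words of the chain of `M12` along the positions `0..4`. -/
def m12Words : ℕ → List ℕ
  | 0 => [1, 1635852, 1097074, 277952, 488280, 1402876, 121696, 1923928, 23680, 351832, 515200, 95064]
  | 1 => [1, 127, 5199820, 31, 511, 20799283, 95667005, 5660152, 25418766, 22795768, 7]
  | 2 => [1, 118348157, 321213912, 282798047, 114162930, 433018738, 1979727733, 19390329, 92134972, 91183075]
  | 3 => [1, 27367141630, 1232073, 31906954838, 6354690, 26021475158, 4347864537, 1702875094, 4885478627]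
  | 4 => [1, 395906131772, 481251820320, 5851260684, 2113886012, 29888361342, 118047887218, 485279957120]
  | _ => []

/-- Orbit masks of the chain of `M12`. -/
def m12E : ℕ → ℕ
  | 0 => 0x5335F
  | 1 => 0x5335E
  | 2 => 0x5335C
  | 3 => 0x53358
  | 4 => 0x53350
  | _ => 0

/-- Base positions outside the dodecad of squares. -/
def m11B : ℕ → ℕ
  | 0 => 5
  | 1 => 7
  | 2 => 10
  | _ => 0

/-- Fixed positions at the levels of the chain of `M11` on the complement. -/
def m11Fs : ℕ → List ℕ
  | 0 => [0]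
  | k + 1 => m11B k :: m11Fs k

/-- Transversal words of the chain of `M11` on the complement of the dodecad. -/
def m11Words : ℕ → List ℕ
  | 0 => [1, 511, 127, 5660152, 4928295, 26079282, 20799283, 1232073, 31, 7, 7523529, 6354690]
  | 1 => [1, 325908429, 522706809, 1930231349, 1121704131, 4952172439, 427611586, 23540488, 485739532, 453970994, 113499150]
  | 2 => [1, 2092118655, 29474387286, 6488742135, 4487067696, 26809963968, 416120590, 1823683198, 5231870848, 5086477797]
  | _ => []

/-- Orbit masks of the chain of `M11` on the complement. -/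
def m11E : ℕ → ℕ
  | 0 => 0xFACCA0
  | 1 => 0xFACC80
  | 2 => 0xFACC00
  | _ => 0
theorem m12_ok : ∀ k, k < 5 →
    levelOkC 32 [dsq] (m12Fs k) k (m12Words k) [(0, dsq, true)] (m12E k) = true := by
  decide +kernel

theorem m11_ok : ∀ k, k < 3 →
    levelOkC 32 [dsq] (m11Fs k) (m11B k) (m11Words k) [(0, dsq, false)] (m11E k) = true := by
  decide +kernel

theorem popc_m12E : popc 24 (m12E 0) = 12 ∧ popc 24 (m12E 1) = 11 ∧ popc 24 (m12E 2) = 10 ∧
    popc 24 (m12E 3) = 9 ∧ popc 24 (m12E 4) = 8 := by decide +kernel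

/-- The order of `M12`. -/
theorem card_M12 : Nat.card Spor.M12 = 95040 := by
  have h := card_stabilizer_dodecad Spor.squareDodecad squareDodecad_mem
  rw [card_stabilizer_subgroup] at h
  exact h

theorem m12_card (k : ℕ) (hk : k < 5) :
    Nat.card (conSub [dsq] (m12Fs k)) = popc 24 (m12E k) * Nat.card (conSub [dsq] (m12Fs (k + 1))) :=
  level_cardC 32 _ _ _ _ _ _ (m12_ok k hk)

theorem card_conSub_m12_five : Nat.card (conSub [dsq] (m12Fs 5)) = 1 := by
  have h0 := m12_card 0 (by norm_num)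
  have h1 := m12_card 1 (by norm_num)
  have h2 := m12_card 2 (by norm_num)
  have h3 := m12_card 3 (by norm_num)
  have h4 := m12_card 4 (by norm_num)
  rw [popc_m12E.1] at h0
  rw [popc_m12E.2.1] at h1
  rw [popc_m12E.2.2.1] at h2
  rw [popc_m12E.2.2.2.1] at h3
  rw [popc_m12E.2.2.2.2] at h4
  have hc : Nat.card (conSub [dsq] (m12Fs 0)) = 95040 := by
    show Nat.card (conSub [dsq] []) = 95040
    rw [conSub_dsq_nil]
    exact card_M12
  simp only [Nat.reduceAdd] at h0 h1 h2 h3 h4
  rw [h0, h1, h2, h3, h4] at hc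
  omega

/-- The order of `M11`. -/
theorem card_M11 : Nat.card Spor.M11 = 7920 := by
  have h0 := m12_card 0 (by norm_num)
  rw [popc_m12E.1] at h0
  have hc : Nat.card (conSub [dsq] (m12Fs 0)) = 95040 := by
    show Nat.card (conSub [dsq] []) = 95040
    rw [conSub_dsq_nil]
    exact card_M12
  rw [hc] at h0
  have : conSub [dsq] (m12Fs (0 + 1)) = Spor.M11 := conSub_dsq_zero
  rw [this] at h0
  omega

/-- An element of `M24` mapping the dodecad of squares to itself and fixing the positions
`0..4` is trivial. -/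
theorem conSub_m12_five : conSub [dsq] (m12Fs 5) = ⊥ :=
  (Subgroup.card_eq_one).1 card_conSub_m12_five

theorem m12E_eq (k : ℕ) (hk : k < 5) :
    m12E k = dsq &&& (posMask (m12Fs k) ^^^ 0xFFFFFF) := by
  revert k
  decide

/-- `M12` maps the positions `0..4` to any five distinct points of the dodecad of squares. -/
theorem M12_map_prefix (n : ℕ) (hn : n ≤ 5) (y : ℕ → GolayPt)
    (hyd : ∀ i, i < n → y i ∈ Spor.squareDodecad)
    (hy : ∀ i j, i < n → j < n → y i = y j → i = j) :
    ∃ g ∈ Spor.M12, ∀ i, i < n → g (ptN i) = y i := by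
  rw [← conSub_dsq_nil]
  refine exists_map_chain (fun k => conSub [dsq] (m12Fs k)) ptN (↑Spor.squareDodecad)
    (fun k => conSub_mono (fun i hi => absurd hi (List.not_mem_nil)))
    (fun k g hg i hi => hg.2.2 i ((mem_m12Fs k i).2 hi))
    (fun g hg p hp => ?_) n (fun k hk q hq hne => ?_) y hyd hy
  · rw [Finset.mem_coe, ← maskFS_dsq] at hp ⊢
    exact (hg.2.1 dsq (by simp)).apply_mem hp
  · apply level_transC 32 _ _ _ _ _ _ (m12_ok k (by omega))
    rw [m12E_eq k (by omega)]
    apply mem_maskFS_diff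
    · rw [maskFS_dsq]; exact hq
    · intro j hj
      exact hne j ((mem_m12Fs k j).1 hj)

theorem mem_m11Fs (k i : ℕ) : i ∈ m11Fs k ↔ i = 0 ∨ ∃ j, j < k ∧ i = m11B j := by
  induction k with
  | zero => simp [m11Fs]
  | succ k ih =>
    rw [m11Fs, List.mem_cons, ih]
    constructor
    · rintro (h | h | ⟨j, hj, e⟩)
      · exact Or.inr ⟨k, Nat.lt_succ_self k, h⟩
      · exact Or.inl h
      · exact Or.inr ⟨j, Nat.lt_succ_of_lt hj, e⟩
    · rintro (h | ⟨j, hj, e⟩)
      · exact Or.inr (Or.inl h)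
      · rcases Nat.lt_succ_iff_lt_or_eq.1 hj with hj | rfl
        · exact Or.inr (Or.inr ⟨j, hj, e⟩)
        · exact Or.inl e

theorem m11E_eq (k : ℕ) (hk : k < 3) :
    m11E k = (dsq ^^^ 0xFFFFFF) &&& (posMask (m11Fs k) ^^^ 0xFFFFFF) := by
  revert k
  decide

theorem ptN_zero_mem : ptN 0 ∈ Spor.squareDodecad := by
  rw [← maskFS_dsq, mem_maskFS, gEquiv_ptN_val 0 (by norm_num)]
  decide

/-- `M11` maps the positions `5, 7, 10` to any three distinct points outside the dodecad of
squares. -/
theorem M11_map_compl (n : ℕ) (hn : n ≤ 3) (y : ℕ → GolayPt)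
    (hyd : ∀ i, i < n → y i ∉ Spor.squareDodecad)
    (hy : ∀ i j, i < n → j < n → y i = y j → i = j) :
    ∃ g ∈ Spor.M11, ∀ i, i < n → g (ptN (m11B i)) = y i := by
  rw [← conSub_dsq_zero]
  refine exists_map_chain (fun k => conSub [dsq] (m11Fs k)) (fun i => ptN (m11B i))
    ((↑Spor.squareDodecad : Set GolayPt)ᶜ)
    (fun k => conSub_mono (fun i hi => ?_))
    (fun k g hg i hi => hg.2.2 _ ((mem_m11Fs k _).2 (Or.inr ⟨i, hi, rfl⟩)))
    (fun g hg p hp => ?_) n (fun k hk q hq hne => ?_) y hyd hy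
  · rw [mem_m11Fs]
    left
    simpa [m11Fs] using hi
  · rw [Set.mem_compl_iff, Finset.mem_coe, ← maskFS_dsq, ← Finset.mem_compl, ← maskFS_compl]
      at hp ⊢
    exact (hg.2.1 dsq (by simp)).compl.apply_mem hp
  · apply level_transC 32 _ _ _ _ _ _ (m11_ok k (by omega))
    rw [m11E_eq k (by omega)]
    apply mem_maskFS_diff
    · rw [maskFS_compl, maskFS_dsq, Finset.mem_compl]
      exact hq
    · intro j hj
      rcases (mem_m11Fs k j).1 hj with rfl | ⟨i, hi, rfl⟩
      · intro e
        rw [e] at hq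
        exact hq ptN_zero_mem
      · exact hne i hi

end Cfsg.Agent.Lib.Helper21
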