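import Cfsg.Agent.Lib.Helper21.M22AutA

/-!
The permutation of the points induced by an automorphism of `M22`: it fixes the two base points,
normalises `M22`, and maps octads through the two base points to octads.
-/

set_option autoImplicit false

namespace Cfsg.Agent.Lib.Helper21.M24Aut

open Cfsg
open Cfsg.Agent.Lib.Helper21
open scoped Pointwise

/-! ### Transitivity on lists -/

theorem exists_map_list (L L' : List GolayPt) (hL : L.Nodup) (hL' : L'.Nodup)
    (hlen : L.length = L'.length) (h5 : L.length ≤ 5) :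
    ∃ g ∈ M24, ∀ i (hi : i < L.length), g (L[i]) = L'[i]'(hlen ▸ hi) := by
  obtain ⟨a, ha, ha'⟩ := exists_map_prefix L.length h5 (fun i => L.getD i (ptN 0)) (by
    intro i j hi hj h
    rw [List.getD_eq_getElem _ _ hi, List.getD_eq_getElem _ _ hj] at h
    exact (hL.getElem_inj_iff).1 h)
  obtain ⟨b, hb, hb'⟩ := exists_map_prefix L'.length (hlen ▸ h5) (fun i => L'.getD i (ptN 0)) (by
    intro i j hi hj h
    rw [List.getD_eq_getElem _ _ hi, List.getD_eq_getElem _ _ hj] at h
    exact (hL'.getElem_inj_iff).1 h)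
  refine ⟨b * a⁻¹, M24.mul_mem hb (M24.inv_mem ha), fun i hi => ?_⟩
  have h1 := ha' i hi
  have h2 := hb' i (hlen ▸ hi)
  rw [List.getD_eq_getElem _ _ hi] at h1
  rw [List.getD_eq_getElem _ _ (hlen ▸ hi)] at h2
  rw [Equiv.Perm.mul_apply, ← h1, perm_inv_apply, h2]

/-- The point is neither of the two base points. -/
def Out2 (p : GolayPt) : Prop := p ≠ none ∧ p ≠ some 0

theorem exists_fifth (y y' : GolayPt) :
    ∃ w : GolayPt, w ≠ none ∧ w ≠ some 0 ∧ w ≠ y ∧ w ≠ y' := by
  classical
  have h : ({none, some 0, y, y'} : Finset GolayPt).card <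
      (Finset.univ : Finset GolayPt).card := by
    rw [Finset.card_univ, card_golayPt]
    exact lt_of_le_of_lt (Finset.card_le_four) (by norm_num)
  obtain ⟨e, _, he⟩ := Finset.exists_mem_notMem_of_card_lt_card h
  simp only [Finset.mem_insert, Finset.mem_singleton, not_or] at he
  exact ⟨e, he.1, he.2.1, he.2.2.1, he.2.2.2⟩

/-- An element of `M22` fixing one point and moving another. -/
theorem exists_fix_move {y y' : GolayPt} (hy : Out2 y) (hy' : Out2 y') (hne : y ≠ y') :
    ∃ k : ↥Spor.M22, (k : Equiv.Perm GolayPt) y = y ∧ (k : Equiv.Perm GolayPt) y' ≠ y' := by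
  obtain ⟨w, w1, w2, w3, w4⟩ := exists_fifth y y'
  obtain ⟨g, hg, hgL⟩ := exists_map_list [none, some 0, y, y'] [none, some 0, y, w]
    (by
      simp only [List.nodup_cons, List.mem_cons, List.not_mem_nil, or_false, not_or,
        List.nodup_nil, and_true, not_false_eq_true]
      exact ⟨⟨some0_ne_none.symm, hy.1.symm, hy'.1.symm⟩, ⟨hy.2.symm, hy'.2.symm⟩, hne⟩)
    (by
      simp only [List.nodup_cons, List.mem_cons, List.not_mem_nil, or_false, not_or,
        List.nodup_nil, and_true, not_false_eq_true]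
      exact ⟨⟨some0_ne_none.symm, hy.1.symm, w1.symm⟩, ⟨hy.2.symm, w2.symm⟩, w3.symm⟩)
    rfl (by simp)
  have g0 : g none = none := hgL 0 (by simp)
  have g1 : g (some 0) = some 0 := hgL 1 (by simp)
  have g2 : g y = y := hgL 2 (by simp)
  have g3 : g y' = w := hgL 3 (by simp)
  refine ⟨⟨g, mem_M22.2 ⟨hg, g0, g1⟩⟩, g2, ?_⟩
  rw [Subgroup.coe_mk, g3]
  exact w4

theorem eq_of_stab_eq22 {y y' : GolayPt} (hy : Out2 y) (hy' : Out2 y')
    (h : ∀ k : ↥Spor.M22, (k : Equiv.Perm GolayPt) y = y ↔ (k : Equiv.Perm GolayPt) y' = y') :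
    y = y' := by
  by_contra hne
  obtain ⟨k, k1, k2⟩ := exists_fix_move hy hy' hne
  exact k2 ((h k).1 k1)

theorem out2_apply {k : Equiv.Perm GolayPt} (hk : k ∈ Spor.M22) {p : GolayPt} (hp : Out2 p) :
    Out2 (k p) := by
  obtain ⟨-, k0, k1⟩ := mem_M22.1 hk
  constructor
  · intro e
    rw [← k0] at e
    exact hp.1 (k.injective e)
  · intro e
    rw [← k1] at e
    exact hp.2 (k.injective e)

theorem card_M22 : Nat.card ↥Spor.M22 = 443520 := by
  unfold Spor.M22
  rw [← card_stabilizer_subgroup Spor.M23 (some 0 : GolayPt)]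
  exact card_stabilizer_pt23 (some 0) some0_ne_none

theorem card_stabilizer_pt22 (x : GolayPt) (hx : Out2 x) :
    Nat.card (MulAction.stabilizer ↥Spor.M22 x) = 20160 := by
  classical
  have h1 := Subgroup.card_mul_index (MulAction.stabilizer ↥Spor.M22 x)
  rw [MulAction.index_stabilizer, card_M22] at h1
  have h2 : MulAction.orbit ↥Spor.M22 x =
      ↑((Finset.univ.erase (none : GolayPt)).erase (some 0)) := by
    ext y
    rw [Finset.mem_coe, Finset.mem_erase, Finset.mem_erase]
    constructor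
    · rintro ⟨k, rfl⟩
      have := out2_apply k.2 hx
      exact ⟨this.2, this.1, Finset.mem_univ _⟩
    · rintro ⟨hy2, hy1, -⟩
      obtain ⟨g, hg, hgL⟩ := exists_map_list [none, some 0, x] [none, some 0, y]
        (by
          simp only [List.nodup_cons, List.mem_cons, List.not_mem_nil, or_false, not_or,
            List.nodup_nil, and_true, not_false_eq_true]
          exact ⟨⟨some0_ne_none.symm, hx.1.symm⟩, hx.2.symm⟩)
        (by
          simp only [List.nodup_cons, List.mem_cons, List.not_mem_nil, or_false, not_or,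
            List.nodup_nil, and_true, not_false_eq_true]
          exact ⟨⟨some0_ne_none.symm, Ne.symm hy1⟩, Ne.symm hy2⟩)
        rfl (by simp)
      have g0 : g none = none := hgL 0 (by simp)
      have g1 : g (some 0) = some 0 := hgL 1 (by simp)
      have g2 : g x = y := hgL 2 (by simp)
      exact ⟨⟨g, mem_M22.2 ⟨hg, g0, g1⟩⟩, g2⟩
  have hc22 : ((Finset.univ.erase (none : GolayPt)).erase (some 0)).card = 22 := by
    rw [Finset.card_erase_of_mem (Finset.mem_erase.2 ⟨some0_ne_none, Finset.mem_univ _⟩),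
      Finset.card_erase_of_mem (Finset.mem_univ _), Finset.card_univ, card_golayPt]
  rw [h2, Set.ncard_coe_finset, hc22] at h1
  omega

/-! ### The permutation induced by an automorphism -/

/-- The automorphism carries the stabiliser of `x` onto that of `y`. -/
def Rel22 (α : MulAut ↥Spor.M22) (x y : GolayPt) : Prop :=
  ∀ h : ↥Spor.M22, (h : Equiv.Perm GolayPt) x = x ↔
    ((α h : ↥Spor.M22) : Equiv.Perm GolayPt) y = y

theorem exists_rel22 (α : MulAut ↥Spor.M22) (x : GolayPt) (hx : Out2 x) :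
    ∃ y, Out2 y ∧ Rel22 α x y := by
  have hH : Nat.card ((MulAction.stabilizer ↥Spor.M22 x).map α.toMonoidHom) = 20160 := by
    rw [Subgroup.card_map_of_injective α.injective, card_stabilizer_pt22 x hx]
  obtain ⟨y, hyn, hys, hy⟩ := fixes_point_M22 _ hH
  have hle : (MulAction.stabilizer ↥Spor.M22 x).map α.toMonoidHom ≤
      MulAction.stabilizer ↥Spor.M22 y :=
    fun h hh => MulAction.mem_stabilizer_iff.2 (hy h hh)
  have heq : (MulAction.stabilizer ↥Spor.M22 x).map α.toMonoidHom =
      MulAction.stabilizer ↥Spor.M22 y :=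
    Subgroup.eq_of_le_of_card_ge hle (by rw [hH, card_stabilizer_pt22 y ⟨hyn, hys⟩])
  refine ⟨y, ⟨hyn, hys⟩, fun h => ⟨fun hx => ?_, fun hy' => ?_⟩⟩
  · exact hy _ (Subgroup.mem_map_of_mem _ (MulAction.mem_stabilizer_iff.2 hx))
  · have h1 : α h ∈ (MulAction.stabilizer ↥Spor.M22 x).map α.toMonoidHom := by
      rw [heq]
      exact MulAction.mem_stabilizer_iff.2 hy'
    obtain ⟨h', hh', e⟩ := Subgroup.mem_map.1 h1
    have h2 : h' = h := α.injective e
    rw [← h2]
    exact MulAction.mem_stabilizer_iff.1 hh'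

theorem rel22_unique (α : MulAut ↥Spor.M22) {x y y' : GolayPt} (hy : Out2 y) (hy' : Out2 y')
    (h : Rel22 α x y) (h' : Rel22 α x y') : y = y' := by
  apply eq_of_stab_eq22 hy hy'
  intro k
  have e : α (α.symm k) = k := α.apply_symm_apply k
  rw [← e, ← h (α.symm k), ← h' (α.symm k)]

theorem rel22_inj (α : MulAut ↥Spor.M22) {x x' y : GolayPt} (hx : Out2 x) (hx' : Out2 x')
    (h : Rel22 α x y) (h' : Rel22 α x' y) : x = x' := by
  apply eq_of_stab_eq22 hx hx'
  intro k
  rw [h k, h' k]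

theorem rel22_smul (α : MulAut ↥Spor.M22) {x y : GolayPt} (h : Rel22 α x y) (g : ↥Spor.M22) :
    Rel22 α ((g : Equiv.Perm GolayPt) x) ((α g : Equiv.Perm GolayPt) y) := by
  intro k
  have e1 : (k : Equiv.Perm GolayPt) ((g : Equiv.Perm GolayPt) x) = (g : Equiv.Perm GolayPt) x ↔
      ((g⁻¹ * k * g : ↥Spor.M22) : Equiv.Perm GolayPt) x = x := by
    rw [Subgroup.coe_mul, Subgroup.coe_mul, Subgroup.coe_inv, Equiv.Perm.mul_apply,
      Equiv.Perm.mul_apply, Equiv.Perm.inv_eq_iff_eq]
  have e2 : ((α k : ↥Spor.M22) : Equiv.Perm GolayPt) ((α g : Equiv.Perm GolayPt) y) =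
      (α g : Equiv.Perm GolayPt) y ↔
      ((α (g⁻¹ * k * g) : ↥Spor.M22) : Equiv.Perm GolayPt) y = y := by
    rw [map_mul, map_mul, map_inv, Subgroup.coe_mul, Subgroup.coe_mul, Subgroup.coe_inv,
      Equiv.Perm.mul_apply, Equiv.Perm.mul_apply, Equiv.Perm.inv_eq_iff_eq]
  rw [e1, e2]
  exact h _

open Classical in
/-- The image of a point under the permutation induced by the automorphism. -/
noncomputable def sig22 (α : MulAut ↥Spor.M22) (x : GolayPt) : GolayPt :=
  if h : Out2 x then Classical.choose (exists_rel22 α x h) else x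

theorem sig22_out (α : MulAut ↥Spor.M22) (x : GolayPt) (hx : Out2 x) :
    Out2 (sig22 α x) ∧ Rel22 α x (sig22 α x) := by
  unfold sig22
  rw [dif_pos hx]
  exact Classical.choose_spec (exists_rel22 α x hx)

theorem sig22_base (α : MulAut ↥Spor.M22) (x : GolayPt) (hx : ¬ Out2 x) : sig22 α x = x := by
  unfold sig22
  rw [dif_neg hx]

theorem sig22_out_iff (α : MulAut ↥Spor.M22) (x : GolayPt) : Out2 (sig22 α x) ↔ Out2 x := by
  by_cases hx : Out2 x
  · exact ⟨fun _ => hx, fun _ => (sig22_out α x hx).1⟩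
  · rw [sig22_base α x hx]

theorem sig22_inj (α : MulAut ↥Spor.M22) : Function.Injective (sig22 α) := by
  intro x x' e
  by_cases hx : Out2 x
  · have hx' : Out2 x' := by
      rw [← sig22_out_iff α x', ← e, sig22_out_iff]
      exact hx
    have h' := (sig22_out α x' hx').2
    rw [← e] at h'
    exact rel22_inj α hx hx' (sig22_out α x hx).2 h'
  · have hx' : ¬ Out2 x' := by
      rw [← sig22_out_iff α x', ← e, sig22_out_iff]
      exact hx
    rw [sig22_base α x hx, sig22_base α x' hx'] at e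
    exact e

/-- The permutation of the points induced by the automorphism. -/
noncomputable def sigP22 (α : MulAut ↥Spor.M22) : Equiv.Perm GolayPt :=
  Equiv.ofBijective (sig22 α) ⟨sig22_inj α, Finite.surjective_of_injective (sig22_inj α)⟩

theorem sigP22_none (α : MulAut ↥Spor.M22) : sigP22 α none = none :=
  sig22_base α none (fun h => h.1 rfl)

theorem sigP22_some0 (α : MulAut ↥Spor.M22) : sigP22 α (some 0) = some 0 :=
  sig22_base α (some 0) (fun h => h.2 rfl)

theorem sigP22_smul (α : MulAut ↥Spor.M22) (g : ↥Spor.M22) (x : GolayPt) :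
    sigP22 α ((g : Equiv.Perm GolayPt) x) = (α g : Equiv.Perm GolayPt) (sigP22 α x) := by
  by_cases hx : Out2 x
  · have hgx : Out2 ((g : Equiv.Perm GolayPt) x) := out2_apply g.2 hx
    exact rel22_unique α (sig22_out α _ hgx).1 (out2_apply (α g).2 (sig22_out α x hx).1)
      (sig22_out α _ hgx).2 (rel22_smul α (sig22_out α x hx).2 g)
  · have hx' : x = none ∨ x = some 0 := by
      unfold Out2 at hx
      by_cases h1 : x = none
      · exact Or.inl h1
      · right
        by_contra h2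
        exact hx ⟨h1, h2⟩
    obtain ⟨-, g0, g1⟩ := mem_M22.1 g.2
    obtain ⟨-, a0, a1⟩ := mem_M22.1 (α g).2
    rcases hx' with rfl | rfl
    · rw [g0, sigP22_none, a0]
    · rw [g1, sigP22_some0, a1]

theorem alpha22_eq (α : MulAut ↥Spor.M22) (g : ↥Spor.M22) :
    ((α g : ↥Spor.M22) : Equiv.Perm GolayPt) = sigP22 α * g * (sigP22 α)⁻¹ := by
  refine Equiv.ext fun p => ?_
  rw [Equiv.Perm.mul_apply, Equiv.Perm.mul_apply, sigP22_smul, perm_apply_inv]

/-! ### Octads through the two base points -/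

theorem sigP22_octads_of_mem (α : MulAut ↥Spor.M22) (o : Finset GolayPt) (ho : o ∈ octads)
    (hn : (none : GolayPt) ∈ o) (hs : (some 0 : GolayPt) ∈ o) : sigP22 α • o ∈ octads := by
  classical
  obtain ⟨hcard, hsq⟩ := octad_fixing o ho
  obtain ⟨t, htE, hne⟩ : ∃ t ∈ M24 ⊓ fixingSubgroup (Equiv.Perm GolayPt) (o : Set GolayPt),
      t ≠ 1 := by
    by_contra h
    push Not at h
    have : M24 ⊓ fixingSubgroup (Equiv.Perm GolayPt) (o : Set GolayPt) = ⊥ :=
      (Subgroup.eq_bot_iff_forall _).2 h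
    rw [this, Subgroup.card_bot] at hcard
    exact absurd hcard (by norm_num)
  have htM := (Subgroup.mem_inf.1 htE).1
  have htfix : ∀ y ∈ o, t y = y := fun y hy =>
    (mem_fixingSubgroup_iff _).1 (Subgroup.mem_inf.1 htE).2 y hy
  have ht22 : t ∈ Spor.M22 := mem_M22.2 ⟨htM, htfix none hn, htfix _ hs⟩
  have ht2 := hsq t htE
  set s := sigP22 α with hs
  have ht' : s * t * s⁻¹ ∈ M24 := by
    rw [← alpha22_eq α ⟨t, ht22⟩]
    exact (mem_M22.1 (α ⟨t, ht22⟩).2).1
  have ht'2 : (s * t * s⁻¹) * (s * t * s⁻¹) = 1 := by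
    have : (s * t * s⁻¹) * (s * t * s⁻¹) = s * (t * t) * s⁻¹ := by group
    rw [this, ht2]
    group
  have ht'ne : s * t * s⁻¹ ≠ 1 := by
    intro e
    apply hne
    have : t = s⁻¹ * (s * t * s⁻¹) * s := by group
    rw [this, e]
    group
  have ht'fix : ∀ p ∈ s • o, (s * t * s⁻¹) p = p := by
    intro p hp
    obtain ⟨q, hq, rfl⟩ := Finset.mem_smul_finset.1 hp
    rw [smul_perm_point, Equiv.Perm.mul_apply, Equiv.Perm.mul_apply, perm_inv_apply, htfix q hq]
  have hc8 : (s • o).card = 8 := by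
    rw [Finset.card_smul_finset]
    exact ho.2
  obtain ⟨T, hTsub, hT5⟩ := Finset.exists_subset_card_eq (show 5 ≤ (s • o).card by omega)
  obtain ⟨O, ⟨hO, hTO⟩, -⟩ := octads_steiner.2 T hT5
  have hsub : s • o ⊆ O := fun b hb =>
    no_fixed_outside ht' ht'2 ht'ne T hT5 (fun p hp => ht'fix p (hTsub hp)) O hO hTO b
      (ht'fix b hb)
  have hO8 : O.card = 8 := hO.2
  have : s • o = O := Finset.eq_of_subset_of_card_le hsub (by omega)
  rw [this]
  exact hO

theorem sigP22_pow_octads (α : MulAut ↥Spor.M22) (k : ℕ) (o : Finset GolayPt) (ho : o ∈ octads)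
    (hn : (none : GolayPt) ∈ o) (hs : (some 0 : GolayPt) ∈ o) :
    (sigP22 α ^ k) • o ∈ octads ∧ (none : GolayPt) ∈ (sigP22 α ^ k) • o ∧
      (some 0 : GolayPt) ∈ (sigP22 α ^ k) • o := by
  induction k with
  | zero =>
    rw [pow_zero, one_smul]
    exact ⟨ho, hn, hs⟩
  | succ k ih =>
    obtain ⟨h1, h2, h3⟩ := ih
    rw [pow_succ', mul_smul]
    refine ⟨sigP22_octads_of_mem α _ h1 h2 h3, ?_, ?_⟩
    · have := Finset.smul_mem_smul_finset (a := sigP22 α) h2
      rwa [smul_perm_point, sigP22_none] at this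
    · have := Finset.smul_mem_smul_finset (a := sigP22 α) h3
      rwa [smul_perm_point, sigP22_some0] at this

theorem sigP22_inv_octads (α : MulAut ↥Spor.M22) (o : Finset GolayPt) (ho : o ∈ octads)
    (hn : (none : GolayPt) ∈ o) (hs : (some 0 : GolayPt) ∈ o) :
    (sigP22 α)⁻¹ • o ∈ octads := by
  have h1 : (sigP22 α)⁻¹ = sigP22 α ^ (orderOf (sigP22 α) - 1) := by
    rw [eq_comm, ← mul_eq_one_iff_eq_inv, ← pow_succ,
      Nat.sub_add_cancel (orderOf_pos (sigP22 α)), pow_orderOf_eq_one]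
  rw [h1]
  exact (sigP22_pow_octads α _ o ho hn hs).1

end Cfsg.Agent.Lib.Helper21.M24Aut
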