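import Cfsg.Agent.Lib.Helper21.GolayOctA8

/-!
The stabiliser of an octad in `Cfsg.M24` is the semidirect product of the pointwise stabiliser
of the octad by the stabiliser of the octad and one point outside it, which is an alternating
group of degree `8`.
-/

set_option autoImplicit false

namespace Cfsg.Agent.Lib.Helper21

open Cfsg
open scoped Pointwise

theorem mem_oct0_iff (p : GolayPt) : p ∈ oct0 ↔ ((gEquiv p : Fin 24) : ℕ) ∈ oct0Fs := by
  unfold oct0
  rw [← posMask_oct0Fs, mem_maskFS, testBit_posMask]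

/-- A base pair (octad, outside point) can be moved to any such pair. -/
theorem exists_map_oct0_pt (o : Finset GolayPt) (ho : o ∈ octads) (p : GolayPt) (hp : p ∉ o) :
    ∃ k ∈ M24, k • oct0 = o ∧ k (ptN 5) = p := by
  obtain ⟨k₁, hk₁⟩ := octads_transitive oct0 o oct0_mem ho
  have hk₁' : (k₁ : Equiv.Perm GolayPt) • oct0 = o := hk₁
  have hp' : (k₁ : Equiv.Perm GolayPt)⁻¹ p ∈ maskFS 0xFFEB60 := by
    have h1 : (k₁ : Equiv.Perm GolayPt)⁻¹ p ∉ oct0 := by
      intro h
      apply hp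
      rw [← hk₁', ← Finset.inv_smul_mem_iff]
      exact h
    have h2 : (0xFFEB60 : ℕ) = 0x149F ^^^ 0xFFFFFF := by decide
    rw [h2, maskFS_compl, Finset.mem_compl]
    exact h1
  obtain ⟨h, hh, hh5⟩ := level_transC 32 _ _ _ _ _ _ oct0_ok _ hp'
  rw [conSub_oct0_eq, Subgroup.mem_inf, mem_fixingSubgroup_iff] at hh
  refine ⟨k₁ * h, M24.mul_mem k₁.2 hh.1, ?_, ?_⟩
  · rw [mul_smul]
    have : h • oct0 = oct0 := by
      apply smul_eq_of_apply_mem_iff
      intro x
      constructor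
      · intro hx
        by_contra hxo
        have h1 := hh.2 _ hx
        have h2 : h (h x) = h x := h1
        exact hxo (h.injective h2 ▸ hx)
      · intro hx
        have h1 : h x = x := hh.2 _ hx
        rw [h1]
        exact hx
    rw [this, hk₁']
  · rw [Equiv.Perm.mul_apply, hh5, perm_apply_inv]

/-- An element of `M24` fixing all points of an octad and one point outside is trivial. -/
theorem eq_one_of_fix_octad_pt (o : Finset GolayPt) (ho : o ∈ octads) (p : GolayPt) (hp : p ∉ o)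
    (g : Equiv.Perm GolayPt) (hg : g ∈ M24) (hgo : ∀ x ∈ o, g x = x) (hgp : g p = p) : g = 1 := by
  obtain ⟨k, hk, rfl, rfl⟩ := exists_map_oct0_pt o ho p hp
  have hmem : k⁻¹ * g * k ∈ conSub [] (5 :: oct0Fs) := by
    refine ⟨M24.mul_mem (M24.mul_mem (M24.inv_mem hk) hg) hk, fun D hD => absurd hD
      (List.not_mem_nil), fun i hi => ?_⟩
    rw [Equiv.Perm.mul_apply, Equiv.Perm.mul_apply]
    rcases List.mem_cons.1 hi with rfl | hi
    · rw [hgp, perm_inv_apply]
    · have hi24 : i < 24 := by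
        revert i
        decide
      have : k (ptN i) ∈ k • oct0 := by
        apply Finset.smul_mem_smul_finset
        rw [mem_oct0_iff, gEquiv_ptN_val i hi24]
        exact hi
      rw [hgo _ this, perm_inv_apply]
  rw [conSub_oct0_five, Subgroup.mem_bot] at hmem
  have h2 : g = k * (k⁻¹ * g * k) * k⁻¹ := by group
  rw [h2, hmem]
  group

/-- The pointwise stabiliser of an octad is transitive on the points outside. -/
theorem octad_fix_trans (o : Finset GolayPt) (ho : o ∈ octads) (p q : GolayPt) (hp : p ∉ o)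
    (hq : q ∉ o) : ∃ t ∈ M24, (∀ x ∈ o, t x = x) ∧ t p = q := by
  obtain ⟨k, hk, hko, hkp⟩ := exists_map_oct0_pt o ho p hp
  obtain ⟨k', hk', hko', hkq⟩ := exists_map_oct0_pt o ho q hq
  have hq' : k⁻¹ q ∈ maskFS 0xFFEB60 := by
    have h1 : k⁻¹ q ∉ oct0 := by
      intro h
      apply hq
      rw [← hko, ← Finset.inv_smul_mem_iff]
      exact h
    have h2 : (0xFFEB60 : ℕ) = 0x149F ^^^ 0xFFFFFF := by decide
    rw [h2, maskFS_compl, Finset.mem_compl]
    exact h1
  obtain ⟨h, hh, hh5⟩ := level_transC 32 _ _ _ _ _ _ oct0_ok _ hq'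
  rw [conSub_oct0_eq, Subgroup.mem_inf, mem_fixingSubgroup_iff] at hh
  refine ⟨k * h * k⁻¹, M24.mul_mem (M24.mul_mem hk hh.1) (M24.inv_mem hk), fun x hx => ?_, ?_⟩
  · rw [Equiv.Perm.mul_apply, Equiv.Perm.mul_apply]
    have hx' : k⁻¹ x ∈ oct0 := by
      rw [← hko, ← Finset.inv_smul_mem_iff] at hx
      exact hx
    have h1 : h (k⁻¹ x) = k⁻¹ x := hh.2 _ hx'
    rw [h1, perm_apply_inv]
  · rw [Equiv.Perm.mul_apply, Equiv.Perm.mul_apply, ← hkp, perm_inv_apply, hh5, perm_apply_inv]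

theorem smul_eq_of_fixing {g : Equiv.Perm GolayPt} {o : Finset GolayPt}
    (h : ∀ x ∈ o, g x = x) : g • o = o := by
  apply smul_eq_of_apply_mem_iff
  intro x
  constructor
  · intro hx
    by_contra hxo
    have h2 : g (g x) = g x := h _ hx
    exact hxo (g.injective h2 ▸ hx)
  · intro hx
    rw [h x hx]
    exact hx

theorem mem_fixing_iff (g : Equiv.Perm GolayPt) (o : Finset GolayPt) :
    g ∈ fixingSubgroup (Equiv.Perm GolayPt) (o : Set GolayPt) ↔ ∀ x ∈ o, g x = x := by
  rw [mem_fixingSubgroup_iff]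
  rfl

/-- Decomposition of an element of the stabiliser of an octad. -/
theorem octad_stab_decomp (o : Finset GolayPt) (ho : o ∈ octads) (p : GolayPt) (hp : p ∉ o)
    (g : Equiv.Perm GolayPt) (hg : g ∈ M24) (hgo : g • o = o) :
    ∃ t ∈ M24, (∀ x ∈ o, t x = x) ∧ (t⁻¹ * g) ∈ M24 ∧ (t⁻¹ * g) • o = o ∧ (t⁻¹ * g) p = p := by
  have hq : g p ∉ o := fun h => hp ((apply_mem_iff_of_smul_eq hgo p).1 h)
  obtain ⟨t, ht, hto, htp⟩ := octad_fix_trans o ho p (g p) hp hq
  refine ⟨t, ht, hto, M24.mul_mem (M24.inv_mem ht) hg, ?_, ?_⟩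
  · rw [mul_smul, hgo, inv_smul_eq_iff, smul_eq_of_fixing hto]
  · rw [Equiv.Perm.mul_apply, ← htp, perm_inv_apply]

theorem octad_split (o : Finset GolayPt) (ho : o ∈ octads) (p : GolayPt) (hp : p ∉ o) :
    (M24 ⊓ fixingSubgroup (Equiv.Perm GolayPt) (o : Set GolayPt)) ⊓
        (M24 ⊓ MulAction.stabilizer (Equiv.Perm GolayPt) o ⊓
          MulAction.stabilizer (Equiv.Perm GolayPt) p) = ⊥ ∧
      (M24 ⊓ fixingSubgroup (Equiv.Perm GolayPt) (o : Set GolayPt)) ⊔
        (M24 ⊓ MulAction.stabilizer (Equiv.Perm GolayPt) o ⊓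
          MulAction.stabilizer (Equiv.Perm GolayPt) p) =
        (M24 ⊓ MulAction.stabilizer (Equiv.Perm GolayPt) o) ∧
      Nonempty (↥(M24 ⊓ MulAction.stabilizer (Equiv.Perm GolayPt) o ⊓
        MulAction.stabilizer (Equiv.Perm GolayPt) p) ≃* alternatingGroup (Fin 8)) := by
  have hbot : (M24 ⊓ fixingSubgroup (Equiv.Perm GolayPt) (o : Set GolayPt)) ⊓
        (M24 ⊓ MulAction.stabilizer (Equiv.Perm GolayPt) o ⊓
          MulAction.stabilizer (Equiv.Perm GolayPt) p) = ⊥ := by
    rw [Subgroup.eq_bot_iff_forall]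
    intro g hg
    rw [Subgroup.mem_inf, Subgroup.mem_inf, Subgroup.mem_inf, mem_fixing_iff] at hg
    exact eq_one_of_fix_octad_pt o ho p hp g hg.1.1 hg.1.2 (MulAction.mem_stabilizer_iff.1 hg.2.2)
  have hsup : (M24 ⊓ fixingSubgroup (Equiv.Perm GolayPt) (o : Set GolayPt)) ⊔
        (M24 ⊓ MulAction.stabilizer (Equiv.Perm GolayPt) o ⊓
          MulAction.stabilizer (Equiv.Perm GolayPt) p) =
        (M24 ⊓ MulAction.stabilizer (Equiv.Perm GolayPt) o) := by
    apply le_antisymm
    · apply sup_le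
      · intro g hg
        rw [Subgroup.mem_inf, mem_fixing_iff] at hg
        exact Subgroup.mem_inf.2 ⟨hg.1, MulAction.mem_stabilizer_iff.2 (smul_eq_of_fixing hg.2)⟩
      · exact inf_le_left
    · intro g hg
      rw [Subgroup.mem_inf] at hg
      obtain ⟨t, ht, hto, hk1, hk2, hk3⟩ := octad_stab_decomp o ho p hp g hg.1
        (MulAction.mem_stabilizer_iff.1 hg.2)
      have : g = t * (t⁻¹ * g) := by group
      rw [this]
      apply Subgroup.mul_mem_sup
      · exact Subgroup.mem_inf.2 ⟨ht, (mem_fixing_iff t o).2 hto⟩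
      · exact Subgroup.mem_inf.2 ⟨Subgroup.mem_inf.2 ⟨hk1, MulAction.mem_stabilizer_iff.2 hk2⟩,
          MulAction.mem_stabilizer_iff.2 hk3⟩
  refine ⟨hbot, hsup, ?_⟩
  -- restriction of the complement to the octad
  set K : Subgroup (Equiv.Perm GolayPt) := M24 ⊓ MulAction.stabilizer (Equiv.Perm GolayPt) o ⊓
    MulAction.stabilizer (Equiv.Perm GolayPt) p with hK
  have hKle : K ≤ octStab o := inf_le_left
  let ψ : K →* Equiv.Perm ↥o := (octRestrict o).comp (Subgroup.inclusion hKle)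
  have hψ : ∀ (k : K) (x : ↥o), ((ψ k x : ↥o) : GolayPt) = (k : Equiv.Perm GolayPt) x :=
    fun _ _ => rfl
  have hinj : Function.Injective ψ := by
    rw [injective_iff_map_eq_one]
    intro k hk
    apply Subtype.ext
    have hk' : (k : Equiv.Perm GolayPt) ∈ M24 ⊓ MulAction.stabilizer (Equiv.Perm GolayPt) o ⊓
      MulAction.stabilizer (Equiv.Perm GolayPt) p := k.2
    rw [Subgroup.mem_inf, Subgroup.mem_inf] at hk'
    apply eq_one_of_fix_octad_pt o ho p hp _ hk'.1.1 _ (MulAction.mem_stabilizer_iff.1 hk'.2)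
    intro x hx
    have := hψ k ⟨x, hx⟩
    rw [hk] at this
    exact this.symm
  have hrange : ψ.range = alternatingGroup ↥o := by
    apply le_antisymm
    · rw [← octRestrict_range o ho]
      rintro _ ⟨k, rfl⟩
      exact ⟨Subgroup.inclusion hKle k, rfl⟩
    · rw [← octRestrict_range o ho]
      rintro _ ⟨g, rfl⟩
      have hg := g.2
      unfold octStab at hg
      rw [Subgroup.mem_inf] at hg
      obtain ⟨t, ht, hto, hk1, hk2, hk3⟩ := octad_stab_decomp o ho p hp g hg.1
        (MulAction.mem_stabilizer_iff.1 hg.2)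
      refine ⟨⟨t⁻¹ * g, ?_⟩, ?_⟩
      · show t⁻¹ * (g : Equiv.Perm GolayPt) ∈ M24 ⊓ MulAction.stabilizer (Equiv.Perm GolayPt) o ⊓
          MulAction.stabilizer (Equiv.Perm GolayPt) p
        exact Subgroup.mem_inf.2 ⟨Subgroup.mem_inf.2 ⟨hk1, MulAction.mem_stabilizer_iff.2 hk2⟩,
          MulAction.mem_stabilizer_iff.2 hk3⟩
      · refine Equiv.ext fun x => Subtype.ext ?_
        show (t⁻¹ * (g : Equiv.Perm GolayPt)) x = (g : Equiv.Perm GolayPt) x
        rw [Equiv.Perm.mul_apply]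
        have hgx : (g : Equiv.Perm GolayPt) x ∈ o := (octStab_apply_mem_iff g x).2 x.2
        rw [Equiv.Perm.inv_eq_iff_eq, hto _ hgx]
  exact ⟨((MonoidHom.ofInjective hinj).trans (MulEquiv.subgroupCongr hrange)).trans
    (Equiv.altCongrHom (o.equivFinOfCardEq (octad_card o ho)))⟩

end Cfsg.Agent.Lib.Helper21
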