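import Cfsg.Agent.Lib.Helper21.M23AutA
import Cfsg.Agent.Lib.Helper21.GolayM12
import Cfsg.Agent.Lib.Helper21.GolayOctSplit

/-!
Every automorphism of `M23` is inner.
-/

set_option autoImplicit false

namespace Cfsg.Agent.Lib.Helper21.M24Aut

open Cfsg
open Cfsg.Agent.Lib.Helper21
open scoped Pointwise

/-! ### Transitivity on triples -/

theorem exists_map_three (x x' x'' y y' y'' : GolayPt) (h1 : x ≠ x') (h2 : x ≠ x'')
    (h3 : x' ≠ x'') (k1 : y ≠ y') (k2 : y ≠ y'') (k3 : y' ≠ y'') :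
    ∃ g ∈ M24, g x = y ∧ g x' = y' ∧ g x'' = y'' := by
  obtain ⟨a, ha, ha'⟩ := exists_map_prefix 3 (by norm_num)
    (fun i => if i = 0 then x else if i = 1 then x' else x'') (by
    intro i j hi hj h
    interval_cases i <;> interval_cases j <;> simp_all)
  obtain ⟨b, hb, hb'⟩ := exists_map_prefix 3 (by norm_num)
    (fun i => if i = 0 then y else if i = 1 then y' else y'') (by
    intro i j hi hj h
    interval_cases i <;> interval_cases j <;> simp_all)
  have a0 : a (ptN 0) = x := ha' 0 (by norm_num)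
  have a1 : a (ptN 1) = x' := ha' 1 (by norm_num)
  have a2 : a (ptN 2) = x'' := ha' 2 (by norm_num)
  have b0 : b (ptN 0) = y := hb' 0 (by norm_num)
  have b1 : b (ptN 1) = y' := hb' 1 (by norm_num)
  have b2 : b (ptN 2) = y'' := hb' 2 (by norm_num)
  refine ⟨b * a⁻¹, M24.mul_mem hb (M24.inv_mem ha), ?_, ?_, ?_⟩
  · rw [Equiv.Perm.mul_apply, ← a0, perm_inv_apply, b0]
  · rw [Equiv.Perm.mul_apply, ← a1, perm_inv_apply, b1]
  · rw [Equiv.Perm.mul_apply, ← a2, perm_inv_apply, b2]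

theorem exists_fourth (y y' y'' : GolayPt) : ∃ w : GolayPt, w ≠ y ∧ w ≠ y' ∧ w ≠ y'' := by
  classical
  have h : ({y, y', y''} : Finset GolayPt).card < (Finset.univ : Finset GolayPt).card := by
    rw [Finset.card_univ, card_golayPt]
    exact lt_of_le_of_lt (Finset.card_le_three) (by norm_num)
  obtain ⟨e, _, he⟩ := Finset.exists_mem_notMem_of_card_lt_card h
  rw [Finset.mem_insert, Finset.mem_insert, Finset.mem_singleton, not_or, not_or] at he
  exact ⟨e, he.1, he.2.1, he.2.2⟩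

/-- Points with the same stabiliser in `M23` coincide. -/
theorem eq_of_stab_eq23 {y y' : GolayPt}
    (h : ∀ k : ↥Spor.M23, (k : Equiv.Perm GolayPt) y = y ↔ (k : Equiv.Perm GolayPt) y' = y') :
    y = y' := by
  by_contra hne
  have key : ∀ a b : GolayPt, a ≠ b → b ≠ none →
      ∃ k : ↥Spor.M23, (k : Equiv.Perm GolayPt) a = a ∧ (k : Equiv.Perm GolayPt) b ≠ b := by
    intro a b hab hb
    by_cases ha : a = none
    · obtain ⟨w, w1, w2, -⟩ := exists_fourth none b b
      obtain ⟨k, hk, e1, e2⟩ := exists_map_two none b none w (Ne.symm hb) w1.symm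
      refine ⟨⟨k, mem_M23.2 ⟨hk, e1⟩⟩, ?_, ?_⟩
      · rw [Subgroup.coe_mk, ha, e1]
      · rw [Subgroup.coe_mk, e2]
        exact w2
    · obtain ⟨w, w1, w2, w3⟩ := exists_fourth none a b
      obtain ⟨k, hk, e1, e2, e3⟩ := exists_map_three none a b none a w (Ne.symm ha) (Ne.symm hb)
        hab (Ne.symm ha) w1.symm w2.symm
      refine ⟨⟨k, mem_M23.2 ⟨hk, e1⟩⟩, ?_, ?_⟩
      · rw [Subgroup.coe_mk, e2]
      · rw [Subgroup.coe_mk, e3]
        exact w3
  by_cases hy' : y' = none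
  · have hy : y ≠ none := fun e => hne (e.trans hy'.symm)
    obtain ⟨k, k1, k2⟩ := key y' y (Ne.symm hne) hy
    exact k2 ((h k).2 k1)
  · obtain ⟨k, k1, k2⟩ := key y y' hne hy'
    exact k2 ((h k).1 k1)

theorem card_M23 : Nat.card ↥Spor.M23 = 10200960 := by
  unfold Spor.M23
  rw [← card_stabilizer_subgroup M24 (none : GolayPt)]
  exact card_stabilizer_pt none

theorem card_stabilizer_pt23 (x : GolayPt) (hx : x ≠ none) :
    Nat.card (MulAction.stabilizer ↥Spor.M23 x) = 443520 := by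
  classical
  have h1 := Subgroup.card_mul_index (MulAction.stabilizer ↥Spor.M23 x)
  rw [MulAction.index_stabilizer, card_M23] at h1
  have h2 : MulAction.orbit ↥Spor.M23 x = ↑(Finset.univ.erase (none : GolayPt)) := by
    ext y
    rw [Finset.mem_coe, Finset.mem_erase]
    constructor
    · rintro ⟨k, rfl⟩
      refine ⟨fun e => hx ?_, Finset.mem_univ _⟩
      have : ((k : ↥Spor.M23) : Equiv.Perm GolayPt) none = none := (mem_M23.1 k.2).2
      have e' : ((k : ↥Spor.M23) : Equiv.Perm GolayPt) x = none := e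
      rw [← this] at e'
      exact (k : Equiv.Perm GolayPt).injective e'
    · rintro ⟨hy, -⟩
      obtain ⟨g, hg, e1, e2⟩ := exists_map_two none x none y (Ne.symm hx) (Ne.symm hy)
      exact ⟨⟨g, mem_M23.2 ⟨hg, e1⟩⟩, e2⟩
  rw [h2, Set.ncard_coe_finset, Finset.card_erase_of_mem (Finset.mem_univ _), Finset.card_univ,
    card_golayPt] at h1
  omega

/-! ### The permutation induced by an automorphism -/

/-- The automorphism carries the stabiliser of `x` onto that of `y`. -/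
def Rel23 (α : MulAut ↥Spor.M23) (x y : GolayPt) : Prop :=
  ∀ h : ↥Spor.M23, (h : Equiv.Perm GolayPt) x = x ↔
    ((α h : ↥Spor.M23) : Equiv.Perm GolayPt) y = y

theorem rel23_none (α : MulAut ↥Spor.M23) : Rel23 α none none := fun h =>
  ⟨fun _ => (mem_M23.1 (α h).2).2, fun _ => (mem_M23.1 h.2).2⟩

theorem exists_rel23 (α : MulAut ↥Spor.M23) (x : GolayPt) : ∃ y, Rel23 α x y := by
  by_cases hx : x = none
  · exact ⟨none, hx ▸ rel23_none α⟩
  have hH : Nat.card ((MulAction.stabilizer ↥Spor.M23 x).map α.toMonoidHom) = 443520 := by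
    rw [Subgroup.card_map_of_injective α.injective, card_stabilizer_pt23 x hx]
  obtain ⟨y, hyn, hy⟩ := fixes_point_M23 _ hH
  have hle : (MulAction.stabilizer ↥Spor.M23 x).map α.toMonoidHom ≤
      MulAction.stabilizer ↥Spor.M23 y :=
    fun h hh => MulAction.mem_stabilizer_iff.2 (hy h hh)
  have heq : (MulAction.stabilizer ↥Spor.M23 x).map α.toMonoidHom =
      MulAction.stabilizer ↥Spor.M23 y :=
    Subgroup.eq_of_le_of_card_ge hle (by rw [hH, card_stabilizer_pt23 y hyn])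
  refine ⟨y, fun h => ⟨fun hx => ?_, fun hy' => ?_⟩⟩
  · exact hy _ (Subgroup.mem_map_of_mem _ (MulAction.mem_stabilizer_iff.2 hx))
  · have h1 : α h ∈ (MulAction.stabilizer ↥Spor.M23 x).map α.toMonoidHom := by
      rw [heq]
      exact MulAction.mem_stabilizer_iff.2 hy'
    obtain ⟨h', hh', e⟩ := Subgroup.mem_map.1 h1
    have h2 : h' = h := α.injective e
    rw [← h2]
    exact MulAction.mem_stabilizer_iff.1 hh'

theorem rel23_unique (α : MulAut ↥Spor.M23) {x y y' : GolayPt} (h : Rel23 α x y)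
    (h' : Rel23 α x y') : y = y' := by
  apply eq_of_stab_eq23
  intro k
  have e : α (α.symm k) = k := α.apply_symm_apply k
  rw [← e, ← h (α.symm k), ← h' (α.symm k)]

theorem rel23_inj (α : MulAut ↥Spor.M23) {x x' y : GolayPt} (h : Rel23 α x y)
    (h' : Rel23 α x' y) : x = x' := by
  apply eq_of_stab_eq23
  intro k
  rw [h k, h' k]

theorem rel23_smul (α : MulAut ↥Spor.M23) {x y : GolayPt} (h : Rel23 α x y) (g : ↥Spor.M23) :
    Rel23 α ((g : Equiv.Perm GolayPt) x) ((α g : Equiv.Perm GolayPt) y) := by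
  intro k
  have e1 : (k : Equiv.Perm GolayPt) ((g : Equiv.Perm GolayPt) x) = (g : Equiv.Perm GolayPt) x ↔
      ((g⁻¹ * k * g : ↥Spor.M23) : Equiv.Perm GolayPt) x = x := by
    rw [Subgroup.coe_mul, Subgroup.coe_mul, Subgroup.coe_inv, Equiv.Perm.mul_apply,
      Equiv.Perm.mul_apply, Equiv.Perm.inv_eq_iff_eq]
  have e2 : ((α k : ↥Spor.M23) : Equiv.Perm GolayPt) ((α g : Equiv.Perm GolayPt) y) =
      (α g : Equiv.Perm GolayPt) y ↔
      ((α (g⁻¹ * k * g) : ↥Spor.M23) : Equiv.Perm GolayPt) y = y := by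
    rw [map_mul, map_mul, map_inv, Subgroup.coe_mul, Subgroup.coe_mul, Subgroup.coe_inv,
      Equiv.Perm.mul_apply, Equiv.Perm.mul_apply, Equiv.Perm.inv_eq_iff_eq]
  rw [e1, e2]
  exact h _

/-- The image of a point under the permutation induced by the automorphism. -/
noncomputable def sig23 (α : MulAut ↥Spor.M23) (x : GolayPt) : GolayPt :=
  Classical.choose (exists_rel23 α x)

theorem sig23_spec (α : MulAut ↥Spor.M23) (x : GolayPt) : Rel23 α x (sig23 α x) :=
  Classical.choose_spec (exists_rel23 α x)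

theorem sig23_inj (α : MulAut ↥Spor.M23) : Function.Injective (sig23 α) := by
  intro x x' e
  have h' := sig23_spec α x'
  rw [← e] at h'
  exact rel23_inj α (sig23_spec α x) h'

/-- The permutation of the points induced by the automorphism. -/
noncomputable def sigP23 (α : MulAut ↥Spor.M23) : Equiv.Perm GolayPt :=
  Equiv.ofBijective (sig23 α) ⟨sig23_inj α, Finite.surjective_of_injective (sig23_inj α)⟩

theorem sigP23_none (α : MulAut ↥Spor.M23) : sigP23 α none = none :=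
  rel23_unique α (sig23_spec α none) (rel23_none α)

theorem sigP23_smul (α : MulAut ↥Spor.M23) (g : ↥Spor.M23) (x : GolayPt) :
    sigP23 α ((g : Equiv.Perm GolayPt) x) = (α g : Equiv.Perm GolayPt) (sigP23 α x) :=
  rel23_unique α (sig23_spec α _) (rel23_smul α (sig23_spec α x) g)

theorem alpha23_eq (α : MulAut ↥Spor.M23) (g : ↥Spor.M23) :
    ((α g : ↥Spor.M23) : Equiv.Perm GolayPt) = sigP23 α * g * (sigP23 α)⁻¹ := by
  refine Equiv.ext fun p => ?_
  rw [Equiv.Perm.mul_apply, Equiv.Perm.mul_apply, sigP23_smul, perm_apply_inv]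

/-! ### The induced permutation preserves octads -/

theorem sigP23_octads_of_mem (α : MulAut ↥Spor.M23) (o : Finset GolayPt) (ho : o ∈ octads)
    (hn : (none : GolayPt) ∈ o) : sigP23 α • o ∈ octads := by
  classical
  obtain ⟨hcard, hsq⟩ := octad_fixing o ho
  obtain ⟨t, htE, hne⟩ : ∃ t ∈ M24 ⊓ fixingSubgroup (Equiv.Perm GolayPt) (o : Set GolayPt),
      t ≠ 1 := by
    by_contra h
    push Not at h
    have : M24 ⊓ fixingSubgroup (Equiv.Perm GolayPt) (o : Set GolayPt) = ⊥ :=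
      (Subgroup.eq_bot_iff_forall _).2 h
    rw [this, Subgroup.card_bot] at hcard
    exact absurd hcard (by norm_num)
  have htM := (Subgroup.mem_inf.1 htE).1
  have htfix : ∀ y ∈ o, t y = y := fun y hy =>
    (mem_fixingSubgroup_iff _).1 (Subgroup.mem_inf.1 htE).2 y hy
  have ht23 : t ∈ Spor.M23 := mem_M23.2 ⟨htM, htfix none hn⟩
  have ht2 := hsq t htE
  set s := sigP23 α with hs
  have ht' : s * t * s⁻¹ ∈ M24 := by
    rw [← alpha23_eq α ⟨t, ht23⟩]
    exact (mem_M23.1 (α ⟨t, ht23⟩).2).1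
  have ht'2 : (s * t * s⁻¹) * (s * t * s⁻¹) = 1 := by
    have : (s * t * s⁻¹) * (s * t * s⁻¹) = s * (t * t) * s⁻¹ := by group
    rw [this, ht2]
    group
  have ht'ne : s * t * s⁻¹ ≠ 1 := by
    intro e
    apply hne
    have : t = s⁻¹ * (s * t * s⁻¹) * s := by group
    rw [this, e]
    group
  have ht'fix : ∀ p ∈ s • o, (s * t * s⁻¹) p = p := by
    intro p hp
    obtain ⟨q, hq, rfl⟩ := Finset.mem_smul_finset.1 hp
    rw [smul_perm_point, Equiv.Perm.mul_apply, Equiv.Perm.mul_apply, perm_inv_apply, htfix q hq]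
  have hc8 : (s • o).card = 8 := by
    rw [Finset.card_smul_finset]
    exact ho.2
  obtain ⟨T, hTsub, hT5⟩ := Finset.exists_subset_card_eq (show 5 ≤ (s • o).card by omega)
  obtain ⟨O, ⟨hO, hTO⟩, -⟩ := octads_steiner.2 T hT5
  have hsub : s • o ⊆ O := fun b hb =>
    no_fixed_outside ht' ht'2 ht'ne T hT5 (fun p hp => ht'fix p (hTsub hp)) O hO hTO b
      (ht'fix b hb)
  have hO8 : O.card = 8 := hO.2
  have : s • o = O := Finset.eq_of_subset_of_card_le hsub (by omega)
  rw [this]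
  exact hO

/-- An octad avoiding a point is the symmetric difference of two octads through it meeting in
four points. -/
theorem octad_decomp (o : Finset GolayPt) (ho : o ∈ octads) (p : GolayPt) (hp : p ∉ o) :
    ∃ o1 ∈ octads, ∃ o2 ∈ octads, p ∈ o1 ∧ p ∈ o2 ∧ (o1 ∩ o2).card = 4 ∧ o = symmDiff o1 o2 := by
  obtain ⟨k, hk, hko, hkp⟩ := exists_map_oct0_pt o ho p hp
  obtain ⟨d1, d2, d3, d4, d5, d6, d7, d8, d9, d10⟩ := dec_ok
  have hO1 : maskFS (encMask cD1) ∈ octads := maskFS_encMask_mem_octads cD1 d1 d3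
  have hO2 : maskFS (encMask cD2) ∈ octads := maskFS_encMask_mem_octads cD2 d2 d4
  have h5 : ∀ m : ℕ, m.testBit 5 = true → p ∈ k • maskFS m := by
    intro m hm
    rw [← hkp, ← smul_perm_point]
    apply Finset.smul_mem_smul_finset
    rw [mem_maskFS, gEquiv_ptN_val 5 (by norm_num)]
    exact hm
  refine ⟨k • maskFS (encMask cD1), smul_mem_octads hk hO1, k • maskFS (encMask cD2),
    smul_mem_octads hk hO2, h5 _ d5, h5 _ d6, ?_, ?_⟩
  · rw [card_smul_inter, ← maskFS_and, card_maskFS _ (lt_of_le_of_lt Nat.and_le_left d9), d8]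
  · have hsd : symmDiff (maskFS (encMask cD1)) (maskFS (encMask cD2)) = oct0 := by
      unfold oct0
      rw [← d7]
      ext q
      rw [Finset.mem_symmDiff, mem_maskFS, mem_maskFS, mem_maskFS, Nat.testBit_xor]
      cases (encMask cD1).testBit ((gEquiv q : Fin 24) : ℕ) <;>
        cases (encMask cD2).testBit ((gEquiv q : Fin 24) : ℕ) <;> simp
    rw [← hko, ← hsd]
    ext q
    simp only [Finset.mem_smul_finset, Finset.mem_symmDiff]
    constructor
    · rintro ⟨r, hr | hr, rfl⟩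
      · exact Or.inl ⟨⟨r, hr.1, rfl⟩, fun ⟨r', hr', e⟩ => hr.2 ((smul_left_cancel k e) ▸ hr')⟩
      · exact Or.inr ⟨⟨r, hr.1, rfl⟩, fun ⟨r', hr', e⟩ => hr.2 ((smul_left_cancel k e) ▸ hr')⟩
    · rintro (⟨⟨r, hr, rfl⟩, hn⟩ | ⟨⟨r, hr, rfl⟩, hn⟩)
      · exact ⟨r, Or.inl ⟨hr, fun h => hn ⟨r, h, rfl⟩⟩, rfl⟩
      · exact ⟨r, Or.inr ⟨hr, fun h => hn ⟨r, h, rfl⟩⟩, rfl⟩

theorem smul_symmDiff (s : Equiv.Perm GolayPt) (a b : Finset GolayPt) :
    s • symmDiff a b = symmDiff (s • a) (s • b) := by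
  ext q
  simp only [Finset.mem_smul_finset, Finset.mem_symmDiff]
  constructor
  · rintro ⟨r, hr | hr, rfl⟩
    · exact Or.inl ⟨⟨r, hr.1, rfl⟩, fun ⟨r', hr', e⟩ => hr.2 ((smul_left_cancel s e) ▸ hr')⟩
    · exact Or.inr ⟨⟨r, hr.1, rfl⟩, fun ⟨r', hr', e⟩ => hr.2 ((smul_left_cancel s e) ▸ hr')⟩
  · rintro (⟨⟨r, hr, rfl⟩, hn⟩ | ⟨⟨r, hr, rfl⟩, hn⟩)
    · exact ⟨r, Or.inl ⟨hr, fun h => hn ⟨r, h, rfl⟩⟩, rfl⟩
    · exact ⟨r, Or.inr ⟨hr, fun h => hn ⟨r, h, rfl⟩⟩, rfl⟩

theorem sigP23_octads (α : MulAut ↥Spor.M23) (o : Finset GolayPt) (ho : o ∈ octads) :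
    sigP23 α • o ∈ octads := by
  by_cases hn : (none : GolayPt) ∈ o
  · exact sigP23_octads_of_mem α o ho hn
  · obtain ⟨o1, ho1, o2, ho2, h1, h2, h4, rfl⟩ := octad_decomp o ho none hn
    rw [smul_symmDiff]
    apply octads_symmDiff (sigP23_octads_of_mem α o1 ho1 h1) (sigP23_octads_of_mem α o2 ho2 h2)
    rw [card_smul_inter, h4]

theorem sigP23_mem (α : MulAut ↥Spor.M23) : sigP23 α ∈ Spor.M23 :=
  mem_M23.2 ⟨mem_M24_of_octads _ (sigP23_octads α), sigP23_none α⟩

/-- Every automorphism of `M23` is inner. -/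
theorem aut_inner23 (α : MulAut ↥Spor.M23) : ∃ s : ↥Spor.M23, α = MulAut.conj s := by
  refine ⟨⟨sigP23 α, sigP23_mem α⟩, ?_⟩
  ext g : 1
  apply Subtype.ext
  rw [alpha23_eq, MulAut.conj_apply]
  rfl

end Cfsg.Agent.Lib.Helper21.M24Aut
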