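import Cfsg.Agent.Lib.Helper21.GolayOrbitOct
import Cfsg.Agent.Lib.Helper21.GolayOrbitDod

/-!
`Cfsg.M24` is transitive on octads and on dodecads.
-/

set_option autoImplicit false

namespace Cfsg.Agent.Lib.Helper21

open Cfsg
open scoped Pointwise

theorem mem_wordsOfWeight_iff (n : ℕ) (b : Finset GolayPt) :
    b ∈ wordsOfWeight (golayCode : Set (GolayPt → ZMod 2)) n ↔
      ∃ c < 4096, popc 24 (encMask c) = n ∧ b = support₂ (wordOf c) := by
  constructor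
  · rintro ⟨⟨v, hv, rfl⟩, hc⟩
    obtain ⟨c, hc4, rfl⟩ := exists_wordOf v hv
    refine ⟨c, hc4, ?_, rfl⟩
    rw [← toMask_wordOf c hc4, ← hammingNorm_eq_popc, ← card_support₂, hc]
  · rintro ⟨c, hc4, hp, rfl⟩
    refine ⟨⟨wordOf c, wordOf_mem c, rfl⟩, ?_⟩
    rw [card_support₂, hammingNorm_eq_popc, toMask_wordOf c hc4, hp]

theorem octad_orbit (o : Finset GolayPt) (ho : o ∈ octads) :
    ∃ g : Equiv.Perm GolayPt, g ∈ M24 ∧ g • support₂ (wordOf baseOct) = o := by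
  obtain ⟨c, hc, hp, rfl⟩ := (mem_wordsOfWeight_iff 8 o).1 ho
  exact orbit_of_table tableOct baseOct (fun c => popc 24 (encMask c) = 8) tableOct_spec c hc hp

theorem dodecad_orbit (d : Finset GolayPt) (hd : d ∈ dodecads) :
    ∃ g : Equiv.Perm GolayPt, g ∈ M24 ∧ g • support₂ (wordOf baseDod) = d := by
  obtain ⟨c, hc, hp, rfl⟩ := (mem_wordsOfWeight_iff 12 d).1 hd
  exact orbit_of_table tableDod baseDod (fun c => popc 24 (encMask c) = 12) tableDod_spec c hc hp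

theorem octads_transitive (o o' : Finset GolayPt) (ho : o ∈ octads) (ho' : o' ∈ octads) :
    ∃ g : M24, g • o = o' := by
  obtain ⟨g, hg, e⟩ := octad_orbit o ho
  obtain ⟨g', hg', e'⟩ := octad_orbit o' ho'
  refine ⟨⟨g' * g⁻¹, M24.mul_mem hg' (M24.inv_mem hg)⟩, ?_⟩
  rw [Subgroup.smul_def]
  show (g' * g⁻¹) • o = o'
  rw [← e, mul_smul, inv_smul_smul, e']

theorem dodecads_transitive (d d' : Finset GolayPt) (hd : d ∈ dodecads) (hd' : d' ∈ dodecads) :
    ∃ g : M24, g • d = d' := by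
  obtain ⟨g, hg, e⟩ := dodecad_orbit d hd
  obtain ⟨g', hg', e'⟩ := dodecad_orbit d' hd'
  refine ⟨⟨g' * g⁻¹, M24.mul_mem hg' (M24.inv_mem hg)⟩, ?_⟩
  rw [Subgroup.smul_def]
  show (g' * g⁻¹) • d = d'
  rw [← e, mul_smul, inv_smul_smul, e']

end Cfsg.Agent.Lib.Helper21
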