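import Cfsg.Agent.Lib.Helper21.GolayPerm
import Cfsg.Agent.Lib.Helper21.GolayTransitive

/-!
Glue lemmas for statements about orbits of stabilisers in `Cfsg.M24`.
-/

set_option autoImplicit false

namespace Cfsg.Agent.Lib.Helper21

open Cfsg
open scoped Pointwise

theorem smul_mem_octads {g : Equiv.Perm GolayPt} (hg : g ∈ M24) {o : Finset GolayPt}
    (ho : o ∈ octads) : g • o ∈ octads := by
  have h : g ∈ setSystemAut octads := by rw [← M24_eq_aut_octads]; exact hg
  have h' : g • octads = octads := MulAction.mem_stabilizer_iff.1 h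
  rw [← h']
  exact Set.smul_mem_smul_set ho

theorem smul_mem_supports {g : Equiv.Perm GolayPt} (hg : g ∈ M24) {b : Finset GolayPt}
    (hb : b ∈ supports (golayCode : Set (GolayPt → ZMod 2))) :
    g • b ∈ supports (golayCode : Set (GolayPt → ZMod 2)) := by
  have h' : g • supports (golayCode : Set (GolayPt → ZMod 2)) = _ := MulAction.mem_stabilizer_iff.1 hg
  rw [← h']
  exact Set.smul_mem_smul_set hb

theorem smul_mem_dodecads {g : Equiv.Perm GolayPt} (hg : g ∈ M24) {d : Finset GolayPt}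
    (hd : d ∈ dodecads) : g • d ∈ dodecads := by
  refine ⟨smul_mem_supports hg hd.1, ?_⟩
  rw [Finset.card_smul_finset]
  exact hd.2

theorem card_smul_inter (g : Equiv.Perm GolayPt) (a b : Finset GolayPt) :
    (g • a ∩ g • b).card = (a ∩ b).card := by
  rw [← Finset.smul_finset_inter, Finset.card_smul_finset]

/-- Transfer of a conjugacy statement from a base object `X₀` to its image `X = k • X₀`. -/
theorem conj_transfer {X₀ X : Finset GolayPt} {k : Equiv.Perm GolayPt} (hk : k ∈ M24)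
    (hkX : k • X₀ = X) (Y Y' : Finset GolayPt)
    (hex : ∃ g₀ ∈ M24, g₀ • X₀ = X₀ ∧ g₀ • (k⁻¹ • Y) = k⁻¹ • Y') :
    ∃ g ∈ M24, g • X = X ∧ g • Y = Y' := by
  obtain ⟨g₀, hg₀, hfix, hmap⟩ := hex
  refine ⟨k * g₀ * k⁻¹, M24.mul_mem (M24.mul_mem hk hg₀) (M24.inv_mem hk), ?_, ?_⟩
  · rw [← hkX, mul_smul, mul_smul, inv_smul_smul, hfix]
  · rw [mul_smul, mul_smul, hmap, smul_inv_smul]

/-- Two objects in the orbit of one representative under a subgroup `H` are conjugate under
`H`. -/
theorem orbit_pair {H : Subgroup (Equiv.Perm GolayPt)} {r x x' : Finset GolayPt}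
    (h : ∃ g ∈ H, g • r = x) (h' : ∃ g ∈ H, g • r = x') : ∃ g ∈ H, g • x = x' := by
  obtain ⟨g, hg, e⟩ := h
  obtain ⟨g', hg', e'⟩ := h'
  refine ⟨g' * g⁻¹, H.mul_mem hg' (H.inv_mem hg), ?_⟩
  rw [← e, mul_smul, inv_smul_smul, e']

theorem fsMask_wordOf (c : ℕ) (hc : c < 4096) : fsMask (support₂ (wordOf c)) = encMask c := by
  rw [fsMask_support₂, toMask_wordOf c hc]

end Cfsg.Agent.Lib.Helper21
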