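import Cfsg.Agent.Lib.Helper21.GolayCount

/-!
Basic facts on `Cfsg.golayCode`: dimension, self-orthogonality, the Steiner system of octads.
-/

set_option autoImplicit false

namespace Cfsg.Agent.Lib.Helper21

open Cfsg

theorem finrank_golayCode : Module.finrank (ZMod 2) golayCode = 12 := by
  have h1 : Nat.card golayCode = 4096 := by
    rw [← ncard_golayCode]
    rfl
  have h2 := Module.natCard_eq_pow_finrank (K := ZMod 2) (V := golayCode)
  rw [h1, Nat.card_zmod] at h2
  have : (2:ℕ) ^ 12 = 2 ^ Module.finrank (ZMod 2) golayCode := by rw [← h2]; norm_num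
  exact (Nat.pow_right_injective (le_refl 2) this).symm

theorem golay_selfOrth : ∀ v ∈ golayCode, ∀ w ∈ golayCode, v ⬝ᵥ w = 0 := by
  have hgen : ∀ t s : ZMod 23, qrWord t ⬝ᵥ qrWord s = 0 := by decide +kernel
  have hgen1 : ∀ t : ZMod 23, qrWord t ⬝ᵥ (1 : GolayPt → ZMod 2) = 0 := by decide +kernel
  have h11 : (1 : GolayPt → ZMod 2) ⬝ᵥ (1 : GolayPt → ZMod 2) = 0 := by decide +kernel
  have key : ∀ x ∈ (Set.range qrWord ∪ {1} : Set (GolayPt → ZMod 2)),
      ∀ y ∈ (Set.range qrWord ∪ {1} : Set (GolayPt → ZMod 2)), x ⬝ᵥ y = 0 := by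
    rintro x (⟨t, rfl⟩ | hx) y (⟨s, rfl⟩ | hy)
    · exact hgen t s
    · rw [Set.mem_singleton_iff] at hy; rw [hy]; exact hgen1 t
    · rw [Set.mem_singleton_iff] at hx; rw [hx, dotProduct_comm]; exact hgen1 s
    · rw [Set.mem_singleton_iff] at hx hy; rw [hx, hy]; exact h11
  intro v hv w hw
  unfold golayCode at hv hw
  induction hv using Submodule.span_induction with
  | mem x hx =>
    induction hw using Submodule.span_induction with
    | mem y hy => exact key x hx y hy
    | zero => simp
    | add a b _ _ ha hb => rw [dotProduct_add, ha, hb, add_zero]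
    | smul c a _ ha => rw [dotProduct_smul, ha, smul_zero]
  | zero => simp
  | add a b _ _ ha hb => rw [add_dotProduct, ha, hb, add_zero]
  | smul c a _ ha => rw [smul_dotProduct, ha, smul_zero]

theorem support₂_add (v w : GolayPt → ZMod 2) :
    support₂ (v + w) = symmDiff (support₂ v) (support₂ w) := by
  ext p
  simp only [support₂, Finset.mem_filter, Finset.mem_univ, true_and, Finset.mem_symmDiff,
    Pi.add_apply]
  rcases zmod2_cases (v p) with h1 | h1 <;> rcases zmod2_cases (w p) with h2 | h2 <;>
    simp [h1, h2]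
  decide

theorem support₂_eq_empty_iff (v : GolayPt → ZMod 2) : support₂ v = ∅ ↔ v = 0 := by
  constructor
  · intro h
    funext p
    have : p ∉ support₂ v := by rw [h]; simp
    simpa [support₂] using this
  · rintro rfl
    simp [support₂]

theorem hammingNorm_eq_zero_iff' (v : GolayPt → ZMod 2) : hammingNorm v = 0 ↔ v = 0 := by
  rw [← card_support₂, Finset.card_eq_zero, support₂_eq_empty_iff]

/-- Minimum distance: a code word with fewer than `8` nonzero coordinates is zero. -/
theorem eq_zero_of_weight_lt (v : GolayPt → ZMod 2) (hv : v ∈ golayCode)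
    (h : hammingNorm v < 8) : v = 0 := by
  rcases golay_weights v hv with h0 | h0 | h0 | h0 | h0
  · exact (hammingNorm_eq_zero_iff' v).1 h0
  all_goals omega

theorem mem_octads_iff (b : Finset GolayPt) :
    b ∈ octads ↔ ∃ v ∈ golayCode, support₂ v = b ∧ b.card = 8 := by
  unfold octads wordsOfWeight supports
  constructor
  · rintro ⟨⟨v, hv, rfl⟩, hc⟩
    exact ⟨v, hv, rfl, hc⟩
  · rintro ⟨v, hv, rfl, hc⟩
    exact ⟨⟨v, hv, rfl⟩, hc⟩

theorem zmod2_add_self (v : GolayPt → ZMod 2) : v + v = 0 := by
  funext p
  rcases zmod2_cases (v p) with h | h <;> simp [h]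
  decide

/-- Two octads with at least five common points coincide. -/
theorem octad_unique (b b' : Finset GolayPt) (hb : b ∈ octads) (hb' : b' ∈ octads)
    (h : 5 ≤ (b ∩ b').card) : b = b' := by
  obtain ⟨v, hv, rfl, hc⟩ := (mem_octads_iff b).1 hb
  obtain ⟨v', hv', rfl, hc'⟩ := (mem_octads_iff b').1 hb'
  have hsum : v + v' ∈ golayCode := golayCode.add_mem hv hv'
  have hcard : hammingNorm (v + v') < 8 := by
    rw [← card_support₂, support₂_add]
    have h1 : (symmDiff (support₂ v) (support₂ v')).card
        = (support₂ v \ support₂ v').card + (support₂ v' \ support₂ v).card := by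
      rw [symmDiff_def, Finset.sup_eq_union, Finset.card_union_of_disjoint]
      exact disjoint_sdiff_sdiff
    have h2 := Finset.card_sdiff_add_card_inter (support₂ v) (support₂ v')
    have h3 := Finset.card_sdiff_add_card_inter (support₂ v') (support₂ v)
    rw [Finset.inter_comm] at h3
    omega
  have hz := eq_zero_of_weight_lt _ hsum hcard
  have : v = v' := by
    have h4 : v + v' + v' = v' := by rw [hz, zero_add]
    rw [add_assoc, zmod2_add_self, add_zero] at h4
    exact h4
  rw [this]

theorem octads_steiner : IsSteinerSystem 5 8 octads := by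
  refine ⟨fun b hb => hb.2, ?_⟩
  classical
  set O : Finset (Finset GolayPt) := (Set.toFinite octads).toFinset with hO
  have hOmem : ∀ b, b ∈ O ↔ b ∈ octads := fun b => by simp [hO]
  have hOcard : O.card = 759 := by
    rw [← ncard_octads, Set.ncard_eq_toFinset_card octads (Set.toFinite octads)]
  -- the 5-subsets of octads are pairwise disjoint families
  have hdisj : (O : Set (Finset GolayPt)).PairwiseDisjoint (fun b => b.powersetCard 5) := by
    intro b hb b' hb' hne
    rw [Function.onFun, Finset.disjoint_left]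
    intro s hs hs'
    rw [Finset.mem_powersetCard] at hs hs'
    apply hne
    apply octad_unique b b' ((hOmem b).1 hb) ((hOmem b').1 hb')
    calc 5 = s.card := hs.2.symm
      _ ≤ (b ∩ b').card := Finset.card_le_card (Finset.subset_inter hs.1 hs'.1)
  have hcard : (O.biUnion (fun b => b.powersetCard 5)).card = 42504 := by
    rw [Finset.card_biUnion hdisj]
    rw [Finset.sum_congr rfl (g := fun _ => 56)]
    · rw [Finset.sum_const, hOcard]; rfl
    · intro b hb
      rw [Finset.card_powersetCard, ((hOmem b).1 hb).2]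
      rfl
  have hsub : O.biUnion (fun b => b.powersetCard 5) ⊆ (Finset.univ : Finset GolayPt).powersetCard 5 := by
    intro s hs
    rw [Finset.mem_biUnion] at hs
    obtain ⟨b, _, hs⟩ := hs
    rw [Finset.mem_powersetCard] at hs ⊢
    exact ⟨Finset.subset_univ _, hs.2⟩
  have hall : O.biUnion (fun b => b.powersetCard 5) = (Finset.univ : Finset GolayPt).powersetCard 5 := by
    apply Finset.eq_of_subset_of_card_le hsub
    rw [hcard, Finset.card_powersetCard]
    decide
  intro s hs
  have hmem : s ∈ O.biUnion (fun b => b.powersetCard 5) := by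
    rw [hall, Finset.mem_powersetCard]
    exact ⟨Finset.subset_univ _, hs⟩
  rw [Finset.mem_biUnion] at hmem
  obtain ⟨b, hb, hsb⟩ := hmem
  rw [Finset.mem_powersetCard] at hsb
  refine ⟨b, ⟨(hOmem b).1 hb, hsb.1⟩, ?_⟩
  rintro b' ⟨hb', hsb'⟩
  apply octad_unique b' b hb' ((hOmem b).1 hb)
  calc 5 = s.card := hs.symm
    _ ≤ (b' ∩ b).card := Finset.card_le_card (Finset.subset_inter hsb' hsb.1)

end Cfsg.Agent.Lib.Helper21
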