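import Cfsg.Agent.Lib.Helper21.Steiner

/-!
Block intersection numbers of the Steiner systems S(5,8,24), S(4,7,23), S(3,6,22), S(5,6,12).
-/

set_option autoImplicit false

namespace Cfsg.Agent.Lib.Helper21

open Cfsg Finset

variable {α : Type*} [Fintype α] [DecidableEq α]

/-- `λ` values for S(5,8,24). -/
theorem lam_5_8_24 (hα : Fintype.card α = 24) {B : Set (Finset α)} (hB : IsSteinerSystem 5 8 B)
    (S : Finset α) :
    (S.card = 0 → ((blocksFinset B).filter (S ⊆ ·)).card = 759) ∧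
    (S.card = 1 → ((blocksFinset B).filter (S ⊆ ·)).card = 253) ∧
    (S.card = 2 → ((blocksFinset B).filter (S ⊆ ·)).card = 77) ∧
    (S.card = 3 → ((blocksFinset B).filter (S ⊆ ·)).card = 21) ∧
    (S.card = 4 → ((blocksFinset B).filter (S ⊆ ·)).card = 5) := by
  refine ⟨?_, ?_, ?_, ?_, ?_⟩ <;> intro h <;>
    exact steiner_lambda_eq hB S (by omega) _ (by rw [h, hα]; decide) (by rw [h]; decide)

/-- Intersection numbers of a block of S(5,8,24) with the other blocks. -/
theorem interCounts_5_8_24 (hα : Fintype.card α = 24) {B : Set (Finset α)}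
    (hB : IsSteinerSystem 5 8 B) {b : Finset α} (hb : b ∈ B) :
    interCount B b 0 = 30 ∧ interCount B b 1 = 0 ∧ interCount B b 2 = 448 ∧ interCount B b 3 = 0 ∧
      interCount B b 4 = 280 := by
  have e0 := steiner_inter_sum hB b hb 0 759 (fun S _ h => (lam_5_8_24 hα hB S).1 h)
  have e1 := steiner_inter_sum hB b hb 1 253 (fun S _ h => (lam_5_8_24 hα hB S).2.1 h)
  have e2 := steiner_inter_sum hB b hb 2 77 (fun S _ h => (lam_5_8_24 hα hB S).2.2.1 h)
  have e3 := steiner_inter_sum hB b hb 3 21 (fun S _ h => (lam_5_8_24 hα hB S).2.2.2.1 h)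
  have e4 := steiner_inter_sum hB b hb 4 5 (fun S _ h => (lam_5_8_24 hα hB S).2.2.2.2 h)
  simp only [sum_range_succ, sum_range_zero, Nat.choose] at e0 e1 e2 e3 e4
  omega

/-- `λ` values for S(4,7,23). -/
theorem lam_4_7_23 (hα : Fintype.card α = 23) {B : Set (Finset α)} (hB : IsSteinerSystem 4 7 B)
    (S : Finset α) :
    (S.card = 0 → ((blocksFinset B).filter (S ⊆ ·)).card = 253) ∧
    (S.card = 1 → ((blocksFinset B).filter (S ⊆ ·)).card = 77) ∧
    (S.card = 2 → ((blocksFinset B).filter (S ⊆ ·)).card = 21) ∧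
    (S.card = 3 → ((blocksFinset B).filter (S ⊆ ·)).card = 5) := by
  refine ⟨?_, ?_, ?_, ?_⟩ <;> intro h <;>
    exact steiner_lambda_eq hB S (by omega) _ (by rw [h, hα]; decide) (by rw [h]; decide)

theorem interCounts_4_7_23 (hα : Fintype.card α = 23) {B : Set (Finset α)}
    (hB : IsSteinerSystem 4 7 B) {b : Finset α} (hb : b ∈ B) :
    interCount B b 0 = 0 ∧ interCount B b 1 = 112 ∧ interCount B b 2 = 0 ∧
      interCount B b 3 = 140 := by
  have e0 := steiner_inter_sum hB b hb 0 253 (fun S _ h => (lam_4_7_23 hα hB S).1 h)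
  have e1 := steiner_inter_sum hB b hb 1 77 (fun S _ h => (lam_4_7_23 hα hB S).2.1 h)
  have e2 := steiner_inter_sum hB b hb 2 21 (fun S _ h => (lam_4_7_23 hα hB S).2.2.1 h)
  have e3 := steiner_inter_sum hB b hb 3 5 (fun S _ h => (lam_4_7_23 hα hB S).2.2.2 h)
  simp only [sum_range_succ, sum_range_zero, Nat.choose] at e0 e1 e2 e3
  omega

/-- `λ` values for S(3,6,22). -/
theorem lam_3_6_22 (hα : Fintype.card α = 22) {B : Set (Finset α)} (hB : IsSteinerSystem 3 6 B)
    (S : Finset α) :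
    (S.card = 0 → ((blocksFinset B).filter (S ⊆ ·)).card = 77) ∧
    (S.card = 1 → ((blocksFinset B).filter (S ⊆ ·)).card = 21) ∧
    (S.card = 2 → ((blocksFinset B).filter (S ⊆ ·)).card = 5) := by
  refine ⟨?_, ?_, ?_⟩ <;> intro h <;>
    exact steiner_lambda_eq hB S (by omega) _ (by rw [h, hα]; decide) (by rw [h]; decide)

theorem interCounts_3_6_22 (hα : Fintype.card α = 22) {B : Set (Finset α)}
    (hB : IsSteinerSystem 3 6 B) {b : Finset α} (hb : b ∈ B) :
    interCount B b 0 = 16 ∧ interCount B b 1 = 0 ∧ interCount B b 2 = 60 := by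
  have e0 := steiner_inter_sum hB b hb 0 77 (fun S _ h => (lam_3_6_22 hα hB S).1 h)
  have e1 := steiner_inter_sum hB b hb 1 21 (fun S _ h => (lam_3_6_22 hα hB S).2.1 h)
  have e2 := steiner_inter_sum hB b hb 2 5 (fun S _ h => (lam_3_6_22 hα hB S).2.2 h)
  simp only [sum_range_succ, sum_range_zero, Nat.choose] at e0 e1 e2
  omega

/-- `λ` values for S(5,6,12). -/
theorem lam_5_6_12 (hα : Fintype.card α = 12) {B : Set (Finset α)} (hB : IsSteinerSystem 5 6 B)
    (S : Finset α) :
    (S.card = 0 → ((blocksFinset B).filter (S ⊆ ·)).card = 132) ∧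
    (S.card = 1 → ((blocksFinset B).filter (S ⊆ ·)).card = 66) ∧
    (S.card = 2 → ((blocksFinset B).filter (S ⊆ ·)).card = 30) ∧
    (S.card = 3 → ((blocksFinset B).filter (S ⊆ ·)).card = 12) ∧
    (S.card = 4 → ((blocksFinset B).filter (S ⊆ ·)).card = 4) := by
  refine ⟨?_, ?_, ?_, ?_, ?_⟩ <;> intro h <;>
    exact steiner_lambda_eq hB S (by omega) _ (by rw [h, hα]; decide) (by rw [h]; decide)

theorem interCounts_5_6_12 (hα : Fintype.card α = 12) {B : Set (Finset α)}
    (hB : IsSteinerSystem 5 6 B) {b : Finset α} (hb : b ∈ B) :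
    interCount B b 0 = 1 ∧ interCount B b 1 = 0 ∧ interCount B b 2 = 45 ∧ interCount B b 3 = 40 ∧
      interCount B b 4 = 45 := by
  have e0 := steiner_inter_sum hB b hb 0 132 (fun S _ h => (lam_5_6_12 hα hB S).1 h)
  have e1 := steiner_inter_sum hB b hb 1 66 (fun S _ h => (lam_5_6_12 hα hB S).2.1 h)
  have e2 := steiner_inter_sum hB b hb 2 30 (fun S _ h => (lam_5_6_12 hα hB S).2.2.1 h)
  have e3 := steiner_inter_sum hB b hb 3 12 (fun S _ h => (lam_5_6_12 hα hB S).2.2.2.1 h)
  have e4 := steiner_inter_sum hB b hb 4 4 (fun S _ h => (lam_5_6_12 hα hB S).2.2.2.2 h)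
  simp only [sum_range_succ, sum_range_zero, Nat.choose] at e0 e1 e2 e3 e4
  omega

/-- In S(5,8,24) two distinct blocks meet in 0, 2 or 4 points. -/
theorem inter_5_8_24 (hα : Fintype.card α = 24) {B : Set (Finset α)} (hB : IsSteinerSystem 5 8 B)
    {b c : Finset α} (hb : b ∈ B) (hc : c ∈ B) (hbc : b ≠ c) :
    (b ∩ c).card = 0 ∨ (b ∩ c).card = 2 ∨ (b ∩ c).card = 4 := by
  have hlt := inter_card_lt hB hb hc hbc
  obtain ⟨_, h1, _, h3, _⟩ := interCounts_5_8_24 hα hB hb
  have n1 := interCount_eq_zero b 1 h1 hc hbc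
  have n3 := interCount_eq_zero b 3 h3 hc hbc
  omega

/-- In S(5,8,24) each block is disjoint from exactly 30 blocks. -/
theorem disjoint_count_5_8_24 (hα : Fintype.card α = 24) {B : Set (Finset α)}
    (hB : IsSteinerSystem 5 8 B) {b : Finset α} (hb : b ∈ B) :
    {c : Finset α | c ∈ B ∧ Disjoint b c}.ncard = 30 := by
  classical
  rw [ncard_blocks_filter, ← (interCounts_5_8_24 hα hB hb).1, interCount]
  congr 1
  ext c
  simp only [mem_filter, mem_erase, mem_blocksFinset, card_eq_zero, disjoint_iff_inter_eq_empty]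
  constructor
  · rintro ⟨hc, hd⟩
    refine ⟨⟨?_, hc⟩, hd⟩
    rintro rfl
    rw [inter_self] at hd
    have := hB.1 c hc
    rw [hd] at this
    simp at this
  · rintro ⟨⟨_, hc⟩, hd⟩
    exact ⟨hc, hd⟩

end Cfsg.Agent.Lib.Helper21
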