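import Cfsg.Agent.Lib.Helper21.GolayChain

/-!
`Cfsg.M24` is `5`-transitive on the 24 points.
-/

set_option autoImplicit false

namespace Cfsg.Agent.Lib.Helper21

open Cfsg
open scoped Pointwise

theorem perm_apply_inv (g : Equiv.Perm GolayPt) (p : GolayPt) : g (g⁻¹ p) = p :=
  g.apply_symm_apply p

theorem perm_inv_apply (g : Equiv.Perm GolayPt) (p : GolayPt) : g⁻¹ (g p) = p :=
  g.symm_apply_apply p

theorem chainE_eq (k : ℕ) (hk : k < 5) : chainE k = (2 ^ k - 1) ^^^ 0xFFFFFF := by
  revert k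
  decide

theorem mem_maskFS_chainE (k : ℕ) (hk : k < 5) (p : GolayPt) :
    p ∈ maskFS (chainE k) ↔ k ≤ ((gEquiv p : Fin 24) : ℕ) := by
  rw [chainE_eq k hk, maskFS_compl, Finset.mem_compl, mem_maskFS, Nat.testBit_two_pow_sub_one,
    decide_eq_true_eq, not_lt]

/-- The first `k ≤ 5` positions can be mapped to any `k` distinct points by an element of
`M24`. -/
theorem exists_map_prefix (k : ℕ) (hk : k ≤ 5) (y : ℕ → GolayPt)
    (hy : ∀ i j, i < k → j < k → y i = y j → i = j) :
    ∃ g ∈ M24, ∀ i, i < k → g (ptN i) = y i := by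
  induction k with
  | zero => exact ⟨1, M24.one_mem, fun i hi => absurd hi (Nat.not_lt_zero i)⟩
  | succ k ih =>
    obtain ⟨g, hg, hgy⟩ := ih (by omega)
      (fun i j hi hj => hy i j (Nat.lt_succ_of_lt hi) (Nat.lt_succ_of_lt hj))
    have hq : g⁻¹ (y k) ∈ maskFS (chainE k) := by
      rw [mem_maskFS_chainE k (by omega)]
      by_contra hlt
      rw [not_le] at hlt
      have h1 := hgy _ hlt
      rw [ptN_gEquiv, perm_apply_inv] at h1
      have := hy _ _ (Nat.lt_succ_self k) (Nat.lt_succ_of_lt hlt) h1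
      omega
    have hq' : g⁻¹ (y k) ∈ MulAction.orbit (chainSub k) (ptN k) := by
      rw [chain_orbit k (by omega)]
      exact hq
    rw [mem_orbit_subgroup_iff'] at hq'
    obtain ⟨h, hh, hhk⟩ := hq'
    refine ⟨g * h, M24.mul_mem hg hh.1, fun i hi => ?_⟩
    rw [Equiv.Perm.mul_apply]
    rcases Nat.lt_succ_iff_lt_or_eq.1 hi with hi | rfl
    · rw [hh.2 i hi, hgy i hi]
    · rw [smul_perm_point] at hhk
      rw [hhk, perm_apply_inv]

/-- Any injective family of at most five points is the image of the first positions under an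
element of `M24`. -/
theorem exists_map_embedding {n : ℕ} (hn : n ≤ 5) (x : Fin n ↪ GolayPt) :
    ∃ g ∈ M24, ∀ i : Fin n, g (ptN i) = x i := by
  obtain ⟨g, hg, h⟩ := exists_map_prefix n hn
    (fun i => if h : i < n then x ⟨i, h⟩ else none) (by
      intro i j hi hj hxy
      rw [dif_pos hi, dif_pos hj] at hxy
      have := x.injective hxy
      exact Fin.mk.inj_iff.1 this)
  refine ⟨g, hg, fun i => ?_⟩
  rw [h i i.isLt, dif_pos i.isLt]

theorem M24_pretransitive_of_le {n : ℕ} (hn : n ≤ 5) :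
    MulAction.IsMultiplyPretransitive M24 GolayPt n := by
  rw [MulAction.isMultiplyPretransitive_iff]
  intro x y
  obtain ⟨gx, hgx, hx⟩ := exists_map_embedding hn x
  obtain ⟨gy, hgy, hy⟩ := exists_map_embedding hn y
  refine ⟨⟨gy * gx⁻¹, M24.mul_mem hgy (M24.inv_mem hgx)⟩, ?_⟩
  refine Function.Embedding.ext fun i => ?_
  rw [Function.Embedding.smul_apply]
  show (gy * gx⁻¹) (x i) = y i
  rw [Equiv.Perm.mul_apply, ← hx i, perm_inv_apply, hy i]

/-- `M24` is `5`-transitive. -/
theorem M24_five_transitive : MulAction.IsMultiplyPretransitive M24 GolayPt 5 :=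
  M24_pretransitive_of_le le_rfl

instance M24_pretransitive : MulAction.IsPretransitive M24 GolayPt := by
  rw [← MulAction.is_one_pretransitive_iff]
  exact M24_pretransitive_of_le (by norm_num)

end Cfsg.Agent.Lib.Helper21
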