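import Cfsg.Agent.Lib.Helper21.GolayMem

/-!
Counting code words of `Cfsg.golayCode` with a given property by a sweep over the `4096`
encoded masks.
-/

set_option autoImplicit false

namespace Cfsg.Agent.Lib.Helper21

open Cfsg

/-- The code word with information bits `c`. -/
def wordOf (c : ℕ) : GolayPt → ZMod 2 := ofMask (encMask c)

theorem wordOf_mem (c : ℕ) : wordOf c ∈ golayCode := word_mem c

theorem toMask_wordOf (c : ℕ) (hc : c < 4096) : toMask (wordOf c) = encMask c :=
  toMask_word c hc

theorem wordOf_injOn : Set.InjOn wordOf (Finset.range 4096 : Set ℕ) := by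
  intro a ha b hb h
  have ha' : a < 4096 := by simpa using ha
  have hb' : b < 4096 := by simpa using hb
  have h2 : encMask a = encMask b := by
    rw [← toMask_wordOf a ha', ← toMask_wordOf b hb', h]
  rw [← encMask_mod a ha', ← encMask_mod b hb', h2]

theorem exists_wordOf (w : GolayPt → ZMod 2) (hw : w ∈ golayCode) :
    ∃ c < 4096, wordOf c = w := by
  obtain ⟨c, hc, e⟩ := exists_code w hw
  refine ⟨c, hc, ?_⟩
  apply toMask_injective
  rw [toMask_wordOf c hc, e]

theorem code_filter_eq_image (Q : ℕ → Prop) [DecidablePred Q] :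
    {w : GolayPt → ZMod 2 | w ∈ golayCode ∧ Q (toMask w)} =
      wordOf '' ((Finset.range 4096).filter (fun c => Q (encMask c)) : Finset ℕ) := by
  ext w
  simp only [Set.mem_setOf_eq, Set.mem_image, Finset.coe_filter, Finset.mem_range]
  constructor
  · rintro ⟨hw, hq⟩
    obtain ⟨c, hc, rfl⟩ := exists_wordOf w hw
    rw [toMask_wordOf c hc] at hq
    exact ⟨c, ⟨hc, hq⟩, rfl⟩
  · rintro ⟨c, ⟨hc, hq⟩, rfl⟩
    refine ⟨wordOf_mem c, ?_⟩
    rwa [toMask_wordOf c hc]

/-- Counting principle: the number of code words whose mask satisfies `Q` is the number of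
information words `c < 4096` whose encoded mask satisfies `Q`. -/
theorem ncard_code_filter (Q : ℕ → Prop) [DecidablePred Q] :
    {w : GolayPt → ZMod 2 | w ∈ golayCode ∧ Q (toMask w)}.ncard =
      ((Finset.range 4096).filter (fun c => Q (encMask c))).card := by
  rw [code_filter_eq_image, Set.ncard_image_of_injOn, Set.ncard_coe_finset]
  exact wordOf_injOn.mono (by
    intro c hc
    simp only [Finset.coe_filter, Finset.mem_range, Set.mem_setOf_eq] at hc
    simpa using hc.1)

theorem support₂_injective : Function.Injective (support₂ : (GolayPt → ZMod 2) → Finset GolayPt) := by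
  intro v w h
  funext p
  have hp : p ∈ support₂ v ↔ p ∈ support₂ w := by rw [h]
  simp only [support₂, Finset.mem_filter, Finset.mem_univ, true_and] at hp
  rcases zmod2_cases (v p) with h1 | h1 <;> rcases zmod2_cases (w p) with h2 | h2 <;>
    simp_all

theorem card_support₂ (w : GolayPt → ZMod 2) : (support₂ w).card = hammingNorm w := by
  unfold support₂ hammingNorm
  congr

/-- The words of weight `n` of the code, as supports, are counted by a sweep. -/
theorem ncard_wordsOfWeight (n : ℕ) :
    (wordsOfWeight (golayCode : Set (GolayPt → ZMod 2)) n).ncard =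
      ((Finset.range 4096).filter (fun c => popc 24 (encMask c) = n)).card := by
  rw [← ncard_code_filter (fun m => popc 24 m = n)]
  have : wordsOfWeight (golayCode : Set (GolayPt → ZMod 2)) n =
      support₂ '' {w : GolayPt → ZMod 2 | w ∈ golayCode ∧ popc 24 (toMask w) = n} := by
    ext b
    simp only [wordsOfWeight, supports, Set.mem_setOf_eq, Set.mem_image, SetLike.mem_coe]
    constructor
    · rintro ⟨⟨w, hw, rfl⟩, hc⟩
      refine ⟨w, ⟨hw, ?_⟩, rfl⟩
      rw [← hammingNorm_eq_popc, ← card_support₂, hc]
    · rintro ⟨w, ⟨hw, hc⟩, rfl⟩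
      refine ⟨⟨w, hw, rfl⟩, ?_⟩
      rw [card_support₂, hammingNorm_eq_popc, hc]
  rw [this, Set.ncard_image_of_injective _ support₂_injective]

theorem count_weight_8 : ((Finset.range 4096).filter (fun c => popc 24 (encMask c) = 8)).card = 759 := by
  decide +kernel

theorem count_weight_12 : ((Finset.range 4096).filter (fun c => popc 24 (encMask c) = 12)).card = 2576 := by
  decide +kernel

theorem weights_sweep : ∀ c < 4096, popc 24 (encMask c) = 0 ∨ popc 24 (encMask c) = 8 ∨
    popc 24 (encMask c) = 12 ∨ popc 24 (encMask c) = 16 ∨ popc 24 (encMask c) = 24 := by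
  apply forall_lt_4096
  decide +kernel

theorem golay_weights (w : GolayPt → ZMod 2) (hw : w ∈ golayCode) :
    hammingNorm w = 0 ∨ hammingNorm w = 8 ∨ hammingNorm w = 12 ∨ hammingNorm w = 16 ∨
      hammingNorm w = 24 := by
  rw [hammingNorm_eq_popc]
  exact forall_code (Q := fun m => popc 24 m = 0 ∨ popc 24 m = 8 ∨ popc 24 m = 12 ∨
    popc 24 m = 16 ∨ popc 24 m = 24) weights_sweep w hw

theorem ncard_octads : octads.ncard = 759 := by
  unfold octads
  rw [ncard_wordsOfWeight, count_weight_8]

theorem ncard_dodecads : dodecads.ncard = 2576 := by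
  unfold dodecads
  rw [ncard_wordsOfWeight, count_weight_12]

theorem ncard_golayCode : (golayCode : Set (GolayPt → ZMod 2)).ncard = 4096 := by
  have h := ncard_code_filter (fun _ => True)
  simp only [and_true, Finset.filter_true, Finset.card_range] at h
  exact h

end Cfsg.Agent.Lib.Helper21
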