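import Cfsg.Agent.Lib.Helper21.GolayAutOctads

/-!
Permutations of the 24 points given by packed tables, their action on subsets encoded as bit
masks, a membership criterion for `Cfsg.M24`, and words in such permutations.
-/

set_option autoImplicit false

namespace Cfsg.Agent.Lib.Helper21

open Cfsg
open scoped Pointwise

/-! ### Masks of finsets -/

/-- Bit mask of a set of points. -/
def fsMask (s : Finset GolayPt) : ℕ := Nat.ofBits (fun i : Fin 24 => decide (gEquiv.symm i ∈ s))

theorem testBit_fsMask (s : Finset GolayPt) (p : GolayPt) :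
    (fsMask s).testBit (gEquiv p) = decide (p ∈ s) := by
  unfold fsMask
  rw [Nat.testBit_ofBits_lt _ _ (gEquiv p).isLt]
  simp

theorem testBit_fsMask_fin (s : Finset GolayPt) (i : Fin 24) :
    (fsMask s).testBit i = decide (gEquiv.symm i ∈ s) := by
  have := testBit_fsMask s (gEquiv.symm i)
  simpa using this

theorem fsMask_lt (s : Finset GolayPt) : fsMask s < 2 ^ 24 := Nat.ofBits_lt_two_pow _

theorem fsMask_injective : Function.Injective fsMask := by
  intro s t h
  ext p
  have h1 := testBit_fsMask s p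
  have h2 := testBit_fsMask t p
  rw [h] at h1
  rw [h1] at h2
  simpa using h2

theorem fsMask_support₂ (w : GolayPt → ZMod 2) : fsMask (support₂ w) = toMask w := by
  apply testBit_eq_of_lt (fsMask_lt _) (toMask_lt _)
  intro p
  rw [testBit_fsMask, testBit_toMask]
  rcases zmod2_cases (w p) with h | h <;> simp [mem_support₂, h]

theorem card_eq_popc (s : Finset GolayPt) : s.card = popc 24 (fsMask s) := by
  rw [popc_eq_sum, ← Fin.sum_univ_eq_sum_range (fun i => ((fsMask s).testBit i).toNat) 24,
    ← Equiv.sum_comp gEquiv, Finset.card_eq_sum_ones, ← Finset.sum_filter_add_sum_filter_not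
      Finset.univ (· ∈ s)]
  have h1 : ∑ x ∈ Finset.univ.filter (· ∈ s), ((fsMask s).testBit (gEquiv x)).toNat
      = ∑ x ∈ s, 1 := by
    rw [Finset.filter_mem_eq_inter, Finset.univ_inter]
    apply Finset.sum_congr rfl
    intro p hp
    rw [testBit_fsMask]
    simp [hp]
  have h2 : ∑ x ∈ Finset.univ.filter (fun x => ¬ x ∈ s), ((fsMask s).testBit (gEquiv x)).toNat
      = 0 := by
    apply Finset.sum_eq_zero
    intro p hp
    rw [Finset.mem_filter] at hp
    rw [testBit_fsMask]
    simp [hp.2]
  rw [h1, h2, add_zero]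

theorem fsMask_inter (s t : Finset GolayPt) : fsMask (s ∩ t) = fsMask s &&& fsMask t := by
  apply testBit_eq_of_lt (fsMask_lt _) (Nat.and_lt_two_pow _ (fsMask_lt _))
  intro p
  rw [Nat.testBit_and, testBit_fsMask, testBit_fsMask, testBit_fsMask]
  simp [Finset.mem_inter]

theorem fsMask_symmDiff (s t : Finset GolayPt) : fsMask (symmDiff s t) = fsMask s ^^^ fsMask t := by
  apply testBit_eq_of_lt (fsMask_lt _) (Nat.xor_lt_two_pow (fsMask_lt _) (fsMask_lt _))
  intro p
  rw [Nat.testBit_xor, testBit_fsMask, testBit_fsMask, testBit_fsMask]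
  by_cases h1 : p ∈ s <;> by_cases h2 : p ∈ t <;> simp [Finset.mem_symmDiff, h1, h2]

/-! ### Table permutations -/

/-- Entry `i` of a table packed in `5`-bit fields. -/
def tabGet (T i : ℕ) : ℕ := (T >>> (5 * i)) % 32

/-- The map of points given by a table. -/
def tabMap (T : ℕ) (p : GolayPt) : GolayPt :=
  if h : tabGet T (gEquiv p) < 24 then gEquiv.symm ⟨tabGet T (gEquiv p), h⟩ else p

/-- `T` and `TI` are tables of mutually inverse permutations of `0..23`. -/
def TabInv (T TI : ℕ) : Prop :=
  ∀ i : Fin 24, tabGet T i < 24 ∧ tabGet TI i < 24 ∧ tabGet TI (tabGet T i) = i ∧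
    tabGet T (tabGet TI i) = i

instance tabInvDecidable (T TI : ℕ) : Decidable (TabInv T TI) := by
  unfold TabInv; infer_instance

theorem TabInv.symm {T TI : ℕ} (h : TabInv T TI) : TabInv TI T :=
  fun i => ⟨(h i).2.1, (h i).1, (h i).2.2.2, (h i).2.2.1⟩

theorem tabMap_apply {T TI : ℕ} (h : TabInv T TI) (p : GolayPt) :
    gEquiv (tabMap T p) = ⟨tabGet T (gEquiv p), (h (gEquiv p)).1⟩ := by
  unfold tabMap
  rw [dif_pos (h (gEquiv p)).1]
  simp

theorem tabMap_tabMap {T TI : ℕ} (h : TabInv T TI) (p : GolayPt) : tabMap TI (tabMap T p) = p := by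
  apply gEquiv.injective
  rw [tabMap_apply h.symm, Fin.ext_iff]
  show tabGet TI ((gEquiv (tabMap T p) : Fin 24) : ℕ) = _
  rw [tabMap_apply h]
  exact (h (gEquiv p)).2.2.1

/-- The permutation given by a pair of mutually inverse tables. -/
def permOfTab (T TI : ℕ) (h : TabInv T TI) : Equiv.Perm GolayPt where
  toFun := tabMap T
  invFun := tabMap TI
  left_inv := tabMap_tabMap h
  right_inv := tabMap_tabMap h.symm

theorem permOfTab_inv (T TI : ℕ) (h : TabInv T TI) : (permOfTab T TI h)⁻¹ = permOfTab TI T h.symm := by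
  ext p
  rfl

/-- Image of a mask: bit `j` of the result is bit `TI j` of the argument. -/
def gatherMask (TI m : ℕ) : ℕ := Nat.ofBits (fun j : Fin 24 => m.testBit (tabGet TI j))

theorem gatherMask_lt (TI m : ℕ) : gatherMask TI m < 2 ^ 24 := Nat.ofBits_lt_two_pow _

theorem fsMask_smul (T TI : ℕ) (h : TabInv T TI) (s : Finset GolayPt) :
    fsMask (permOfTab T TI h • s) = gatherMask TI (fsMask s) := by
  apply testBit_eq_of_lt (fsMask_lt _) (gatherMask_lt _ _)
  intro p
  rw [testBit_fsMask]
  unfold gatherMask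
  rw [Nat.testBit_ofBits_lt _ _ (gEquiv p).isLt]
  have hmem : p ∈ permOfTab T TI h • s ↔ tabMap TI p ∈ s := by
    rw [← Finset.inv_smul_mem_iff]
    rfl
  have hbit := testBit_fsMask s (tabMap TI p)
  rw [tabMap_apply h.symm] at hbit
  rw [hbit]
  simp [hmem]

/-- Precomposition with a table permutation on word masks. -/
theorem toMask_precomp_tab (T TI : ℕ) (h : TabInv T TI) (w : GolayPt → ZMod 2) :
    toMask (precomp (permOfTab T TI h) w) = gatherMask T (toMask w) := by
  rw [← fsMask_support₂, support₂_precomp, permOfTab_inv, fsMask_smul, fsMask_support₂]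

/-- Membership criterion for table permutations: the twelve basis words are mapped into the
code. -/
theorem permOfTab_mem (T TI : ℕ) (h : TabInv T TI)
    (hc : ∀ b ∈ basisMasks, encMask (gatherMask T b % 4096) = gatherMask T b) :
    permOfTab T TI h ∈ M24 := by
  have hle : golayCode ≤ golayCode.comap (precomp (permOfTab T TI h)) := by
    apply golayCode_le_of_basis
    intro b hb
    rw [Submodule.mem_comap, mem_golayCode_iff, toMask_precomp_tab,
      toMask_ofMask b (basis_weight b hb).2]
    exact hc b hb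
  exact mem_M24_of_gens _ (fun t => hle (qrWord_mem t))

/-! ### Words in table permutations -/

/-- Run a word (a numeral in base `k` with leading sentinel digit `1`), digit `j` acting by the
inverse table `ti j`. The first digit applied is the least significant one. -/
def runWordM (ti : ℕ → ℕ) (k : ℕ) : ℕ → ℕ → ℕ → ℕ
  | 0, _, m => m
  | f + 1, w, m => if w ≤ 1 then m else runWordM ti k f (w / k) (gatherMask (ti (w % k)) m)

theorem runWordM_spec (H : Subgroup (Equiv.Perm GolayPt)) (gen : ℕ → Equiv.Perm GolayPt)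
    (ti : ℕ → ℕ) (hgen : ∀ j, gen j ∈ H ∧ ∀ s, fsMask (gen j • s) = gatherMask (ti j) (fsMask s))
    (k f w : ℕ) :
    ∃ g ∈ H, ∀ s : Finset GolayPt, fsMask (g • s) = runWordM ti k f w (fsMask s) := by
  induction f generalizing w with
  | zero => exact ⟨1, H.one_mem, fun s => by rw [one_smul]; rfl⟩
  | succ f ih =>
    by_cases hw : w ≤ 1
    · refine ⟨1, H.one_mem, fun s => ?_⟩
      rw [one_smul, runWordM, if_pos hw]
    · obtain ⟨g, hg, e⟩ := ih (w / k)
      refine ⟨g * gen (w % k), H.mul_mem hg (hgen _).1, fun s => ?_⟩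
      rw [runWordM, if_neg hw, mul_smul, e, (hgen _).2]

end Cfsg.Agent.Lib.Helper21
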