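import Cfsg.Agent.Lib.Helper21.GolayWords

/-!
The stabiliser chain of `Cfsg.M24` along the points at positions `0..6`: orbit lengths
`24, 23, 22, 21, 20, 16, 3`, hence `|M24| = 244823040`, and `M24` is `5`-transitive.
-/

set_option autoImplicit false

namespace Cfsg.Agent.Lib.Helper21

open Cfsg
open scoped Pointwise

/-! ### Orbit and stabiliser for a subgroup acting through the ambient group -/

theorem card_eq_orbit_mul_card_inf_stabilizer {G X : Type*} [Group G] [MulAction G X]
    (H : Subgroup G) (a : X) :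
    Nat.card H = (MulAction.orbit H a).ncard * Nat.card ↥(H ⊓ MulAction.stabilizer G a) := by
  have e : ↥(MulAction.stabilizer H a) ≃ ↥(H ⊓ MulAction.stabilizer G a) :=
    { toFun := fun x => ⟨((x : H) : G), ⟨(x : H).2, x.2⟩⟩
      invFun := fun y => ⟨⟨y, y.2.1⟩, y.2.2⟩
      left_inv := fun _ => rfl
      right_inv := fun _ => rfl }
  rw [← MulAction.index_stabilizer, ← Nat.card_congr e, mul_comm, Subgroup.card_mul_index]

theorem mem_orbit_subgroup_iff' {G X : Type*} [Group G] [MulAction G X] (H : Subgroup G)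
    (a b : X) : b ∈ MulAction.orbit H a ↔ ∃ g ∈ H, g • a = b := by
  constructor
  · rintro ⟨g, rfl⟩
    exact ⟨g, g.2, rfl⟩
  · rintro ⟨g, hg, rfl⟩
    exact ⟨⟨g, hg⟩, rfl⟩

theorem card_maskFS (m : ℕ) (hm : m < 2 ^ 24) : (maskFS m).card = popc 24 m := by
  rw [card_eq_popc, fsMask_maskFS _ hm]

/-! ### The chain -/

/-- The elements of `M24` fixing the points at positions below `k`. -/
def chainSub (k : ℕ) : Subgroup (Equiv.Perm GolayPt) where
  carrier := {g | g ∈ M24 ∧ ∀ i, i < k → g (ptN i) = ptN i}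
  mul_mem' := fun {a b} ha hb => ⟨M24.mul_mem ha.1 hb.1, fun i hi => by
    rw [Equiv.Perm.mul_apply, hb.2 i hi, ha.2 i hi]⟩
  one_mem' := ⟨M24.one_mem, fun _ _ => rfl⟩
  inv_mem' := fun {a} ha => ⟨M24.inv_mem ha.1, fun i hi => by
    rw [Equiv.Perm.inv_eq_iff_eq]; exact (ha.2 i hi).symm⟩

theorem mem_chainSub {k : ℕ} {g : Equiv.Perm GolayPt} :
    g ∈ chainSub k ↔ g ∈ M24 ∧ ∀ i, i < k → g (ptN i) = ptN i := Iff.rfl

theorem chainSub_zero : chainSub 0 = M24 := by
  ext g
  rw [mem_chainSub]
  exact ⟨fun h => h.1, fun h => ⟨h, fun i hi => absurd hi (Nat.not_lt_zero i)⟩⟩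

theorem chainSub_succ (k : ℕ) :
    chainSub (k + 1) = chainSub k ⊓ MulAction.stabilizer (Equiv.Perm GolayPt) (ptN k) := by
  ext g
  rw [Subgroup.mem_inf, mem_chainSub, mem_chainSub, MulAction.mem_stabilizer_iff]
  constructor
  · intro h
    exact ⟨⟨h.1, fun i hi => h.2 i (Nat.lt_succ_of_lt hi)⟩, h.2 k (Nat.lt_succ_self k)⟩
  · intro h
    refine ⟨h.1.1, fun i hi => ?_⟩
    rcases Nat.lt_succ_iff_lt_or_eq.1 hi with hi | rfl
    · exact h.1.2 i hi
    · exact h.2

theorem chainSub_seven : chainSub 7 = ⊥ := by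
  rw [Subgroup.eq_bot_iff_forall]
  intro g hg
  exact eq_one_of_fix7 hg.1 hg.2

theorem chainSub_le_M24 (k : ℕ) : chainSub k ≤ M24 := fun _ hg => hg.1

/-! ### Checking one level -/

/-- The word fixes the positions below `k`. -/
def wordFixes (k f w : ℕ) : Bool := (List.range k).all (fun i => runWordP f w i == i)

/-- Mask of the images of position `k` under a list of words. -/
def imgMask (k f : ℕ) : List ℕ → ℕ
  | [] => 0
  | w :: L => 1 <<< runWordP f w k ||| imgMask k f L

/-- The check for level `k`: the words fix the positions below `k` and map position `k` onto the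
mask `E`, which in turn is the set cut out by the octad literals and the complement of the
positions below `k`. -/
def levelOk (k f : ℕ) (L : List ℕ) (lits : List (ℕ × Bool)) (E : ℕ) : Bool :=
  L.all (wordFixes k f) && (decide (imgMask k f L = E) && (lits.all (litOk (2 ^ k - 1)) &&
    ((stepMask lits).testBit k &&
      (decide (stepMask lits &&& (0xFFFFFF ^^^ (2 ^ k - 1)) = E) && decide (E < 2 ^ 24)))))

theorem exists_of_testBit_imgMask (k f : ℕ) :
    ∀ (L : List ℕ) (q : ℕ), (imgMask k f L).testBit q = true → ∃ w ∈ L, runWordP f w k = q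
  | [], q, h => by simp [imgMask] at h
  | w :: L, q, h => by
    rw [imgMask, Nat.testBit_or, Bool.or_eq_true] at h
    rcases h with h | h
    · rw [Nat.one_shiftLeft, Nat.testBit_two_pow, decide_eq_true_eq] at h
      exact ⟨w, List.mem_cons_self, h⟩
    · obtain ⟨w', hw', e⟩ := exists_of_testBit_imgMask k f L q h
      exact ⟨w', List.mem_cons_of_mem _ hw', e⟩

theorem wordPerm_mem_chainSub (k f w : ℕ) (hk : k ≤ 24) (h : wordFixes k f w = true) :
    wordPerm f w ∈ chainSub k := by
  refine ⟨wordPerm_mem_M24 f w, fun i hi => ?_⟩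
  rw [wordPerm_ptN _ _ _ (lt_of_lt_of_le hi hk)]
  unfold wordFixes at h
  rw [List.all_eq_true] at h
  have := h i (List.mem_range.2 hi)
  rw [beq_iff_eq] at this
  rw [this]

theorem level_orbit (k f : ℕ) (L : List ℕ) (lits : List (ℕ × Bool)) (E : ℕ) (hk : k < 24)
    (h : levelOk k f L lits E = true) :
    MulAction.orbit (chainSub k) (ptN k) = ↑(maskFS E) := by
  unfold levelOk at h
  simp only [Bool.and_eq_true, decide_eq_true_eq] at h
  obtain ⟨hL, himg, hlits, hmem, hE, -⟩ := h
  ext p
  rw [mem_orbit_subgroup_iff', Finset.mem_coe]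
  constructor
  · rintro ⟨g, hg, rfl⟩
    rw [smul_perm_point, ← hE, maskFS_and, Finset.mem_inter]
    constructor
    · have hst : StabM g (stepMask lits) := stabM_stepMask hg.1 (fixedM_of_lt k hg.2) lits hlits
      apply hst.apply_mem
      rw [mem_maskFS, gEquiv_ptN_val k hk]
      exact hmem
    · rw [Nat.xor_comm, maskFS_compl, Finset.mem_compl, mem_maskFS, Nat.testBit_two_pow_sub_one,
        decide_eq_true_eq]
      intro hlt
      have h1 := hg.2 _ hlt
      rw [ptN_gEquiv] at h1
      have h2 : g (ptN k) = ptN k := g.injective h1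
      rw [h2, gEquiv_ptN_val k hk] at hlt
      exact lt_irrefl _ hlt
  · intro hp
    rw [mem_maskFS, ← himg] at hp
    obtain ⟨w, hw, e⟩ := exists_of_testBit_imgMask k f L _ hp
    rw [List.all_eq_true] at hL
    refine ⟨wordPerm f w, wordPerm_mem_chainSub k f w (le_of_lt hk) (hL w hw), ?_⟩
    rw [smul_perm_point, wordPerm_ptN _ _ _ hk, e, ptN_gEquiv]

theorem level_card (k f : ℕ) (L : List ℕ) (lits : List (ℕ × Bool)) (E : ℕ) (hk : k < 24)
    (h : levelOk k f L lits E = true) :
    Nat.card (chainSub k) = popc 24 E * Nat.card (chainSub (k + 1)) := by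
  have hE : E < 2 ^ 24 := by
    unfold levelOk at h
    simp only [Bool.and_eq_true, decide_eq_true_eq] at h
    exact h.2.2.2.2.2
  rw [card_eq_orbit_mul_card_inf_stabilizer (chainSub k) (ptN k), ← chainSub_succ,
    level_orbit k f L lits E hk h, Set.ncard_coe_finset, card_maskFS _ hE]

/-! ### Data -/

/-- Transversal words of the stabiliser chain along the positions `0..6`. -/
def chainWords : ℕ → List ℕ
  | 0 => [1, 4, 16, 64, 124, 368, 112, 304, 405, 477, 352, 96, 101, 93, 29, 77, 348, 92, 28, 76, 85, 21, 5, 6]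
  | 1 => [1, 127, 398, 31, 1758, 511, 291, 406, 19927, 1550, 1538, 72, 7126, 1730, 6146, 1992, 4149, 7, 6914, 6622, 1630, 386, 89]
  | 2 => [1, 6642, 319344, 6198, 272220, 515132, 30659, 488853, 6998, 66403, 89280, 1650, 27710, 396658, 462749, 67837, 407298, 300537, 32240, 26610, 7030, 20325]
  | 3 => [1, 4915, 7337342, 1232073, 89486220, 18926809, 6354690, 4939996, 6503666, 25026312, 1637598, 6642690, 307449, 20129150, 2055997, 1057781, 457742, 19925031, 19912243, 8135545, 277909]
  | 4 => [1, 5968723296, 131947999, 316464601, 385219959, 2103243743, 309818233, 4399159, 2113886012, 1533237463, 1627183042, 78708275, 1837161943, 116900054, 1459672832, 16814037, 271531157, 1223908601, 7093746, 4257365]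
  | 5 => [1, 31622837197, 69486888973, 501167480, 33813892896, 8375436172, 29057102806, 73000750448, 5233604469, 7516390259, 4486608764, 102017797989, 19582369753, 18082552178, 7298990142, 1560253901]
  | 6 => [1, 330173046211, 117437353302]
  | _ => []

/-- Octad literals bounding the orbits of the stabiliser chain from above. -/
def chainLits : ℕ → List (ℕ × Bool)
  | 5 => [(1183, false)]
  | 6 => [(123, true)]
  | _ => []

/-- Masks of the orbits of the stabiliser chain. -/
def chainE : ℕ → ℕ
  | 0 => 0xFFFFFF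
  | 1 => 0xFFFFFE
  | 2 => 0xFFFFFC
  | 3 => 0xFFFFF8
  | 4 => 0xFFFFF0
  | 5 => 0xFFEB60
  | 6 => 0x210040
  | _ => 0

theorem chain_ok : ∀ k, k < 7 → levelOk k 32 (chainWords k) (chainLits k) (chainE k) = true := by
  decide +kernel

theorem chain_orbit (k : ℕ) (hk : k < 7) :
    MulAction.orbit (chainSub k) (ptN k) = ↑(maskFS (chainE k)) :=
  level_orbit k 32 _ _ _ (by omega) (chain_ok k hk)

theorem chain_card (k : ℕ) (hk : k < 7) :
    Nat.card (chainSub k) = popc 24 (chainE k) * Nat.card (chainSub (k + 1)) :=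
  level_card k 32 _ _ _ (by omega) (chain_ok k hk)

theorem popc_chainE : popc 24 (chainE 0) = 24 ∧ popc 24 (chainE 1) = 23 ∧ popc 24 (chainE 2) = 22 ∧
    popc 24 (chainE 3) = 21 ∧ popc 24 (chainE 4) = 20 ∧ popc 24 (chainE 5) = 16 ∧
    popc 24 (chainE 6) = 3 := by decide +kernel

theorem card_chainSub_seven : Nat.card (chainSub 7) = 1 := by
  rw [chainSub_seven]
  exact Subgroup.card_bot

theorem card_chainSub_six : Nat.card (chainSub 6) = 3 := by
  rw [chain_card 6 (by norm_num), popc_chainE.2.2.2.2.2.2, card_chainSub_seven]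

theorem card_chainSub_five : Nat.card (chainSub 5) = 48 := by
  rw [chain_card 5 (by norm_num), popc_chainE.2.2.2.2.2.1, card_chainSub_six]

theorem card_chainSub_four : Nat.card (chainSub 4) = 960 := by
  rw [chain_card 4 (by norm_num), popc_chainE.2.2.2.2.1, card_chainSub_five]

theorem card_chainSub_three : Nat.card (chainSub 3) = 20160 := by
  rw [chain_card 3 (by norm_num), popc_chainE.2.2.2.1, card_chainSub_four]

theorem card_chainSub_two : Nat.card (chainSub 2) = 443520 := by
  rw [chain_card 2 (by norm_num), popc_chainE.2.2.1, card_chainSub_three]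

theorem card_chainSub_one : Nat.card (chainSub 1) = 10200960 := by
  rw [chain_card 1 (by norm_num), popc_chainE.2.1, card_chainSub_two]

/-- The order of `M24`. -/
theorem card_M24 : Nat.card M24 = 244823040 := by
  rw [← chainSub_zero, chain_card 0 (by norm_num), popc_chainE.1, card_chainSub_one]

end Cfsg.Agent.Lib.Helper21
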