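import Mathlib
import Cfsg.Prelude.Def_Sporadic_a

/-!
Computational model of the length-24 code `Cfsg.golayCode`: words are encoded as natural
number bit masks below `2 ^ 24` (bit `x` for the point `some x`, bit `23` for `none`), and
the code is described through a systematic generator matrix.
-/

set_option autoImplicit false

namespace Cfsg.Agent.Lib.Helper21

open Cfsg

/-- The bit position of a point. -/
def gEquiv : GolayPt ≃ Fin 24 := (finSuccEquivLast (n := 23)).symm

/-- Bit mask of a binary word. -/
def toMask (w : GolayPt → ZMod 2) : ℕ :=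
  Nat.ofBits (fun i : Fin 24 => decide (w (gEquiv.symm i) = 1))

/-- Binary word of a bit mask. -/
def ofMask (m : ℕ) : GolayPt → ZMod 2 := fun p => if m.testBit (gEquiv p) then 1 else 0

theorem zmod2_cases (a : ZMod 2) : a = 0 ∨ a = 1 := by
  revert a; decide

theorem testBit_toMask (w : GolayPt → ZMod 2) (p : GolayPt) :
    (toMask w).testBit (gEquiv p) = decide (w p = 1) := by
  unfold toMask
  rw [Nat.testBit_ofBits_lt _ _ (gEquiv p).isLt]
  simp

theorem testBit_toMask_ge (w : GolayPt → ZMod 2) (i : ℕ) (hi : 24 ≤ i) :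
    (toMask w).testBit i = false :=
  Nat.testBit_ofBits_ge _ _ hi

theorem toMask_lt (w : GolayPt → ZMod 2) : toMask w < 2 ^ 24 :=
  Nat.ofBits_lt_two_pow _

theorem ofMask_toMask (w : GolayPt → ZMod 2) : ofMask (toMask w) = w := by
  funext p
  unfold ofMask
  rw [testBit_toMask]
  rcases zmod2_cases (w p) with h | h <;> simp [h]

theorem testBit_eq_of_lt {a b : ℕ} (ha : a < 2 ^ 24) (hb : b < 2 ^ 24)
    (h : ∀ p : GolayPt, a.testBit (gEquiv p) = b.testBit (gEquiv p)) : a = b := by
  apply Nat.eq_of_testBit_eq
  intro i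
  by_cases hi : i < 24
  · have := h (gEquiv.symm ⟨i, hi⟩)
    simpa using this
  · have hi' : 24 ≤ i := Nat.le_of_not_lt hi
    rw [Nat.testBit_lt_two_pow (lt_of_lt_of_le ha (Nat.pow_le_pow_right (by norm_num) hi')),
      Nat.testBit_lt_two_pow (lt_of_lt_of_le hb (Nat.pow_le_pow_right (by norm_num) hi'))]

theorem toMask_ofMask (m : ℕ) (hm : m < 2 ^ 24) : toMask (ofMask m) = m := by
  apply testBit_eq_of_lt (toMask_lt _) hm
  intro p
  rw [testBit_toMask]
  unfold ofMask
  by_cases h : m.testBit (gEquiv p) <;> simp [h]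

theorem toMask_injective : Function.Injective toMask := by
  intro v w h
  rw [← ofMask_toMask v, ← ofMask_toMask w, h]

theorem toMask_add (v w : GolayPt → ZMod 2) : toMask (v + w) = toMask v ^^^ toMask w := by
  apply testBit_eq_of_lt (toMask_lt _) (Nat.xor_lt_two_pow (toMask_lt _) (toMask_lt _))
  intro p
  rw [Nat.testBit_xor, testBit_toMask, testBit_toMask, testBit_toMask, Pi.add_apply]
  rcases zmod2_cases (v p) with h | h <;> rcases zmod2_cases (w p) with h' | h' <;>
    simp [h, h']

theorem toMask_zero : toMask 0 = 0 := by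
  apply testBit_eq_of_lt (toMask_lt _) (by norm_num)
  intro p
  rw [testBit_toMask]
  simp

theorem ofMask_xor (a b : ℕ) : ofMask (a ^^^ b) = ofMask a + ofMask b := by
  funext p
  simp only [ofMask, Nat.testBit_xor, Pi.add_apply]
  by_cases h : a.testBit (gEquiv p) <;> by_cases h' : b.testBit (gEquiv p) <;>
    simp [h, h']
  decide

theorem ofMask_zero : ofMask 0 = 0 := by
  funext p
  simp [ofMask]

/-! ### Popcount -/

/-- Number of set bits among the lowest `k` bits. -/
def popc : ℕ → ℕ → ℕ
  | 0, _ => 0
  | k + 1, n => n % 2 + popc k (n / 2)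

theorem popc_eq_sum (k n : ℕ) : popc k n = ∑ i ∈ Finset.range k, (n.testBit i).toNat := by
  induction k generalizing n with
  | zero => simp [popc]
  | succ k ih =>
    rw [popc, ih, Finset.sum_range_succ']
    simp only [Nat.testBit_div_two]
    rw [add_comm]
    congr 1
    rw [Nat.toNat_testBit]
    simp

theorem hammingNorm_eq_popc (w : GolayPt → ZMod 2) : hammingNorm w = popc 24 (toMask w) := by
  rw [popc_eq_sum, hammingNorm, Finset.card_filter]
  rw [← Fin.sum_univ_eq_sum_range (fun i => ((toMask w).testBit i).toNat) 24]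
  rw [← Equiv.sum_comp gEquiv]
  apply Finset.sum_congr rfl
  intro p _
  rw [testBit_toMask]
  rcases zmod2_cases (w p) with h | h <;> simp [h]

end Cfsg.Agent.Lib.Helper21
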