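import Mathlib
import Cfsg.Prelude.Def_Sporadic_a

/-!
Counting in Steiner systems (`Cfsg.IsSteinerSystem`): the number of blocks through a set of at
most `t` points, and the double counting of intersections of a fixed block with the others.
-/

set_option autoImplicit false

namespace Cfsg.Agent.Lib.Helper21

open Cfsg Finset

variable {α : Type*} [Fintype α] [DecidableEq α]

/-- The blocks, as a finset. -/
noncomputable def blocksFinset (B : Set (Finset α)) : Finset (Finset α) := (Set.toFinite B).toFinset

theorem mem_blocksFinset {B : Set (Finset α)} {b : Finset α} : b ∈ blocksFinset B ↔ b ∈ B := by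
  simp [blocksFinset]

theorem ncard_blocks_filter (B : Set (Finset α)) (P : Finset α → Prop) [DecidablePred P] :
    {b | b ∈ B ∧ P b}.ncard = ((blocksFinset B).filter P).card := by
  rw [← Set.ncard_coe_finset]
  congr 1
  ext b
  simp [mem_blocksFinset]

theorem ncard_blocks (B : Set (Finset α)) : B.ncard = (blocksFinset B).card := by
  rw [← Set.ncard_coe_finset]
  congr 1
  ext b
  simp [mem_blocksFinset]

/-- The number `λ_S` of blocks through a set `S` of at most `t` points, in product form. -/
theorem steiner_lambda {t k : ℕ} {B : Set (Finset α)} (hB : IsSteinerSystem t k B) (S : Finset α)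
    (hS : S.card ≤ t) :
    ((blocksFinset B).filter (S ⊆ ·)).card * (k - S.card).choose (t - S.card)
      = (Fintype.card α - S.card).choose (t - S.card) := by
  classical
  set P := (univ.powersetCard t).filter (S ⊆ ·) with hP
  set Bs := (blocksFinset B).filter (S ⊆ ·) with hBs
  have hPcard : P.card = (Fintype.card α - S.card).choose (t - S.card) := by
    rw [hP, card_filter_powersetCard_subset S univ t (subset_univ _) hS, card_univ]
  have h := Finset.sum_card_bipartiteAbove_eq_sum_card_bipartiteBelow (s := P) (t := Bs)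
    (fun T b => T ⊆ b)
  have h1 : ∀ T ∈ P, (bipartiteAbove (fun T b => T ⊆ b) Bs T).card = 1 := by
    intro T hT
    rw [hP, mem_filter, mem_powersetCard] at hT
    obtain ⟨b, ⟨hbB, hTb⟩, huniq⟩ := hB.2 T hT.1.2
    rw [card_eq_one]
    refine ⟨b, ?_⟩
    ext c
    simp only [bipartiteAbove, mem_filter, mem_singleton, hBs, mem_blocksFinset]
    constructor
    · rintro ⟨⟨hcB, _⟩, hTc⟩
      exact huniq c ⟨hcB, hTc⟩
    · rintro rfl
      exact ⟨⟨hbB, hT.2.trans hTb⟩, hTb⟩
  have h2 : ∀ b ∈ Bs, (bipartiteBelow (fun T b => T ⊆ b) P b).card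
      = (k - S.card).choose (t - S.card) := by
    intro b hb
    rw [hBs, mem_filter, mem_blocksFinset] at hb
    have : bipartiteBelow (fun T b => T ⊆ b) P b = (b.powersetCard t).filter (S ⊆ ·) := by
      ext T
      simp only [bipartiteBelow, mem_filter, hP, mem_powersetCard]
      constructor
      · rintro ⟨⟨⟨_, hc⟩, hST⟩, hTb⟩; exact ⟨⟨hTb, hc⟩, hST⟩
      · rintro ⟨⟨hTb, hc⟩, hST⟩; exact ⟨⟨⟨subset_univ _, hc⟩, hST⟩, hTb⟩
    rw [this, card_filter_powersetCard_subset S b t hb.2 hS, hB.1 b hb.1]
  rw [sum_congr rfl h1, sum_congr rfl h2, sum_const, sum_const, smul_eq_mul, smul_eq_mul,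
    mul_one] at h
  rw [← hPcard, h]

/-- Explicit value of `λ_S`. -/
theorem steiner_lambda_eq {t k : ℕ} {B : Set (Finset α)} (hB : IsSteinerSystem t k B) (S : Finset α)
    (hS : S.card ≤ t) (lam : ℕ)
    (hlam : lam * (k - S.card).choose (t - S.card) = (Fintype.card α - S.card).choose (t - S.card))
    (hpos : 0 < (k - S.card).choose (t - S.card)) :
    ((blocksFinset B).filter (S ⊆ ·)).card = lam := by
  have h := steiner_lambda hB S hS
  rw [← hlam] at h
  exact Nat.eq_of_mul_eq_mul_right hpos h

/-- Two distinct blocks have fewer than `t` common points. -/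
theorem inter_card_lt {t k : ℕ} {B : Set (Finset α)} (hB : IsSteinerSystem t k B) {b c : Finset α}
    (hb : b ∈ B) (hc : c ∈ B) (hne : b ≠ c) : (b ∩ c).card < t := by
  by_contra hlt
  rw [not_lt] at hlt
  obtain ⟨T, hT, hTc⟩ := Finset.exists_subset_card_eq hlt
  obtain ⟨d, _, huniq⟩ := hB.2 T hTc
  have h1 := huniq b ⟨hb, hT.trans inter_subset_left⟩
  have h2 := huniq c ⟨hc, hT.trans inter_subset_right⟩
  exact hne (h1.trans h2.symm)

/-- Number of blocks other than `b` meeting `b` in exactly `j` points. -/
noncomputable def interCount (B : Set (Finset α)) (b : Finset α) (j : ℕ) : ℕ :=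
  (((blocksFinset B).erase b).filter (fun c => (b ∩ c).card = j)).card

/-- Double counting: `i`-subsets of a block `b` against the other blocks containing them. -/
theorem steiner_inter_sum {t k : ℕ} {B : Set (Finset α)} (hB : IsSteinerSystem t k B) (b : Finset α)
    (hb : b ∈ B) (i lam : ℕ)
    (hlam : ∀ S ⊆ b, S.card = i → ((blocksFinset B).filter (S ⊆ ·)).card = lam) :
    ∑ j ∈ range t, j.choose i * interCount B b j = k.choose i * (lam - 1) := by
  classical
  have hmaps : ∀ c ∈ (blocksFinset B).erase b, (b ∩ c).card ∈ range t := by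
    intro c hc
    rw [mem_erase, mem_blocksFinset] at hc
    rw [mem_range]
    exact inter_card_lt hB hb hc.2 (Ne.symm hc.1)
  have hfib := Finset.sum_fiberwise_of_maps_to hmaps (fun c => ((b ∩ c).card).choose i)
  have hleft : ∑ j ∈ range t, j.choose i * interCount B b j
      = ∑ c ∈ (blocksFinset B).erase b, ((b ∩ c).card).choose i := by
    rw [← hfib]
    apply sum_congr rfl
    intro j _
    rw [interCount, mul_comm, ← smul_eq_mul, ← sum_const]
    apply sum_congr rfl
    intro c hc
    rw [mem_filter] at hc
    rw [hc.2]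
  rw [hleft]
  have h := Finset.sum_card_bipartiteAbove_eq_sum_card_bipartiteBelow (s := b.powersetCard i)
    (t := (blocksFinset B).erase b) (fun S c => S ⊆ c)
  have h1 : ∀ S ∈ b.powersetCard i,
      (bipartiteAbove (fun S c => S ⊆ c) ((blocksFinset B).erase b) S).card = lam - 1 := by
    intro S hS
    rw [mem_powersetCard] at hS
    have : bipartiteAbove (fun S c => S ⊆ c) ((blocksFinset B).erase b) S
        = ((blocksFinset B).filter (S ⊆ ·)).erase b := by
      ext c
      simp only [bipartiteAbove, mem_filter, mem_erase]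
      tauto
    rw [this, card_erase_of_mem, hlam S hS.1 hS.2]
    rw [mem_filter, mem_blocksFinset]
    exact ⟨hb, hS.1⟩
  have h2 : ∀ c ∈ (blocksFinset B).erase b,
      (bipartiteBelow (fun S c => S ⊆ c) (b.powersetCard i) c).card = ((b ∩ c).card).choose i := by
    intro c _
    have : bipartiteBelow (fun S c => S ⊆ c) (b.powersetCard i) c = (b ∩ c).powersetCard i := by
      ext S
      simp only [bipartiteBelow, mem_filter, mem_powersetCard, subset_inter_iff]
      tauto
    rw [this, card_powersetCard]
  rw [sum_congr rfl h1, sum_congr rfl h2, sum_const, card_powersetCard, hB.1 b hb,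
    smul_eq_mul] at h
  rw [← h]

theorem interCount_eq_zero {B : Set (Finset α)} (b : Finset α) (j : ℕ)
    (h0 : interCount B b j = 0) {c : Finset α} (hc : c ∈ B) (hne : b ≠ c) : (b ∩ c).card ≠ j := by
  intro hj
  have : c ∈ ((blocksFinset B).erase b).filter (fun c => (b ∩ c).card = j) := by
    rw [mem_filter, mem_erase, mem_blocksFinset]
    exact ⟨⟨Ne.symm hne, hc⟩, hj⟩
  rw [interCount, card_eq_zero] at h0
  rw [h0] at this
  exact absurd this (notMem_empty _)

end Cfsg.Agent.Lib.Helper21
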