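import Cfsg.Agent.Lib.Helper21.GolayStab

/-!
Subgroups of `Cfsg.M24` cut out by constraints (sets mapped to themselves, points fixed), and a
checker for one level of a stabiliser chain in such a subgroup: the orbit of a point is
bounded from below by explicit words and from above by sets mapped to themselves.
-/

set_option autoImplicit false

namespace Cfsg.Agent.Lib.Helper21

open Cfsg
open scoped Pointwise

theorem StabM.mul {g h : Equiv.Perm GolayPt} {m : ℕ} (hg : StabM g m) (hh : StabM h m) :
    StabM (g * h) m := by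
  unfold StabM at *
  rw [mul_smul, hh, hg]

theorem StabM.inv {g : Equiv.Perm GolayPt} {m : ℕ} (hg : StabM g m) : StabM g⁻¹ m := by
  unfold StabM at *
  rw [inv_smul_eq_iff, hg]

theorem StabM.one (m : ℕ) : StabM 1 m := by
  unfold StabM
  rw [one_smul]

/-- The elements of `M24` mapping each set with mask in `Ds` to itself and fixing each position
in `Fs`. -/
def conSub (Ds Fs : List ℕ) : Subgroup (Equiv.Perm GolayPt) where
  carrier := {g | g ∈ M24 ∧ (∀ D ∈ Ds, StabM g D) ∧ ∀ i ∈ Fs, g (ptN i) = ptN i}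
  mul_mem' := fun {a b} ha hb => ⟨M24.mul_mem ha.1 hb.1, fun D hD => (ha.2.1 D hD).mul (hb.2.1 D hD),
    fun i hi => by rw [Equiv.Perm.mul_apply, hb.2.2 i hi, ha.2.2 i hi]⟩
  one_mem' := ⟨M24.one_mem, fun D _ => StabM.one D, fun _ _ => rfl⟩
  inv_mem' := fun {a} ha => ⟨M24.inv_mem ha.1, fun D hD => (ha.2.1 D hD).inv, fun i hi => by
    rw [Equiv.Perm.inv_eq_iff_eq]; exact (ha.2.2 i hi).symm⟩

theorem mem_conSub {Ds Fs : List ℕ} {g : Equiv.Perm GolayPt} :
    g ∈ conSub Ds Fs ↔ g ∈ M24 ∧ (∀ D ∈ Ds, StabM g D) ∧ ∀ i ∈ Fs, g (ptN i) = ptN i := Iff.rfl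

theorem conSub_nil : conSub [] [] = M24 := by
  ext g
  rw [mem_conSub]
  exact ⟨fun h => h.1, fun h => ⟨h, fun D hD => absurd hD (List.not_mem_nil),
    fun i hi => absurd hi (List.not_mem_nil)⟩⟩

theorem conSub_cons (Ds Fs : List ℕ) (b : ℕ) :
    conSub Ds (b :: Fs) = conSub Ds Fs ⊓ MulAction.stabilizer (Equiv.Perm GolayPt) (ptN b) := by
  ext g
  rw [Subgroup.mem_inf, mem_conSub, mem_conSub, MulAction.mem_stabilizer_iff]
  constructor
  · intro h
    exact ⟨⟨h.1, h.2.1, fun i hi => h.2.2 i (List.mem_cons_of_mem _ hi)⟩,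
      h.2.2 b List.mem_cons_self⟩
  · intro h
    refine ⟨h.1.1, h.1.2.1, fun i hi => ?_⟩
    rcases List.mem_cons.1 hi with rfl | hi
    · exact h.2
    · exact h.1.2.2 i hi

theorem conSub_le_M24 (Ds Fs : List ℕ) : conSub Ds Fs ≤ M24 := fun _ hg => hg.1

theorem conSub_mono {Ds Fs Fs' : List ℕ} (h : ∀ i ∈ Fs', i ∈ Fs) : conSub Ds Fs ≤ conSub Ds Fs' :=
  fun _ hg => ⟨hg.1, hg.2.1, fun i hi => hg.2.2 i (h i hi)⟩

/-! ### Words in constrained subgroups -/

/-- The word maps the positions of the mask `D` into `D`. -/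
def wordStab (f w D : ℕ) : Bool :=
  (List.range 24).all (fun i => !D.testBit i || D.testBit (runWordP f w i))

theorem wordPerm_stabM (f w D : ℕ) (h : wordStab f w D = true) : StabM (wordPerm f w) D := by
  unfold StabM
  apply Finset.eq_of_subset_of_card_le
  · intro p hp
    rw [← Finset.inv_smul_mem_iff] at hp
    have hq : wordPerm f w ((wordPerm f w)⁻¹ • p) = p := (wordPerm f w).apply_symm_apply p
    generalize (wordPerm f w)⁻¹ • p = q at hp hq
    rw [← hq, mem_maskFS]
    rw [mem_maskFS] at hp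
    unfold wordStab at h
    rw [List.all_eq_true] at h
    have h1 := h _ (List.mem_range.2 (gEquiv q).isLt)
    rw [hp] at h1
    have h2 : wordPerm f w q = ptN (runWordP f w (gEquiv q : Fin 24)) := by
      rw [← wordPerm_ptN _ _ _ (gEquiv q).isLt, ptN_gEquiv]
    rw [h2, gEquiv_ptN_val _ (runWordP_lt _ _ _ (gEquiv q).isLt)]
    simpa using h1
  · rw [Finset.card_smul_finset]

/-- The word lies in the constrained subgroup. -/
def wordIn (f : ℕ) (Ds Fs : List ℕ) (w : ℕ) : Bool :=
  Ds.all (wordStab f w) && Fs.all (fun i => decide (i < 24) && runWordP f w i == i)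

theorem wordPerm_mem_conSub (f : ℕ) (Ds Fs : List ℕ) (w : ℕ) (h : wordIn f Ds Fs w = true) :
    wordPerm f w ∈ conSub Ds Fs := by
  unfold wordIn at h
  rw [Bool.and_eq_true, List.all_eq_true, List.all_eq_true] at h
  refine ⟨wordPerm_mem_M24 f w, fun D hD => wordPerm_stabM f w D (h.1 D hD), fun i hi => ?_⟩
  have := h.2 i hi
  rw [Bool.and_eq_true, decide_eq_true_eq, beq_iff_eq] at this
  rw [wordPerm_ptN _ _ _ this.1, this.2]

/-! ### Sets mapped to themselves by a constrained subgroup -/

/-- Mask of a list of positions. -/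
def posMask : List ℕ → ℕ
  | [] => 0
  | i :: Fs => 1 <<< i ||| posMask Fs

theorem testBit_posMask (Fs : List ℕ) (q : ℕ) : (posMask Fs).testBit q = true ↔ q ∈ Fs := by
  induction Fs with
  | nil => simp [posMask]
  | cons i Fs ih =>
    rw [posMask, Nat.testBit_or, Bool.or_eq_true, ih, Nat.one_shiftLeft, Nat.testBit_two_pow,
      decide_eq_true_eq, List.mem_cons]
    constructor
    · rintro (h | h)
      · exact Or.inl h.symm
      · exact Or.inr h
    · rintro (h | h)
      · exact Or.inl h.symm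
      · exact Or.inr h

theorem fixedM_posMask {g : Equiv.Perm GolayPt} {Fs : List ℕ}
    (h : ∀ i ∈ Fs, g (ptN i) = ptN i) : FixedM g (posMask Fs) := by
  intro p hp
  rw [mem_maskFS, testBit_posMask] at hp
  have := h _ hp
  rwa [ptN_gEquiv] at this

/-- A literal: kind `0` is a mask of `Ds`, any other kind is an octad given by its information
bits, which must meet the fixed positions in at least five points; the flag tells whether the
set or its complement is meant. -/
def litMaskC (l : ℕ × ℕ × Bool) : ℕ :=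
  let m := if l.1 = 0 then l.2.1 else encMask l.2.1
  if l.2.2 then m else m ^^^ 0xFFFFFF

/-- Validity of a literal. -/
def litOkC (Ds : List ℕ) (F : ℕ) (l : ℕ × ℕ × Bool) : Bool :=
  if l.1 = 0 then decide (l.2.1 ∈ Ds) else litOk F (l.2.1, l.2.2)

/-- Intersection of the literal masks. -/
def stepMaskC : List (ℕ × ℕ × Bool) → ℕ
  | [] => 0xFFFFFF
  | l :: ls => litMaskC l &&& stepMaskC ls

theorem stabM_stepMaskC {g : Equiv.Perm GolayPt} {Ds Fs : List ℕ} (hg : g ∈ conSub Ds Fs) :
    ∀ lits : List (ℕ × ℕ × Bool), lits.all (litOkC Ds (posMask Fs)) = true →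
      StabM g (stepMaskC lits)
  | [], _ => StabM.full g
  | l :: ls, h => by
    rw [List.all_cons, Bool.and_eq_true] at h
    have hl := h.1
    have h2 : StabM g (litMaskC l) := by
      unfold litOkC at hl
      unfold litMaskC
      by_cases h0 : l.1 = 0
      · rw [if_pos h0, decide_eq_true_eq] at hl
        simp only [if_pos h0]
        split
        · exact hg.2.1 _ hl
        · exact (hg.2.1 _ hl).compl
      · rw [if_neg h0] at hl
        simp only [if_neg h0]
        unfold litOk at hl
        simp only [Bool.and_eq_true, decide_eq_true_eq] at hl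
        have h1 : StabM g (encMask l.2.1) :=
          StabM.octad hg.1 (fixedM_posMask hg.2.2) hl.1 hl.2.1 hl.2.2
        split
        · exact h1
        · exact h1.compl
    exact h2.and (stabM_stepMaskC hg ls h.2)

/-! ### One level -/

/-- The check for one level: the words lie in the constrained subgroup and map position `b` onto
the mask `E`, which in turn is the set cut out by the literals and the complement of the fixed
positions. -/
def levelOkC (f : ℕ) (Ds Fs : List ℕ) (b : ℕ) (L : List ℕ) (lits : List (ℕ × ℕ × Bool))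
    (E : ℕ) : Bool :=
  decide (b < 24) && (decide (b ∉ Fs) && (L.all (wordIn f Ds Fs) && (decide (imgMask b f L = E) &&
    (lits.all (litOkC Ds (posMask Fs)) && ((stepMaskC lits).testBit b &&
      (decide (stepMaskC lits &&& (posMask Fs ^^^ 0xFFFFFF) = E) && decide (E < 2 ^ 24)))))))

theorem level_orbitC (f : ℕ) (Ds Fs : List ℕ) (b : ℕ) (L : List ℕ)
    (lits : List (ℕ × ℕ × Bool)) (E : ℕ) (h : levelOkC f Ds Fs b L lits E = true) :
    MulAction.orbit (conSub Ds Fs) (ptN b) = ↑(maskFS E) := by
  unfold levelOkC at h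
  simp only [Bool.and_eq_true, decide_eq_true_eq] at h
  obtain ⟨hb, hbF, hL, himg, hlits, hmem, hE, -⟩ := h
  ext p
  rw [mem_orbit_subgroup_iff', Finset.mem_coe]
  constructor
  · rintro ⟨g, hg, rfl⟩
    rw [smul_perm_point, ← hE, maskFS_and, Finset.mem_inter]
    constructor
    · have hst : StabM g (stepMaskC lits) := stabM_stepMaskC hg lits hlits
      apply hst.apply_mem
      rw [mem_maskFS, gEquiv_ptN_val b hb]
      exact hmem
    · rw [maskFS_compl, Finset.mem_compl, mem_maskFS, testBit_posMask]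
      intro hmemF
      have h1 := hg.2.2 _ hmemF
      rw [ptN_gEquiv] at h1
      have h2 : g (ptN b) = ptN b := g.injective h1
      rw [h2, gEquiv_ptN_val b hb] at hmemF
      exact hbF hmemF
  · intro hp
    rw [mem_maskFS, ← himg] at hp
    obtain ⟨w, hw, e⟩ := exists_of_testBit_imgMask b f L _ hp
    rw [List.all_eq_true] at hL
    refine ⟨wordPerm f w, wordPerm_mem_conSub f Ds Fs w (hL w hw), ?_⟩
    rw [smul_perm_point, wordPerm_ptN _ _ _ hb, e, ptN_gEquiv]

theorem level_cardC (f : ℕ) (Ds Fs : List ℕ) (b : ℕ) (L : List ℕ)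
    (lits : List (ℕ × ℕ × Bool)) (E : ℕ) (h : levelOkC f Ds Fs b L lits E = true) :
    Nat.card (conSub Ds Fs) = popc 24 E * Nat.card (conSub Ds (b :: Fs)) := by
  have hE : E < 2 ^ 24 := by
    unfold levelOkC at h
    simp only [Bool.and_eq_true, decide_eq_true_eq] at h
    exact h.2.2.2.2.2.2.2
  rw [card_eq_orbit_mul_card_inf_stabilizer (conSub Ds Fs) (ptN b), ← conSub_cons,
    level_orbitC f Ds Fs b L lits E h, Set.ncard_coe_finset, card_maskFS _ hE]

/-- At a checked level every point of `E` is the image of position `b` under an element of the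
constrained subgroup. -/
theorem level_transC (f : ℕ) (Ds Fs : List ℕ) (b : ℕ) (L : List ℕ)
    (lits : List (ℕ × ℕ × Bool)) (E : ℕ) (h : levelOkC f Ds Fs b L lits E = true)
    (p : GolayPt) (hp : p ∈ maskFS E) : ∃ g ∈ conSub Ds Fs, g (ptN b) = p := by
  have : p ∈ MulAction.orbit (conSub Ds Fs) (ptN b) := by
    rw [level_orbitC f Ds Fs b L lits E h]
    exact hp
  rw [mem_orbit_subgroup_iff'] at this
  exact this

/-- At a checked level the image of position `b` under an element of the constrained subgroup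
is attained by one of the listed words. -/
theorem level_wordC (f : ℕ) (Ds Fs : List ℕ) (b : ℕ) (L : List ℕ)
    (lits : List (ℕ × ℕ × Bool)) (E : ℕ) (h : levelOkC f Ds Fs b L lits E = true)
    (g : Equiv.Perm GolayPt) (hg : g ∈ conSub Ds Fs) :
    ∃ w ∈ L, wordPerm f w ∈ conSub Ds Fs ∧ wordPerm f w (ptN b) = g (ptN b) := by
  have hmem : g (ptN b) ∈ MulAction.orbit (conSub Ds Fs) (ptN b) := by
    rw [mem_orbit_subgroup_iff']
    exact ⟨g, hg, rfl⟩
  rw [level_orbitC f Ds Fs b L lits E h, Finset.mem_coe] at hmem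
  unfold levelOkC at h
  simp only [Bool.and_eq_true, decide_eq_true_eq] at h
  obtain ⟨hb, -, hL, himg, -⟩ := h
  rw [mem_maskFS, ← himg] at hmem
  obtain ⟨w, hw, e⟩ := exists_of_testBit_imgMask b f L _ hmem
  rw [List.all_eq_true] at hL
  refine ⟨w, hw, wordPerm_mem_conSub f Ds Fs w (hL w hw), ?_⟩
  rw [wordPerm_ptN _ _ _ hb, e, ptN_gEquiv]

/-- If the next group of the chain is trivial, the elements of the constrained subgroup are the
listed words. -/
theorem eq_word_of_levelC (f : ℕ) (Ds Fs : List ℕ) (b : ℕ) (L : List ℕ)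
    (lits : List (ℕ × ℕ × Bool)) (E : ℕ) (h : levelOkC f Ds Fs b L lits E = true)
    (hbot : conSub Ds (b :: Fs) = ⊥)
    (g : Equiv.Perm GolayPt) (hg : g ∈ conSub Ds Fs) : ∃ w ∈ L, g = wordPerm f w := by
  obtain ⟨w, hw, hwm, e⟩ := level_wordC f Ds Fs b L lits E h g hg
  refine ⟨w, hw, ?_⟩
  have h1 : (wordPerm f w)⁻¹ * g ∈ conSub Ds (b :: Fs) := by
    rw [conSub_cons, Subgroup.mem_inf, MulAction.mem_stabilizer_iff]
    refine ⟨(conSub Ds Fs).mul_mem ((conSub Ds Fs).inv_mem hwm) hg, ?_⟩
    rw [smul_perm_point, Equiv.Perm.mul_apply, ← e, perm_inv_apply]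
  rw [hbot, Subgroup.mem_bot] at h1
  exact (inv_mul_eq_one.1 h1).symm

end Cfsg.Agent.Lib.Helper21
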