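import Cfsg.Agent.Lib.Helper21.GolayM12

/-!
The stabiliser in `Cfsg.M24` of an arbitrary dodecad: sharply `5`-transitive on the dodecad, and
its point stabilisers are `3`-transitive on the complement.
-/

set_option autoImplicit false

namespace Cfsg.Agent.Lib.Helper21

open Cfsg
open scoped Pointwise

theorem mem_M12_iff (g : Equiv.Perm GolayPt) :
    g ∈ Spor.M12 ↔ g ∈ M24 ∧ g • Spor.squareDodecad = Spor.squareDodecad := by
  unfold Spor.M12
  rw [Subgroup.mem_inf]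
  rfl

theorem mem_M11_iff (g : Equiv.Perm GolayPt) :
    g ∈ Spor.M11 ↔ g ∈ M24 ∧ g • Spor.squareDodecad = Spor.squareDodecad ∧ g (ptN 0) = ptN 0 := by
  unfold Spor.M11
  rw [Subgroup.mem_inf, mem_M12_iff, and_assoc]
  rfl

theorem exists_map_squareDodecad (d : Finset GolayPt) (hd : d ∈ dodecads) :
    ∃ k ∈ M24, k • Spor.squareDodecad = d := by
  obtain ⟨k, hk⟩ := dodecads_transitive Spor.squareDodecad d squareDodecad_mem hd
  exact ⟨k, k.2, hk⟩

theorem M12_map_embedding {n : ℕ} (hn : n ≤ 5) (x : Fin n ↪ GolayPt)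
    (hx : ∀ i, x i ∈ Spor.squareDodecad) :
    ∃ g ∈ Spor.M12, ∀ i : Fin n, g (ptN i) = x i := by
  obtain ⟨g, hg, h⟩ := M12_map_prefix n hn
    (fun i => if h : i < n then x ⟨i, h⟩ else none) (by
      intro i hi
      rw [dif_pos hi]
      exact hx _) (by
      intro i j hi hj hxy
      rw [dif_pos hi, dif_pos hj] at hxy
      have := x.injective hxy
      exact Fin.mk.inj_iff.1 this)
  refine ⟨g, hg, fun i => ?_⟩
  rw [h i i.isLt, dif_pos i.isLt]

theorem M11_map_embedding {n : ℕ} (hn : n ≤ 3) (x : Fin n ↪ GolayPt)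
    (hx : ∀ i, x i ∉ Spor.squareDodecad) :
    ∃ g ∈ Spor.M11, ∀ i : Fin n, g (ptN (m11B i)) = x i := by
  obtain ⟨g, hg, h⟩ := M11_map_compl n hn
    (fun i => if h : i < n then x ⟨i, h⟩ else none) (by
      intro i hi
      rw [dif_pos hi]
      exact hx _) (by
      intro i j hi hj hxy
      rw [dif_pos hi, dif_pos hj] at hxy
      have := x.injective hxy
      exact Fin.mk.inj_iff.1 this)
  refine ⟨g, hg, fun i => ?_⟩
  rw [h i i.isLt, dif_pos i.isLt]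

theorem smul_finset_mem_iff (k : Equiv.Perm GolayPt) (s : Finset GolayPt) (p : GolayPt) :
    k⁻¹ p ∈ s ↔ p ∈ k • s := by
  rw [← Finset.inv_smul_mem_iff]
  rfl

/-- The stabiliser of a dodecad is `5`-transitive on it. -/
theorem dodecad_stab_trans {n : ℕ} (hn : n ≤ 5) (d : Finset GolayPt) (hd : d ∈ dodecads)
    (x y : Fin n ↪ GolayPt) (hx : ∀ i, x i ∈ d) (hy : ∀ i, y i ∈ d) :
    ∃ g ∈ M24, g • d = d ∧ ∀ i, g (x i) = y i := by
  obtain ⟨k, hk, rfl⟩ := exists_map_squareDodecad d hd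
  obtain ⟨gx, hgx, hx'⟩ := M12_map_embedding hn (x.trans (k⁻¹ : Equiv.Perm GolayPt).toEmbedding)
    (fun i => (smul_finset_mem_iff k _ _).2 (hx i))
  obtain ⟨gy, hgy, hy'⟩ := M12_map_embedding hn (y.trans (k⁻¹ : Equiv.Perm GolayPt).toEmbedding)
    (fun i => (smul_finset_mem_iff k _ _).2 (hy i))
  rw [mem_M12_iff] at hgx hgy
  refine ⟨k * gy * gx⁻¹ * k⁻¹, M24.mul_mem (M24.mul_mem (M24.mul_mem hk hgy.1)
    (M24.inv_mem hgx.1)) (M24.inv_mem hk), ?_, fun i => ?_⟩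
  · rw [mul_smul, inv_smul_smul, mul_smul, mul_smul, inv_smul_eq_iff.2 hgx.2.symm, hgy.2]
  · have h1 : gx (ptN i) = k⁻¹ (x i) := hx' i
    have h2 : gy (ptN i) = k⁻¹ (y i) := hy' i
    rw [Equiv.Perm.mul_apply, Equiv.Perm.mul_apply, Equiv.Perm.mul_apply, ← h1,
      perm_inv_apply, h2, perm_apply_inv]

/-- An element of `M24` mapping a dodecad to itself and fixing five of its points is trivial. -/
theorem dodecad_stab_unique (d : Finset GolayPt) (hd : d ∈ dodecads)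
    (x : Fin 5 ↪ GolayPt) (hx : ∀ i, x i ∈ d) (g : Equiv.Perm GolayPt) (hg : g ∈ M24)
    (hgd : g • d = d) (hgx : ∀ i, g (x i) = x i) : g = 1 := by
  obtain ⟨k, hk, rfl⟩ := exists_map_squareDodecad d hd
  obtain ⟨gx, hgx', hx'⟩ := M12_map_embedding le_rfl
    (x.trans (k⁻¹ : Equiv.Perm GolayPt).toEmbedding)
    (fun i => (smul_finset_mem_iff k _ _).2 (hx i))
  rw [mem_M12_iff] at hgx'
  have hmem : gx⁻¹ * k⁻¹ * g * k * gx ∈ conSub [dsq] (m12Fs 5) := by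
    refine ⟨M24.mul_mem (M24.mul_mem (M24.mul_mem (M24.mul_mem (M24.inv_mem hgx'.1)
      (M24.inv_mem hk)) hg) hk) hgx'.1, fun D hD => ?_, fun i hi => ?_⟩
    · rw [List.mem_singleton] at hD
      rw [hD, stabM_dsq_iff, mul_smul, mul_smul, mul_smul, mul_smul, hgx'.2, hgd, inv_smul_smul,
        inv_smul_eq_iff.2 hgx'.2.symm]
    · rw [mem_m12Fs] at hi
      have h1 : gx (ptN i) = k⁻¹ (x ⟨i, hi⟩) := hx' ⟨i, hi⟩
      rw [Equiv.Perm.mul_apply, Equiv.Perm.mul_apply, Equiv.Perm.mul_apply, Equiv.Perm.mul_apply,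
        h1, perm_apply_inv, hgx ⟨i, hi⟩, ← h1, perm_inv_apply]
  rw [conSub_m12_five, Subgroup.mem_bot] at hmem
  have h2 : g = k * gx * (gx⁻¹ * k⁻¹ * g * k * gx) * gx⁻¹ * k⁻¹ := by group
  rw [h2, hmem]
  group

/-- The stabiliser of a dodecad is transitive on it. -/
theorem dodecad_stab_trans_pt (d : Finset GolayPt) (hd : d ∈ dodecads) (p q : GolayPt)
    (hp : p ∈ d) (hq : q ∈ d) : ∃ g ∈ M24, g • d = d ∧ g p = q := by
  obtain ⟨g, hg, hgd, h⟩ := dodecad_stab_trans (n := 1) (by norm_num) d hd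
    ⟨fun _ => p, fun _ _ _ => Subsingleton.elim _ _⟩ ⟨fun _ => q, fun _ _ _ => Subsingleton.elim _ _⟩
    (fun _ => hp) (fun _ => hq)
  exact ⟨g, hg, hgd, h 0⟩

/-- The stabiliser of a dodecad and of one of its points is `3`-transitive on the complement. -/
theorem dodecad_pt_stab_trans {n : ℕ} (hn : n ≤ 3) (d : Finset GolayPt) (hd : d ∈ dodecads)
    (p : GolayPt) (hp : p ∈ d)
    (x y : Fin n ↪ GolayPt) (hx : ∀ i, x i ∉ d) (hy : ∀ i, y i ∉ d) :
    ∃ g ∈ M24, g • d = d ∧ g p = p ∧ ∀ i, g (x i) = y i := by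
  obtain ⟨k₁, hk₁, hk₁d⟩ := exists_map_squareDodecad d hd
  have hp' : k₁⁻¹ p ∈ Spor.squareDodecad := by
    rw [smul_finset_mem_iff, hk₁d]; exact hp
  obtain ⟨h, hh, hhd, hhp⟩ := dodecad_stab_trans_pt Spor.squareDodecad squareDodecad_mem
    (ptN 0) (k₁⁻¹ p) ptN_zero_mem hp'
  have hk : k₁ * h ∈ M24 := M24.mul_mem hk₁ hh
  have hkd : (k₁ * h) • Spor.squareDodecad = d := by rw [mul_smul, hhd, hk₁d]
  have hkp : (k₁ * h) (ptN 0) = p := by
    rw [Equiv.Perm.mul_apply, hhp, perm_apply_inv]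
  generalize k₁ * h = k at hk hkd hkp
  subst hkd
  obtain ⟨gx, hgx, hx'⟩ := M11_map_embedding hn (x.trans (k⁻¹ : Equiv.Perm GolayPt).toEmbedding)
    (fun i hi => hx i ((smul_finset_mem_iff k _ _).1 hi))
  obtain ⟨gy, hgy, hy'⟩ := M11_map_embedding hn (y.trans (k⁻¹ : Equiv.Perm GolayPt).toEmbedding)
    (fun i hi => hy i ((smul_finset_mem_iff k _ _).1 hi))
  rw [mem_M11_iff] at hgx hgy
  refine ⟨k * gy * gx⁻¹ * k⁻¹, M24.mul_mem (M24.mul_mem (M24.mul_mem hk hgy.1)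
    (M24.inv_mem hgx.1)) (M24.inv_mem hk), ?_, ?_, fun i => ?_⟩
  · rw [mul_smul, inv_smul_smul, mul_smul, mul_smul, inv_smul_eq_iff.2 hgx.2.1.symm, hgy.2.1]
  · rw [Equiv.Perm.mul_apply, Equiv.Perm.mul_apply, Equiv.Perm.mul_apply, ← hkp, perm_inv_apply]
    have : gx⁻¹ (ptN 0) = ptN 0 := by
      rw [Equiv.Perm.inv_eq_iff_eq]; exact hgx.2.2.symm
    rw [this, hgy.2.2]
  · have h1 : gx (ptN (m11B i)) = k⁻¹ (x i) := hx' i
    have h2 : gy (ptN (m11B i)) = k⁻¹ (y i) := hy' i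
    rw [Equiv.Perm.mul_apply, Equiv.Perm.mul_apply, Equiv.Perm.mul_apply, ← h1,
      perm_inv_apply, h2, perm_apply_inv]

end Cfsg.Agent.Lib.Helper21
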