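import Mathlib

/-!
A point stabiliser is a maximal subgroup when no proper union of suborbits (together with the
point itself) has a size dividing the size of the orbit.
-/

set_option autoImplicit false

namespace Cfsg.Agent.Lib.Helper21

open scoped Pointwise

theorem card_eq_orbit_mul_card_of_stabilizer_le {G X : Type*} [Group G] [MulAction G X]
    (K : Subgroup G) (x : X) (hK : MulAction.stabilizer G x ≤ K) :
    Nat.card K = (MulAction.orbit K x).ncard * Nat.card (MulAction.stabilizer G x) := by
  have e : ↥(MulAction.stabilizer K x) ≃ ↥(MulAction.stabilizer G x) :=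
    { toFun := fun g => ⟨((g : K) : G), g.2⟩
      invFun := fun g => ⟨⟨g, hK g.2⟩, g.2⟩
      left_inv := fun _ => rfl
      right_inv := fun _ => rfl }
  rw [← MulAction.index_stabilizer, ← Nat.card_congr e, mul_comm, Subgroup.card_mul_index]

/-- Suborbit criterion for maximality of a point stabiliser. The points of the orbit other than
`x` are classified by `c` with values in `R`; points in the same class are conjugate under the
stabiliser; class `i` has `n i` points. -/
theorem isCoatom_stabilizer_of_suborbits {G X : Type*} [Group G] [Finite G] [MulAction G X]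
    (x : X) (c : X → ℕ) (R : Finset ℕ) (n : ℕ → ℕ) (N : ℕ)
    (hN : (MulAction.orbit G x).ncard = N) (hN1 : 1 < N)
    (hc : ∀ y ∈ MulAction.orbit G x, y ≠ x → c y ∈ R)
    (hn : ∀ i ∈ R, {y | y ∈ MulAction.orbit G x ∧ y ≠ x ∧ c y = i}.ncard = n i)
    (htrans : ∀ y ∈ MulAction.orbit G x, ∀ y' ∈ MulAction.orbit G x, y ≠ x → y' ≠ x → c y = c y' →
      ∃ h ∈ MulAction.stabilizer G x, h • y = y')
    (harith : ∀ I ∈ R.powerset, (1 + ∑ i ∈ I, n i) ∣ N →
      (∑ i ∈ I, n i = 0 ∨ 1 + ∑ i ∈ I, n i = N)) :
    IsCoatom (MulAction.stabilizer G x) := by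
  classical
  have hfin : (MulAction.orbit G x).Finite := Set.finite_range _
  have hGcard : Nat.card G = N * Nat.card (MulAction.stabilizer G x) := by
    have := Subgroup.card_mul_index (MulAction.stabilizer G x)
    rw [MulAction.index_stabilizer, hN, mul_comm] at this
    exact this.symm
  have hHpos : 0 < Nat.card (MulAction.stabilizer G x) := Nat.card_pos
  constructor
  · intro htop
    have h1 : Nat.card (MulAction.stabilizer G x) = Nat.card G := by
      rw [htop]; exact Subgroup.card_top
    rw [hGcard] at h1
    have : N = 1 := by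
      have h2 : 1 * Nat.card (MulAction.stabilizer G x) = N * Nat.card (MulAction.stabilizer G x) := by
        rw [one_mul]; exact h1
      exact (Nat.eq_of_mul_eq_mul_right hHpos h2).symm
    omega
  · intro K hK
    have hle : MulAction.stabilizer G x ≤ K := le_of_lt hK
    have hKcard := card_eq_orbit_mul_card_of_stabilizer_le K x hle
    -- the `K`-orbit of `x`
    set Δ : Set X := MulAction.orbit K x with hΔ
    have hΔsub : Δ ⊆ MulAction.orbit G x := by
      rintro _ ⟨k, rfl⟩
      exact ⟨(k : G), rfl⟩
    have hΔfin : Δ.Finite := hfin.subset hΔsub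
    have hxΔ : x ∈ Δ := MulAction.mem_orbit_self x
    have hΔinv : ∀ k ∈ K, ∀ y ∈ Δ, k • y ∈ Δ := by
      rintro k hk _ ⟨k', rfl⟩
      exact ⟨⟨k, hk⟩ * k', mul_smul (⟨k, hk⟩ : K) k' x⟩
    -- the classes met by `Δ`
    set I : Finset ℕ := R.filter (fun i => ∃ y ∈ Δ, y ≠ x ∧ c y = i) with hI
    set Y : Finset X := hfin.toFinset with hY
    have hYmem : ∀ y, y ∈ Y ↔ y ∈ MulAction.orbit G x := fun y => by rw [hY, Set.Finite.mem_toFinset]
    set cls : ℕ → Finset X := fun i => Y.filter (fun y => y ≠ x ∧ c y = i) with hcls
    have hclsn : ∀ i ∈ R, (cls i).card = n i := by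
      intro i hi
      rw [← hn i hi, ← Set.ncard_coe_finset]
      congr 1
      ext y
      simp only [hcls, Finset.coe_filter, Set.mem_setOf_eq, hYmem]
    have hΔeq : Δ = ↑(insert x (I.biUnion cls)) := by
      ext y
      simp only [Finset.coe_insert, Set.mem_insert_iff, Finset.mem_coe, Finset.mem_biUnion, hcls,
        Finset.mem_filter, hYmem]
      constructor
      · intro hy
        by_cases hyx : y = x
        · exact Or.inl hyx
        · right
          refine ⟨c y, ?_, hΔsub hy, hyx, rfl⟩
          rw [hI, Finset.mem_filter]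
          exact ⟨hc y (hΔsub hy) hyx, y, hy, hyx, rfl⟩
      · rintro (rfl | ⟨i, hi, hyo, hyx, hci⟩)
        · exact hxΔ
        · rw [hI, Finset.mem_filter] at hi
          obtain ⟨-, z, hz, hzx, hcz⟩ := hi
          obtain ⟨h, hh, hhz⟩ := htrans z (hΔsub hz) y hyo hzx hyx (by rw [hcz, hci])
          rw [← hhz]
          exact hΔinv h (hle hh) z hz
    have hΔcard : Δ.ncard = 1 + ∑ i ∈ I, n i := by
      rw [hΔeq, Set.ncard_coe_finset, Finset.card_insert_of_notMem, Finset.card_biUnion, add_comm]
      · congr 1
        apply Finset.sum_congr rfl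
        intro i hi
        exact hclsn i (Finset.mem_filter.1 hi).1
      · intro i _ j _ hij
        show Disjoint (cls i) (cls j)
        rw [Finset.disjoint_left]
        intro y h1 h2
        simp only [hcls, Finset.mem_filter] at h1 h2
        exact hij (h1.2.2.symm.trans h2.2.2)
      · simp only [Finset.mem_biUnion, hcls, Finset.mem_filter, not_exists, not_and]
        intro i _ _ h
        exact absurd rfl h
    have hdvd : Δ.ncard ∣ N := by
      have h1 : Nat.card K ∣ Nat.card G := Subgroup.card_subgroup_dvd_card K
      rw [hKcard, hGcard] at h1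
      exact Nat.dvd_of_mul_dvd_mul_right hHpos h1
    rw [hΔcard] at hdvd
    rcases harith I (Finset.mem_powerset.2 (Finset.filter_subset _ _)) hdvd with h0 | hN'
    · exfalso
      have h1 : Nat.card K = Nat.card (MulAction.stabilizer G x) := by
        rw [hKcard, hΔcard, h0, add_zero, one_mul]
      exact (ne_of_lt hK) (Subgroup.eq_of_le_of_card_ge hle (le_of_eq h1))
    · apply Subgroup.eq_top_of_card_eq
      rw [hKcard, hGcard, hΔcard, hN']

end Cfsg.Agent.Lib.Helper21
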