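import Cfsg.Agent.Lib.Helper21.SetTrans
import Cfsg.Agent.Lib.Helper21.Suborbit
import Cfsg.Agent.Lib.Helper21.GolayTrans5

/-!
`Cfsg.M24` acting on small subsets of the 24 points.
-/

set_option autoImplicit false

namespace Cfsg.Agent.Lib.Helper21

open Cfsg
open scoped Pointwise

theorem M24_tuples (n : ℕ) (hn : n ≤ 5) (x y : Fin n ↪ GolayPt) :
    ∃ g ∈ M24, ∀ i, g (x i) = y i := by
  obtain ⟨gx, hgx, hx⟩ := exists_map_embedding hn x
  obtain ⟨gy, hgy, hy⟩ := exists_map_embedding hn y
  refine ⟨gy * gx⁻¹, M24.mul_mem hgy (M24.inv_mem hgx), fun i => ?_⟩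
  rw [Equiv.Perm.mul_apply, ← hx i, perm_inv_apply, hy i]

/-- `M24` maps two sets with at most five points in all to any two sets with the same sizes. -/
theorem M24_two_sets (A B A' B' : Finset GolayPt) (hN : (A ∪ B).card ≤ 5)
    (hA : A.card = A'.card) (hB : B.card = B'.card) (hAB : (A ∩ B).card = (A' ∩ B').card) :
    ∃ g ∈ M24, g • A = A' ∧ g • B = B' :=
  exists_perm_two_sets M24 5 M24_tuples A B A' B' hN hA hB hAB

theorem M24_one_set (A A' : Finset GolayPt) (hN : A.card ≤ 5) (hA : A.card = A'.card) :
    ∃ g ∈ M24, g • A = A' := by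
  obtain ⟨g, hg, h, -⟩ := M24_two_sets A A A' A' (by rwa [Finset.union_self]) hA hA
    (by rw [Finset.inter_self, Finset.inter_self, hA])
  exact ⟨g, hg, h⟩

theorem orbit_small_set (s : Finset GolayPt) (hs : s.card ≤ 5) :
    MulAction.orbit M24 s = {t | t.card = s.card} := by
  ext t
  constructor
  · rintro ⟨g, rfl⟩
    exact Finset.card_smul_finset _ _
  · intro ht
    obtain ⟨g, hg, h⟩ := M24_one_set s t hs ht.symm
    exact ⟨⟨g, hg⟩, h⟩

/-- The number of `j`-subsets of the 24 points meeting `s` in `i` points. -/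
theorem ncard_subsets_inter (s : Finset GolayPt) (j i : ℕ) (hij : i ≤ j) :
    {y : Finset GolayPt | y.card = j ∧ (s ∩ y).card = i}.ncard
      = s.card.choose i * (24 - s.card).choose (j - i) := by
  have h := card_powersetCard_filter_inter s j i hij
  have h24 : Fintype.card GolayPt = 24 := by decide
  rw [h24] at h
  rw [← h, ← Set.ncard_coe_finset]
  congr 1
  ext y
  simp [Finset.mem_powersetCard]

theorem ncard_subsets (j : ℕ) : {y : Finset GolayPt | y.card = j}.ncard = (24 : ℕ).choose j := by
  have h24 : Fintype.card GolayPt = 24 := by decide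
  rw [← h24, ← Finset.card_univ, ← Finset.card_powersetCard, ← Set.ncard_coe_finset]
  congr 1
  ext y
  simp [Finset.mem_powersetCard]

/-- The stabiliser of a pair of points is a maximal subgroup of `M24`. -/
theorem isCoatom_stabilizer_pair (s : Finset GolayPt) (hs : s.card = 2) :
    IsCoatom (MulAction.stabilizer M24 s) := by
  have horb := orbit_small_set s (by omega)
  rw [hs] at horb
  apply isCoatom_stabilizer_of_suborbits s (fun y => (s ∩ y).card) {0, 1}
    (fun i => if i = 0 then 231 else 44) 276
  · rw [horb, ncard_subsets]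
    decide
  · norm_num
  · intro y hy hne
    rw [horb] at hy
    have h1 : (s ∩ y).card ≤ 2 := hs ▸ Finset.card_le_card Finset.inter_subset_left
    have h2 : (s ∩ y).card ≠ 2 := by
      intro h
      apply hne
      have e1 : s ∩ y = s := Finset.eq_of_subset_of_card_le Finset.inter_subset_left (by omega)
      have e2 : s ∩ y = y := Finset.eq_of_subset_of_card_le Finset.inter_subset_right
        (by rw [h]; exact le_of_eq hy)
      rw [← e2, e1]
    have h3 : (s ∩ y).card = 0 ∨ (s ∩ y).card = 1 := by omega
    rcases h3 with h | h <;> simp [h]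
  · intro i hi
    have hset : {y | y ∈ MulAction.orbit M24 s ∧ y ≠ s ∧ (s ∩ y).card = i}
        = {y : Finset GolayPt | y.card = 2 ∧ (s ∩ y).card = i} := by
      ext y
      rw [horb]
      simp only [Set.mem_setOf_eq]
      constructor
      · rintro ⟨h1, -, h3⟩
        exact ⟨h1, h3⟩
      · rintro ⟨h1, h3⟩
        refine ⟨h1, ?_, h3⟩
        rintro rfl
        rw [Finset.inter_self, hs] at h3
        simp only [Finset.mem_insert, Finset.mem_singleton] at hi
        omega
    simp only [Finset.mem_insert, Finset.mem_singleton] at hi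
    rw [hset]
    rcases hi with rfl | rfl
    · rw [ncard_subsets_inter s 2 0 (by norm_num), hs]
      decide
    · rw [ncard_subsets_inter s 2 1 (by norm_num), hs]
      decide
  · intro y hy y' hy' _ _ hc
    rw [horb] at hy hy'
    obtain ⟨g, hg, h1, h2⟩ := M24_two_sets s y s y' (by
      have := Finset.card_union_le s y
      rw [hs, hy] at this
      omega) rfl (hy.trans hy'.symm) hc
    exact ⟨⟨g, hg⟩, h1, h2⟩
  · decide

end Cfsg.Agent.Lib.Helper21
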