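import Cfsg.Agent.Lib.Helper21.GolayOctSplit
import Cfsg.Agent.Lib.Helper21.GolaySets

/-!
`Cfsg.M24` on ordered six-tuples of points: those lying in an octad form one orbit, the others
form another.
-/

set_option autoImplicit false

namespace Cfsg.Agent.Lib.Helper21

open Cfsg
open scoped Pointwise

theorem chainE_five : chainE 5 = 0x149F ^^^ 0xFFFFFF := by decide

theorem ptN_mem_oct0 (i : ℕ) (hi : i < 5) : ptN i ∈ oct0 := by
  rw [mem_oct0_iff, gEquiv_ptN_val i (by omega)]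
  revert i
  decide

/-- Six distinct points not in a common octad are the image of the positions `0..5`. -/
theorem exists_map_umbral (x : Fin 6 ↪ GolayPt) (hx : ¬ ∃ o ∈ octads, ∀ i, x i ∈ o) :
    ∃ g ∈ M24, ∀ i : Fin 6, g (ptN i) = x i := by
  obtain ⟨g₁, hg₁, h₁⟩ := exists_map_embedding (n := 5) le_rfl
    ((Fin.castLEEmb (by norm_num : 5 ≤ 6)).trans x)
  have h₁' : ∀ i : ℕ, (hi : i < 5) → g₁ (ptN i) = x ⟨i, by omega⟩ := fun i hi => h₁ ⟨i, hi⟩
  have hq : g₁⁻¹ (x 5) ∈ maskFS (chainE 5) := by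
    rw [chainE_five, maskFS_compl, Finset.mem_compl]
    intro hmem
    apply hx
    refine ⟨g₁ • oct0, smul_mem_octads hg₁ oct0_mem, fun i => ?_⟩
    by_cases hi : (i : ℕ) < 5
    · have := h₁' i hi
      have e : (⟨(i : ℕ), by omega⟩ : Fin 6) = i := Fin.ext rfl
      rw [e] at this
      rw [← this]
      exact Finset.smul_mem_smul_finset (ptN_mem_oct0 i hi)
    · have e : i = 5 := by
        apply Fin.ext
        have := i.isLt
        show (i : ℕ) = 5
        omega
      rw [e, ← Finset.inv_smul_mem_iff]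
      exact hmem
  have hq' : g₁⁻¹ (x 5) ∈ MulAction.orbit (chainSub 5) (ptN 5) := by
    rw [chain_orbit 5 (by norm_num)]
    exact hq
  rw [mem_orbit_subgroup_iff'] at hq'
  obtain ⟨h, hh, hh5⟩ := hq'
  refine ⟨g₁ * h, M24.mul_mem hg₁ hh.1, fun i => ?_⟩
  rw [Equiv.Perm.mul_apply]
  by_cases hi : (i : ℕ) < 5
  · rw [hh.2 i hi, h₁' i hi]
  · have e : i = 5 := by
      apply Fin.ext
      have := i.isLt
      show (i : ℕ) = 5
      omega
    subst e
    have : h (ptN 5) = g₁⁻¹ (x 5) := hh5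
    show g₁ (h (ptN 5)) = x 5
    rw [this, perm_apply_inv]

/-- `M24` is transitive on ordered six-tuples of distinct points not in a common octad. -/
theorem M24_umbral_tuples (x y : Fin 6 ↪ GolayPt) (hx : ¬ ∃ o ∈ octads, ∀ i, x i ∈ o)
    (hy : ¬ ∃ o ∈ octads, ∀ i, y i ∈ o) : ∃ g ∈ M24, ∀ i, g (x i) = y i := by
  obtain ⟨gx, hgx, hx'⟩ := exists_map_umbral x hx
  obtain ⟨gy, hgy, hy'⟩ := exists_map_umbral y hy
  refine ⟨gy * gx⁻¹, M24.mul_mem hgy (M24.inv_mem hgx), fun i => ?_⟩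
  rw [Equiv.Perm.mul_apply, ← hx' i, perm_inv_apply, hy' i]

/-- The stabiliser of an octad is transitive on ordered six-tuples of its points. -/
theorem octad_stab_six (o : Finset GolayPt) (ho : o ∈ octads) (x y : Fin 6 ↪ GolayPt)
    (hx : ∀ i, x i ∈ o) (hy : ∀ i, y i ∈ o) :
    ∃ g ∈ M24, g • o = o ∧ ∀ i, g (x i) = y i := by
  let x' : Fin 6 ↪ ↥o := ⟨fun i => ⟨x i, hx i⟩, fun i j h => x.injective (Subtype.mk.inj h)⟩
  let y' : Fin 6 ↪ ↥o := ⟨fun i => ⟨y i, hy i⟩, fun i j h => y.injective (Subtype.mk.inj h)⟩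
  have h6 : Nat.card ↥o - 2 = 6 := by
    rw [Nat.card_eq_fintype_card, Fintype.card_coe, octad_card o ho]
  have htr := alternatingGroup.isMultiplyPretransitive ↥o
  rw [h6, MulAction.isMultiplyPretransitive_iff] at htr
  obtain ⟨e, he⟩ := htr x' y'
  have hmem : (e : Equiv.Perm ↥o) ∈ (alternatingGroup ↥o : Set (Equiv.Perm ↥o)) := e.2
  rw [← octad_induced o ho] at hmem
  obtain ⟨g, hg, h, hge⟩ := hmem
  refine ⟨g, hg, smul_eq_of_apply_mem_iff h, fun i => ?_⟩
  have h1 := congrArg (fun z : Fin 6 ↪ ↥o => ((z i : ↥o) : GolayPt)) he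
  have h2 : ((e • x') i : ↥o) = (e : Equiv.Perm ↥o) (x' i) := rfl
  simp only [h2, ← hge] at h1
  exact h1

/-- `M24` is transitive on ordered six-tuples of distinct points lying in a common octad. -/
theorem M24_special_tuples (x y : Fin 6 ↪ GolayPt) (hx : ∃ o ∈ octads, ∀ i, x i ∈ o)
    (hy : ∃ o ∈ octads, ∀ i, y i ∈ o) : ∃ g ∈ M24, ∀ i, g (x i) = y i := by
  obtain ⟨o, ho, hxo⟩ := hx
  obtain ⟨o', ho', hyo⟩ := hy
  obtain ⟨k, hk⟩ := octads_transitive o o' ho ho'
  have hk' : (k : Equiv.Perm GolayPt) • o = o' := hk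
  obtain ⟨g, hg, -, hgx⟩ := octad_stab_six o' ho'
    (x.trans (k : Equiv.Perm GolayPt).toEmbedding) y (fun i => by
      rw [← hk']
      exact Finset.smul_mem_smul_finset (hxo i)) hyo
  exact ⟨g * k, M24.mul_mem hg k.2, fun i => hgx i⟩

/-- `M24` realises an injective map on a six-point set when the set and its image are both
inside octads or both not. -/
theorem M24_eqOn_six (S : Finset GolayPt) (hS : S.card = 6) (f : GolayPt → GolayPt)
    (hf : Set.InjOn f (S : Set GolayPt))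
    (hiff : (∃ o ∈ octads, S ⊆ o) ↔ (∃ o ∈ octads, S.image f ⊆ o)) :
    ∃ g ∈ M24, ∀ p ∈ S, g p = f p := by
  let e := S.equivFinOfCardEq hS
  let x : Fin 6 ↪ GolayPt := ⟨fun i => (e.symm i : GolayPt), fun i j h => by
    have := Subtype.ext h
    exact e.symm.injective this⟩
  let y : Fin 6 ↪ GolayPt := ⟨fun i => f (e.symm i : GolayPt), fun i j h => by
    have h1 := hf (e.symm i).2 (e.symm j).2 h
    exact e.symm.injective (Subtype.ext h1)⟩
  have hxS : ∀ i, x i ∈ S := fun i => (e.symm i).2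
  have hSx : ∀ p ∈ S, ∃ i, x i = p := fun p hp => ⟨e ⟨p, hp⟩, by
    show ((e.symm (e ⟨p, hp⟩) : S) : GolayPt) = p
    rw [Equiv.symm_apply_apply]⟩
  have hxo : (∃ o ∈ octads, ∀ i, x i ∈ o) ↔ (∃ o ∈ octads, S ⊆ o) := by
    constructor
    · rintro ⟨o, ho, h⟩
      refine ⟨o, ho, fun p hp => ?_⟩
      obtain ⟨i, rfl⟩ := hSx p hp
      exact h i
    · rintro ⟨o, ho, h⟩
      exact ⟨o, ho, fun i => h (hxS i)⟩
  have hyo : (∃ o ∈ octads, ∀ i, y i ∈ o) ↔ (∃ o ∈ octads, S.image f ⊆ o) := by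
    constructor
    · rintro ⟨o, ho, h⟩
      refine ⟨o, ho, fun q hq => ?_⟩
      obtain ⟨p, hp, rfl⟩ := Finset.mem_image.1 hq
      obtain ⟨i, rfl⟩ := hSx p hp
      exact h i
    · rintro ⟨o, ho, h⟩
      exact ⟨o, ho, fun i => h (Finset.mem_image_of_mem f (hxS i))⟩
  have hex : ∃ g ∈ M24, ∀ i, g (x i) = y i := by
    by_cases hc : ∃ o ∈ octads, S ⊆ o
    · exact M24_special_tuples x y (hxo.2 hc) (hyo.2 (hiff.1 hc))
    · exact M24_umbral_tuples x y (fun h => hc (hxo.1 h)) (fun h => hc (hiff.2 (hyo.1 h)))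
  obtain ⟨g, hg, hgx⟩ := hex
  refine ⟨g, hg, fun p hp => ?_⟩
  obtain ⟨i, rfl⟩ := hSx p hp
  exact hgx i

/-- Two sets with six points in all can be mapped by `M24` to two sets with the same sizes,
provided both unions are inside octads or both are not. -/
theorem M24_two_sets_six (A B A' B' : Finset GolayPt) (h6 : (A ∪ B).card = 6)
    (hA : A.card = A'.card) (hB : B.card = B'.card) (hAB : (A ∩ B).card = (A' ∩ B').card)
    (hiff : (∃ o ∈ octads, A ∪ B ⊆ o) ↔ (∃ o ∈ octads, A' ∪ B' ⊆ o)) :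
    ∃ g ∈ M24, g • A = A' ∧ g • B = B' := by
  obtain ⟨f, hinj, hfA, hfB⟩ := exists_injOn_two_sets A B A' B' hA hB hAB
  have himg : (A ∪ B).image f = A' ∪ B' := by
    apply Finset.eq_of_subset_of_card_le
    · intro q hq
      obtain ⟨p, hp, rfl⟩ := Finset.mem_image.1 hq
      rcases Finset.mem_union.1 hp with h | h
      · exact Finset.mem_union_left _ (hfA p h)
      · exact Finset.mem_union_right _ (hfB p h)
    · rw [Finset.card_image_of_injOn hinj]
      have e1 := Finset.card_union_add_card_inter A B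
      have e2 := Finset.card_union_add_card_inter A' B'
      omega
  obtain ⟨g, hg, hgf⟩ := M24_eqOn_six (A ∪ B) h6 f hinj (by rw [himg]; exact hiff)
  refine ⟨g, hg, ?_, ?_⟩
  · exact smul_finset_eq_of_eqOn g f A A' (fun p hp => hgf p (Finset.mem_union_left _ hp)) hfA hA
  · exact smul_finset_eq_of_eqOn g f B B' (fun p hp => hgf p (Finset.mem_union_right _ hp)) hfB hB

end Cfsg.Agent.Lib.Helper21
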