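import Cfsg.Agent.Lib.Helper21.GolayConj
import Cfsg.Agent.Lib.Helper21.GolayCon
import Cfsg.Agent.Lib.Helper21.GolayM12Gen
import Cfsg.Agent.Lib.Helper21.GolaySix

/-!
Tools for statements about the orbits of the stabiliser of a flag (an octad or a dodecad together
with some points) in `Cfsg.M24`: table permutations in constrained subgroups, counting by a sweep
over the code, transfer along a conjugating element, and transitivity on flags.
-/

set_option autoImplicit false

namespace Cfsg.Agent.Lib.Helper21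

open Cfsg
open scoped Pointwise

/-! ### Table permutations in constrained subgroups -/

theorem permOfTab_ptN (T TI : ℕ) (h : TabInv T TI) (i : ℕ) (hi : i < 24) :
    permOfTab T TI h (ptN i) = ptN (tabGet T i) := by
  have h24 : tabGet T i < 24 := (h ⟨i, hi⟩).1
  apply gEquiv.injective
  show gEquiv (tabMap T (ptN i)) = _
  rw [tabMap_apply h, Fin.ext_iff, gEquiv_ptN_val _ h24]
  show tabGet T ((gEquiv (ptN i) : Fin 24) : ℕ) = _
  rw [gEquiv_ptN_val i hi]

theorem permOfTab_stabM (T TI : ℕ) (h : TabInv T TI) (D : ℕ) (hD : D < 2 ^ 24)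
    (hf : gatherMask TI D = D) : StabM (permOfTab T TI h) D := by
  unfold StabM
  apply fsMask_injective
  rw [fsMask_smul, fsMask_maskFS D hD, hf]

/-- A table permutation lies in a constrained subgroup when the checks succeed. -/
theorem permOfTab_mem_conSub (T TI : ℕ) (h : TabInv T TI)
    (hc : ∀ b ∈ basisMasks, encMask (gatherMask T b % 4096) = gatherMask T b)
    (Ds Fs : List ℕ) (hD : ∀ D ∈ Ds, D < 2 ^ 24 ∧ gatherMask TI D = D)
    (hF : ∀ i ∈ Fs, i < 24 ∧ tabGet T i = i) : permOfTab T TI h ∈ conSub Ds Fs := by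
  refine ⟨permOfTab_mem T TI h hc, fun D hDm => permOfTab_stabM T TI h D (hD D hDm).1 (hD D hDm).2,
    fun i hi => ?_⟩
  rw [permOfTab_ptN T TI h i (hF i hi).1, (hF i hi).2]

/-! ### Masks and finsets -/

theorem card_maskFS_inter (m : ℕ) (hm : m < 2 ^ 24) (y : Finset GolayPt) :
    (maskFS m ∩ y).card = popc 24 (m &&& fsMask y) := by
  rw [card_eq_popc, fsMask_inter, fsMask_maskFS m hm]

theorem ptN_mem_iff_testBit (i : ℕ) (hi : i < 24) (y : Finset GolayPt) :
    ptN i ∈ y ↔ (fsMask y).testBit i = true := by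
  have := testBit_fsMask y (ptN i)
  rw [gEquiv_ptN_val i hi] at this
  rw [this]
  simp

/-- Counting the supports of the code words of a given weight whose mask satisfies `Q`. -/
theorem ncard_weight_filter (n : ℕ) (Q : ℕ → Prop) [DecidablePred Q] :
    {s : Finset GolayPt | s ∈ wordsOfWeight (golayCode : Set (GolayPt → ZMod 2)) n ∧
      Q (fsMask s)}.ncard =
      ((Finset.range 4096).filter (fun c => popc 24 (encMask c) = n ∧ Q (encMask c))).card := by
  rw [← ncard_code_filter (fun m => popc 24 m = n ∧ Q m)]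
  have : {s : Finset GolayPt | s ∈ wordsOfWeight (golayCode : Set (GolayPt → ZMod 2)) n ∧
      Q (fsMask s)} =
      support₂ '' {w : GolayPt → ZMod 2 | w ∈ golayCode ∧ (popc 24 (toMask w) = n ∧
        Q (toMask w))} := by
    ext b
    simp only [wordsOfWeight, supports, Set.mem_ofPred_eq, Set.mem_image, SetLike.mem_coe]
    constructor
    · rintro ⟨⟨⟨w, hw, rfl⟩, hc⟩, hq⟩
      refine ⟨w, ⟨hw, ?_, ?_⟩, rfl⟩
      · rw [← hammingNorm_eq_popc, ← card_support₂, hc]
      · rwa [fsMask_support₂] at hq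
    · rintro ⟨w, ⟨hw, hc, hq⟩, rfl⟩
      refine ⟨⟨⟨w, hw, rfl⟩, ?_⟩, ?_⟩
      · rw [card_support₂, hammingNorm_eq_popc, hc]
      · rwa [fsMask_support₂]
  rw [this, Set.ncard_image_of_injective _ support₂_injective]

/-- Transfer of a count along a permutation. -/
theorem ncard_smul_transfer (k : Equiv.Perm GolayPt) (P : Finset GolayPt → Prop) :
    {y | P y}.ncard = {y | P (k • y)}.ncard := by
  have : {y | P y} = (fun y : Finset GolayPt => k • y) '' {y | P (k • y)} := by
    ext y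
    simp only [Set.mem_ofPred_eq, Set.mem_image]
    constructor
    · intro h
      exact ⟨k⁻¹ • y, by rwa [smul_inv_smul], smul_inv_smul k y⟩
    · rintro ⟨z, hz, rfl⟩
      exact hz
  rw [this, Set.ncard_image_of_injective _ (MulAction.injective k)]

/-- Counting objects in a conjugated configuration by a sweep over the code. -/
theorem ncard_flag {k : Equiv.Perm GolayPt} (P : Finset GolayPt → Prop) (n : ℕ) (Q : ℕ → Prop)
    [DecidablePred Q] (N : ℕ)
    (h : ∀ y, P (k • y) ↔ (y ∈ wordsOfWeight (golayCode : Set (GolayPt → ZMod 2)) n ∧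
      Q (fsMask y)))
    (hN : ((Finset.range 4096).filter (fun c => popc 24 (encMask c) = n ∧ Q (encMask c))).card =
      N) : {y | P y}.ncard = N := by
  have hset : {y | P (k • y)} = {s : Finset GolayPt |
      s ∈ wordsOfWeight (golayCode : Set (GolayPt → ZMod 2)) n ∧ Q (fsMask s)} := Set.ext h
  rw [ncard_smul_transfer k, hset, ncard_weight_filter, hN]

theorem smul_mem_octads_iff {g : Equiv.Perm GolayPt} (hg : g ∈ M24) (o : Finset GolayPt) :
    g • o ∈ octads ↔ o ∈ octads := by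
  constructor
  · intro h
    have := smul_mem_octads (M24.inv_mem hg) h
    rwa [inv_smul_smul] at this
  · exact smul_mem_octads hg

theorem smul_mem_dodecads_iff {g : Equiv.Perm GolayPt} (hg : g ∈ M24) (d : Finset GolayPt) :
    g • d ∈ dodecads ↔ d ∈ dodecads := by
  constructor
  · intro h
    have := smul_mem_dodecads (M24.inv_mem hg) h
    rwa [inv_smul_smul] at this
  · exact smul_mem_dodecads hg

theorem apply_mem_smul_iff (k : Equiv.Perm GolayPt) (p : GolayPt) (s : Finset GolayPt) :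
    k p ∈ k • s ↔ p ∈ s := by
  rw [← smul_perm_point, Finset.smul_mem_smul_finset_iff]

/-- Conjugating an element of a constrained subgroup. -/
theorem conSub_conj {Ds Fs : List ℕ} {k g : Equiv.Perm GolayPt} (hk : k ∈ M24)
    (hg : g ∈ conSub Ds Fs) :
    k * g * k⁻¹ ∈ M24 ∧ (∀ D ∈ Ds, (k * g * k⁻¹) • (k • maskFS D) = k • maskFS D) ∧
      ∀ i ∈ Fs, (k * g * k⁻¹) (k (ptN i)) = k (ptN i) := by
  refine ⟨M24.mul_mem (M24.mul_mem hk hg.1) (M24.inv_mem hk), fun D hD => ?_, fun i hi => ?_⟩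
  · have : g • maskFS D = maskFS D := hg.2.1 D hD
    rw [mul_smul, mul_smul, inv_smul_smul, this]
  · rw [Equiv.Perm.mul_apply, Equiv.Perm.mul_apply, perm_inv_apply, hg.2.2 i hi]

/-- Transfer of a conjugacy statement from the base flag to its image under `k`. -/
theorem conSub_conj_transfer {Ds Fs : List ℕ} {k : Equiv.Perm GolayPt} (hk : k ∈ M24)
    {Y Y' : Finset GolayPt} (h : ∃ g ∈ conSub Ds Fs, g • (k⁻¹ • Y) = k⁻¹ • Y') :
    ∃ g ∈ M24, (∀ D ∈ Ds, g • (k • maskFS D) = k • maskFS D) ∧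
      (∀ i ∈ Fs, g (k (ptN i)) = k (ptN i)) ∧ g • Y = Y' := by
  obtain ⟨g, hg, e⟩ := h
  obtain ⟨h1, h2, h3⟩ := conSub_conj hk hg
  refine ⟨k * g * k⁻¹, h1, h2, h3, ?_⟩
  rw [mul_smul, mul_smul, e, smul_inv_smul]

/-! ### Transitivity on flags -/

/-- The stabiliser of an octad is transitive on ordered tuples of at most six of its points. -/
theorem octad_stab_trans {n : ℕ} (hn : n ≤ 6) (o : Finset GolayPt) (ho : o ∈ octads)
    (x y : Fin n ↪ GolayPt) (hx : ∀ i, x i ∈ o) (hy : ∀ i, y i ∈ o) :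
    ∃ g ∈ M24, g • o = o ∧ ∀ i, g (x i) = y i := by
  let x' : Fin n ↪ ↥o := ⟨fun i => ⟨x i, hx i⟩, fun i j h => x.injective (Subtype.mk.inj h)⟩
  let y' : Fin n ↪ ↥o := ⟨fun i => ⟨y i, hy i⟩, fun i j h => y.injective (Subtype.mk.inj h)⟩
  have h6 : Nat.card ↥o - 2 = 6 := by
    rw [Nat.card_eq_fintype_card, Fintype.card_coe, octad_card o ho]
  have htr := alternatingGroup.isMultiplyPretransitive ↥o
  rw [h6] at htr
  have htr' : MulAction.IsMultiplyPretransitive (alternatingGroup ↥o) ↥o n :=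
    MulAction.isMultiplyPretransitive_of_le (n := 6) hn (by
      rw [Nat.card_eq_fintype_card, Fintype.card_coe, octad_card o ho]
      norm_num)
  rw [MulAction.isMultiplyPretransitive_iff] at htr'
  obtain ⟨e, he⟩ := htr' x' y'
  have hmem : (e : Equiv.Perm ↥o) ∈ (alternatingGroup ↥o : Set (Equiv.Perm ↥o)) := e.2
  rw [← octad_induced o ho] at hmem
  obtain ⟨g, hg, h, hge⟩ := hmem
  refine ⟨g, hg, smul_eq_of_apply_mem_iff h, fun i => ?_⟩
  have h1 := congrArg (fun z : Fin n ↪ ↥o => ((z i : ↥o) : GolayPt)) he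
  have h2 : ((e • x') i : ↥o) = (e : Equiv.Perm ↥o) (x' i) := rfl
  simp only [h2, ← hge] at h1
  exact h1

theorem ptN_mem_oct0' (i : ℕ) (hi : i ∈ oct0Fs) : ptN i ∈ oct0 := by
  have hi24 : i < 24 := by
    revert i
    decide
  rw [mem_oct0_iff, gEquiv_ptN_val i hi24]
  exact hi

/-- Any octad with a point of it is the image of the base octad with its point number `0`. -/
theorem exists_map_oct0_in (o : Finset GolayPt) (ho : o ∈ octads) (p : GolayPt) (hp : p ∈ o) :
    ∃ k ∈ M24, k • oct0 = o ∧ k (ptN 0) = p := by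
  obtain ⟨k₁, hk₁⟩ := octads_transitive oct0 o oct0_mem ho
  have hk₁' : (k₁ : Equiv.Perm GolayPt) • oct0 = o := hk₁
  have h0 : (k₁ : Equiv.Perm GolayPt) (ptN 0) ∈ o := by
    rw [← hk₁', apply_mem_smul_iff]
    exact ptN_mem_oct0' 0 (by decide)
  obtain ⟨g, hg, hgo, hgp⟩ := octad_stab_trans (n := 1) (by norm_num) o ho
    ⟨fun _ => (k₁ : Equiv.Perm GolayPt) (ptN 0), fun _ _ _ => Subsingleton.elim _ _⟩
    ⟨fun _ => p, fun _ _ _ => Subsingleton.elim _ _⟩ (fun _ => h0) (fun _ => hp)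
  refine ⟨g * k₁, M24.mul_mem hg k₁.2, ?_, ?_⟩
  · rw [mul_smul, hk₁', hgo]
  · exact hgp 0

/-- Any octad with two distinct points of it is the image of the base octad with its points
number `0` and `1`. -/
theorem exists_map_oct0_in_two (o : Finset GolayPt) (ho : o ∈ octads) (p q : GolayPt)
    (hp : p ∈ o) (hq : q ∈ o) (hpq : p ≠ q) :
    ∃ k ∈ M24, k • oct0 = o ∧ k (ptN 0) = p ∧ k (ptN 1) = q := by
  obtain ⟨k₁, hk₁⟩ := octads_transitive oct0 o oct0_mem ho
  have hk₁' : (k₁ : Equiv.Perm GolayPt) • oct0 = o := hk₁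
  have h0 : (k₁ : Equiv.Perm GolayPt) (ptN 0) ∈ o := by
    rw [← hk₁', apply_mem_smul_iff]
    exact ptN_mem_oct0' 0 (by decide)
  have h1 : (k₁ : Equiv.Perm GolayPt) (ptN 1) ∈ o := by
    rw [← hk₁', apply_mem_smul_iff]
    exact ptN_mem_oct0' 1 (by decide)
  have hne : ptN 0 ≠ ptN 1 := fun h => by
    have := ptN_injOn (by norm_num) (by norm_num) h
    omega
  obtain ⟨g, hg, hgo, hgp⟩ := octad_stab_trans (n := 2) (by norm_num) o ho
    ⟨![(k₁ : Equiv.Perm GolayPt) (ptN 0), (k₁ : Equiv.Perm GolayPt) (ptN 1)], by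
      intro i j h
      fin_cases i <;> fin_cases j <;> simp at h ⊢
      · exact absurd h hne
      · exact absurd h.symm hne⟩
    ⟨![p, q], by
      intro i j h
      fin_cases i <;> fin_cases j <;> simp at h ⊢
      · exact absurd h hpq
      · exact absurd h.symm hpq⟩
    (fun i => by fin_cases i <;> simp <;> assumption)
    (fun i => by fin_cases i <;> simp <;> assumption)
  refine ⟨g * k₁, M24.mul_mem hg k₁.2, ?_, ?_, ?_⟩
  · rw [mul_smul, hk₁', hgo]
  · exact hgp 0
  · exact hgp 1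

/-- Any octad with a point of it and a point outside is the image of the base octad with its
point number `0` and the outside point number `5`. -/
theorem exists_map_oct0_in_out (o : Finset GolayPt) (ho : o ∈ octads) (p q : GolayPt)
    (hp : p ∈ o) (hq : q ∉ o) :
    ∃ k ∈ M24, k • oct0 = o ∧ k (ptN 0) = p ∧ k (ptN 5) = q := by
  obtain ⟨k₁, hk₁, hk₁o, hk₁q⟩ := exists_map_oct0_pt o ho q hq
  have h0 : k₁ (ptN 0) ∈ o := by
    rw [← hk₁o, apply_mem_smul_iff]
    exact ptN_mem_oct0' 0 (by decide)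
  obtain ⟨g, hg, hgo, hgp⟩ := octad_stab_trans (n := 1) (by norm_num) o ho
    ⟨fun _ => k₁ (ptN 0), fun _ _ _ => Subsingleton.elim _ _⟩
    ⟨fun _ => p, fun _ _ _ => Subsingleton.elim _ _⟩ (fun _ => h0) (fun _ => hp)
  obtain ⟨t, ht, hto, hg', hg'o, hg'q⟩ := octad_stab_decomp o ho q hq g hg hgo
  refine ⟨t⁻¹ * g * k₁, M24.mul_mem hg' hk₁, ?_, ?_, ?_⟩
  · rw [mul_smul, hk₁o, hg'o]
  · rw [Equiv.Perm.mul_apply]
    have h1 : g (k₁ (ptN 0)) = p := hgp 0
    rw [Equiv.Perm.mul_apply, h1, Equiv.Perm.inv_eq_iff_eq]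
    exact (hto p hp).symm
  · rw [Equiv.Perm.mul_apply, hk₁q]
    exact hg'q

/-- Any dodecad with a point of it is the image of the base dodecad with its point number `0`. -/
theorem exists_map_dsq_in (d : Finset GolayPt) (hd : d ∈ dodecads) (p : GolayPt) (hp : p ∈ d) :
    ∃ k ∈ M24, k • Spor.squareDodecad = d ∧ k (ptN 0) = p := by
  obtain ⟨k₁, hk₁, hk₁d⟩ := exists_map_squareDodecad d hd
  have h0 : k₁ (ptN 0) ∈ d := by
    rw [← hk₁d, apply_mem_smul_iff]
    exact ptN_zero_mem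
  obtain ⟨g, hg, hgd, hgp⟩ := dodecad_stab_trans_pt d hd (k₁ (ptN 0)) p h0 hp
  refine ⟨g * k₁, M24.mul_mem hg hk₁, ?_, ?_⟩
  · rw [mul_smul, hk₁d, hgd]
  · exact hgp

end Cfsg.Agent.Lib.Helper21

namespace Cfsg.Agent.Lib.Helper21

open Cfsg
open scoped Pointwise

/-! ### Subgroups of `↥M24` conjugate to constrained subgroups -/

/-- A subgroup of `↥M24` cut out by the constraints of a conjugated flag has the order of the
constrained subgroup of the base flag. -/
theorem card_eq_card_conSub {Ds Fs : List ℕ} {k : Equiv.Perm GolayPt} (hk : k ∈ M24)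
    (K : Subgroup ↥M24)
    (hK : ∀ g : ↥M24, g ∈ K ↔
      (∀ D ∈ Ds, (g : Equiv.Perm GolayPt) • (k • maskFS D) = k • maskFS D) ∧
        ∀ i ∈ Fs, (g : Equiv.Perm GolayPt) (k (ptN i)) = k (ptN i)) :
    Nat.card K = Nat.card (conSub Ds Fs) := by
  apply Nat.card_congr
  refine ⟨fun g => ⟨k⁻¹ * ((g : ↥M24) : Equiv.Perm GolayPt) * k, ?_⟩,
    fun b => ⟨⟨k * (b : Equiv.Perm GolayPt) * k⁻¹, ?_⟩, ?_⟩, ?_, ?_⟩
  · have hg := (hK g.1).1 g.2
    refine ⟨M24.mul_mem (M24.mul_mem (M24.inv_mem hk) g.1.2) hk, fun D hD => ?_, fun i hi => ?_⟩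
    · unfold StabM
      rw [mul_smul, mul_smul, hg.1 D hD, inv_smul_smul]
    · rw [Equiv.Perm.mul_apply, Equiv.Perm.mul_apply, hg.2 i hi, perm_inv_apply]
  · exact (conSub_conj hk b.2).1
  · rw [hK]
    exact (conSub_conj hk b.2).2
  · intro g
    apply Subtype.ext
    apply Subtype.ext
    show k * (k⁻¹ * ((g : ↥M24) : Equiv.Perm GolayPt) * k) * k⁻¹ = _
    group
  · intro b
    apply Subtype.ext
    show k⁻¹ * (k * (b : Equiv.Perm GolayPt) * k⁻¹) * k = _
    group

/-- Elements of the constrained subgroup of the base flag give elements of the corresponding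
subgroup of `↥M24` by conjugation. -/
theorem exists_mem_of_conSub {Ds Fs : List ℕ} {k : Equiv.Perm GolayPt} (hk : k ∈ M24)
    (K : Subgroup ↥M24)
    (hK : ∀ g : ↥M24, g ∈ K ↔
      (∀ D ∈ Ds, (g : Equiv.Perm GolayPt) • (k • maskFS D) = k • maskFS D) ∧
        ∀ i ∈ Fs, (g : Equiv.Perm GolayPt) (k (ptN i)) = k (ptN i))
    {b : Equiv.Perm GolayPt} (hb : b ∈ conSub Ds Fs) :
    ∃ g ∈ K, ((g : ↥M24) : Equiv.Perm GolayPt) = k * b * k⁻¹ := by
  refine ⟨⟨k * b * k⁻¹, (conSub_conj hk hb).1⟩, ?_, rfl⟩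
  rw [hK]
  exact (conSub_conj hk hb).2

end Cfsg.Agent.Lib.Helper21

namespace Cfsg.Agent.Lib.Helper21

open Cfsg
open scoped Pointwise

/-- The subgroup of `↥M24` cut out by the constraints of a conjugated flag is isomorphic to the
constrained subgroup of the base flag. -/
noncomputable def conSubMulEquiv {Ds Fs : List ℕ} {k : Equiv.Perm GolayPt} (hk : k ∈ M24)
    (K : Subgroup ↥M24)
    (hK : ∀ g : ↥M24, g ∈ K ↔
      (∀ D ∈ Ds, (g : Equiv.Perm GolayPt) • (k • maskFS D) = k • maskFS D) ∧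
        ∀ i ∈ Fs, (g : Equiv.Perm GolayPt) (k (ptN i)) = k (ptN i)) :
    ↥K ≃* ↥(conSub Ds Fs) where
  toFun g := ⟨k⁻¹ * ((g : ↥M24) : Equiv.Perm GolayPt) * k, by
    have hg := (hK g.1).1 g.2
    refine ⟨M24.mul_mem (M24.mul_mem (M24.inv_mem hk) g.1.2) hk, fun D hD => ?_, fun i hi => ?_⟩
    · unfold StabM
      rw [mul_smul, mul_smul, hg.1 D hD, inv_smul_smul]
    · rw [Equiv.Perm.mul_apply, Equiv.Perm.mul_apply, hg.2 i hi, perm_inv_apply]⟩
  invFun b := ⟨⟨k * (b : Equiv.Perm GolayPt) * k⁻¹, (conSub_conj hk b.2).1⟩, by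
    rw [hK]
    exact (conSub_conj hk b.2).2⟩
  left_inv g := by
    apply Subtype.ext
    apply Subtype.ext
    show k * (k⁻¹ * ((g : ↥M24) : Equiv.Perm GolayPt) * k) * k⁻¹ = _
    group
  right_inv b := by
    apply Subtype.ext
    show k⁻¹ * (k * (b : Equiv.Perm GolayPt) * k⁻¹) * k = _
    group
  map_mul' g h := by
    apply Subtype.ext
    show k⁻¹ * (((g : ↥M24) : Equiv.Perm GolayPt) * ((h : ↥M24) : Equiv.Perm GolayPt)) * k =
      (k⁻¹ * ((g : ↥M24) : Equiv.Perm GolayPt) * k) * (k⁻¹ * ((h : ↥M24) : Equiv.Perm GolayPt) * k)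
    group

theorem conSubMulEquiv_apply {Ds Fs : List ℕ} {k : Equiv.Perm GolayPt} (hk : k ∈ M24)
    (K : Subgroup ↥M24)
    (hK : ∀ g : ↥M24, g ∈ K ↔
      (∀ D ∈ Ds, (g : Equiv.Perm GolayPt) • (k • maskFS D) = k • maskFS D) ∧
        ∀ i ∈ Fs, (g : Equiv.Perm GolayPt) (k (ptN i)) = k (ptN i)) (g : ↥K) :
    ((conSubMulEquiv hk K hK g : ↥(conSub Ds Fs)) : Equiv.Perm GolayPt) =
      k⁻¹ * ((g : ↥M24) : Equiv.Perm GolayPt) * k := rfl

end Cfsg.Agent.Lib.Helper21

namespace Cfsg.Agent.Lib.Helper21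

open Cfsg
open scoped Pointwise

/-- The set with mask `encMask c` is an octad when it has eight points. -/
theorem maskFS_encMask_mem_octads (c : ℕ) (hc : c < 4096) (h8 : popc 24 (encMask c) = 8) :
    maskFS (encMask c) ∈ octads := by
  have hm : fsMask (support₂ (wordOf c)) = encMask c := fsMask_wordOf c hc
  have hfs : maskFS (encMask c) = support₂ (wordOf c) := by
    rw [← hm, maskFS_fsMask]
  rw [hfs, mem_octads_iff]
  refine ⟨wordOf c, wordOf_mem c, rfl, ?_⟩
  rw [card_eq_popc, hm, h8]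

/-- The set with mask `encMask c` is a dodecad when it has twelve points. -/
theorem maskFS_encMask_mem_dodecads (c : ℕ) (hc : c < 4096) (h12 : popc 24 (encMask c) = 12) :
    maskFS (encMask c) ∈ dodecads := by
  have hm : fsMask (support₂ (wordOf c)) = encMask c := fsMask_wordOf c hc
  have hfs : maskFS (encMask c) = support₂ (wordOf c) := by
    rw [← hm, maskFS_fsMask]
  rw [hfs, mem_dodecads_iff]
  refine ⟨wordOf c, wordOf_mem c, rfl, ?_⟩
  rw [card_eq_popc, hm, h12]

/-- An element fixing the listed positions fixes every point of the set they form. -/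
theorem conSub_fixes_of_forall {Ds Fs : List ℕ} {g : Equiv.Perm GolayPt} {E : ℕ}
    (hg : g ∈ conSub Ds []) (hE : ∀ i ∈ Fs, i < 24 ∧ E.testBit i = true)
    (hfix : ∀ x ∈ maskFS E, g x = x) : g ∈ conSub Ds Fs := by
  refine ⟨hg.1, hg.2.1, fun i hi => hfix _ ?_⟩
  rw [mem_maskFS, gEquiv_ptN_val i (hE i hi).1]
  exact (hE i hi).2

end Cfsg.Agent.Lib.Helper21

namespace Cfsg.Agent.Lib.Helper21

open Cfsg
open scoped Pointwise

/-- An element fixing the listed positions, some by hypothesis and the others as points of a set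
fixed pointwise, lies in the corresponding constrained subgroup. -/
theorem conSub_fixes_of_forall' {Ds Fs₀ Fs : List ℕ} {g : Equiv.Perm GolayPt} {E : ℕ}
    (hg : g ∈ conSub Ds Fs₀) (hE : ∀ i ∈ Fs, i ∈ Fs₀ ∨ (i < 24 ∧ E.testBit i = true))
    (hfix : ∀ x ∈ maskFS E, g x = x) : g ∈ conSub Ds Fs := by
  refine ⟨hg.1, hg.2.1, fun i hi => ?_⟩
  rcases hE i hi with h | h
  · exact hg.2.2 i h
  · apply hfix
    rw [mem_maskFS, gEquiv_ptN_val i h.1]
    exact h.2

theorem stabM_bit_of_fixed {g : Equiv.Perm GolayPt} {i : ℕ} (hi : i < 24)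
    (h : g (ptN i) = ptN i) : StabM g (1 <<< i) := by
  unfold StabM
  rw [maskFS_bit i hi, Finset.smul_finset_singleton, smul_perm_point, h]

/-- The mask of the image of a set under a permutation of `M24` is again a code mask of the same
weight, for octads. -/
theorem exists_code_of_smul_octad {g : Equiv.Perm GolayPt} (hg : g ∈ M24) {o : Finset GolayPt}
    (ho : o ∈ octads) : ∃ c < 4096, popc 24 (encMask c) = 8 ∧ fsMask (g • o) = encMask c := by
  obtain ⟨c, hc, hp, e⟩ := (mem_wordsOfWeight_iff 8 (g • o)).1 (smul_mem_octads hg ho)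
  exact ⟨c, hc, hp, by rw [e, fsMask_wordOf c hc]⟩

end Cfsg.Agent.Lib.Helper21
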