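import Cfsg.Agent.Lib.Helper21.GolayGroup

/-!
`Cfsg.M24` is the automorphism group of the system of octads.
-/

set_option autoImplicit false

namespace Cfsg.Agent.Lib.Helper21

open Cfsg
open scoped Pointwise

theorem basis_weight : ∀ b ∈ basisMasks, popc 24 b = 8 ∧ b < 2 ^ 24 := by decide

theorem basis_octad (b : ℕ) (hb : b ∈ basisMasks) : support₂ (ofMask b) ∈ octads := by
  rw [mem_octads_iff]
  refine ⟨ofMask b, basis_mem b hb, rfl, ?_⟩
  rw [card_support₂, hammingNorm_eq_popc, toMask_ofMask b (basis_weight b hb).2]
  exact (basis_weight b hb).1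

/-- A submodule containing the twelve basis octad words contains the code. -/
theorem golayCode_le_of_basis (S : Submodule (ZMod 2) (GolayPt → ZMod 2))
    (h : ∀ b ∈ basisMasks, ofMask b ∈ S) : golayCode ≤ S := by
  intro w hw
  rw [mem_golayCode_iff] at hw
  rw [← ofMask_toMask w, ← hw]
  exact ofMask_encAux_mem S basisMasks h _

theorem M24_eq_aut_octads : M24 = setSystemAut octads := by
  ext g
  rw [MulAction.mem_stabilizer_iff, MulAction.mem_stabilizer_iff]
  constructor
  · intro hg
    apply Set.eq_of_subset_of_ncard_le _ _ (Set.toFinite _)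
    · rintro b ⟨b', ⟨hb's, hb'c⟩, rfl⟩
      refine ⟨?_, ?_⟩
      · rw [← hg]; exact Set.smul_mem_smul_set hb's
      · show (g • b').card = 8
        rw [Finset.card_smul_finset]; exact hb'c
    · rw [Set.ncard_smul_set]
  · intro hg
    have hginv : g⁻¹ • octads = octads := by
      rw [inv_smul_eq_iff, hg]
    have hle : golayCode ≤ golayCode.comap (precomp g) := by
      apply golayCode_le_of_basis
      intro b hb
      rw [Submodule.mem_comap]
      have h1 : support₂ (precomp g (ofMask b)) ∈ octads := by
        rw [support₂_precomp, ← hginv]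
        exact Set.smul_mem_smul_set (basis_octad b hb)
      obtain ⟨v', hv', e, _⟩ := (mem_octads_iff _).1 h1
      rw [← support₂_injective e]
      exact hv'
    have hmem : g⁻¹ ∈ M24 := inv_mem_M24_of_gens g (fun t => hle (qrWord_mem t))
    have := M24.inv_mem hmem
    rw [inv_inv] at this
    exact MulAction.mem_stabilizer_iff.1 this

end Cfsg.Agent.Lib.Helper21
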