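import Mathlib

/-!
A permutation group mapping a finite set `E` to itself, acting faithfully on `E` and of order
`(card E)!`, is isomorphic to the symmetric group on `card E` letters.
-/

set_option autoImplicit false

namespace Cfsg.Agent.Lib.Helper21

open scoped Pointwise

variable {α : Type*} [DecidableEq α]

theorem apply_mem_iff_of_smul_finset_eq {g : Equiv.Perm α} {E : Finset α} (h : g • E = E) (x : α) :
    g x ∈ E ↔ x ∈ E := by
  constructor
  · intro hx
    rw [← h] at hx
    obtain ⟨y, hy, e⟩ := Finset.mem_smul_finset.1 hx
    have : y = x := g.injective e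
    rwa [← this]
  · intro hx
    rw [← h]
    exact Finset.smul_mem_smul_finset hx

/-- Restriction to a finite set mapped to itself by every element of the subgroup. -/
def restrictHom (H : Subgroup (Equiv.Perm α)) (E : Finset α) (hst : ∀ g ∈ H, g • E = E) :
    H →* Equiv.Perm ↥E where
  toFun g := (g : Equiv.Perm α).subtypePerm (fun x => apply_mem_iff_of_smul_finset_eq (hst g g.2) x)
  map_one' := by
    ext x
    rfl
  map_mul' g h := by
    ext x
    rfl

theorem restrictHom_apply (H : Subgroup (Equiv.Perm α)) (E : Finset α)
    (hst : ∀ g ∈ H, g • E = E) (g : H) (x : ↥E) :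
    ((restrictHom H E hst g x : ↥E) : α) = (g : Equiv.Perm α) x := rfl

theorem restrictHom_injective (H : Subgroup (Equiv.Perm α)) (E : Finset α)
    (hst : ∀ g ∈ H, g • E = E) (hfaith : ∀ g ∈ H, (∀ x ∈ E, g x = x) → g = 1) :
    Function.Injective (restrictHom H E hst) := by
  rw [injective_iff_map_eq_one]
  intro g hg
  apply Subtype.ext
  apply hfaith g g.2
  intro x hx
  have := congrArg (fun e : Equiv.Perm ↥E => ((e ⟨x, hx⟩ : ↥E) : α)) hg
  exact this

/-- A subgroup of permutations acting faithfully on an invariant `n`-set and having order `n!` is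
isomorphic to the symmetric group of degree `n`. -/
theorem nonempty_mulEquiv_perm_of_card [Finite α] (H : Subgroup (Equiv.Perm α)) (E : Finset α)
    (n : ℕ) (hE : E.card = n) (hst : ∀ g ∈ H, g • E = E)
    (hfaith : ∀ g ∈ H, (∀ x ∈ E, g x = x) → g = 1) (hcard : Nat.card H = n.factorial) :
    Nonempty (H ≃* Equiv.Perm (Fin n)) := by
  have hinj := restrictHom_injective H E hst hfaith
  have hbij : Function.Bijective (restrictHom H E hst) := by
    apply hinj.bijective_of_nat_card_le
    rw [Nat.card_perm, hcard, Nat.card_eq_fintype_card, Fintype.card_coe, hE]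
  exact ⟨(MulEquiv.ofBijective (restrictHom H E hst) hbij).trans
    (Equiv.permCongrHom (E.equivFinOfCardEq hE))⟩

/-- Every permutation of the invariant set is induced, under the hypotheses above. -/
theorem restrictHom_surjective [Finite α] (H : Subgroup (Equiv.Perm α)) (E : Finset α)
    (hst : ∀ g ∈ H, g • E = E)
    (hfaith : ∀ g ∈ H, (∀ x ∈ E, g x = x) → g = 1) (hcard : Nat.card H = E.card.factorial) :
    Function.Surjective (restrictHom H E hst) := by
  have hinj := restrictHom_injective H E hst hfaith
  have hbij : Function.Bijective (restrictHom H E hst) := by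
    apply hinj.bijective_of_nat_card_le
    rw [Nat.card_perm, hcard, Nat.card_eq_fintype_card, Fintype.card_coe]
  exact hbij.2

end Cfsg.Agent.Lib.Helper21
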