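import Mathlib

/-!
# A concrete field with four elements

`F4 = {0, 1, ω, ω²}` as an enumerated type with table-defined operations, so that the kernel can
compute in it.
-/

namespace Cfsg.Agent.Lib.Helper21

/-- the field with four elements: `z = 0`, `o = 1`, `w = ω`, `w2 = ω² = ω + 1` -/
inductive F4 : Type
  | z | o | w | w2
  deriving DecidableEq

namespace F4

/-- addition (`xor` on the codes 0, 1, 2, 3) -/
def add : F4 → F4 → F4
  | z, b => b
  | a, z => a
  | o, o => z
  | o, w => w2
  | o, w2 => w
  | w, o => w2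
  | w, w => z
  | w, w2 => o
  | w2, o => w
  | w2, w => o
  | w2, w2 => z

/-- multiplication -/
def mul : F4 → F4 → F4
  | z, _ => z
  | _, z => z
  | o, b => b
  | a, o => a
  | w, w => w2
  | w, w2 => o
  | w2, w => o
  | w2, w2 => w

/-- inverse (with `0⁻¹ = 0`) -/
def inv : F4 → F4
  | z => z
  | o => o
  | w => w2
  | w2 => w

/-- decoding of the codes 0, 1, 2, 3 -/
def dec (k : ℕ) : F4 :=
  Nat.rec z (fun k _ => Nat.rec o (fun k _ => Nat.rec w (fun _ _ => w2) k) k) k

instance : Fintype F4 := ⟨{z, o, w, w2}, by intro x; cases x <;> simp⟩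

instance : Zero F4 := ⟨z⟩
instance : One F4 := ⟨o⟩
instance : Add F4 := ⟨add⟩
instance : Mul F4 := ⟨mul⟩
instance : Neg F4 := ⟨id⟩
instance : Inv F4 := ⟨inv⟩

instance : CommRing F4 where
  add_assoc := by decide
  zero_add := by decide
  add_zero := by decide
  nsmul := nsmulRec
  zsmul := zsmulRec
  neg_add_cancel := by decide
  add_comm := by decide
  left_distrib := by decide
  right_distrib := by decide
  zero_mul := by decide
  mul_zero := by decide
  mul_assoc := by decide
  one_mul := by decide
  mul_one := by decide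
  mul_comm := by decide

instance : Field F4 where
  exists_pair_ne := ⟨z, o, by decide⟩
  mul_inv_cancel := by decide
  inv_zero := rfl
  nnqsmul := _
  nnqsmul_def := fun _ _ => rfl
  qsmul := _
  qsmul_def := fun _ _ => rfl

theorem card_eq : Fintype.card F4 = 4 := rfl

theorem add_self (a : F4) : a + a = 0 := by revert a; decide
theorem neg_eq (a : F4) : -a = a := rfl
theorem sq_add (a b : F4) : (a + b) ^ 2 = a ^ 2 + b ^ 2 := by revert a b; decide
theorem cube_eq_one {a : F4} (h : a ≠ 0) : a ^ 3 = 1 := by revert a; decide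
theorem eq_one_of_pow19 {a : F4} (h : a ^ 19 = 1) : a = 1 := by revert a; decide
theorem cases4 (a : F4) : a = 0 ∨ a = 1 ∨ a = w ∨ a = w2 := by revert a; decide
theorem w_sq : w ^ 2 = w2 := by decide
theorem w_cube : w ^ 3 = (1 : F4) := by decide
theorem w_ne_one : w ≠ (1 : F4) := by decide
theorem w_ne_zero : w ≠ (0 : F4) := by decide

end F4

end Cfsg.Agent.Lib.Helper21
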