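import Cfsg.Agent.Lib.Helper21.GolayGen

/-!
Orders of the stabilisers in `Cfsg.M24` of an octad and of a dodecad.
-/

set_option autoImplicit false

namespace Cfsg.Agent.Lib.Helper21

open Cfsg
open scoped Pointwise

theorem orbit_dodecad (d : Finset GolayPt) (hd : d ∈ dodecads) :
    MulAction.orbit M24 d = dodecads := by
  ext d'
  constructor
  · rintro ⟨g, rfl⟩
    exact smul_mem_dodecads g.2 hd
  · intro hd'
    obtain ⟨g, hg⟩ := dodecads_transitive d d' hd hd'
    exact ⟨g, hg⟩

theorem orbit_octad (o : Finset GolayPt) (ho : o ∈ octads) :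
    MulAction.orbit M24 o = octads := by
  ext o'
  constructor
  · rintro ⟨g, rfl⟩
    exact smul_mem_octads g.2 ho
  · intro ho'
    obtain ⟨g, hg⟩ := octads_transitive o o' ho ho'
    exact ⟨g, hg⟩

/-- The stabiliser of a dodecad has order `95040`. -/
theorem card_stabilizer_dodecad (d : Finset GolayPt) (hd : d ∈ dodecads) :
    Nat.card (MulAction.stabilizer M24 d) = 95040 := by
  have h1 := Subgroup.card_mul_index (MulAction.stabilizer M24 d)
  rw [MulAction.index_stabilizer, orbit_dodecad d hd, ncard_dodecads, card_M24] at h1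
  omega

/-- The stabiliser of an octad has order `322560`. -/
theorem card_stabilizer_octad (o : Finset GolayPt) (ho : o ∈ octads) :
    Nat.card (MulAction.stabilizer M24 o) = 322560 := by
  have h1 := Subgroup.card_mul_index (MulAction.stabilizer M24 o)
  rw [MulAction.index_stabilizer, orbit_octad o ho, ncard_octads, card_M24] at h1
  omega

end Cfsg.Agent.Lib.Helper21
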