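import Cfsg.Agent.Lib.Helper21.Suborbit
import Cfsg.Agent.Lib.Helper21.GolayStab
import Cfsg.Agent.Lib.Helper21.GolayDodecads
import Cfsg.Agent.S1561

/-!
The stabiliser of a complementary pair of dodecads is a maximal subgroup of `Cfsg.M24`.
-/

set_option autoImplicit false

namespace Cfsg.Agent.Lib.Helper21

open Cfsg
open scoped Pointwise

/-- A set together with its complement. -/
def prc (e : Finset GolayPt) : Finset (Finset GolayPt) := {e, eᶜ}

theorem smul_finset_compl' (g : Equiv.Perm GolayPt) (e : Finset GolayPt) :
    g • eᶜ = (g • e)ᶜ := by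
  ext p
  rw [← Finset.inv_smul_mem_iff, Finset.mem_compl, Finset.mem_compl, Finset.inv_smul_mem_iff]

theorem smul_prc (g : Equiv.Perm GolayPt) (e : Finset GolayPt) : g • prc e = prc (g • e) := by
  unfold prc
  rw [Finset.smul_finset_insert, Finset.smul_finset_singleton, smul_finset_compl']

theorem smul_prc' (g : M24) (e : Finset GolayPt) : g • prc e = prc (g • e) :=
  smul_prc (g : Equiv.Perm GolayPt) e

theorem ne_compl_self (e : Finset GolayPt) : e ≠ eᶜ := by
  intro h
  have h1 : (none : GolayPt) ∈ e ↔ (none : GolayPt) ∈ eᶜ := by rw [← h]
  rw [Finset.mem_compl] at h1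
  tauto

theorem prc_eq_iff (e e' : Finset GolayPt) : prc e = prc e' ↔ e' = e ∨ e' = eᶜ := by
  unfold prc
  constructor
  · intro h
    have : e' ∈ ({e, eᶜ} : Finset (Finset GolayPt)) := by
      rw [h]
      exact Finset.mem_insert_self _ _
    simpa using this
  · rintro (rfl | rfl)
    · rfl
    · rw [compl_compl, Finset.pair_comm]

theorem prc_compl (e : Finset GolayPt) : prc eᶜ = prc e := ((prc_eq_iff e eᶜ).2 (Or.inr rfl)).symm

theorem mem_prc (e a : Finset GolayPt) : a ∈ prc e ↔ a = e ∨ a = eᶜ := by
  unfold prc
  simp

/-- Complement-closed families map two-to-one onto their pairs. -/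
theorem card_image_prc (A : Finset (Finset GolayPt)) (hcl : ∀ e ∈ A, eᶜ ∈ A) :
    A.card = 2 * (A.image prc).card := by
  rw [Finset.card_eq_sum_card_image prc A, mul_comm, ← smul_eq_mul, ← Finset.sum_const]
  apply Finset.sum_congr rfl
  intro y hy
  obtain ⟨e, he, rfl⟩ := Finset.mem_image.1 hy
  have : A.filter (fun a => prc a = prc e) = {e, eᶜ} := by
    ext a
    rw [Finset.mem_filter, Finset.mem_insert, Finset.mem_singleton, prc_eq_iff]
    constructor
    · rintro ⟨-, h⟩
      rcases h with h | h
      · exact Or.inl h.symm
      · right
        rw [h, compl_compl]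
    · rintro (rfl | rfl)
      · exact ⟨he, Or.inl rfl⟩
      · exact ⟨hcl e he, Or.inr (compl_compl e).symm⟩
  rw [this, Finset.card_pair (ne_compl_self e)]

theorem inter_compl_card (d e : Finset GolayPt) : (d ∩ e).card + (d ∩ eᶜ).card = d.card := by
  rw [← Finset.card_union_of_disjoint, ← Finset.inter_union_distrib_left, Finset.union_compl,
    Finset.inter_univ]
  exact Finset.disjoint_of_subset_left Finset.inter_subset_right
    (Finset.disjoint_of_subset_right Finset.inter_subset_right disjoint_compl_right)

theorem orbit_prc (d : Finset GolayPt) (hd : d ∈ dodecads) :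
    MulAction.orbit M24 (prc d) = prc '' dodecads := by
  ext y
  constructor
  · rintro ⟨g, rfl⟩
    exact ⟨g • d, smul_mem_dodecads g.2 hd, (smul_prc' g d).symm⟩
  · rintro ⟨e, he, rfl⟩
    obtain ⟨g, hg⟩ := dodecads_transitive d e hd he
    exact ⟨g, by rw [← hg]; exact smul_prc' g d⟩

open Classical in
/-- Classifier of the pairs relative to `d`. -/
noncomputable def prcClass (d : Finset GolayPt) (y : Finset (Finset GolayPt)) : ℕ :=
  if ∃ e ∈ y, (d ∩ e).card = 6 then 1 else 0

theorem prcClass_prc (d e : Finset GolayPt) (hd : d.card = 12) :
    prcClass d (prc e) = if (d ∩ e).card = 6 then 1 else 0 := by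
  unfold prcClass
  have : (∃ a ∈ prc e, (d ∩ a).card = 6) ↔ (d ∩ e).card = 6 := by
    constructor
    · rintro ⟨a, ha, h⟩
      rcases (mem_prc e a).1 ha with rfl | rfl
      · exact h
      · have := inter_compl_card d e
        omega
    · intro h
      exact ⟨e, (mem_prc e e).2 (Or.inl rfl), h⟩
  simp only [this]

/-- The stabiliser of a complementary pair of dodecads is a maximal subgroup of `M24`. -/
theorem isCoatom_stabilizer_prc (d : Finset GolayPt) (hd : d ∈ dodecads) :
    IsCoatom (MulAction.stabilizer M24 (prc d)) := by
  classical
  have hd12 : d.card = 12 := hd.2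
  have horb := orbit_prc d hd
  have hD : ∀ e, e ∈ blocksFinset dodecads ↔ e ∈ dodecads := fun e => mem_blocksFinset
  have hcls : ∀ e ∈ dodecads, prc e ≠ prc d → (d ∩ e).card = 4 ∨ (d ∩ e).card = 6 ∨
      (d ∩ e).card = 8 := by
    intro e he hne
    have hned : e ≠ d := fun h => hne (by rw [h])
    rcases dodecad_inter hd he hned with h | h | h | h
    · exfalso
      apply hne
      rw [prc_eq_iff]
      right
      -- `e` is disjoint from `d`, so it is the complement
      have hsub : d ⊆ eᶜ := by
        intro p hp
        rw [Finset.mem_compl]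
        intro hpe
        have : p ∈ d ∩ e := Finset.mem_inter.2 ⟨hp, hpe⟩
        rw [Finset.card_eq_zero.1 h] at this
        exact absurd this (Finset.notMem_empty p)
      have hc : eᶜ.card = 12 := by
        rw [Finset.card_compl, he.2, card_golayPt]
      have : d = eᶜ := Finset.eq_of_subset_of_card_le hsub (by rw [hc, hd12])
      exact this
    · exact Or.inl h
    · exact Or.inr (Or.inl h)
    · exact Or.inr (Or.inr h)
  apply isCoatom_stabilizer_of_suborbits (prc d) (prcClass d) {0, 1}
    (fun i => if i = 0 then 495 else 792) 1288
  · rw [horb]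
    have h1 := card_image_prc (blocksFinset dodecads) (fun e he => by
      rw [hD] at he ⊢
      exact dodecad_compl he)
    have h2 : (blocksFinset dodecads).card = 2576 := by rw [← ncard_blocks, ncard_dodecads]
    have h3 : prc '' dodecads = ↑((blocksFinset dodecads).image prc) := by
      ext y
      simp only [Set.mem_image, Finset.coe_image, Finset.mem_coe, hD]
    rw [h3, Set.ncard_coe_finset]
    omega
  · norm_num
  · intro y _ _
    unfold prcClass
    split_ifs <;> simp
  · intro i hi
    simp only [Finset.mem_insert, Finset.mem_singleton] at hi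
    rw [horb]
    rcases hi with rfl | rfl
    · -- class 0: representatives meeting `d` in four points
      have hset : {y | y ∈ prc '' dodecads ∧ y ≠ prc d ∧ prcClass d y = 0}
          = prc '' ↑((blocksFinset dodecads).filter (fun e => (d ∩ e).card = 4)) := by
        ext y
        simp only [Set.mem_setOf_eq, Set.mem_image, Finset.coe_filter, hD]
        constructor
        · rintro ⟨⟨e, he, rfl⟩, hne, hc⟩
          rw [prcClass_prc d e hd12] at hc
          have h6 : (d ∩ e).card ≠ 6 := by
            intro h
            rw [if_pos h] at hc
            omega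
          rcases hcls e he hne with h | h | h
          · exact ⟨e, ⟨he, h⟩, rfl⟩
          · exact absurd h h6
          · refine ⟨eᶜ, ⟨dodecad_compl he, ?_⟩, prc_compl e⟩
            have := inter_compl_card d e
            omega
        · rintro ⟨e, ⟨he, h4⟩, rfl⟩
          refine ⟨⟨e, he, rfl⟩, ?_, ?_⟩
          · intro h
            rw [prc_eq_iff] at h
            rcases h with h | h
            · rw [h, Finset.inter_self] at h4
              have := he.2
              omega
            · rw [h] at h4
              have h5 : (eᶜ ∩ e).card = 0 := by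
                rw [Finset.card_eq_zero, Finset.inter_comm]
                exact Finset.inter_compl e
              omega
          · rw [prcClass_prc d e hd12, if_neg (by omega)]
      rw [hset, Set.ncard_image_of_injOn, Set.ncard_coe_finset, dodecad_count_four hd]
      · rfl
      · intro e he e' he' h
        simp only [Finset.coe_filter, Set.mem_setOf_eq] at he he'
        rw [prc_eq_iff] at h
        rcases h with h | h
        · exact h.symm
        · exfalso
          have := inter_compl_card d e
          rw [← h] at this
          omega
    · have hset : {y | y ∈ prc '' dodecads ∧ y ≠ prc d ∧ prcClass d y = 1}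
          = ↑(((blocksFinset dodecads).filter (fun e => (d ∩ e).card = 6)).image prc) := by
        ext y
        simp only [Set.mem_setOf_eq, Set.mem_image, Finset.coe_image, Finset.coe_filter, hD]
        constructor
        · rintro ⟨⟨e, he, rfl⟩, hne, hc⟩
          rw [prcClass_prc d e hd12] at hc
          have h6 : (d ∩ e).card = 6 := by
            by_contra h
            rw [if_neg h] at hc
            omega
          exact ⟨e, ⟨he, h6⟩, rfl⟩
        · rintro ⟨e, ⟨he, h6⟩, rfl⟩
          refine ⟨⟨e, he, rfl⟩, ?_, ?_⟩
          · intro h
            rw [prc_eq_iff] at h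
            rcases h with h | h
            · rw [h, Finset.inter_self] at h6
              have := he.2
              omega
            · rw [h] at h6
              have h5 : (eᶜ ∩ e).card = 0 := by
                rw [Finset.card_eq_zero, Finset.inter_comm]
                exact Finset.inter_compl e
              omega
          · rw [prcClass_prc d e hd12, if_pos h6]
      have h1 := card_image_prc ((blocksFinset dodecads).filter (fun e => (d ∩ e).card = 6))
        (fun e he => by
          rw [Finset.mem_filter, hD] at he ⊢
          refine ⟨dodecad_compl he.1, ?_⟩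
          have := inter_compl_card d e
          omega)
      rw [dodecad_count_six hd] at h1
      rw [hset, Set.ncard_coe_finset]
      simp only [if_neg (by norm_num : (1 : ℕ) ≠ 0)]
      omega
  · intro y hy y' hy' hne hne' hc
    rw [horb] at hy hy'
    obtain ⟨e, he, rfl⟩ := hy
    obtain ⟨e', he', rfl⟩ := hy'
    rw [prcClass_prc d e hd12, prcClass_prc d e' hd12] at hc
    -- choose representatives with the same intersection number
    have hex : ∃ a a', a ∈ dodecads ∧ a' ∈ dodecads ∧ prc a = prc e ∧ prc a' = prc e' ∧
        (d ∩ a).card = (d ∩ a').card := by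
      have k1 := inter_compl_card d e
      have k2 := inter_compl_card d e'
      rcases hcls e he hne with h | h | h <;> rcases hcls e' he' hne' with h' | h' | h'
      · exact ⟨e, e', he, he', rfl, rfl, by rw [h, h']⟩
      · rw [if_neg (by omega), if_pos h'] at hc
        omega
      · exact ⟨e, e'ᶜ, he, dodecad_compl he', rfl, prc_compl e', by omega⟩
      · rw [if_pos h, if_neg (by omega)] at hc
        omega
      · exact ⟨e, e', he, he', rfl, rfl, by rw [h, h']⟩
      · rw [if_pos h, if_neg (by omega)] at hc
        omega
      · exact ⟨eᶜ, e', dodecad_compl he, he', prc_compl e, rfl, by omega⟩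
      · rw [if_neg (by omega), if_pos h'] at hc
        omega
      · exact ⟨e, e', he, he', rfl, rfl, by rw [h, h']⟩
    obtain ⟨a, a', ha, ha', hpa, hpa', hcc⟩ := hex
    obtain ⟨g, hg, hgd, hga⟩ := Cfsg.Agent.S1561.result d a a' hd ha ha' hcc
    refine ⟨⟨g, hg⟩, ?_, ?_⟩
    · rw [MulAction.mem_stabilizer_iff]
      show g • prc d = prc d
      rw [smul_prc, hgd]
    · show g • prc e = prc e'
      rw [← hpa, ← hpa', smul_prc, hga]
  · decide

end Cfsg.Agent.Lib.Helper21
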