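import Cfsg.Agent.Lib.Helper21.GolayTransitive
import Cfsg.Agent.Lib.Helper21.GolayAutOctads
import Cfsg.Agent.Lib.Helper21.GolayDodecads

/-!
The code modulo the all-ones word is irreducible under `Cfsg.M24`.
-/

set_option autoImplicit false

namespace Cfsg.Agent.Lib.Helper21

open Cfsg
open scoped Pointwise

theorem precomp_inv_eq (σ : Equiv.Perm GolayPt) (w : GolayPt → ZMod 2) :
    (fun p => w (σ.symm p)) = precomp σ⁻¹ w := rfl

theorem support₂_precomp_inv (σ : Equiv.Perm GolayPt) (w : GolayPt → ZMod 2) :
    support₂ (precomp σ⁻¹ w) = σ • support₂ w := by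
  rw [support₂_precomp, inv_inv]

theorem eq_one_of_weight (w : GolayPt → ZMod 2) (h : hammingNorm w = 24) : w = 1 := by
  have hs : support₂ w = Finset.univ := by
    apply Finset.eq_univ_of_card
    rw [card_support₂, h, card_golayPt]
  funext p
  have : p ∈ support₂ w := by rw [hs]; exact Finset.mem_univ p
  rw [mem_support₂] at this
  rcases zmod2_cases (w p) with h0 | h1
  · exact absurd h0 this
  · rw [h1]; rfl

/-- An invariant subspace of the code containing an octad word is the whole code. -/
theorem eq_code_of_octad_mem (W : Submodule (ZMod 2) (GolayPt → ZMod 2))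
    (hinv : ∀ σ ∈ M24, ∀ w ∈ W, precomp σ⁻¹ w ∈ W) (v : GolayPt → ZMod 2) (hvW : v ∈ W)
    (hvo : support₂ v ∈ octads) : golayCode ≤ W := by
  apply golayCode_le_of_basis
  intro b hb
  obtain ⟨g, e⟩ := octads_transitive _ _ hvo (basis_octad b hb)
  have h1 := hinv g.1 g.2 v hvW
  have h2 : support₂ (precomp (g.1)⁻¹ v) = support₂ (ofMask b) := by
    rw [support₂_precomp_inv]
    exact e
  rw [← support₂_injective h2]
  exact h1

theorem golay_irreducible (W : Submodule (ZMod 2) (GolayPt → ZMod 2))
    (h1 : (1 : GolayPt → ZMod 2) ∈ W) (hle : W ≤ golayCode)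
    (hinv : ∀ σ ∈ M24, ∀ w ∈ W, precomp σ⁻¹ w ∈ W) :
    W = Submodule.span (ZMod 2) {(1 : GolayPt → ZMod 2)} ∨ W = golayCode := by
  classical
  by_cases hW : W ≤ Submodule.span (ZMod 2) {(1 : GolayPt → ZMod 2)}
  · left
    apply le_antisymm hW
    rw [Submodule.span_le]
    intro x hx
    rw [Set.mem_singleton_iff] at hx
    rw [hx]; exact h1
  · right
    apply le_antisymm hle
    rw [SetLike.not_le_iff_exists] at hW
    obtain ⟨w, hwW, hwn⟩ := hW
    have hw0 : w ≠ 0 := by
      rintro rfl
      exact hwn (Submodule.zero_mem _)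
    have hw1 : w ≠ 1 := by
      rintro rfl
      exact hwn (Submodule.subset_span rfl)
    have hwC := hle hwW
    have hwt := golay_weights w hwC
    have hn0 : hammingNorm w ≠ 0 := fun h => hw0 ((hammingNorm_eq_zero_iff' w).1 h)
    have hn24 : hammingNorm w ≠ 24 := fun h => hw1 (eq_one_of_weight w h)
    -- find an octad word in W
    have hoct : ∃ v ∈ W, support₂ v ∈ octads := by
      rcases hwt with h | h | h | h | h
      · exact absurd h hn0
      · exact ⟨w, hwW, (mem_octads_iff _).2 ⟨w, hwC, rfl, by rw [card_support₂, h]⟩⟩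
      · -- weight 12: add a translate meeting it in 8 points
        have hd : support₂ w ∈ dodecads :=
          (mem_dodecads_iff _).2 ⟨w, hwC, rfl, by rw [card_support₂, h]⟩
        have hpos : 0 < ((blocksFinset dodecads).filter
            (fun d' => (support₂ w ∩ d').card = 8)).card := by
          rw [dodecad_count_eight hd]; norm_num
        obtain ⟨d', hd'⟩ := Finset.card_pos.1 hpos
        rw [Finset.mem_filter, mem_blocksFinset] at hd'
        obtain ⟨g, e⟩ := dodecads_transitive _ _ hd hd'.1
        have hw' := hinv g.1 g.2 w hwW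
        have hs' : support₂ (precomp (g.1)⁻¹ w) = d' := by
          rw [support₂_precomp_inv]; exact e
        refine ⟨w + precomp (g.1)⁻¹ w, W.add_mem hwW hw', ?_⟩
        rw [mem_octads_iff]
        refine ⟨_, golayCode.add_mem hwC (hle hw'), rfl, ?_⟩
        rw [support₂_add, hs']
        have hc := card_symmDiff_add (support₂ w) d'
        rw [hd.2, hd'.1.2, hd'.2] at hc
        omega
      · -- weight 16: complement
        refine ⟨1 + w, W.add_mem h1 hwW, ?_⟩
        rw [mem_octads_iff]
        refine ⟨_, golayCode.add_mem one_mem_golay hwC, rfl, ?_⟩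
        rw [support₂_one_add, Finset.card_compl, card_support₂, h, card_golayPt]
      · exact absurd h hn24
    obtain ⟨v, hvW, hvo⟩ := hoct
    exact eq_code_of_octad_mem W hinv v hvW hvo

end Cfsg.Agent.Lib.Helper21
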