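import Cfsg.Agent.Lib.Helper21.GolayCoset
import Cfsg.Agent.Lib.Helper21.GolayIrred
import Cfsg.Agent.Lib.Helper21.GolayFlag
import Cfsg.Agent.Lib.Helper21.GolayOctSplit
import Cfsg.Agent.Lib.Helper21.GolayM12Gen
import Cfsg.Agent.Lib.Helper21.GolaySets
import Cfsg.Agent.Lib.Helper21.GolayDodPair

/-!
The stabiliser of a code word of the length-24 code fixes no non-zero coset of the code.
-/

set_option autoImplicit false

namespace Cfsg.Agent.Lib.Helper21

open Cfsg
open scoped Pointwise

theorem precomp_sub_mem_iff {σ : Equiv.Perm GolayPt} (hσ : σ ∈ M24) {w v : GolayPt → ZMod 2}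
    (hwv : w - v ∈ golayCode) :
    precomp σ⁻¹ w - w ∈ golayCode ↔ precomp σ⁻¹ v - v ∈ golayCode := by
  have hA : precomp σ⁻¹ (w - v) ∈ golayCode :=
    precomp_mem_of_mem_M24 σ⁻¹ (M24.inv_mem hσ) _ hwv
  rw [map_sub] at hA
  have hAB : (precomp σ⁻¹ w - precomp σ⁻¹ v) - (w - v) ∈ golayCode := golayCode.sub_mem hA hwv
  have e : precomp σ⁻¹ w - w =
      (precomp σ⁻¹ v - v) + ((precomp σ⁻¹ w - precomp σ⁻¹ v) - (w - v)) := by abel
  rw [e]
  exact golayCode.add_mem_iff_left hAB

/-- A subgroup of `M24` stabilising a set `d`, doubly transitive on `d` and transitive on the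
complement, moves every non-zero coset of the code. -/
theorem exists_moving_coset (d : Finset GolayPt)
    (two : ∀ p q p' q' : GolayPt, p ∈ d → q ∈ d → p' ∈ d → q' ∈ d → p ≠ q → p' ≠ q' →
      ∃ g ∈ M24, g • d = d ∧ g p = p' ∧ g q = q')
    (out : ∀ p q : GolayPt, p ∉ d → q ∉ d → ∃ g ∈ M24, g • d = d ∧ g p = q)
    (big : 7 ≤ d.card) (cbig : dᶜ.card = 0 ∨ 4 ≤ dᶜ.card)
    (w : GolayPt → ZMod 2) (hw : w ∉ golayCode) :
    ∃ σ ∈ M24, σ • d = d ∧ precomp σ⁻¹ w - w ∉ golayCode := by
  classical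
  obtain ⟨v, hv4, hwv⟩ := exists_leader w
  have hv0 : v ≠ 0 := by
    rintro rfl
    rw [sub_zero] at hwv
    exact hw hwv
  have one : ∀ p q, p ∈ d → q ∈ d → ∃ g ∈ M24, g • d = d ∧ g p = q := by
    intro p q hp hq
    obtain ⟨p2, hp2, hne⟩ := Finset.exists_mem_ne (by omega : 1 < d.card) p
    obtain ⟨q2, hq2, hne'⟩ := Finset.exists_mem_ne (by omega : 1 < d.card) q
    obtain ⟨g, hg, hgd, h1, -⟩ := two p p2 q q2 hp hp2 hq hq2 hne.symm hne'.symm
    exact ⟨g, hg, hgd, h1⟩
  set S := support₂ v with hS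
  have hSne : S.Nonempty := by
    rw [Finset.nonempty_iff_ne_empty]
    intro h
    exact hv0 ((support₂_eq_empty_iff v).1 h)
  have hScard : S.card ≤ 4 := by
    rw [hS, card_support₂]
    exact hv4
  suffices h : ∃ σ ∈ M24, σ • d = d ∧ precomp σ⁻¹ v - v ∉ golayCode by
    obtain ⟨σ, hσ, hσd, hn⟩ := h
    exact ⟨σ, hσ, hσd, fun hc => hn ((precomp_sub_mem_iff hσ hwv).1 hc)⟩
  have key : ∀ σ : Equiv.Perm GolayPt, precomp σ⁻¹ v - v ∈ golayCode →
      σ • S = S ∨ (S.card = 4 ∧ σ • S ∈ sextetOf S) := by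
    intro σ hc
    have hnorm : hammingNorm (precomp σ⁻¹ v) ≤ 4 := by
      rw [← card_support₂, support₂_precomp_inv, Finset.card_smul_finset, card_support₂]
      exact hv4
    have hc' : v - precomp σ⁻¹ v ∈ golayCode := by
      have h := golayCode.neg_mem hc
      rwa [neg_sub] at h
    rcases leader_pair v (precomp σ⁻¹ v) hv4 hnorm hc' with h | ⟨h4, -, hs⟩
    · left
      rw [hS, ← support₂_precomp_inv, ← h]
    · right
      refine ⟨by rw [hS, card_support₂, h4], ?_⟩
      rw [support₂_precomp_inv] at hs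
      exact hs
  by_cases h4 : S.card = 4
  · have hSx := sextetOf_mem h4
    obtain ⟨T, hT, p, q, hpT, hqT, hpd, hqd, hpq⟩ :
        ∃ T ∈ sextetOf S, ∃ p q, p ∈ T ∧ q ∈ T ∧ p ∈ d ∧ q ∈ d ∧ p ≠ q := by
      by_contra hno
      push_neg at hno
      have h1 : ∀ T ∈ sextetOf S, (T ∩ d).card ≤ 1 := by
        intro T hT
        rw [Finset.card_le_one]
        intro a ha b hb
        by_contra hab
        rw [Finset.mem_inter] at ha hb
        exact hab (hno T hT a b ha.1 hb.1 ha.2 hb.2)
      have hsub : d ⊆ (sextetOf S).biUnion (fun T => T ∩ d) := by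
        intro x hx
        obtain ⟨T, hT, hxT⟩ := sextet_cover hSx x
        rw [Finset.mem_biUnion]
        exact ⟨T, hT, Finset.mem_inter.2 ⟨hxT, hx⟩⟩
      have hle := Finset.card_le_card hsub
      have h2 := Finset.card_biUnion_le (s := sextetOf S) (t := fun T => T ∩ d)
      have h3 : ∑ T ∈ sextetOf S, (T ∩ d).card ≤ ∑ _T ∈ sextetOf S, 1 := Finset.sum_le_sum h1
      rw [Finset.sum_const, card_sextetOf h4, smul_eq_mul] at h3
      omega
    have hT4 : T.card = 4 := tetrad_card hSx hT
    obtain ⟨r, hrd, hrT⟩ : ∃ r ∈ d, r ∉ T := by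
      by_contra hno
      push_neg at hno
      have hle := Finset.card_le_card (show d ⊆ T from hno)
      omega
    have hpr : p ≠ r := fun h => hrT (h ▸ hpT)
    obtain ⟨σ, hσ, hσd, hσp, hσq⟩ := two p q p r hpd hqd hpd hrd hpq hpr
    refine ⟨σ, hσ, hσd, fun hc => ?_⟩
    have hfix : σ • sextetOf S = sextetOf S := by
      rw [smul_sextetOf hσ h4]
      rcases key σ hc with h | ⟨-, h⟩
      · rw [h]
      · exact (eq_sextetOf hSx h).symm
    have hσT : σ • T ∈ sextetOf S := by
      rw [← hfix]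
      exact Finset.smul_mem_smul_finset hT
    have hpσT : p ∈ σ • T := by
      rw [← hσp]
      exact Finset.smul_mem_smul_finset hpT
    have hTT : σ • T = T := by
      by_contra hne
      have hdis := sextet_disjoint hSx hσT hT hne
      exact Finset.disjoint_left.1 hdis hpσT hpT
    apply hrT
    rw [← hTT, ← hσq]
    exact Finset.smul_mem_smul_finset hqT
  · have h3 : S.card ≤ 3 := by omega
    obtain ⟨p, hp⟩ := hSne
    by_cases hpd : p ∈ d
    · obtain ⟨q, hqd, hqS⟩ : ∃ q ∈ d, q ∉ S := by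
        by_contra hno
        push_neg at hno
        have hle := Finset.card_le_card (show d ⊆ S from hno)
        omega
      obtain ⟨σ, hσ, hσd, hσp⟩ := one p q hpd hqd
      refine ⟨σ, hσ, hσd, fun hc => ?_⟩
      rcases key σ hc with h | ⟨h, -⟩
      · apply hqS
        rw [← h, ← hσp]
        exact Finset.smul_mem_smul_finset hp
      · exact h4 h
    · have hpc : p ∈ dᶜ := Finset.mem_compl.2 hpd
      have hc4 : 4 ≤ dᶜ.card := by
        rcases cbig with h | h
        · exfalso
          rw [Finset.card_eq_zero] at h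
          rw [h] at hpc
          exact Finset.notMem_empty _ hpc
        · exact h
      obtain ⟨q, hqd, hqS⟩ : ∃ q ∈ dᶜ, q ∉ S := by
        by_contra hno
        push_neg at hno
        have hle := Finset.card_le_card (show dᶜ ⊆ S from hno)
        omega
      obtain ⟨σ, hσ, hσd, hσp⟩ := out p q hpd (Finset.mem_compl.1 hqd)
      refine ⟨σ, hσ, hσd, fun hc => ?_⟩
      rcases key σ hc with h | ⟨h, -⟩
      · apply hqS
        rw [← h, ← hσp]
        exact Finset.smul_mem_smul_finset hp
      · exact h4 h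

/-- An embedding of `Fin 2` from two distinct points. -/
def pairEmb (p q : GolayPt) (h : p ≠ q) : Fin 2 ↪ GolayPt :=
  ⟨![p, q], by
    intro i j hij
    fin_cases i <;> fin_cases j
    · rfl
    · exact absurd hij h
    · exact absurd hij.symm h
    · rfl⟩

theorem moving_univ (w : GolayPt → ZMod 2) (hw : w ∉ golayCode) :
    ∃ σ ∈ M24, precomp σ⁻¹ w - w ∉ golayCode := by
  classical
  obtain ⟨σ, hσ, -, h⟩ := exists_moving_coset Finset.univ
    (fun p q p' q' _ _ _ _ hpq hpq' => by
      obtain ⟨g, hg, h⟩ := M24_tuples 2 (by norm_num) (pairEmb p q hpq) (pairEmb p' q' hpq')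
      exact ⟨g, hg, Finset.smul_finset_univ, h 0, h 1⟩)
    (fun p q hp _ => absurd (Finset.mem_univ p) hp)
    (by rw [Finset.card_univ, card_golayPt]; norm_num)
    (by left; rw [Finset.compl_univ, Finset.card_empty]) w hw
  exact ⟨σ, hσ, h⟩

theorem moving_octad (o : Finset GolayPt) (ho : o ∈ octads) (w : GolayPt → ZMod 2)
    (hw : w ∉ golayCode) : ∃ σ ∈ M24, σ • o = o ∧ precomp σ⁻¹ w - w ∉ golayCode := by
  classical
  have h8 : o.card = 8 := octad_card o ho
  exact exists_moving_coset o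
    (fun p q p' q' hp hq hp' hq' hpq hpq' => by
      obtain ⟨g, hg, hgo, h⟩ := octad_stab_trans (n := 2) (by norm_num) o ho (pairEmb p q hpq)
        (pairEmb p' q' hpq') (fun i => by fin_cases i <;> assumption)
        (fun i => by fin_cases i <;> assumption)
      exact ⟨g, hg, hgo, h 0, h 1⟩)
    (fun p q hp hq => by
      obtain ⟨t, ht, hto, htp⟩ := octad_fix_trans o ho p q hp hq
      exact ⟨t, ht, smul_eq_of_fixing hto, htp⟩)
    (by omega)
    (by right; rw [Finset.card_compl, h8, card_golayPt]; norm_num) w hw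

theorem moving_dodecad (d : Finset GolayPt) (hd : d ∈ dodecads) (w : GolayPt → ZMod 2)
    (hw : w ∉ golayCode) : ∃ σ ∈ M24, σ • d = d ∧ precomp σ⁻¹ w - w ∉ golayCode := by
  classical
  have h12 : d.card = 12 := ((mem_dodecads_iff d).1 hd).choose_spec.2.2
  exact exists_moving_coset d
    (fun p q p' q' hp hq hp' hq' hpq hpq' => by
      obtain ⟨g, hg, hgo, h⟩ := dodecad_stab_trans (n := 2) (by norm_num) d hd (pairEmb p q hpq)
        (pairEmb p' q' hpq') (fun i => by fin_cases i <;> assumption)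
        (fun i => by fin_cases i <;> assumption)
      exact ⟨g, hg, hgo, h 0, h 1⟩)
    (fun p q hp hq => by
      obtain ⟨g, hg, hgd, hgp⟩ := dodecad_stab_trans_pt dᶜ (dodecad_compl hd) p q
        (Finset.mem_compl.2 hp) (Finset.mem_compl.2 hq)
      rw [smul_finset_compl'] at hgd
      exact ⟨g, hg, compl_injective hgd, hgp⟩)
    (by omega)
    (by right; rw [Finset.card_compl, h12, card_golayPt]; norm_num) w hw

theorem fix_of_smul (σ : Equiv.Perm GolayPt) (u : GolayPt → ZMod 2)
    (h : σ • support₂ u = support₂ u) : (fun p => u (σ.symm p)) = u := by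
  apply support₂_injective
  rw [precomp_inv_eq, support₂_precomp_inv, h]

end Cfsg.Agent.Lib.Helper21
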