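import Cfsg.Agent.Lib.Helper21.GolayPerm

/-!
A fast evaluation of the image of a mask under a table permutation, by three lookups in a table
of images of bytes, and words in generators acting through an abstract step function.
-/

set_option autoImplicit false

namespace Cfsg.Agent.Lib.Helper21

open Cfsg
open scoped Pointwise

/-- Image of a mask by three lookups in the table `P` of the images of bytes. -/
def fastG (P m : ℕ) : ℕ :=
  ((P >>> (24 * (m % 256))) % 2 ^ 24) ||| ((P >>> (24 * (256 + (m >>> 8) % 256))) % 2 ^ 24) |||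
    ((P >>> (24 * (512 + (m >>> 16)))) % 2 ^ 24)

/-- The mask with byte `i % 256` at byte position `i / 256`. -/
def byteMask (i : ℕ) : ℕ := (i % 256) <<< (8 * (i / 256))

/-- The table `P` lists the images of the byte masks under the table permutation. -/
def FastOK (P TI : ℕ) : Prop := ∀ i < 768, (P >>> (24 * i)) % 2 ^ 24 = gatherMask TI (byteMask i)

instance (P TI : ℕ) : Decidable (FastOK P TI) := by
  unfold FastOK
  infer_instance

theorem testBit_gatherMask (TI m j : ℕ) :
    (gatherMask TI m).testBit j = (decide (j < 24) && m.testBit (tabGet TI j)) := by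
  unfold gatherMask
  by_cases hj : j < 24
  · rw [Nat.testBit_ofBits_lt _ _ hj]
    simp [hj]
  · rw [Nat.testBit_lt_two_pow (lt_of_lt_of_le (Nat.ofBits_lt_two_pow _)
      (Nat.pow_le_pow_right (by norm_num) (not_lt.1 hj)))]
    simp [hj]

theorem gatherMask_or (TI a b : ℕ) :
    gatherMask TI (a ||| b) = gatherMask TI a ||| gatherMask TI b := by
  apply Nat.eq_of_testBit_eq
  intro j
  rw [Nat.testBit_or, testBit_gatherMask, testBit_gatherMask, testBit_gatherMask, Nat.testBit_or,
    Bool.and_or_distrib_left]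

theorem split3 (m : ℕ) :
    m = (m % 256) ||| (((m >>> 8) % 256) <<< 8) ||| ((m >>> 16) <<< 16) := by
  apply Nat.eq_of_testBit_eq
  intro i
  rw [Nat.testBit_or, Nat.testBit_or, Nat.testBit_shiftLeft, Nat.testBit_shiftLeft,
    show (256 : ℕ) = 2 ^ 8 by norm_num, Nat.testBit_mod_two_pow, Nat.testBit_mod_two_pow,
    Nat.testBit_shiftRight, Nat.testBit_shiftRight]
  by_cases h8 : i < 8
  · simp [h8, Nat.not_le.2 h8, Nat.not_le.2 (lt_trans h8 (by norm_num : 8 < 16))]
  · rw [not_lt] at h8
    by_cases h16 : i < 16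
    · have e : 8 + (i - 8) = i := by omega
      have h1 : i - 8 < 8 := by omega
      simp [Nat.not_lt.2 h8, h8, Nat.not_le.2 h16, e, h1]
    · rw [not_lt] at h16
      have e : 16 + (i - 16) = i := by omega
      have h1 : ¬ i - 8 < 8 := by omega
      have h2 : ¬ i < 8 := by omega
      simp [h2, h8, h16, e, h1]

theorem fastG_eq {P TI : ℕ} (h : FastOK P TI) (m : ℕ) (hm : m < 2 ^ 24) :
    fastG P m = gatherMask TI m := by
  have h0 : m % 256 < 768 := by omega
  have h1 : 256 + (m >>> 8) % 256 < 768 := by omega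
  have h2 : 512 + (m >>> 16) < 768 := by
    rw [Nat.shiftRight_eq_div_pow]
    norm_num at hm ⊢
    omega
  have b0 : byteMask (m % 256) = m % 256 := by
    unfold byteMask
    rw [Nat.mod_mod, Nat.div_eq_of_lt (Nat.mod_lt _ (by norm_num))]
    rfl
  have b1 : byteMask (256 + (m >>> 8) % 256) = ((m >>> 8) % 256) <<< 8 := by
    unfold byteMask
    have e1 : (256 + (m >>> 8) % 256) % 256 = (m >>> 8) % 256 := by omega
    have e2 : (256 + (m >>> 8) % 256) / 256 = 1 := by omega
    rw [e1, e2]
  have b2 : byteMask (512 + (m >>> 16)) = (m >>> 16) <<< 16 := by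
    unfold byteMask
    have hlt : m >>> 16 < 256 := by omega
    have e1 : (512 + (m >>> 16)) % 256 = m >>> 16 := by omega
    have e2 : (512 + (m >>> 16)) / 256 = 2 := by omega
    rw [e1, e2]
  unfold fastG
  rw [h _ h0, h _ h1, h _ h2, b0, b1, b2, ← gatherMask_or, ← gatherMask_or, ← split3]

/-- The image of a mask under a word in generators acting by `step`. -/
def runWordS (step : ℕ → ℕ → ℕ) (k : ℕ) : ℕ → ℕ → ℕ → ℕ
  | 0, _, m => m
  | f + 1, w, m => if w ≤ 1 then m else runWordS step k f (w / k) (step (w % k) m)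

theorem runWordS_spec (H : Subgroup (Equiv.Perm GolayPt)) (gen : ℕ → Equiv.Perm GolayPt)
    (step : ℕ → ℕ → ℕ) (hgen : ∀ j, gen j ∈ H ∧ ∀ s, fsMask (gen j • s) = step j (fsMask s))
    (k f w : ℕ) :
    ∃ g ∈ H, ∀ s : Finset GolayPt, fsMask (g • s) = runWordS step k f w (fsMask s) := by
  induction f generalizing w with
  | zero => exact ⟨1, H.one_mem, fun s => by rw [one_smul]; rfl⟩
  | succ f ih =>
    by_cases hw : w ≤ 1
    · refine ⟨1, H.one_mem, fun s => ?_⟩
      rw [one_smul, runWordS, if_pos hw]
    · obtain ⟨g, hg, e⟩ := ih (w / k)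
      refine ⟨g * gen (w % k), H.mul_mem hg (hgen _).1, fun s => ?_⟩
      rw [runWordS, if_neg hw, mul_smul, e, (hgen _).2]

/-- The action of a table permutation on masks through the fast table. -/
theorem fsMask_smul_fast (T TI : ℕ) (h : TabInv T TI) {P : ℕ} (hP : FastOK P TI)
    (s : Finset GolayPt) : fsMask (permOfTab T TI h • s) = fastG P (fsMask s) := by
  rw [fsMask_smul, fastG_eq hP _ (fsMask_lt s)]

end Cfsg.Agent.Lib.Helper21
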