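import Cfsg.Agent.Lib.Helper21.GolayTrans5

/-!
`Cfsg.M24` is generated by the four permutations `genPerm` (sifting along the stabiliser chain).
-/

set_option autoImplicit false

namespace Cfsg.Agent.Lib.Helper21

open Cfsg
open scoped Pointwise

/-- At a checked level, the image of position `k` under an element of the chain group is attained
by a word. -/
theorem level_word (k f : ℕ) (L : List ℕ) (lits : List (ℕ × Bool)) (E : ℕ) (hk : k < 24)
    (h : levelOk k f L lits E = true) (g : Equiv.Perm GolayPt) (hg : g ∈ chainSub k) :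
    ∃ w, wordPerm f w ∈ chainSub k ∧ wordPerm f w (ptN k) = g (ptN k) := by
  have hmem : g (ptN k) ∈ MulAction.orbit (chainSub k) (ptN k) := by
    rw [mem_orbit_subgroup_iff']
    exact ⟨g, hg, rfl⟩
  rw [level_orbit k f L lits E hk h, Finset.mem_coe] at hmem
  unfold levelOk at h
  simp only [Bool.and_eq_true, decide_eq_true_eq] at h
  obtain ⟨hL, himg, -⟩ := h
  rw [mem_maskFS, ← himg] at hmem
  obtain ⟨w, hw, e⟩ := exists_of_testBit_imgMask k f L _ hmem
  rw [List.all_eq_true] at hL
  refine ⟨w, wordPerm_mem_chainSub k f w (le_of_lt hk) (hL w hw), ?_⟩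
  rw [wordPerm_ptN _ _ _ hk, e, ptN_gEquiv]

/-- Every subgroup containing the four generators contains the chain groups. -/
theorem chainSub_le_of_gens (K : Subgroup (Equiv.Perm GolayPt)) (hK : ∀ j, genPerm j ∈ K) :
    ∀ d k, k + d = 7 → chainSub k ≤ K := by
  intro d
  induction d with
  | zero =>
    intro k hk
    have : k = 7 := by omega
    subst this
    rw [chainSub_seven]
    exact bot_le
  | succ d ih =>
    intro k hk g hg
    obtain ⟨w, hw, e⟩ := level_word k 32 _ _ _ (by omega) (chain_ok k (by omega)) g hg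
    have h1 : (wordPerm 32 w)⁻¹ * g ∈ chainSub (k + 1) := by
      rw [chainSub_succ, Subgroup.mem_inf, MulAction.mem_stabilizer_iff]
      refine ⟨(chainSub k).mul_mem ((chainSub k).inv_mem hw) hg, ?_⟩
      rw [smul_perm_point, Equiv.Perm.mul_apply, ← e, perm_inv_apply]
    have h2 := ih (k + 1) (by omega) h1
    have h3 : g = wordPerm 32 w * ((wordPerm 32 w)⁻¹ * g) := by group
    rw [h3]
    exact K.mul_mem (wordPerm_mem K hK 32 w) h2

theorem M24_le_of_gens (K : Subgroup (Equiv.Perm GolayPt)) (hK : ∀ j, genPerm j ∈ K) :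
    M24 ≤ K := by
  rw [← chainSub_zero]
  exact chainSub_le_of_gens K hK 7 0 (by norm_num)

/-- `M24` is generated by `x ↦ x + 1`, `x ↦ -1/x` and the cube twist. -/
theorem M24_eq_closure : Subgroup.closure
    ({Equiv.optionCongr (Equiv.addRight (1 : ZMod 23)), projInv, cubeTwist} :
      Set (Equiv.Perm GolayPt)) = M24 := by
  apply le_antisymm
  · rw [Subgroup.closure_le]
    intro g hg
    rcases hg with rfl | rfl | rfl
    · exact genPerm_mem 0
    · exact genPerm_mem 2
    · exact genPerm_mem 3
  · exact M24_le_of_gens _ genPerm_mem_closure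

end Cfsg.Agent.Lib.Helper21
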