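import Cfsg.Agent.Lib.Helper21.GolayFacts

/-!
Membership of permutations in `Cfsg.M24`: it suffices that the inverse permutation maps the
generating words of the code into the code.
-/

set_option autoImplicit false

namespace Cfsg.Agent.Lib.Helper21

open Cfsg
open scoped Pointwise

/-- Precomposition with a permutation, as a linear map on binary words. -/
def precomp (g : Equiv.Perm GolayPt) : (GolayPt → ZMod 2) →ₗ[ZMod 2] (GolayPt → ZMod 2) where
  toFun w := fun p => w (g p)
  map_add' _ _ := rfl
  map_smul' _ _ := rfl

theorem precomp_apply (g : Equiv.Perm GolayPt) (w : GolayPt → ZMod 2) (p : GolayPt) :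
    precomp g w p = w (g p) := rfl

theorem mem_support₂ (w : GolayPt → ZMod 2) (p : GolayPt) : p ∈ support₂ w ↔ w p ≠ 0 := by
  unfold support₂
  rw [Finset.mem_filter]
  simp

theorem support₂_precomp (g : Equiv.Perm GolayPt) (w : GolayPt → ZMod 2) :
    support₂ (precomp g w) = g⁻¹ • support₂ w := by
  ext p
  rw [Finset.mem_smul_finset, mem_support₂, precomp_apply]
  constructor
  · intro h
    exact ⟨g p, (mem_support₂ _ _).2 h, by simp⟩
  · rintro ⟨q, hq, rfl⟩
    have hq' : w q ≠ 0 := (mem_support₂ _ _).1 hq
    simpa using hq'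

/-- If precomposition with `g` maps the generators of the code into the code, it maps the code
into itself. -/
theorem precomp_mem (g : Equiv.Perm GolayPt) (h : ∀ t : ZMod 23, precomp g (qrWord t) ∈ golayCode)
    (w : GolayPt → ZMod 2) (hw : w ∈ golayCode) : precomp g w ∈ golayCode := by
  have hle : golayCode ≤ golayCode.comap (precomp g) := by
    unfold golayCode
    rw [Submodule.span_le]
    rintro x (⟨t, rfl⟩ | hx)
    · exact h t
    · rw [Set.mem_singleton_iff] at hx
      rw [hx]
      show precomp g 1 ∈ Submodule.span (ZMod 2) (Set.range qrWord ∪ {1})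
      have : precomp g 1 = 1 := rfl
      rw [this]
      exact Submodule.subset_span (Or.inr rfl)
  exact hle hw

theorem supports_finite : (supports (golayCode : Set (GolayPt → ZMod 2))).Finite :=
  Set.toFinite _

/-- Membership criterion for `M24`: precomposition with `g` preserves the code on generators. -/
theorem inv_mem_M24_of_gens (g : Equiv.Perm GolayPt)
    (h : ∀ t : ZMod 23, precomp g (qrWord t) ∈ golayCode) : g⁻¹ ∈ M24 := by
  rw [MulAction.mem_stabilizer_iff]
  have hsub : g⁻¹ • supports (golayCode : Set (GolayPt → ZMod 2)) ⊆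
      supports (golayCode : Set (GolayPt → ZMod 2)) := by
    rintro b ⟨b', ⟨w, hw, rfl⟩, rfl⟩
    refine ⟨precomp g w, precomp_mem g h w hw, ?_⟩
    rw [support₂_precomp]
  apply Set.eq_of_subset_of_ncard_le hsub _ supports_finite
  rw [Set.ncard_smul_set]

theorem mem_M24_of_gens (g : Equiv.Perm GolayPt)
    (h : ∀ t : ZMod 23, precomp g (qrWord t) ∈ golayCode) : g ∈ M24 := by
  have := M24.inv_mem (inv_mem_M24_of_gens g h)
  simpa using this

/-- Mask form of the criterion, suitable for kernel evaluation. -/
theorem mem_M24_of_masks (g : Equiv.Perm GolayPt)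
    (h : ∀ t : ZMod 23, encMask (toMask (precomp g (qrWord t)) % 4096) = toMask (precomp g (qrWord t))) :
    g ∈ M24 :=
  mem_M24_of_gens g (fun t => (mem_golayCode_iff _).2 (h t))

/-- Elements of `M24` preserve the code (word form). -/
theorem precomp_mem_of_mem_M24 (g : Equiv.Perm GolayPt) (hg : g ∈ M24) (w : GolayPt → ZMod 2)
    (hw : w ∈ golayCode) : precomp g w ∈ golayCode := by
  have hg' : g⁻¹ ∈ M24 := M24.inv_mem hg
  rw [MulAction.mem_stabilizer_iff] at hg'
  have : support₂ (precomp g w) ∈ supports (golayCode : Set (GolayPt → ZMod 2)) := by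
    rw [support₂_precomp, ← hg']
    exact Set.smul_mem_smul_set ⟨w, hw, rfl⟩
  obtain ⟨w', hw', e⟩ := this
  rw [← support₂_injective e]
  exact hw'

end Cfsg.Agent.Lib.Helper21
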