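import Cfsg.Agent.Lib.Helper21.GolaySix

/-!
Six-point sets under `Cfsg.M24`: the stabiliser induces the full symmetric group; the pointwise
stabiliser has order `16` for a subset of an octad and order `3` otherwise.
-/

set_option autoImplicit false

namespace Cfsg.Agent.Lib.Helper21

open Cfsg
open scoped Pointwise

theorem card_fixing_subtype (s : Finset GolayPt) :
    Nat.card {g : Equiv.Perm GolayPt // g ∈ M24 ∧ ∀ p ∈ s, g p = p}
      = Nat.card ↥(M24 ⊓ fixingSubgroup (Equiv.Perm GolayPt) (s : Set GolayPt)) := by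
  apply Nat.card_congr
  apply Equiv.subtypeEquivRight
  intro g
  rw [Subgroup.mem_inf, mem_fixing_iff]

/-- Every permutation of a six-point set is induced by an element of `M24`. -/
theorem hexad_induced (E : Finset GolayPt) (hE : E.card = 6) (σ : Equiv.Perm ↥E) :
    ∃ g ∈ M24, ∀ p : ↥E, g p = σ p := by
  let f : GolayPt → GolayPt := fun p => if h : p ∈ E then (σ ⟨p, h⟩ : GolayPt) else p
  have hf : ∀ p (h : p ∈ E), f p = (σ ⟨p, h⟩ : GolayPt) := fun p h => by
    simp only [f, dif_pos h]
  have hinj : Set.InjOn f (E : Set GolayPt) := by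
    intro p hp q hq hpq
    rw [Finset.mem_coe] at hp hq
    rw [hf p hp, hf q hq] at hpq
    have := σ.injective (Subtype.ext hpq)
    exact Subtype.mk.inj this
  have himg : E.image f = E := by
    apply Finset.eq_of_subset_of_card_le
    · intro q hq
      obtain ⟨p, hp, rfl⟩ := Finset.mem_image.1 hq
      rw [hf p hp]
      exact (σ ⟨p, hp⟩).2
    · rw [Finset.card_image_of_injOn hinj]
  obtain ⟨g, hg, hgf⟩ := M24_eqOn_six E hE f hinj (by rw [himg])
  refine ⟨g, hg, fun p => ?_⟩
  rw [hgf p p.2, hf p p.2]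

/-- An element of `M24` fixing six points of an octad fixes all its points. -/
theorem fix_octad_of_fix_six (o : Finset GolayPt) (ho : o ∈ octads) (E : Finset GolayPt)
    (hE : E.card = 6) (hEo : E ⊆ o) (g : Equiv.Perm GolayPt) (hg : g ∈ M24)
    (hgE : ∀ p ∈ E, g p = p) : ∀ p ∈ o, g p = p := by
  have hgo : g • o = o := smul_octad_eq_of_fixed hg ho E hgE (by
    rw [Finset.inter_eq_right.2 hEo, hE]
    norm_num)
  let g' : octStab o := ⟨g, Subgroup.mem_inf.2 ⟨hg, MulAction.mem_stabilizer_iff.2 hgo⟩⟩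
  have halt : octRestrict o g' ∈ alternatingGroup ↥o := by
    rw [← octRestrict_range o ho]
    exact ⟨g', rfl⟩
  have hres : ∀ x : ↥o, ((octRestrict o g' x : ↥o) : GolayPt) = g x := fun _ => rfl
  by_contra hcon
  simp only [not_forall] at hcon
  obtain ⟨a, hao, hga⟩ := hcon
  have hga : g a ≠ a := hga
  have haE : a ∉ E := fun h => hga (hgE a h)
  -- the two points of `o` outside `E`
  have hc2 : (o \ E).card = 2 := by
    rw [Finset.card_sdiff_of_subset hEo, octad_card o ho, hE]
  obtain ⟨u, v, huv, huvE⟩ := Finset.card_eq_two.1 hc2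
  have hmem : ∀ p, p ∈ o → p ∉ E → p = u ∨ p = v := by
    intro p hp hpE
    have : p ∈ o \ E := Finset.mem_sdiff.2 ⟨hp, hpE⟩
    rw [huvE] at this
    simpa using this
  have hgaE : g a ∉ E := by
    intro h
    have := hgE _ h
    exact hga (g.injective this)
  have hgao : g a ∈ o := (apply_mem_iff_of_smul_eq hgo a).2 hao
  -- `g` swaps the two points
  have hswap : ∃ b, b ∈ o ∧ b ≠ a ∧ g a = b ∧ g b = a ∧ ∀ p ∈ o, p ≠ a → p ≠ b → g p = p := by
    refine ⟨g a, hgao, hga, rfl, ?_, ?_⟩
    · have hgga : g (g a) ∈ o := (apply_mem_iff_of_smul_eq hgo _).2 hgao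
      have hggaE : g (g a) ∉ E := by
        intro h
        have := hgE _ h
        exact hgaE (g.injective this ▸ h)
      rcases hmem a hao haE with ha | ha <;> rcases hmem _ hgao hgaE with hb | hb <;>
        rcases hmem _ hgga hggaE with hc | hc
      all_goals first
        | exact absurd (ha.trans hb.symm).symm hga
        | (exfalso; exact hga (g.injective (hc.trans hb.symm)))
        | exact hc.trans ha.symm
    · intro p hp hpa hpb
      by_contra hgp
      have hpE : p ∉ E := fun h => hgp (hgE p h)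
      rcases hmem a hao haE with ha | ha <;> rcases hmem _ hgao hgaE with hb | hb <;>
        rcases hmem p hp hpE with hc | hc
      all_goals first
        | exact absurd (ha.trans hb.symm).symm hga
        | exact hpa (hc.trans ha.symm)
        | exact hpb (hc.trans hb.symm)
  obtain ⟨b, hbo, hba, hgab, hgba, hrest⟩ := hswap
  have heq : octRestrict o g' = Equiv.swap (⟨a, hao⟩ : ↥o) ⟨b, hbo⟩ := by
    refine Equiv.ext fun x => Subtype.ext ?_
    rw [hres]
    by_cases hxa : x = ⟨a, hao⟩
    · rw [hxa, Equiv.swap_apply_left]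
      exact hgab
    · by_cases hxb : x = ⟨b, hbo⟩
      · rw [hxb, Equiv.swap_apply_right]
        exact hgba
      · rw [Equiv.swap_apply_of_ne_of_ne hxa hxb]
        exact hrest x x.2 (fun h => hxa (Subtype.ext h)) (fun h => hxb (Subtype.ext h))
  rw [heq, Equiv.Perm.mem_alternatingGroup, Equiv.Perm.sign_swap
    (fun h => hba (Subtype.mk.inj h).symm)] at halt
  exact absurd halt (by decide)

/-- The pointwise stabiliser of six points of an octad has order `16`. -/
theorem card_fix_special_hexad (E : Finset GolayPt) (hE : E.card = 6)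
    (h : ∃ o ∈ octads, E ⊆ o) :
    Nat.card {g : Equiv.Perm GolayPt // g ∈ M24 ∧ ∀ p ∈ E, g p = p} = 16 := by
  obtain ⟨o, ho, hEo⟩ := h
  rw [← (octad_fixing o ho).1, ← card_fixing_subtype]
  apply Nat.card_congr
  apply Equiv.subtypeEquivRight
  intro g
  constructor
  · rintro ⟨hg, hgE⟩
    exact ⟨hg, fix_octad_of_fix_six o ho E hE hEo g hg hgE⟩
  · rintro ⟨hg, hgo⟩
    exact ⟨hg, fun p hp => hgo p (hEo hp)⟩

/-- The base six-point set: positions `0..5`. -/
def hex0 : Finset GolayPt := maskFS (2 ^ 6 - 1)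

theorem mem_hex0_iff (p : GolayPt) : p ∈ hex0 ↔ ((gEquiv p : Fin 24) : ℕ) < 6 := by
  unfold hex0
  rw [mem_maskFS, Nat.testBit_two_pow_sub_one, decide_eq_true_eq]

theorem chainSub_six_eq :
    chainSub 6 = M24 ⊓ fixingSubgroup (Equiv.Perm GolayPt) (hex0 : Set GolayPt) := by
  ext g
  rw [mem_chainSub, Subgroup.mem_inf, mem_fixing_iff]
  constructor
  · rintro ⟨hg, h⟩
    refine ⟨hg, fun p hp => ?_⟩
    rw [mem_hex0_iff] at hp
    have := h _ hp
    rwa [ptN_gEquiv] at this
  · rintro ⟨hg, h⟩
    refine ⟨hg, fun i hi => h _ ?_⟩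
    rw [mem_hex0_iff, gEquiv_ptN_val i (by omega)]
    exact hi

/-- The pointwise stabiliser of six points not in an octad has order `3`. -/
theorem card_fix_umbral_hexad (E : Finset GolayPt) (hE : E.card = 6)
    (h : ¬ ∃ o ∈ octads, E ⊆ o) :
    Nat.card {g : Equiv.Perm GolayPt // g ∈ M24 ∧ ∀ p ∈ E, g p = p} = 3 := by
  let e := E.equivFinOfCardEq hE
  let x : Fin 6 ↪ GolayPt := ⟨fun i => (e.symm i : GolayPt), fun i j h => by
    have := Subtype.ext h
    exact e.symm.injective this⟩
  have hxE : ∀ i, x i ∈ E := fun i => (e.symm i).2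
  have hEx : ∀ p ∈ E, ∃ i, x i = p := fun p hp => ⟨e ⟨p, hp⟩, by
    show ((e.symm (e ⟨p, hp⟩) : E) : GolayPt) = p
    rw [Equiv.symm_apply_apply]⟩
  obtain ⟨k, hk, hkx⟩ := exists_map_umbral x (by
    rintro ⟨o, ho, hxo⟩
    apply h
    refine ⟨o, ho, fun p hp => ?_⟩
    obtain ⟨i, rfl⟩ := hEx p hp
    exact hxo i)
  have hkE : k • hex0 = E := by
    apply Finset.eq_of_subset_of_card_le
    · intro p hp
      rw [← Finset.inv_smul_mem_iff, mem_hex0_iff] at hp
      have h1 := hkx ⟨_, hp⟩
      have h2 : ptN ((gEquiv (k⁻¹ • p) : Fin 24) : ℕ) = k⁻¹ • p := ptN_gEquiv _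
      have h3 : k (k⁻¹ • p) = p := k.apply_symm_apply p
      have h4 : k (ptN ((gEquiv (k⁻¹ • p) : Fin 24) : ℕ)) = x ⟨_, hp⟩ := h1
      rw [h2, h3] at h4
      rw [h4]
      exact hxE _
    · rw [Finset.card_smul_finset, hE]
      unfold hex0
      rw [card_maskFS _ (by norm_num)]
      decide +kernel
  rw [card_fixing_subtype, ← hkE, ← Nat.card_congr (fixConjEquiv k hk hex0), ← chainSub_six_eq,
    card_chainSub_six]

/-- The stabiliser of six points not in an octad has order `2160`. -/
theorem card_stab_umbral_hexad (E : Finset GolayPt) (hE : E.card = 6)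
    (h : ¬ ∃ o ∈ octads, E ⊆ o) : Nat.card ↥(MulAction.stabilizer M24 E) = 2160 := by
  have hker : Nat.card (octRestrict E).ker = 3 := by
    rw [Nat.card_congr (octKerEquiv E), ← card_fixing_subtype]
    exact card_fix_umbral_hexad E hE h
  have hsurj : (octRestrict E).range = ⊤ := by
    rw [eq_top_iff]
    intro σ _
    obtain ⟨g, hg, hgσ⟩ := hexad_induced E hE σ
    have hgE : g • E = E := by
      apply smul_eq_of_apply_mem_iff
      intro y
      constructor
      · intro hy
        by_contra hyE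
        -- `g` maps `E` onto `E`, so a point outside stays outside
        have hinj : (E.image g).card = E.card := Finset.card_image_of_injective _ g.injective
        have hsub : E.image g ⊆ E := by
          intro q hq
          obtain ⟨p, hp, rfl⟩ := Finset.mem_image.1 hq
          rw [hgσ ⟨p, hp⟩]
          exact (σ ⟨p, hp⟩).2
        have heq : E.image g = E := Finset.eq_of_subset_of_card_le hsub (le_of_eq hinj.symm)
        rw [← heq] at hy
        obtain ⟨p, hp, hpy⟩ := Finset.mem_image.1 hy
        exact hyE (g.injective hpy ▸ hp)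
      · intro hy
        rw [hgσ ⟨y, hy⟩]
        exact (σ ⟨y, hy⟩).2
    refine ⟨⟨g, Subgroup.mem_inf.2 ⟨hg, MulAction.mem_stabilizer_iff.2 hgE⟩⟩, ?_⟩
    refine Equiv.ext fun p => Subtype.ext ?_
    exact hgσ p
  have h1 := Subgroup.card_mul_index (octRestrict E).ker
  rw [Subgroup.index_ker, hker, hsurj, Subgroup.card_top, Nat.card_eq_fintype_card,
    Fintype.card_perm, Fintype.card_coe, hE] at h1
  rw [card_stabilizer_subgroup]
  show Nat.card (octStab E) = 2160
  rw [← h1]
  rfl

end Cfsg.Agent.Lib.Helper21
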