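import Cfsg.Agent.Lib.Helper21.GolayCosetStab
import Cfsg.Agent.Lib.Helper21.GolaySix
import Cfsg.Agent.Lib.Helper21.GolayTransitive
import Cfsg.Agent.Lib.Helper21.SteinerCounts
import Cfsg.Agent.Lib.Helper21.GolayDodecads

/-!
The subspaces of the space of all words of length 24 invariant under the group of the code.
-/

set_option autoImplicit false

namespace Cfsg.Agent.Lib.Helper21

open Cfsg
open scoped Pointwise

theorem precomp_inv_indW (σ : Equiv.Perm GolayPt) (S : Finset GolayPt) :
    precomp σ⁻¹ (indW S) = indW (σ • S) := by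
  apply support₂_injective
  rw [support₂_precomp_inv, support₂_indW, support₂_indW]

theorem indW_add (S T : Finset GolayPt) : indW S + indW T = indW (symmDiff S T) := by
  apply support₂_injective
  rw [support₂_add, support₂_indW, support₂_indW, support₂_indW]

/-- A code word fixed by the stabiliser lemma: for `u` in the code and `w` outside, some element
of `M24` fixes `u` and moves the coset of `w`. -/
theorem moving_codeword (u : GolayPt → ZMod 2) (hu : u ∈ golayCode) (w : GolayPt → ZMod 2)
    (hw : w ∉ golayCode) :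
    ∃ σ ∈ M24, precomp σ⁻¹ u = u ∧ precomp σ⁻¹ w - w ∉ golayCode := by
  classical
  rcases golay_weights u hu with h | h | h | h | h
  · obtain ⟨σ, hσ, hn⟩ := moving_univ w hw
    refine ⟨σ, hσ, fix_of_smul σ u ?_, hn⟩
    have h0 : support₂ u = ∅ := by rw [← Finset.card_eq_zero, card_support₂, h]
    rw [h0, Finset.smul_finset_empty]
  · have ho : support₂ u ∈ octads := (mem_octads_iff _).2 ⟨u, hu, rfl, by rw [card_support₂, h]⟩
    obtain ⟨σ, hσ, hσo, hn⟩ := moving_octad _ ho w hw
    exact ⟨σ, hσ, fix_of_smul σ u hσo, hn⟩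
  · have hd : support₂ u ∈ dodecads :=
      (mem_dodecads_iff _).2 ⟨u, hu, rfl, by rw [card_support₂, h]⟩
    obtain ⟨σ, hσ, hσo, hn⟩ := moving_dodecad _ hd w hw
    exact ⟨σ, hσ, fix_of_smul σ u hσo, hn⟩
  · have ho : (support₂ u)ᶜ ∈ octads := by
      refine (mem_octads_iff _).2 ⟨1 + u, golayCode.add_mem one_mem_golay hu,
        support₂_one_add u, ?_⟩
      rw [Finset.card_compl, card_support₂, h, card_golayPt]
    obtain ⟨σ, hσ, hσo, hn⟩ := moving_octad _ ho w hw
    rw [smul_finset_compl'] at hσo
    exact ⟨σ, hσ, fix_of_smul σ u (compl_injective hσo), hn⟩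
  · obtain ⟨σ, hσ, hn⟩ := moving_univ w hw
    refine ⟨σ, hσ, fix_of_smul σ u ?_, hn⟩
    have h0 : support₂ u = Finset.univ := by
      apply Finset.eq_univ_of_card
      rw [card_support₂, h, card_golayPt]
    rw [h0, Finset.smul_finset_univ]

section inv

variable (W : Submodule (ZMod 2) (GolayPt → ZMod 2))
  (hW : ∀ σ ∈ M24, ∀ w ∈ W, precomp σ⁻¹ w ∈ W)

include hW

theorem inv_symmDiff {S : Finset GolayPt} (hS : indW S ∈ W) {σ : Equiv.Perm GolayPt}
    (hσ : σ ∈ M24) : indW (symmDiff (σ • S) S) ∈ W := by
  rw [← indW_add, ← precomp_inv_indW]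
  exact W.add_mem (hW σ hσ _ hS) hS

omit hW in
theorem symmDiff_insert_erase {S : Finset GolayPt} {a b : GolayPt} (ha : a ∈ S) (hb : b ∉ S) :
    symmDiff (insert b (S.erase a)) S = {a, b} := by
  classical
  have hab : a ≠ b := fun h => hb (h ▸ ha)
  ext p
  simp only [Finset.mem_symmDiff, Finset.mem_insert, Finset.mem_erase, Finset.mem_singleton]
  by_cases hpa : p = a
  · subst hpa
    simp [ha, hab]
  · by_cases hpb : p = b
    · subst hpb
      simp [hb]
    · simp [hpa, hpb]

/-- From a word of weight between `1` and `6` in an invariant subspace we get one of weight `2`. -/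
theorem small_to_pair {S : Finset GolayPt} (hS : indW S ∈ W) (h1 : 1 ≤ S.card)
    (h6 : S.card ≤ 6) : ∃ a b : GolayPt, a ≠ b ∧ indW {a, b} ∈ W := by
  classical
  suffices h : ∃ a ∈ S, ∃ b, b ∉ S ∧ ∃ σ ∈ M24, σ • S = insert b (S.erase a) by
    obtain ⟨a, ha, b, hb, σ, hσ, e⟩ := h
    refine ⟨a, b, fun h => hb (h ▸ ha), ?_⟩
    have := inv_symmDiff W hW hS hσ
    rwa [e, symmDiff_insert_erase ha hb] at this
  have hcard : ∀ a ∈ S, ∀ b, b ∉ S → (insert b (S.erase a)).card = S.card := by
    intro a ha b hb
    rw [Finset.card_insert_of_notMem (fun h => hb (Finset.mem_of_mem_erase h)),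
      Finset.card_erase_of_mem ha]
    omega
  obtain ⟨a, ha⟩ := Finset.card_pos.1 h1
  by_cases h5 : S.card ≤ 5
  · obtain ⟨b, hb⟩ : ∃ b, b ∉ S := by
      by_contra hno
      push_neg at hno
      have : S = Finset.univ := Finset.eq_univ_iff_forall.2 hno
      rw [this, Finset.card_univ, card_golayPt] at h6
      omega
    obtain ⟨σ, hσ, e⟩ := M24_one_set S (insert b (S.erase a)) h5 (hcard a ha b hb).symm
    exact ⟨a, ha, b, hb, σ, hσ, e⟩
  · have hS6 : S.card = 6 := by omega
    by_cases hsp : ∃ o ∈ octads, S ⊆ o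
    · obtain ⟨o, ho, hSo⟩ := hsp
      obtain ⟨b, hbo, hbS⟩ : ∃ b ∈ o, b ∉ S := by
        by_contra hno
        push_neg at hno
        have hle := Finset.card_le_card (show o ⊆ S from hno)
        rw [octad_card o ho] at hle
        omega
      have hsub : insert b (S.erase a) ⊆ o := by
        intro x hx
        rcases Finset.mem_insert.1 hx with rfl | hx
        · exact hbo
        · exact hSo (Finset.mem_of_mem_erase hx)
      obtain ⟨σ, hσ, e, -⟩ := M24_two_sets_six S S (insert b (S.erase a)) (insert b (S.erase a))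
        (by rw [Finset.union_self]; exact hS6) (hcard a ha b hbS).symm (hcard a ha b hbS).symm
        (by rw [Finset.inter_self, Finset.inter_self]; exact (hcard a ha b hbS).symm)
        (by
          rw [Finset.union_self, Finset.union_self]
          exact ⟨fun _ => ⟨o, ho, hsub⟩, fun _ => ⟨o, ho, hSo⟩⟩)
      exact ⟨a, ha, b, hbS, σ, hσ, e⟩
    · have h5' : (S.erase a).card = 5 := by rw [Finset.card_erase_of_mem ha, hS6]
      obtain ⟨o, ⟨ho, hso⟩, huniq⟩ := octads_steiner.2 (S.erase a) h5'
      have hao : a ∉ o := by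
        intro hao
        apply hsp
        refine ⟨o, ho, fun x hx => ?_⟩
        by_cases hxa : x = a
        · rw [hxa]; exact hao
        · exact hso (Finset.mem_erase.2 ⟨hxa, hx⟩)
      obtain ⟨b, hbo, hba⟩ : ∃ b, b ∉ o ∧ b ≠ a := by
        by_contra hno
        push_neg at hno
        have hsub : (Finset.univ : Finset GolayPt) ⊆ insert a o := by
          intro x _
          by_cases hx : x ∈ o
          · exact Finset.mem_insert_of_mem hx
          · rw [hno x hx]; exact Finset.mem_insert_self _ _
        have hle := Finset.card_le_card hsub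
        rw [Finset.card_univ, card_golayPt, Finset.card_insert_of_notMem hao,
          octad_card o ho] at hle
        omega
      have hbS : b ∉ S := by
        intro hbS
        exact hbo (hso (Finset.mem_erase.2 ⟨hba, hbS⟩))
      obtain ⟨σ, hσ, e, -⟩ := M24_two_sets_six S S (insert b (S.erase a)) (insert b (S.erase a))
        (by rw [Finset.union_self]; exact hS6) (hcard a ha b hbS).symm (hcard a ha b hbS).symm
        (by rw [Finset.inter_self, Finset.inter_self]; exact (hcard a ha b hbS).symm)
        (by
          rw [Finset.union_self, Finset.union_self]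
          constructor
          · intro h; exact absurd h hsp
          · rintro ⟨o', ho', hsub⟩
            exfalso
            have ho'o : o' = o := huniq o' ⟨ho', fun x hx => hsub (Finset.mem_insert_of_mem hx)⟩
            rw [ho'o] at hsub
            exact hbo (hsub (Finset.mem_insert_self _ _)))
      exact ⟨a, ha, b, hbS, σ, hσ, e⟩

/-- From a word of weight `8` that is not an octad we get a non-zero word of weight at most
`6`. -/
theorem eight_to_small {S : Finset GolayPt} (hS : indW S ∈ W) (h8 : S.card = 8)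
    (hno : S ∉ octads) : ∃ S' : Finset GolayPt, indW S' ∈ W ∧ 1 ≤ S'.card ∧ S'.card ≤ 6 := by
  classical
  obtain ⟨F, hFS, hF5⟩ := Finset.exists_subset_card_eq (show 5 ≤ S.card by omega)
  obtain ⟨o, ⟨ho, hFo⟩, -⟩ := octads_steiner.2 F hF5
  have ho8 : o.card = 8 := octad_card o ho
  obtain ⟨a, haS, hao⟩ : ∃ a ∈ S, a ∉ o := by
    by_contra hcon
    push_neg at hcon
    have hSo : S = o := Finset.eq_of_subset_of_card_le hcon (by omega)
    exact hno (hSo ▸ ho)
  obtain ⟨b, hbo, hbS⟩ : ∃ b, b ∉ o ∧ b ∉ S := by
    by_contra hcon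
    push_neg at hcon
    have hsub : (Finset.univ : Finset GolayPt) ⊆ o ∪ S := by
      intro x _
      by_cases hx : x ∈ o
      · exact Finset.mem_union_left _ hx
      · exact Finset.mem_union_right _ (hcon x hx)
    have hle := Finset.card_le_card hsub
    have hun := Finset.card_union_le o S
    rw [Finset.card_univ, card_golayPt] at hle
    omega
  obtain ⟨t, ht, hto, htab⟩ := octad_fix_trans o ho a b hao hbo
  refine ⟨symmDiff (t • S) S, inv_symmDiff W hW hS ht, ?_, ?_⟩
  · apply Finset.card_pos.2
    refine ⟨b, ?_⟩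
    rw [Finset.mem_symmDiff]
    left
    refine ⟨?_, hbS⟩
    rw [← htab]
    exact Finset.smul_mem_smul_finset haS
  · have hF : F ⊆ t • S ∩ S := by
      intro x hx
      rw [Finset.mem_inter]
      refine ⟨?_, hFS hx⟩
      have hfx : t x = x := hto x (hFo hx)
      rw [← hfx]
      exact Finset.smul_mem_smul_finset (hFS hx)
    have hle := Finset.card_le_card hF
    have hsd := card_symmDiff_add (t • S) S
    rw [Finset.card_smul_finset] at hsd
    omega

/-- All words of weight `2` from one of them. -/
theorem pair_all {a b : GolayPt} (hab : a ≠ b) (h : indW {a, b} ∈ W) (a' b' : GolayPt)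
    (hab' : a' ≠ b') : indW {a', b'} ∈ W := by
  classical
  obtain ⟨σ, hσ, e⟩ := M24_one_set {a, b} {a', b'}
    (by rw [Finset.card_pair hab]; norm_num)
    (by rw [Finset.card_pair hab, Finset.card_pair hab'])
  have h' := hW σ hσ _ h
  rwa [precomp_inv_indW, e] at h'

omit hW in
/-- A subspace containing all words of weight `2` contains all words of even weight. -/
theorem even_mem_of_pairs (hp : ∀ a b : GolayPt, a ≠ b → indW {a, b} ∈ W) :
    ∀ n : ℕ, ∀ w : GolayPt → ZMod 2, (support₂ w).card = n → Even n → w ∈ W := by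
  classical
  intro n
  induction n using Nat.strong_induction_on with
  | _ n ih =>
    intro w hn he
    by_cases h0 : n = 0
    · rw [h0, Finset.card_eq_zero, support₂_eq_empty_iff] at hn
      rw [hn]
      exact W.zero_mem
    · obtain ⟨k, hk⟩ := he
      have h2 : 2 ≤ n := by omega
      obtain ⟨a, ha⟩ : (support₂ w).Nonempty := Finset.card_pos.1 (by omega)
      obtain ⟨b, hb, hba⟩ := Finset.exists_mem_ne (show 1 < (support₂ w).card by omega) a
      have hsub : ({a, b} : Finset GolayPt) ⊆ support₂ w := by
        intro x hx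
        rcases Finset.mem_insert.1 hx with rfl | hx
        · exact ha
        · rw [Finset.mem_singleton.1 hx]; exact hb
      have hsupp : support₂ (w + indW {a, b}) = support₂ w \ {a, b} := by
        rw [support₂_add, support₂_indW, symmDiff_def, Finset.sup_eq_union,
          Finset.sdiff_eq_empty_iff_subset.2 hsub, Finset.union_empty]
      have hcard : (support₂ (w + indW {a, b})).card = n - 2 := by
        rw [hsupp, Finset.card_sdiff_of_subset hsub, hn, Finset.card_pair hba.symm]
      have hmem := ih (n - 2) (by omega) (w + indW {a, b}) hcard ⟨k - 1, by omega⟩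
      have hw : w = (w + indW {a, b}) + indW {a, b} := by
        rw [add_assoc, zmod2_add_self, add_zero]
      rw [hw]
      exact W.add_mem hmem (hp a b hba.symm)

end inv

theorem sum_eq_card_support₂ (w : GolayPt → ZMod 2) :
    ∑ p, w p = ((support₂ w).card : ZMod 2) := by
  classical
  have h : ∀ p, w p = if w p ≠ 0 then (1 : ZMod 2) else 0 := by
    intro p
    rcases zmod2_cases (w p) with h | h <;> simp [h]
  rw [Finset.sum_congr rfl (fun p _ => h p), Finset.sum_boole]
  rfl

theorem sum_precomp (σ : Equiv.Perm GolayPt) (w : GolayPt → ZMod 2) :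
    ∑ p, precomp σ w p = ∑ p, w p :=
  Equiv.sum_comp σ w

theorem even_card_of_sum_zero (w : GolayPt → ZMod 2) (h : ∑ p, w p = 0) :
    Even (support₂ w).card := by
  rw [sum_eq_card_support₂] at h
  rw [even_iff_two_dvd]
  exact (ZMod.natCast_eq_zero_iff _ 2).1 h

theorem sum_zero_of_even_card (w : GolayPt → ZMod 2) (h : Even (support₂ w).card) :
    ∑ p, w p = 0 := by
  rw [sum_eq_card_support₂]
  rw [even_iff_two_dvd] at h
  exact (ZMod.natCast_eq_zero_iff _ 2).2 h

/-- An invariant subspace of the code with a word other than `0` and `1` is the code. -/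
theorem code_le_of_mem (W : Submodule (ZMod 2) (GolayPt → ZMod 2))
    (hW : ∀ σ ∈ M24, ∀ w ∈ W, precomp σ⁻¹ w ∈ W) (hle : W ≤ golayCode)
    (w : GolayPt → ZMod 2) (hw : w ∈ W) (h0 : w ≠ 0) (h1 : w ≠ 1) : golayCode ≤ W := by
  classical
  have hwC := hle hw
  -- it suffices to find `σ` with `|σ S Δ S| = 8`
  have key : ∀ σ ∈ M24, (symmDiff (σ • support₂ w) (support₂ w)).card = 8 → golayCode ≤ W := by
    intro σ hσ hc
    have hx : precomp σ⁻¹ w + w ∈ W := W.add_mem (hW σ hσ w hw) hw
    have hs : support₂ (precomp σ⁻¹ w + w) = symmDiff (σ • support₂ w) (support₂ w) := by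
      rw [support₂_add, support₂_precomp_inv]
    refine eq_code_of_octad_mem W hW _ hx ((mem_octads_iff _).2 ⟨_, hle hx, rfl, ?_⟩)
    rw [hs, hc]
  rcases golay_weights w hwC with h | h | h | h | h
  · exact absurd ((hammingNorm_eq_zero_iff' w).1 h) h0
  · exact eq_code_of_octad_mem W hW w hw ((mem_octads_iff _).2 ⟨w, hwC, rfl, by
      rw [card_support₂, h]⟩)
  · have hd : support₂ w ∈ dodecads :=
      (mem_dodecads_iff _).2 ⟨w, hwC, rfl, by rw [card_support₂, h]⟩
    have hcnt := dodecad_count_eight hd
    obtain ⟨d', hd'⟩ : ((blocksFinset dodecads).filter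
        (fun d' => (support₂ w ∩ d').card = 8)).Nonempty := by
      apply Finset.card_pos.1
      rw [hcnt]
      norm_num
    rw [Finset.mem_filter, mem_blocksFinset] at hd'
    obtain ⟨g, hg⟩ := dodecads_transitive (support₂ w) d' hd hd'.1
    have hg' : (g : Equiv.Perm GolayPt) • support₂ w = d' := hg
    refine key g g.2 ?_
    rw [hg']
    have hsd := card_symmDiff_add d' (support₂ w)
    rw [Finset.inter_comm, hd'.2, hd'.1.2, hd.2] at hsd
    omega
  · have ho : (support₂ w)ᶜ ∈ octads := by
      refine (mem_octads_iff _).2 ⟨1 + w, golayCode.add_mem one_mem_golay hwC,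
        support₂_one_add w, ?_⟩
      rw [Finset.card_compl, card_support₂, h, card_golayPt]
    obtain ⟨-, -, -, -, c4⟩ := interCounts_5_8_24 card_golayPt octads_steiner ho
    obtain ⟨o', ho'⟩ : ((((blocksFinset octads).erase (support₂ w)ᶜ)).filter
        (fun c => ((support₂ w)ᶜ ∩ c).card = 4)).Nonempty := by
      apply Finset.card_pos.1
      unfold interCount at c4
      rw [c4]
      norm_num
    rw [Finset.mem_filter, Finset.mem_erase, mem_blocksFinset] at ho'
    obtain ⟨g, hg⟩ := octads_transitive (support₂ w)ᶜ o' ho ho'.1.2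
    have hg' : (g : Equiv.Perm GolayPt) • (support₂ w)ᶜ = o' := hg
    refine key g g.2 ?_
    have e : (g : Equiv.Perm GolayPt) • support₂ w = o'ᶜ := by
      rw [← hg', smul_finset_compl', compl_compl]
    rw [e]
    have e2 : symmDiff o'ᶜ (support₂ w) = symmDiff o' (support₂ w)ᶜ := by
      rw [← compl_symmDiff_compl, compl_compl]
    rw [e2]
    have hsd := card_symmDiff_add o' (support₂ w)ᶜ
    rw [Finset.inter_comm, ho'.2, octad_card o' ho'.1.2, octad_card _ ho] at hsd
    omega
  · exact absurd (eq_one_of_weight w h) h1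

end Cfsg.Agent.Lib.Helper21
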