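import Cfsg.Agent.Lib.Helper21.GolayCore

/-!
Systematic encoder for `Cfsg.golayCode` on bit masks and the decidable membership criterion.
-/

set_option autoImplicit false

namespace Cfsg.Agent.Lib.Helper21

open Cfsg

/-- Rows of a systematic generator matrix (information bits `0..11`). -/
def basisMasks : List ℕ :=
  [0xc75001, 0x49f002, 0xd4b004, 0x6e3008, 0x9b3010, 0xb66020,
   0xecc040, 0x1ed080, 0x3da100, 0x7b4200, 0xb1d400, 0xe3a800]

/-- XOR of the rows selected by the bits of `c`. -/
def encAux : List ℕ → ℕ → ℕ
  | [], _ => 0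
  | b :: bs, c => (if c % 2 = 1 then b else 0) ^^^ encAux bs (c / 2)

/-- The systematic encoder on masks. -/
def encMask (c : ℕ) : ℕ := encAux basisMasks c

theorem encAux_xor (bs : List ℕ) (a b : ℕ) :
    encAux bs (a ^^^ b) = encAux bs a ^^^ encAux bs b := by
  induction bs generalizing a b with
  | nil => simp [encAux]
  | cons x xs ih =>
    simp only [encAux, Nat.xor_div_two, ih]
    have h : (if (a ^^^ b) % 2 = 1 then x else 0)
        = (if a % 2 = 1 then x else 0) ^^^ (if b % 2 = 1 then x else 0) := by
      rw [Nat.xor_mod_two_eq]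
      rcases Nat.mod_two_eq_zero_or_one a with ha | ha <;>
        rcases Nat.mod_two_eq_zero_or_one b with hb | hb <;>
        simp [Nat.add_mod, ha, hb]
    rw [h]
    ac_rfl

theorem encMask_xor (a b : ℕ) : encMask (a ^^^ b) = encMask a ^^^ encMask b :=
  encAux_xor _ _ _

theorem encAux_zero (bs : List ℕ) : encAux bs 0 = 0 := by
  induction bs with
  | nil => rfl
  | cons x xs ih => simp [encAux, ih]

theorem ofMask_encAux_mem (S : Submodule (ZMod 2) (GolayPt → ZMod 2)) (bs : List ℕ)
    (h : ∀ b ∈ bs, ofMask b ∈ S) (c : ℕ) : ofMask (encAux bs c) ∈ S := by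
  induction bs generalizing c with
  | nil => simp [encAux, ofMask_zero]
  | cons x xs ih =>
    rw [encAux, ofMask_xor]
    apply S.add_mem
    · split_ifs
      · exact h x (by simp)
      · rw [ofMask_zero]; exact S.zero_mem
    · exact ih (fun b hb => h b (by simp [hb])) _

theorem qrWord_mem (t : ZMod 23) : qrWord t ∈ golayCode :=
  Submodule.subset_span (Or.inl ⟨t, rfl⟩)

theorem one_mem_golay : (1 : GolayPt → ZMod 2) ∈ golayCode :=
  Submodule.subset_span (Or.inr rfl)

theorem basis_mem : ∀ b ∈ basisMasks, ofMask b ∈ golayCode := by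
  have e0 : ofMask 0xc75001 = qrWord 0 + qrWord 3 + qrWord 5 + qrWord 7 + qrWord 9 + qrWord 10 + 1 := by
    funext p; revert p; decide
  have e1 : ofMask 0x49f002 = qrWord 3 + qrWord 4 + qrWord 8 := by
    funext p; revert p; decide
  have e2 : ofMask 0xd4b004 = qrWord 0 + qrWord 3 + qrWord 4 + qrWord 7 + qrWord 10 + 1 := by
    funext p; revert p; decide
  have e3 : ofMask 0x6e3008 = qrWord 3 + qrWord 4 + qrWord 5 + qrWord 6 + qrWord 8 + qrWord 10 := by
    funext p; revert p; decide
  have e4 : ofMask 0x9b3010 = qrWord 1 + qrWord 3 + qrWord 4 + qrWord 5 + qrWord 7 + qrWord 9 + qrWord 10 + 1 := by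
    funext p; revert p; decide
  have e5 : ofMask 0xb66020 = qrWord 0 + qrWord 1 + qrWord 2 + qrWord 4 + qrWord 7 + qrWord 8 + qrWord 9 + qrWord 10 + 1 := by
    funext p; revert p; decide
  have e6 : ofMask 0xecc040 = qrWord 0 + qrWord 2 + qrWord 3 + qrWord 6 + qrWord 7 + qrWord 8 + qrWord 10 + 1 := by
    funext p; revert p; decide
  have e7 : ofMask 0x1ed080 = qrWord 4 + qrWord 6 + qrWord 7 + qrWord 8 + qrWord 9 + qrWord 10 := by
    funext p; revert p; decide
  have e8 : ofMask 0x3da100 = qrWord 0 + qrWord 1 + qrWord 6 + qrWord 8 + qrWord 10 := by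
    funext p; revert p; decide
  have e9 : ofMask 0x7b4200 = qrWord 0 + qrWord 2 + qrWord 5 + qrWord 6 := by
    funext p; revert p; decide
  have e10 : ofMask 0xb1d400 = qrWord 0 + qrWord 1 + qrWord 5 + qrWord 6 + qrWord 9 + qrWord 10 + 1 := by
    funext p; revert p; decide
  have e11 : ofMask 0xe3a800 = qrWord 0 + qrWord 2 + qrWord 5 + qrWord 9 + qrWord 10 + 1 := by
    funext p; revert p; decide
  intro b hb
  simp only [basisMasks, List.mem_cons, List.not_mem_nil, or_false] at hb
  have q := qrWord_mem
  have o := one_mem_golay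
  rcases hb with rfl | rfl | rfl | rfl | rfl | rfl | rfl | rfl | rfl | rfl | rfl | rfl
  · rw [e0]; repeat' apply Submodule.add_mem
    all_goals first | exact q _ | exact o
  · rw [e1]; repeat' apply Submodule.add_mem
    all_goals exact q _
  · rw [e2]; repeat' apply Submodule.add_mem
    all_goals first | exact q _ | exact o
  · rw [e3]; repeat' apply Submodule.add_mem
    all_goals exact q _
  · rw [e4]; repeat' apply Submodule.add_mem
    all_goals first | exact q _ | exact o
  · rw [e5]; repeat' apply Submodule.add_mem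
    all_goals first | exact q _ | exact o
  · rw [e6]; repeat' apply Submodule.add_mem
    all_goals first | exact q _ | exact o
  · rw [e7]; repeat' apply Submodule.add_mem
    all_goals exact q _
  · rw [e8]; repeat' apply Submodule.add_mem
    all_goals exact q _
  · rw [e9]; repeat' apply Submodule.add_mem
    all_goals exact q _
  · rw [e10]; repeat' apply Submodule.add_mem
    all_goals first | exact q _ | exact o
  · rw [e11]; repeat' apply Submodule.add_mem
    all_goals first | exact q _ | exact o

theorem word_mem (c : ℕ) : ofMask (encMask c) ∈ golayCode :=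
  ofMask_encAux_mem _ _ basis_mem c

/-- The membership test on masks. -/
def isCodeMask (m : ℕ) : Bool := encMask (m % 4096) == m

theorem gen_isCodeMask : ∀ t : ZMod 23, encMask (toMask (qrWord t) % 4096) = toMask (qrWord t) := by
  decide +kernel

theorem one_isCodeMask : encMask (toMask (1 : GolayPt → ZMod 2) % 4096) = toMask (1 : GolayPt → ZMod 2) := by
  decide +kernel

theorem mem_golayCode_iff (w : GolayPt → ZMod 2) :
    w ∈ golayCode ↔ encMask (toMask w % 4096) = toMask w := by
  constructor
  · intro hw
    unfold golayCode at hw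
    induction hw using Submodule.span_induction with
    | mem x hx =>
      rcases hx with ⟨t, rfl⟩ | hx
      · exact gen_isCodeMask t
      · rw [Set.mem_singleton_iff] at hx
        rw [hx]; exact one_isCodeMask
    | zero => rw [toMask_zero]; rfl
    | add x y _ _ hx hy =>
      rw [toMask_add, show (4096 : ℕ) = 2 ^ 12 by norm_num, Nat.xor_mod_two_pow, encMask_xor]
      rw [show (2 : ℕ) ^ 12 = 4096 by norm_num, hx, hy]
    | smul a x _ hx =>
      rcases zmod2_cases a with rfl | rfl
      · rw [zero_smul, toMask_zero]; rfl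
      · rw [one_smul]; exact hx
  · intro h
    rw [← ofMask_toMask w, ← h]
    exact word_mem _

/-- Two-level splitting of a bounded quantifier, to keep kernel evaluation shallow. -/
theorem forall_lt_4096 {Q : ℕ → Prop} (h : ∀ a < 64, ∀ b < 64, Q (64 * a + b)) :
    ∀ c < 4096, Q c := by
  intro c hc
  have := h (c / 64) (by omega) (c % 64) (by omega)
  rwa [Nat.div_add_mod] at this

theorem encMask_mod : ∀ c < 4096, encMask c % 4096 = c := by
  apply forall_lt_4096
  decide +kernel

theorem encMask_lt : ∀ c < 4096, encMask c < 2 ^ 24 := by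
  apply forall_lt_4096
  decide +kernel

theorem exists_code (w : GolayPt → ZMod 2) (hw : w ∈ golayCode) :
    ∃ c < 4096, toMask w = encMask c :=
  ⟨toMask w % 4096, Nat.mod_lt _ (by norm_num), ((mem_golayCode_iff w).1 hw).symm⟩

theorem toMask_word (c : ℕ) (hc : c < 4096) : toMask (ofMask (encMask c)) = encMask c :=
  toMask_ofMask _ (encMask_lt c hc)

/-- Transfer principle: a property of masks checked on all `4096` encoded masks holds for the
masks of all code words. -/
theorem forall_code {Q : ℕ → Prop} (h : ∀ c < 4096, Q (encMask c)) (w : GolayPt → ZMod 2)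
    (hw : w ∈ golayCode) : Q (toMask w) := by
  obtain ⟨c, hc, e⟩ := exists_code w hw
  rw [e]; exact h c hc

end Cfsg.Agent.Lib.Helper21
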