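import Cfsg.Agent.Lib.Helper21.GolayOctFix
import Cfsg.Agent.Lib.Helper21.GolayM12

/-!
The stabiliser of an octad in `Cfsg.M24` induces the alternating group on the octad.
-/

set_option autoImplicit false

namespace Cfsg.Agent.Lib.Helper21

open Cfsg
open scoped Pointwise

theorem apply_mem_iff_of_smul_eq {g : Equiv.Perm GolayPt} {o : Finset GolayPt} (h : g • o = o)
    (x : GolayPt) : g x ∈ o ↔ x ∈ o := by
  have h1 : g • x ∈ g • o ↔ x ∈ o := Finset.smul_mem_smul_finset_iff g
  rw [h] at h1
  exact h1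

theorem smul_eq_of_apply_mem_iff {g : Equiv.Perm GolayPt} {o : Finset GolayPt}
    (h : ∀ x, g x ∈ o ↔ x ∈ o) : g • o = o := by
  ext p
  rw [← Finset.inv_smul_mem_iff]
  have := h (g⁻¹ • p)
  rw [← this]
  have h2 : g (g⁻¹ • p) = p := g.apply_symm_apply p
  rw [h2]

/-- The stabiliser of `o` in `M24`, as a subgroup of the permutations. -/
def octStab (o : Finset GolayPt) : Subgroup (Equiv.Perm GolayPt) :=
  M24 ⊓ MulAction.stabilizer (Equiv.Perm GolayPt) o

theorem octStab_apply_mem_iff {o : Finset GolayPt} (g : octStab o) (x : GolayPt) :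
    (g : Equiv.Perm GolayPt) x ∈ o ↔ x ∈ o :=
  apply_mem_iff_of_smul_eq (Subgroup.mem_inf.1 g.2).2 x

/-- Restriction of the stabiliser of `o` to `o`. -/
def octRestrict (o : Finset GolayPt) : octStab o →* Equiv.Perm ↥o where
  toFun g := (g : Equiv.Perm GolayPt).subtypePerm (octStab_apply_mem_iff g)
  map_one' := by
    ext x
    rfl
  map_mul' g h := by
    ext x
    rfl

theorem card_octStab (o : Finset GolayPt) (ho : o ∈ octads) : Nat.card (octStab o) = 322560 := by
  unfold octStab
  rw [← card_stabilizer_subgroup]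
  exact card_stabilizer_octad o ho

/-- The kernel of the restriction is the pointwise stabiliser. -/
def octKerEquiv (o : Finset GolayPt) :
    ↥(octRestrict o).ker ≃ ↥(M24 ⊓ fixingSubgroup (Equiv.Perm GolayPt) (o : Set GolayPt)) where
  toFun g := ⟨((g : octStab o) : Equiv.Perm GolayPt), Subgroup.mem_inf.2
    ⟨(Subgroup.mem_inf.1 (g : octStab o).2).1, (mem_fixingSubgroup_iff _).2 (fun y hy => by
      have h1 : octRestrict o (g : octStab o) = 1 := g.2
      have h2 := congrArg (fun e : Equiv.Perm ↥o => ((e ⟨y, hy⟩ : ↥o) : GolayPt)) h1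
      exact h2)⟩⟩
  invFun g := ⟨⟨(g : Equiv.Perm GolayPt), Subgroup.mem_inf.2 ⟨(Subgroup.mem_inf.1 g.2).1, by
      rw [MulAction.mem_stabilizer_iff]
      apply smul_eq_of_apply_mem_iff
      intro x
      constructor
      · intro hx
        by_contra hxo
        have h1 := (mem_fixingSubgroup_iff _).1 (Subgroup.mem_inf.1 g.2).2 _ hx
        have h2 : (g : Equiv.Perm GolayPt) ((g : Equiv.Perm GolayPt) x) = (g : Equiv.Perm GolayPt) x := h1
        exact hxo ((g : Equiv.Perm GolayPt).injective h2 ▸ hx)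
      · intro hx
        have h1 : (g : Equiv.Perm GolayPt) x = x :=
          (mem_fixingSubgroup_iff _).1 (Subgroup.mem_inf.1 g.2).2 _ hx
        rw [h1]
        exact hx⟩⟩, by
    rw [MonoidHom.mem_ker]
    refine Equiv.ext fun x => Subtype.ext ?_
    have h1 : (g : Equiv.Perm GolayPt) x = x :=
      (mem_fixingSubgroup_iff _).1 (Subgroup.mem_inf.1 g.2).2 _ x.2
    exact h1⟩
  left_inv _ := rfl
  right_inv _ := rfl

theorem card_octRestrict_ker (o : Finset GolayPt) (ho : o ∈ octads) :
    Nat.card (octRestrict o).ker = 16 := by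
  rw [Nat.card_congr (octKerEquiv o)]
  exact (octad_fixing o ho).1

theorem card_octRestrict_range (o : Finset GolayPt) (ho : o ∈ octads) :
    Nat.card (octRestrict o).range = 20160 := by
  have h1 := Subgroup.card_mul_index (octRestrict o).ker
  rw [Subgroup.index_ker, card_octRestrict_ker o ho, card_octStab o ho] at h1
  omega

theorem octad_card (o : Finset GolayPt) (ho : o ∈ octads) : o.card = 8 := by
  obtain ⟨_, _, _, h⟩ := (mem_octads_iff o).1 ho
  exact h

/-- The stabiliser of an octad induces the alternating group on it. -/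
theorem octRestrict_range (o : Finset GolayPt) (ho : o ∈ octads) :
    (octRestrict o).range = alternatingGroup ↥o := by
  apply Equiv.Perm.eq_alternatingGroup_of_index_eq_two
  have h1 := Subgroup.card_mul_index (octRestrict o).range
  have h2 : Nat.card (Equiv.Perm ↥o) = 40320 := by
    rw [Nat.card_eq_fintype_card, Fintype.card_perm, Fintype.card_coe, octad_card o ho]
    rfl
  rw [card_octRestrict_range o ho, h2] at h1
  omega

theorem octad_induced (o : Finset GolayPt) (ho : o ∈ octads) :
    {e : Equiv.Perm ↥o | ∃ g : Equiv.Perm GolayPt, g ∈ M24 ∧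
      ∃ h : (∀ x, g x ∈ o ↔ x ∈ o), g.subtypePerm h = e}
      = (alternatingGroup ↥o : Set (Equiv.Perm ↥o)) := by
  rw [← octRestrict_range o ho]
  ext e
  simp only [Set.mem_setOf_eq, SetLike.mem_coe, MonoidHom.mem_range]
  constructor
  · rintro ⟨g, hg, h, rfl⟩
    exact ⟨⟨g, Subgroup.mem_inf.2 ⟨hg, MulAction.mem_stabilizer_iff.2
      (smul_eq_of_apply_mem_iff h)⟩⟩, rfl⟩
  · rintro ⟨g, rfl⟩
    exact ⟨g, (Subgroup.mem_inf.1 g.2).1, octStab_apply_mem_iff g, rfl⟩

end Cfsg.Agent.Lib.Helper21
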