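import Cfsg.Agent.Lib.Helper21.GolayCon

/-!
The elements of `Cfsg.M24` fixing every point of an octad: an elementary abelian group of
order `16`.
-/

set_option autoImplicit false

namespace Cfsg.Agent.Lib.Helper21

open Cfsg
open scoped Pointwise

/-- Positions of the octad through the positions `0..4`. -/
def oct0Fs : List ℕ := [0, 1, 2, 3, 4, 7, 10, 12]

/-- Words for the sixteen elements fixing the base octad pointwise. -/
def oct0Words : List ℕ := [1, 496018260965, 69486888973, 501167480, 85754016370, 8375436172,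
  290999923518, 73000750448, 5233604469, 429439532941, 5827360128, 324068538329, 19582369753,
  136582307324, 278358195826, 546367828597]

theorem oct0_ok : levelOkC 32 [] oct0Fs 5 oct0Words [] 0xFFEB60 = true := by decide +kernel

/-- Certificate: an element fixing the base octad and position `5` is trivial. -/
def oct0Cert : List (List (ℕ × Bool) × ℕ) :=
  [([(103, true), (46, false), (246, true)], 6),
  ([(309, true), (46, false), (422, true)], 8),
  ([(567, true), (46, false), (241, false)], 9),
  ([(2093, true), (46, false), (2228, true)], 11),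
  ([(57, true), (46, false), (172, true)], 13),
  ([(47, true), (46, false), (186, true)], 14),
  ([(58, true), (46, false), (103, true)], 15),
  ([(46, true), (47, false), (123, true)], 16),
  ([(47, true), (46, false), (58, true)], 17),
  ([(46, true), (47, false), (186, true)], 18),
  ([(58, true), (46, false), (171, true)], 19),
  ([(54, true), (46, false), (172, true)], 20),
  ([(54, true), (46, false), (163, true)], 21),
  ([(46, true), (47, false), (61, true)], 22),
  ([(47, true), (46, false), (54, true)], 23)]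

theorem oct0Cert_ok : runCert oct0Cert (posMask (5 :: oct0Fs)) = some 0xFFFFFF := by
  decide +kernel

theorem conSub_oct0_five : conSub [] (5 :: oct0Fs) = ⊥ := by
  rw [Subgroup.eq_bot_iff_forall]
  intro g hg
  exact eq_one_of_cert hg.1 oct0Cert _ (fixedM_posMask hg.2.2) oct0Cert_ok

theorem card_conSub_oct0 : Nat.card (conSub [] oct0Fs) = 16 := by
  rw [level_cardC 32 _ _ _ _ _ _ oct0_ok, conSub_oct0_five, Subgroup.card_bot]
  decide +kernel

theorem oct0Words_sq : ∀ w ∈ oct0Words, ∀ i : Fin 24,
    runWordP 32 w (runWordP 32 w i) = i := by decide +kernel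

theorem conSub_oct0_sq (g : Equiv.Perm GolayPt) (hg : g ∈ conSub [] oct0Fs) : g * g = 1 := by
  obtain ⟨w, hw, rfl⟩ := eq_word_of_levelC 32 _ _ _ _ _ _ oct0_ok conSub_oct0_five g hg
  refine Equiv.ext fun p => ?_
  rw [Equiv.Perm.mul_apply, Equiv.Perm.one_apply, ← ptN_gEquiv p,
    wordPerm_ptN _ _ _ (gEquiv p).isLt, wordPerm_ptN _ _ _ (runWordP_lt _ _ _ (gEquiv p).isLt),
    oct0Words_sq w hw (gEquiv p)]

/-- The base octad. -/
def oct0 : Finset GolayPt := maskFS 0x149F

theorem oct0_mem : oct0 ∈ octads := by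
  have hm : fsMask (support₂ (wordOf 1183)) = 0x149F := by
    rw [fsMask_wordOf 1183 (by norm_num)]
    decide +kernel
  have hfs : oct0 = support₂ (wordOf 1183) := by
    unfold oct0
    rw [← hm, maskFS_fsMask]
  rw [hfs, mem_octads_iff]
  refine ⟨wordOf 1183, wordOf_mem 1183, rfl, ?_⟩
  rw [card_eq_popc, hm]
  decide +kernel

theorem posMask_oct0Fs : posMask oct0Fs = 0x149F := by decide

theorem conSub_oct0_eq :
    conSub [] oct0Fs = M24 ⊓ fixingSubgroup (Equiv.Perm GolayPt) (oct0 : Set GolayPt) := by
  ext g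
  rw [mem_conSub, Subgroup.mem_inf, mem_fixingSubgroup_iff]
  constructor
  · intro h
    refine ⟨h.1, fun y hy => ?_⟩
    have := fixedM_posMask h.2.2
    rw [posMask_oct0Fs] at this
    exact this y hy
  · intro h
    refine ⟨h.1, fun D hD => absurd hD (List.not_mem_nil), fun i hi => ?_⟩
    apply h.2
    rw [Finset.mem_coe]
    unfold oct0
    rw [← posMask_oct0Fs, mem_maskFS, testBit_posMask]
    have hi24 : i < 24 := by
      revert i
      decide
    rw [gEquiv_ptN_val i hi24]
    exact hi

/-- Conjugation by `k` carries the pointwise stabiliser of `s` onto that of `k • s`. -/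
def fixConjEquiv (k : Equiv.Perm GolayPt) (hk : k ∈ M24) (s : Finset GolayPt) :
    ↥(M24 ⊓ fixingSubgroup (Equiv.Perm GolayPt) (s : Set GolayPt)) ≃
      ↥(M24 ⊓ fixingSubgroup (Equiv.Perm GolayPt) ((k • s : Finset GolayPt) : Set GolayPt)) where
  toFun g := ⟨k * g * k⁻¹, Subgroup.mem_inf.2
    ⟨M24.mul_mem (M24.mul_mem hk (Subgroup.mem_inf.1 g.2).1) (M24.inv_mem hk),
      (mem_fixingSubgroup_iff _).2 (fun y hy => by
        rw [Finset.mem_coe, ← Finset.inv_smul_mem_iff] at hy
        have := (mem_fixingSubgroup_iff _).1 (Subgroup.mem_inf.1 g.2).2 _ hy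
        rw [mul_smul, mul_smul, this, smul_inv_smul])⟩⟩
  invFun g := ⟨k⁻¹ * g * k, Subgroup.mem_inf.2
    ⟨M24.mul_mem (M24.mul_mem (M24.inv_mem hk) (Subgroup.mem_inf.1 g.2).1) hk,
      (mem_fixingSubgroup_iff _).2 (fun y hy => by
        have hy' : k • y ∈ ((k • s : Finset GolayPt) : Set GolayPt) :=
          Finset.smul_mem_smul_finset hy
        have := (mem_fixingSubgroup_iff _).1 (Subgroup.mem_inf.1 g.2).2 _ hy'
        rw [mul_smul, mul_smul, this, inv_smul_smul])⟩⟩
  left_inv g := by
    apply Subtype.ext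
    show k⁻¹ * (k * g * k⁻¹) * k = g
    group
  right_inv g := by
    apply Subtype.ext
    show k * (k⁻¹ * g * k) * k⁻¹ = g
    group

/-- The pointwise stabiliser of an octad in `M24` has order `16` and exponent `2`. -/
theorem octad_fixing (o : Finset GolayPt) (ho : o ∈ octads) :
    Nat.card ↥(M24 ⊓ fixingSubgroup (Equiv.Perm GolayPt) (o : Set GolayPt)) = 16 ∧
      ∀ g ∈ M24 ⊓ fixingSubgroup (Equiv.Perm GolayPt) (o : Set GolayPt), g * g = 1 := by
  obtain ⟨k, hk⟩ := octads_transitive oct0 o oct0_mem ho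
  have hk' : (k : Equiv.Perm GolayPt) • oct0 = o := hk
  rw [← hk']
  constructor
  · rw [← Nat.card_congr (fixConjEquiv k k.2 oct0), ← conSub_oct0_eq, card_conSub_oct0]
  · intro g hg
    have h1 : (k : Equiv.Perm GolayPt)⁻¹ * g * k ∈ conSub [] oct0Fs := by
      rw [conSub_oct0_eq]
      exact ((fixConjEquiv k k.2 oct0).symm ⟨g, hg⟩).2
    have h2 := conSub_oct0_sq _ h1
    have h4 : g * g = k * ((k : Equiv.Perm GolayPt)⁻¹ * g * k * ((k : Equiv.Perm GolayPt)⁻¹ * g * k))
        * (k : Equiv.Perm GolayPt)⁻¹ := by group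
    rw [h4, h2]
    group

end Cfsg.Agent.Lib.Helper21
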