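import Cfsg.Agent.Lib.Helper21.SteinerCounts

/-!
The binary code spanned by the blocks of an S(5,8,24): it is doubly even, has no words of weight 4,
and its words of weight 8 are blocks. Consequence: the symmetric difference of two blocks meeting
in four points is a block.
-/

set_option autoImplicit false

namespace Cfsg.Agent.Lib.Helper21

open Cfsg Finset

variable {α : Type*} [Fintype α] [DecidableEq α]

omit [Fintype α] in
theorem card_symmDiff_add (s t : Finset α) :
    (symmDiff s t).card + 2 * (s ∩ t).card = s.card + t.card := by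
  have h1 : (symmDiff s t).card = (s \ t).card + (t \ s).card := by
    rw [symmDiff_def, Finset.sup_eq_union, Finset.card_union_of_disjoint]
    exact disjoint_sdiff_sdiff
  have h2 := Finset.card_sdiff_add_card_inter s t
  have h3 := Finset.card_sdiff_add_card_inter t s
  rw [Finset.inter_comm] at h3
  omega

omit [Fintype α] in
theorem symmDiff_inter_right (s t c : Finset α) :
    symmDiff s t ∩ c = symmDiff (s ∩ c) (t ∩ c) := by
  ext x
  simp only [mem_inter, mem_symmDiff]
  tauto

/-- Sums (symmetric differences) of blocks. -/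
inductive BlockSum (B : Set (Finset α)) : Finset α → Prop
  | zero : BlockSum B ∅
  | add (b : Finset α) (hb : b ∈ B) (x : Finset α) (hx : BlockSum B x) : BlockSum B (symmDiff b x)

theorem blockSum_inter_even (hα : Fintype.card α = 24) {B : Set (Finset α)}
    (hB : IsSteinerSystem 5 8 B) {x : Finset α} (hx : BlockSum B x) {c : Finset α} (hc : c ∈ B) :
    Even (x ∩ c).card := by
  induction hx with
  | zero => simp
  | add b hb x _ ih =>
    rw [symmDiff_inter_right]
    have h := card_symmDiff_add (b ∩ c) (x ∩ c)
    have hbc : Even (b ∩ c).card := by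
      by_cases hne : b = c
      · rw [hne, inter_self, hB.1 c hc]; decide
      · rcases inter_5_8_24 hα hB hb hc hne with h0 | h0 | h0 <;> rw [h0] <;> decide
    rcases hbc with ⟨m, hm⟩
    rcases ih with ⟨n, hn⟩
    rw [Nat.even_iff]
    omega

theorem blockSum_card (hα : Fintype.card α = 24) {B : Set (Finset α)}
    (hB : IsSteinerSystem 5 8 B) {x : Finset α} (hx : BlockSum B x) : 4 ∣ x.card := by
  induction hx with
  | zero => simp
  | add b hb x hx ih =>
    have h := card_symmDiff_add b x
    have he := blockSum_inter_even hα hB hx hb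
    rw [inter_comm] at he
    rcases he with ⟨m, hm⟩
    rcases ih with ⟨n, hn⟩
    rw [hB.1 b hb] at h
    omega

theorem blockSum_card_ne_four (hα : Fintype.card α = 24) {B : Set (Finset α)}
    (hB : IsSteinerSystem 5 8 B) {x : Finset α} (hx : BlockSum B x) : x.card ≠ 4 := by
  classical
  intro h4
  obtain ⟨S, hSx, hS3⟩ := Finset.exists_subset_card_eq (show 3 ≤ x.card by omega)
  have l3 := (lam_5_8_24 hα hB S).2.2.2.1 hS3
  have l4 := (lam_5_8_24 hα hB x).2.2.2.2 h4
  have hsub : (blocksFinset B).filter (x ⊆ ·) ⊆ (blocksFinset B).filter (S ⊆ ·) := by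
    intro e he
    rw [mem_filter] at he ⊢
    exact ⟨he.1, hSx.trans he.2⟩
  have hne : (blocksFinset B).filter (x ⊆ ·) ≠ (blocksFinset B).filter (S ⊆ ·) := by
    intro h
    rw [h] at l4
    omega
  obtain ⟨e, heS, hex⟩ := Finset.exists_of_ssubset (Finset.ssubset_iff_subset_ne.2 ⟨hsub, hne⟩)
  rw [mem_filter, mem_blocksFinset] at heS
  rw [mem_filter, mem_blocksFinset] at hex
  have hnx : ¬ x ⊆ e := fun h => hex ⟨heS.1, h⟩
  have he := blockSum_inter_even hα hB hx heS.1
  have hge : 3 ≤ (x ∩ e).card := by
    rw [← hS3]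
    exact card_le_card (subset_inter hSx heS.2)
  have hlt : (x ∩ e).card < 4 := by
    rw [← h4]
    apply card_lt_card
    rw [Finset.ssubset_iff_subset_ne]
    refine ⟨inter_subset_left, ?_⟩
    intro h
    exact hnx (Finset.inter_eq_left.1 h)
  rcases he with ⟨m, hm⟩
  omega

/-- In an S(5,8,24) the symmetric difference of two blocks meeting in four points is a block. -/
theorem symmDiff_mem_5_8_24 (hα : Fintype.card α = 24) {B : Set (Finset α)}
    (hB : IsSteinerSystem 5 8 B) {b c : Finset α} (hb : b ∈ B) (hc : c ∈ B)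
    (h4 : (b ∩ c).card = 4) : symmDiff b c ∈ B := by
  have hu : BlockSum B (symmDiff b c) := by
    have := BlockSum.add b hb _ (BlockSum.add c hc _ BlockSum.zero)
    rw [← Finset.bot_eq_empty, symmDiff_bot] at this
    exact this
  have hucard : (symmDiff b c).card = 8 := by
    have := card_symmDiff_add b c
    rw [hB.1 b hb, hB.1 c hc, h4] at this
    omega
  obtain ⟨T, hTu, hT5⟩ := Finset.exists_subset_card_eq (show 5 ≤ (symmDiff b c).card by omega)
  obtain ⟨d, ⟨hdB, hTd⟩, _⟩ := hB.2 T hT5
  have hy : BlockSum B (symmDiff d (symmDiff b c)) := BlockSum.add d hdB _ hu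
  have hycard := card_symmDiff_add d (symmDiff b c)
  have hge : 5 ≤ (d ∩ symmDiff b c).card := by
    rw [← hT5]
    exact card_le_card (subset_inter hTd hTu)
  have hdiv := blockSum_card hα hB hy
  have hne4 := blockSum_card_ne_four hα hB hy
  rw [hB.1 d hdB, hucard] at hycard
  have h0 : (symmDiff d (symmDiff b c)).card = 0 := by
    rcases hdiv with ⟨m, hm⟩
    omega
  rw [card_eq_zero] at h0
  have : d = symmDiff b c := by
    have := symmDiff_eq_bot.1 h0
    exact this
  rw [← this]
  exact hdB

end Cfsg.Agent.Lib.Helper21
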