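import Cfsg.Agent.Lib.Helper21.GolayFacts
import Cfsg.Agent.Lib.Helper21.SteinerCode
import Cfsg.Prelude.Def_SporadicCombinatorics

/-!
Consequences for the octads of `Cfsg.golayCode` of the Steiner system counts.
-/

set_option autoImplicit false

namespace Cfsg.Agent.Lib.Helper21

open Cfsg Finset

theorem card_golayPt : Fintype.card GolayPt = 24 := by decide

theorem octads_inter {b c : Finset GolayPt} (hb : b ∈ octads) (hc : c ∈ octads) (hbc : b ≠ c) :
    (b ∩ c).card = 0 ∨ (b ∩ c).card = 2 ∨ (b ∩ c).card = 4 :=
  inter_5_8_24 card_golayPt octads_steiner hb hc hbc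

theorem octads_disjoint_count {b : Finset GolayPt} (hb : b ∈ octads) :
    {c : Finset GolayPt | c ∈ octads ∧ Disjoint b c}.ncard = 30 :=
  disjoint_count_5_8_24 card_golayPt octads_steiner hb

theorem octads_symmDiff {b c : Finset GolayPt} (hb : b ∈ octads) (hc : c ∈ octads)
    (h4 : (b ∩ c).card = 4) : symmDiff b c ∈ octads :=
  symmDiff_mem_5_8_24 card_golayPt octads_steiner hb hc h4

theorem support₂_one_add (v : GolayPt → ZMod 2) : support₂ (1 + v) = (support₂ v)ᶜ := by
  ext p
  simp only [support₂, Finset.mem_filter, Finset.mem_univ, true_and, Finset.mem_compl,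
    Pi.add_apply, Pi.one_apply]
  rcases zmod2_cases (v p) with h | h <;> simp [h]
  decide

/-- The complement of the union of two disjoint octads is an octad. -/
theorem octads_compl_union {o o' : Finset GolayPt} (ho : o ∈ octads) (ho' : o' ∈ octads)
    (hd : Disjoint o o') : (o ∪ o')ᶜ ∈ octads := by
  obtain ⟨v, hv, rfl, hc⟩ := (mem_octads_iff o).1 ho
  obtain ⟨v', hv', rfl, hc'⟩ := (mem_octads_iff o').1 ho'
  rw [mem_octads_iff]
  refine ⟨1 + (v + v'), golayCode.add_mem one_mem_golay (golayCode.add_mem hv hv'), ?_, ?_⟩
  · rw [support₂_one_add, support₂_add]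
    congr 1
    rw [symmDiff_def, Finset.sup_eq_union, Finset.sdiff_eq_self_of_disjoint hd,
      Finset.sdiff_eq_self_of_disjoint hd.symm]
  · rw [Finset.card_compl, Finset.card_union_of_disjoint hd, hc, hc', card_golayPt]

theorem octad_nonempty {o : Finset GolayPt} (ho : o ∈ octads) : o.Nonempty := by
  rw [← Finset.card_pos, ho.2]; norm_num

theorem octads_ne_of_disjoint {o o' : Finset GolayPt} (ho : o ∈ octads) (hd : Disjoint o o') :
    o ≠ o' := by
  rintro rfl
  rw [disjoint_self] at hd
  have := octad_nonempty ho
  rw [hd] at this
  simp at this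

/-- The number of trios. -/
theorem ncard_trios : trios.ncard = 3795 := by
  classical
  set O : Finset (Finset GolayPt) := blocksFinset octads with hO
  have hOmem : ∀ b, b ∈ O ↔ b ∈ octads := fun b => mem_blocksFinset
  have hOcard : O.card = 759 := by rw [hO, ← ncard_blocks, ncard_octads]
  -- ordered disjoint pairs
  set P : Finset (Finset GolayPt × Finset GolayPt) :=
    (O ×ˢ O).filter (fun p => Disjoint p.1 p.2) with hP
  have hPcard : P.card = 759 * 30 := by
    rw [hP, Finset.card_filter, Finset.sum_product]
    rw [Finset.sum_congr rfl (g := fun _ => 30)]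
    · rw [Finset.sum_const, hOcard, smul_eq_mul]
    · intro o ho
      rw [← Finset.card_filter, ← octads_disjoint_count ((hOmem o).1 ho), ncard_blocks_filter]
  -- the trios as a finset
  set T : Finset (Finset (Finset GolayPt)) := (Set.toFinite trios).toFinset with hT
  have hTmem : ∀ t, t ∈ T ↔ t ∈ trios := fun t => by simp [hT]
  have hTcard : trios.ncard = T.card := by
    rw [Set.ncard_eq_toFinset_card trios (Set.toFinite trios)]
  let φ : Finset GolayPt × Finset GolayPt → Finset (Finset GolayPt) :=
    fun p => {p.1, p.2, (p.1 ∪ p.2)ᶜ}
  have hφ : ∀ p ∈ P, φ p ∈ T := by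
    intro p hp
    rw [hP, Finset.mem_filter, Finset.mem_product] at hp
    obtain ⟨⟨h1, h2⟩, hd⟩ := hp
    have o1 := (hOmem _).1 h1
    have o2 := (hOmem _).1 h2
    have o3 := octads_compl_union o1 o2 hd
    have d13 : Disjoint p.1 (p.1 ∪ p.2)ᶜ :=
      Finset.disjoint_left.2 fun x hx hx' => (Finset.mem_compl.1 hx') (Finset.mem_union_left _ hx)
    have d23 : Disjoint p.2 (p.1 ∪ p.2)ᶜ :=
      Finset.disjoint_left.2 fun x hx hx' => (Finset.mem_compl.1 hx') (Finset.mem_union_right _ hx)
    have n12 := octads_ne_of_disjoint o1 hd
    have n13 := octads_ne_of_disjoint o1 d13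
    have n23 := octads_ne_of_disjoint o2 d23
    rw [hTmem]
    refine ⟨?_, ?_, ?_⟩
    · show ({p.1, p.2, (p.1 ∪ p.2)ᶜ} : Finset (Finset GolayPt)).card = 3
      rw [Finset.card_insert_of_notMem, Finset.card_insert_of_notMem, Finset.card_singleton]
      · simpa using n23
      · simp only [Finset.mem_insert, Finset.mem_singleton, not_or]
        exact ⟨n12, n13⟩
    · intro o ho
      simp only [φ, Finset.mem_insert, Finset.mem_singleton] at ho
      rcases ho with rfl | rfl | rfl <;> assumption
    · intro o ho o' ho' hne
      simp only [φ, Finset.mem_insert, Finset.mem_singleton] at ho ho'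
      rcases ho with rfl | rfl | rfl <;> rcases ho' with rfl | rfl | rfl <;>
        first | exact absurd rfl hne | assumption | exact Disjoint.symm (by assumption)
  have hfib : ∀ t ∈ T, (P.filter (fun p => φ p = t)).card = 6 := by
    intro t ht
    have ht' := (hTmem t).1 ht
    obtain ⟨hc3, hoct, hdis⟩ := ht'
    have : P.filter (fun p => φ p = t) = t.offDiag := by
      ext p
      rw [Finset.mem_filter, Finset.mem_offDiag]
      constructor
      · rintro ⟨hp, rfl⟩
        rw [hP, Finset.mem_filter, Finset.mem_product] at hp
        refine ⟨by simp [φ], by simp [φ], ?_⟩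
        exact octads_ne_of_disjoint ((hOmem _).1 hp.1.1) hp.2
      · rintro ⟨h1, h2, hne⟩
        have hd := hdis _ h1 _ h2 hne
        have o1 := hoct _ h1
        have o2 := hoct _ h2
        refine ⟨?_, ?_⟩
        · rw [hP, Finset.mem_filter, Finset.mem_product]
          exact ⟨⟨(hOmem _).2 o1, (hOmem _).2 o2⟩, hd⟩
        · -- the third member of t is the complement of the union
          have hsub : ({p.1, p.2} : Finset (Finset GolayPt)) ⊆ t := by
            intro x hx
            simp only [Finset.mem_insert, Finset.mem_singleton] at hx
            rcases hx with rfl | rfl <;> assumption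
          have hc2 : ({p.1, p.2} : Finset (Finset GolayPt)).card = 2 := Finset.card_pair hne
          obtain ⟨c, hct, hcn⟩ : ∃ c ∈ t, c ∉ ({p.1, p.2} : Finset (Finset GolayPt)) := by
            by_contra hcon
            push Not at hcon
            have : t ⊆ {p.1, p.2} := hcon
            have := Finset.card_le_card this
            omega
          simp only [Finset.mem_insert, Finset.mem_singleton, not_or] at hcn
          have d1 := hdis _ h1 _ hct (Ne.symm hcn.1)
          have d2 := hdis _ h2 _ hct (Ne.symm hcn.2)
          have hceq : c = (p.1 ∪ p.2)ᶜ := by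
            apply Finset.eq_of_subset_of_card_le
            · intro x hx
              rw [Finset.mem_compl, Finset.mem_union]
              rintro (hx1 | hx2)
              · exact (Finset.disjoint_left.1 d1 hx1) hx
              · exact (Finset.disjoint_left.1 d2 hx2) hx
            · rw [(octads_compl_union o1 o2 hd).2, (hoct _ hct).2]
          symm
          apply Finset.eq_of_subset_of_card_le
          · intro x hx
            simp only [φ, Finset.mem_insert, Finset.mem_singleton]
            by_cases hx1 : x = p.1
            · exact Or.inl hx1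
            by_cases hx2 : x = p.2
            · exact Or.inr (Or.inl hx2)
            right; right
            -- x is a third member, hence equals c
            by_contra hxc
            have hxc' : x ≠ c := by rw [hceq]; exact hxc
            have h4 : ({p.1, p.2, c, x} : Finset (Finset GolayPt)) ⊆ t := by
              intro y hy
              simp only [Finset.mem_insert, Finset.mem_singleton] at hy
              rcases hy with rfl | rfl | rfl | rfl <;> assumption
            have hc4 : ({p.1, p.2, c, x} : Finset (Finset GolayPt)).card = 4 := by
              rw [Finset.card_insert_of_notMem, Finset.card_insert_of_notMem,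
                Finset.card_insert_of_notMem, Finset.card_singleton]
              · simpa using Ne.symm hxc'
              · simp only [Finset.mem_insert, Finset.mem_singleton, not_or]
                exact ⟨Ne.symm hcn.2, Ne.symm hx2⟩
              · simp only [Finset.mem_insert, Finset.mem_singleton, not_or]
                exact ⟨hne, Ne.symm hcn.1, Ne.symm hx1⟩
            have := Finset.card_le_card h4
            omega
          · rw [hc3]
            have := hφ p (by
              rw [hP, Finset.mem_filter, Finset.mem_product]
              exact ⟨⟨(hOmem _).2 o1, (hOmem _).2 o2⟩, hd⟩)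
            rw [hTmem] at this
            rw [this.1]
    rw [this, Finset.offDiag_card, hc3]
  have hcount := Finset.card_eq_sum_card_fiberwise (f := φ) (s := P) (t := T) hφ
  rw [Finset.sum_congr rfl hfib, Finset.sum_const, smul_eq_mul, hPcard] at hcount
  rw [hTcard]
  omega

end Cfsg.Agent.Lib.Helper21
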