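import Cfsg.Agent.Lib.Helper21.Suborbit
import Cfsg.Agent.Lib.Helper21.GolayStab
import Cfsg.Agent.Lib.Helper21.GolaySteiner
import Cfsg.Agent.S1556

/-!
The stabiliser of an octad is a maximal subgroup of `Cfsg.M24`.
-/

set_option autoImplicit false

namespace Cfsg.Agent.Lib.Helper21

open Cfsg
open scoped Pointwise

theorem ncard_octad_class (o : Finset GolayPt) (ho : o ∈ octads) (i : ℕ) :
    {y | y ∈ MulAction.orbit M24 o ∧ y ≠ o ∧ (o ∩ y).card = i}.ncard = interCount octads o i := by
  classical
  unfold interCount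
  rw [← Set.ncard_coe_finset]
  congr 1
  ext y
  rw [orbit_octad o ho]
  simp only [Set.mem_setOf_eq, Finset.coe_filter, Finset.mem_erase, mem_blocksFinset]
  tauto

/-- The stabiliser of an octad is a maximal subgroup of `M24`. -/
theorem isCoatom_stabilizer_octad (o : Finset GolayPt) (ho : o ∈ octads) :
    IsCoatom (MulAction.stabilizer M24 o) := by
  obtain ⟨c0, -, c2, -, c4⟩ := interCounts_5_8_24 card_golayPt octads_steiner ho
  apply isCoatom_stabilizer_of_suborbits o (fun y => (o ∩ y).card) {0, 2, 4}
    (fun i => if i = 0 then 30 else if i = 2 then 448 else 280) 759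
  · rw [orbit_octad o ho, ncard_octads]
  · norm_num
  · intro y hy hne
    rw [orbit_octad o ho] at hy
    rcases octads_inter ho hy (Ne.symm hne) with h | h | h <;> simp [h]
  · intro i hi
    rw [ncard_octad_class o ho]
    simp only [Finset.mem_insert, Finset.mem_singleton] at hi
    rcases hi with rfl | rfl | rfl
    · simpa using c0
    · simpa using c2
    · simpa using c4
  · intro y hy y' hy' _ _ hc
    rw [orbit_octad o ho] at hy hy'
    obtain ⟨g, hg, hgo, hgy⟩ := Cfsg.Agent.S1556.result o y y' ho hy hy' hc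
    exact ⟨⟨g, hg⟩, hgo, hgy⟩
  · decide

end Cfsg.Agent.Lib.Helper21
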