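import Cfsg.Agent.Lib.Helper21.GolayTrioOrb

/-!
The orbits on octads of the stabiliser in `M24` of a family of sets, from a packed table and
decidable checks.
-/

set_option autoImplicit false

namespace Cfsg.Agent.Lib.Helper21

open Cfsg
open scoped Pointwise

/-- The invariant of an octad given by a mask. -/
def cvalO (f : ℕ → ℕ) (LA : List ℕ) (m : ℕ) : ℕ := (LA.map fun a => f (popc 24 (a &&& m))).sum

/-- Invariance of `setSum` under the stabiliser of the family. -/
theorem setSum_stab (f : ℕ → ℕ) (A : Finset (Finset GolayPt))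
    (g : ↥(MulAction.stabilizer ↥M24 A)) (y : Finset GolayPt) :
    setSum f A (g • y) = setSum f A y := by
  have hg : ((g : ↥M24) : Equiv.Perm GolayPt) • A = A := g.2
  have h7 := setSum_smul f ((g : ↥M24) : Equiv.Perm GolayPt) A y
  rw [hg] at h7
  exact h7

/-- The orbits on octads of the stabiliser of a family, from a table and decidable checks. -/
theorem octad_table_main (LA : List ℕ) (hA : ∀ m ∈ LA, m < 2 ^ 24) (hAn : LA.Nodup)
    (gen : ℕ → Equiv.Perm GolayPt) (step : ℕ → ℕ → ℕ)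
    (hgen : ∀ j, gen j ∈ famSub (toFS LA) ∧ ∀ s, fsMask (gen j • s) = step j (fsMask s))
    (K fuel n T : ℕ) (kRep : ℕ → ℕ) (f : ℕ → ℕ)
    (c1 : ∀ k < 759, octChk (tetT T k))
    (c2 : ∀ k < 759, k + 1 < 759 → tetT T k < tetT T (k + 1))
    (c3 : ∀ k < 759, jOfT T k < n ∧
      runWordS step K fuel (wOfT T k) (tetT T (kRep (jOfT T k))) = tetT T k)
    (c5 : ∀ j < n, kRep j < 759 ∧ jOfT T (kRep j) = j)
    (c6 : ∀ j < n, ∀ j' < n,
      cvalO f LA (tetT T (kRep j)) = cvalO f LA (tetT T (kRep j')) → j = j') :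
    (∀ j < n, (MulAction.orbit (MulAction.stabilizer ↥M24 (toFS LA))
        (maskFS (tetT T (kRep j)))).ncard =
          ((Finset.range 759).filter (fun k => jOfT T k = j)).card) ∧
      (∀ o ∈ octads, ∃ j < n, o ∈ MulAction.orbit (MulAction.stabilizer ↥M24 (toFS LA))
        (maskFS (tetT T (kRep j)))) ∧
      (∀ j < n, maskFS (tetT T (kRep j)) ∈ octads) ∧
      ∀ j < n, ∀ j' < n, setSum f (toFS LA) (maskFS (tetT T (kRep j))) =
        setSum f (toFS LA) (maskFS (tetT T (kRep j'))) → j = j' := by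
  classical
  have hkey : ∀ k, k + 1 < 759 → tetT T k < tetT T (k + 1) := fun k hk => c2 k (by omega) hk
  have hcval : ∀ k < 759, setSum f (toFS LA) (maskFS (tetT T k)) = cvalO f LA (tetT T k) := by
    intro k hk
    rw [setSum_toFS f hA hAn, fsMask_maskFS _ (c1 k hk).1]
    rfl
  have key := orbits_of_table (G := ↥(MulAction.stabilizer ↥M24 (toFS LA))) octads
    (Set.toFinite _)
    (fun g o ho => smul_mem_octads (g : ↥M24).2 ho) 759 n
    (fun k => maskFS (tetT T k)) (jOfT T) kRep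
    (fun k hk => maskFS_mem_octads_of_chk (c1 k hk))
    (by
      intro k hk k' hk' h
      apply inj_of_adjacent_lt (tetT T) 759 hkey k hk k' hk'
      exact maskFS_inj (c1 k hk).1 (c1 k' hk').1 h)
    ncard_octads (fun k hk => (c3 k hk).1)
    (by
      intro k hk
      obtain ⟨hjn, hw⟩ := c3 k hk
      obtain ⟨g, hg, e⟩ := runWordS_spec (famSub (toFS LA)) gen step hgen K fuel (wOfT T k)
      obtain ⟨hgM, hgA⟩ := hg
      refine ⟨⟨⟨g, hgM⟩, hgA⟩, ?_⟩
      show g • maskFS (tetT T (kRep (jOfT T k))) = _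
      apply fsMask_injective
      rw [e, fsMask_maskFS _ (c1 _ (c5 _ hjn).1).1, fsMask_maskFS _ (c1 k hk).1]
      exact hw)
    c5 (setSum f (toFS LA)) (setSum_stab f (toFS LA))
    (by
      intro j hj j' hj' h
      rw [hcval _ (c5 j hj).1, hcval _ (c5 j' hj').1] at h
      exact c6 j hj j' hj' h)
  obtain ⟨k1, k2, k3⟩ := key
  refine ⟨fun j hj => ?_, k3, fun j hj => maskFS_mem_octads_of_chk (c1 _ (c5 j hj).1), ?_⟩
  · rw [k1 j hj, k2 j]
  · intro j hj j' hj' h
    rw [hcval _ (c5 j hj).1, hcval _ (c5 j' hj').1] at h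
    exact c6 j hj j' hj' h

end Cfsg.Agent.Lib.Helper21
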