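import Mathlib

/-!
Abstract tools to determine the orbits of a group on a finite invariant family from explicit
orbit representatives, an invariant separating them, and subsets of the orbits covering the
family.  Also the transport of orbits of a stabiliser along an element of the group.
-/

set_option autoImplicit false

namespace Cfsg.Agent.Lib.Helper21

open scoped Pointwise

section Classify

variable {G X ι : Type*} [Group G] [MulAction G X]

/-- If subsets `P i` of the orbits of representatives `x i` cover an invariant family `F`, and an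
invariant `c` separates the representatives, then the orbits are the `P i` and are cut out of `F`
by the invariant. -/
theorem orbit_eq_of_cover (F : Set X) (x : ι → X) (c : X → ℕ)
    (hc : ∀ (g : G) (y : X), c (g • y) = c y) (hinj : Function.Injective (fun i => c (x i)))
    (P : ι → Set X) (hP : ∀ i, P i ⊆ MulAction.orbit G (x i)) (hPF : ∀ i, P i ⊆ F)
    (hxP : ∀ i, x i ∈ P i) (hcover : ∀ y ∈ F, ∃ i, y ∈ P i)
    (hF : ∀ (g : G), ∀ y ∈ F, g • y ∈ F) (i : ι) :
    MulAction.orbit G (x i) = P i ∧ P i = {y | y ∈ F ∧ c y = c (x i)} := by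
  have hcP : ∀ j, ∀ y ∈ P j, c y = c (x j) := by
    intro j y hy
    obtain ⟨g, rfl⟩ := hP j hy
    exact hc g (x j)
  have h2 : P i = {y | y ∈ F ∧ c y = c (x i)} := by
    ext y
    constructor
    · intro hy
      exact ⟨hPF i hy, hcP i y hy⟩
    · rintro ⟨hyF, hcy⟩
      obtain ⟨j, hj⟩ := hcover y hyF
      have : c (x j) = c (x i) := by rw [← hcP j y hj, hcy]
      have hji : j = i := hinj this
      rwa [hji] at hj
  refine ⟨?_, h2⟩
  apply Set.Subset.antisymm
  · rintro y ⟨g, rfl⟩
    rw [h2]
    exact ⟨hF g _ (hPF i (hxP i)), hc g (x i)⟩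
  · exact hP i

end Classify

section Transport

variable {G A X : Type*} [Group G] [MulAction G A] [MulAction G X]

/-- The orbits of the stabiliser of `k • a` are the images under `k` of the orbits of the
stabiliser of `a`. -/
theorem orbit_stabilizer_smul (k : G) (a : A) (x : X) :
    MulAction.orbit (MulAction.stabilizer G (k • a)) (k • x) =
      (fun y => k • y) '' MulAction.orbit (MulAction.stabilizer G a) x := by
  ext y
  constructor
  · rintro ⟨⟨h, hh⟩, rfl⟩
    rw [MulAction.mem_stabilizer_iff] at hh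
    refine ⟨(k⁻¹ * h * k) • x, ⟨⟨k⁻¹ * h * k, ?_⟩, rfl⟩, ?_⟩
    · rw [MulAction.mem_stabilizer_iff, mul_smul, mul_smul, hh, inv_smul_smul]
    · show k • (k⁻¹ * h * k) • x = h • k • x
      rw [← mul_smul, ← mul_smul]
      congr 1
      group
  · rintro ⟨z, ⟨⟨h, hh⟩, rfl⟩, rfl⟩
    rw [MulAction.mem_stabilizer_iff] at hh
    refine ⟨⟨k * h * k⁻¹, ?_⟩, ?_⟩
    · rw [MulAction.mem_stabilizer_iff, mul_smul, mul_smul, inv_smul_smul, hh]
    · show (k * h * k⁻¹) • k • x = k • h • x
      rw [← mul_smul, ← mul_smul]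
      congr 1
      group

theorem ncard_orbit_stabilizer_smul (k : G) (a : A) (x : X) :
    (MulAction.orbit (MulAction.stabilizer G (k • a)) (k • x)).ncard =
      (MulAction.orbit (MulAction.stabilizer G a) x).ncard := by
  rw [orbit_stabilizer_smul, Set.ncard_image_of_injective _ (MulAction.injective k)]

end Transport

/-- Injectivity on an initial segment from strict increase at consecutive arguments. -/
theorem inj_of_adjacent_lt (f : ℕ → ℕ) (N : ℕ) (h : ∀ k, k + 1 < N → f k < f (k + 1)) :
    ∀ k < N, ∀ k' < N, f k = f k' → k = k' := by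
  have hmono : ∀ d k, k + d < N → 0 < d → f k < f (k + d) := by
    intro d
    induction d with
    | zero => intro k _ h0; exact absurd h0 (lt_irrefl 0)
    | succ d ih =>
      intro k hk _
      rcases Nat.eq_zero_or_pos d with rfl | hd
      · exact h k hk
      · have h1 := ih k (by omega) hd
        have h2 := h (k + d) (by omega)
        exact lt_trans h1 h2
  intro k hk k' hk' e
  by_contra hne
  rcases Nat.lt_or_gt_of_ne hne with hlt | hlt
  · have := hmono (k' - k) k (by omega) (by omega)
    rw [Nat.add_sub_cancel' hlt.le] at this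
    omega
  · have := hmono (k - k') k' (by omega) (by omega)
    rw [Nat.add_sub_cancel' hlt.le] at this
    omega

section Cover

variable {G A X : Type*} [Group G] [MulAction G A] [MulAction G X]

/-- Transport of a covering of an invariant family by orbits of a stabiliser. -/
theorem cover_transport (k : G) (a : A) (F : Set X) (hF : ∀ (g : G), ∀ y ∈ F, g • y ∈ F) (n : ℕ)
    (x : ℕ → X)
    (hcover : ∀ y ∈ F, ∃ j < n, y ∈ MulAction.orbit (MulAction.stabilizer G a) (x j)) :
    ∀ y ∈ F, ∃ j < n, y ∈ MulAction.orbit (MulAction.stabilizer G (k • a)) (k • x j) := by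
  intro y hy
  obtain ⟨j, hj, hmem⟩ := hcover (k⁻¹ • y) (hF k⁻¹ y hy)
  refine ⟨j, hj, ?_⟩
  rw [orbit_stabilizer_smul]
  exact ⟨k⁻¹ • y, hmem, smul_inv_smul k y⟩

variable {H : Subgroup G}

theorem orbit_subset_of_invariant (F : Set X) (hF : ∀ (g : G), ∀ y ∈ F, g • y ∈ F) {x : X}
    (hx : x ∈ F) : MulAction.orbit H x ⊆ F := by
  rintro y ⟨g, rfl⟩
  exact hF (g : G) x hx

theorem union3_of_cover (F : Set X) (hF : ∀ (g : G), ∀ y ∈ F, g • y ∈ F) (x : ℕ → X)
    (hx : ∀ j < 3, x j ∈ F) (hcover : ∀ y ∈ F, ∃ j < 3, y ∈ MulAction.orbit H (x j)) :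
    F = MulAction.orbit H (x 0) ∪ MulAction.orbit H (x 1) ∪ MulAction.orbit H (x 2) := by
  apply Set.Subset.antisymm
  · intro y hy
    obtain ⟨j, hj, hmem⟩ := hcover y hy
    interval_cases j
    · exact Or.inl (Or.inl hmem)
    · exact Or.inl (Or.inr hmem)
    · exact Or.inr hmem
  · rintro y ((hy | hy) | hy)
    · exact orbit_subset_of_invariant F hF (hx 0 (by norm_num)) hy
    · exact orbit_subset_of_invariant F hF (hx 1 (by norm_num)) hy
    · exact orbit_subset_of_invariant F hF (hx 2 (by norm_num)) hy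

theorem union4_of_cover (F : Set X) (hF : ∀ (g : G), ∀ y ∈ F, g • y ∈ F) (x : ℕ → X)
    (hx : ∀ j < 4, x j ∈ F) (hcover : ∀ y ∈ F, ∃ j < 4, y ∈ MulAction.orbit H (x j)) :
    F = MulAction.orbit H (x 0) ∪ MulAction.orbit H (x 1) ∪ MulAction.orbit H (x 2) ∪
      MulAction.orbit H (x 3) := by
  apply Set.Subset.antisymm
  · intro y hy
    obtain ⟨j, hj, hmem⟩ := hcover y hy
    interval_cases j
    · exact Or.inl (Or.inl (Or.inl hmem))
    · exact Or.inl (Or.inl (Or.inr hmem))
    · exact Or.inl (Or.inr hmem)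
    · exact Or.inr hmem
  · rintro y (((hy | hy) | hy) | hy)
    · exact orbit_subset_of_invariant F hF (hx 0 (by norm_num)) hy
    · exact orbit_subset_of_invariant F hF (hx 1 (by norm_num)) hy
    · exact orbit_subset_of_invariant F hF (hx 2 (by norm_num)) hy
    · exact orbit_subset_of_invariant F hF (hx 3 (by norm_num)) hy

theorem union5_of_cover (F : Set X) (hF : ∀ (g : G), ∀ y ∈ F, g • y ∈ F) (x : ℕ → X)
    (hx : ∀ j < 5, x j ∈ F) (hcover : ∀ y ∈ F, ∃ j < 5, y ∈ MulAction.orbit H (x j)) :
    F = MulAction.orbit H (x 0) ∪ MulAction.orbit H (x 1) ∪ MulAction.orbit H (x 2) ∪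
      MulAction.orbit H (x 3) ∪ MulAction.orbit H (x 4) := by
  apply Set.Subset.antisymm
  · intro y hy
    obtain ⟨j, hj, hmem⟩ := hcover y hy
    interval_cases j
    · exact Or.inl (Or.inl (Or.inl (Or.inl hmem)))
    · exact Or.inl (Or.inl (Or.inl (Or.inr hmem)))
    · exact Or.inl (Or.inl (Or.inr hmem))
    · exact Or.inl (Or.inr hmem)
    · exact Or.inr hmem
  · rintro y ((((hy | hy) | hy) | hy) | hy)
    · exact orbit_subset_of_invariant F hF (hx 0 (by norm_num)) hy
    · exact orbit_subset_of_invariant F hF (hx 1 (by norm_num)) hy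
    · exact orbit_subset_of_invariant F hF (hx 2 (by norm_num)) hy
    · exact orbit_subset_of_invariant F hF (hx 3 (by norm_num)) hy
    · exact orbit_subset_of_invariant F hF (hx 4 (by norm_num)) hy

end Cover

section Table

variable {G X : Type*} [Group G] [MulAction G X]

/-- The orbits of a group on a finite invariant family from a table: the family is listed
injectively as `obj k`, `k < N`; entry `k` lies in the class `jOf k`, and is conjugate to the
representative `obj (kRep (jOf k))` of its class; an invariant separates the representatives. -/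
theorem orbits_of_table (F : Set X) (hfin : F.Finite) (hF : ∀ (g : G), ∀ y ∈ F, g • y ∈ F)
    (N n : ℕ) (obj : ℕ → X) (jOf kRep : ℕ → ℕ) (hobj : ∀ k < N, obj k ∈ F)
    (hinj : ∀ k < N, ∀ k' < N, obj k = obj k' → k = k') (hcard : F.ncard = N)
    (hj : ∀ k < N, jOf k < n) (hconn : ∀ k < N, ∃ g : G, g • obj (kRep (jOf k)) = obj k)
    (hrep : ∀ j < n, kRep j < N ∧ jOf (kRep j) = j) (c : X → ℕ)
    (hc : ∀ (g : G) (y : X), c (g • y) = c y)
    (hsep : ∀ j < n, ∀ j' < n, c (obj (kRep j)) = c (obj (kRep j')) → j = j') :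
    (∀ j < n, MulAction.orbit G (obj (kRep j)) = {y | ∃ k < N, jOf k = j ∧ y = obj k}) ∧
      (∀ j, {y | ∃ k < N, jOf k = j ∧ y = obj k}.ncard =
        ((Finset.range N).filter (fun k => jOf k = j)).card) ∧
      (∀ y ∈ F, ∃ j < n, y ∈ MulAction.orbit G (obj (kRep j))) := by
  classical
  -- the table covers the family
  have hcov : ∀ y ∈ F, ∃ k < N, y = obj k := by
    set I : Finset X := (Finset.range N).image obj with hI
    have hIcard : I.card = N := by
      rw [hI, Finset.card_image_of_injOn, Finset.card_range]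
      intro k hk k' hk' h
      exact hinj k (Finset.mem_range.1 hk) k' (Finset.mem_range.1 hk') h
    have hsub : (I : Set X) ⊆ F := by
      intro y hy
      rw [Finset.mem_coe, hI, Finset.mem_image] at hy
      obtain ⟨k, hk, rfl⟩ := hy
      exact hobj k (Finset.mem_range.1 hk)
    have heq : (I : Set X) = F := by
      apply Set.eq_of_subset_of_ncard_le hsub _ hfin
      rw [hcard, Set.ncard_coe_finset, hIcard]
    intro y hy
    rw [← heq, Finset.mem_coe, hI, Finset.mem_image] at hy
    obtain ⟨k, hk, rfl⟩ := hy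
    exact ⟨k, Finset.mem_range.1 hk, rfl⟩
  have key : ∀ j < n, MulAction.orbit G (obj (kRep j)) = {y | ∃ k < N, jOf k = j ∧ y = obj k} := by
    intro j hjn
    have := orbit_eq_of_cover (G := G) (ι := Fin n) F (fun i => obj (kRep i)) c hc
      (by
        intro i i' h
        exact Fin.ext (hsep i i.2 i' i'.2 h))
      (fun i => {y | ∃ k < N, jOf k = (i : ℕ) ∧ y = obj k})
      (by
        rintro i y ⟨k, hk, hjk, rfl⟩
        obtain ⟨g, hg⟩ := hconn k hk
        rw [hjk] at hg
        exact ⟨g, hg⟩)
      (by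
        rintro i y ⟨k, hk, -, rfl⟩
        exact hobj k hk)
      (by
        intro i
        exact ⟨kRep i, (hrep i i.2).1, (hrep i i.2).2, rfl⟩)
      (by
        intro y hy
        obtain ⟨k, hk, rfl⟩ := hcov y hy
        exact ⟨⟨jOf k, hj k hk⟩, k, hk, rfl, rfl⟩)
      hF ⟨j, hjn⟩
    exact this.1
  refine ⟨key, ?_, ?_⟩
  · intro j
    have : {y | ∃ k < N, jOf k = j ∧ y = obj k} =
        obj '' ↑((Finset.range N).filter (fun k => jOf k = j)) := by
      ext y
      simp only [Set.mem_ofPred_eq, Set.mem_image, Finset.coe_filter, Finset.mem_range]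
      constructor
      · rintro ⟨k, hk, hjk, rfl⟩
        exact ⟨k, ⟨hk, hjk⟩, rfl⟩
      · rintro ⟨k, ⟨hk, hjk⟩, rfl⟩
        exact ⟨k, hk, hjk, rfl⟩
    rw [this, Set.InjOn.ncard_image, Set.ncard_coe_finset]
    intro k hk k' hk' h
    simp only [Finset.coe_filter, Finset.mem_range, Set.mem_ofPred_eq] at hk hk'
    exact hinj k hk.1 k' hk'.1 h
  · intro y hy
    obtain ⟨k, hk, rfl⟩ := hcov y hy
    refine ⟨jOf k, hj k hk, ?_⟩
    rw [key _ (hj k hk)]
    exact ⟨k, hk, rfl, rfl⟩

end Table

/-- Two-level splitting of a bounded quantifier, to keep kernel evaluation shallow. -/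
theorem forall_lt_of_sweep {Q : ℕ → Prop} (N : ℕ) (hN : N ≤ 4096)
    (h : ∀ a < 64, ∀ b < 64, 64 * a + b < N → Q (64 * a + b)) : ∀ k < N, Q k := by
  intro k hk
  have := h (k / 64) (by omega) (k % 64) (by omega) (by rw [Nat.div_add_mod]; exact hk)
  rwa [Nat.div_add_mod] at this

section Pack

variable {G A X : Type*} [Group G] [MulAction G A] [MulAction G X]

/-- Transport of a complete description of the orbits of a stabiliser on an invariant family. -/
theorem orbits_transport_pack (k : G) (a : A) (F : Set X) (hF : ∀ (g : G), ∀ y ∈ F, g • y ∈ F)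
    (n : ℕ) (x : ℕ → X) (cnt : ℕ → ℕ)
    (h : (∀ j < n, (MulAction.orbit (MulAction.stabilizer G a) (x j)).ncard = cnt j) ∧
      (∀ y ∈ F, ∃ j < n, y ∈ MulAction.orbit (MulAction.stabilizer G a) (x j)) ∧
        ∀ j < n, x j ∈ F) :
    (∀ j < n, (MulAction.orbit (MulAction.stabilizer G (k • a)) (k • x j)).ncard = cnt j) ∧
      (∀ y ∈ F, ∃ j < n, y ∈ MulAction.orbit (MulAction.stabilizer G (k • a)) (k • x j)) ∧
        ∀ j < n, k • x j ∈ F := by
  refine ⟨fun j hj => ?_, cover_transport k a F hF n x h.2.1, fun j hj => hF k _ (h.2.2 j hj)⟩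
  rw [ncard_orbit_stabilizer_smul]
  exact h.1 j hj

end Pack

end Cfsg.Agent.Lib.Helper21
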