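import Cfsg.Agent.Lib.Helper21.Suborbit
import Cfsg.Agent.Lib.Helper21.OrbitClass

/-!
Maximality of a point stabiliser from the list of its orbits on the orbit of the point, and
transport of maximality along conjugation.
-/

set_option autoImplicit false

namespace Cfsg.Agent.Lib.Helper21

section

variable {G X : Type*} [Group G] [MulAction G X]

theorem orbit_stabilizer_self (x : X) :
    MulAction.orbit (MulAction.stabilizer G x) x = {x} := by
  ext y
  constructor
  · rintro ⟨g, rfl⟩
    exact g.2
  · rintro rfl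
    exact MulAction.mem_orbit_self _

/-- Maximality of the stabiliser of `x` from representatives `xs j` of its orbits on the orbit of
`x`, with `xs 0 = x`, an invariant separating them, and the sizes `sz j` of the orbits. -/
theorem isCoatom_stabilizer_of_orbits [Finite G] (x : X) (n : ℕ) (xs : ℕ → X) (sz : ℕ → ℕ)
    (c : X → ℕ) (hc : ∀ (g : ↥(MulAction.stabilizer G x)) (y : X), c (g • y) = c y)
    (hx0 : xs 0 = x) (hn : 0 < n)
    (hsep : ∀ j < n, ∀ j' < n, c (xs j) = c (xs j') → j = j')
    (hsz : ∀ j < n, (MulAction.orbit (MulAction.stabilizer G x) (xs j)).ncard = sz j)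
    (hcover : ∀ y ∈ MulAction.orbit G x, ∃ j < n,
      y ∈ MulAction.orbit (MulAction.stabilizer G x) (xs j))
    (hmem : ∀ j < n, xs j ∈ MulAction.orbit G x)
    (N : ℕ) (hN : (MulAction.orbit G x).ncard = N) (hN1 : 1 < N)
    (harith : ∀ I ∈ ((Finset.range n).erase 0).powerset, (1 + ∑ i ∈ I, sz i) ∣ N →
      (∑ i ∈ I, sz i = 0 ∨ 1 + ∑ i ∈ I, sz i = N)) :
    IsCoatom (MulAction.stabilizer G x) := by
  classical
  -- the class of a point
  set cls : X → ℕ := fun y =>
    if h : ∃ j, j < n ∧ c y = c (xs j) then Nat.find h else 0 with hcls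
  have hcls1 : ∀ j < n, ∀ y ∈ MulAction.orbit (MulAction.stabilizer G x) (xs j), cls y = j := by
    rintro j hj y ⟨g, rfl⟩
    have hcy : c (g • xs j) = c (xs j) := hc g (xs j)
    have h : ∃ j', j' < n ∧ c (g • xs j) = c (xs j') := ⟨j, hj, hcy⟩
    have e : cls (g • xs j) = Nat.find h := by
      rw [hcls]
      exact dif_pos h
    rw [e]
    obtain ⟨h1, h2⟩ := Nat.find_spec h
    exact hsep _ h1 j hj (by rw [← h2, hcy])
  have hcls2 : ∀ y ∈ MulAction.orbit G x,
      y ∈ MulAction.orbit (MulAction.stabilizer G x) (xs (cls y)) ∧ cls y < n := by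
    intro y hy
    obtain ⟨j, hj, hmemj⟩ := hcover y hy
    rw [hcls1 j hj y hmemj]
    exact ⟨hmemj, hj⟩
  have hcls0 : ∀ y ∈ MulAction.orbit G x, cls y = 0 → y = x := by
    intro y hy h0
    have := (hcls2 y hy).1
    rw [h0, hx0, orbit_stabilizer_self] at this
    exact this
  have hsub : ∀ j < n, MulAction.orbit (MulAction.stabilizer G x) (xs j) ⊆ MulAction.orbit G x := by
    rintro j hj y ⟨g, rfl⟩
    obtain ⟨k, hk⟩ := hmem j hj
    refine ⟨(g : G) * k, ?_⟩
    show ((g : G) * k) • x = g • xs j
    have hk' : k • x = xs j := hk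
    rw [mul_smul, hk']
    rfl
  apply isCoatom_stabilizer_of_suborbits x cls ((Finset.range n).erase 0) sz N hN hN1
  · intro y hy hne
    rw [Finset.mem_erase, Finset.mem_range]
    exact ⟨fun h0 => hne (hcls0 y hy h0), (hcls2 y hy).2⟩
  · intro i hi
    rw [Finset.mem_erase, Finset.mem_range] at hi
    rw [← hsz i hi.2]
    congr 1
    ext y
    constructor
    · rintro ⟨hy, -, hci⟩
      rw [← hci]
      exact (hcls2 y hy).1
    · intro hy
      have hci := hcls1 i hi.2 y hy
      refine ⟨hsub i hi.2 hy, ?_, hci⟩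
      rintro rfl
      have h0 : cls y = 0 := by
        apply hcls1 0 hn
        rw [hx0]
        exact MulAction.mem_orbit_self _
      exact hi.1 (by rw [← hci, h0])
  · intro y hy y' hy' _ _ hcc
    have h1 := (hcls2 y hy).1
    have h2 := (hcls2 y' hy').1
    rw [← hcc] at h2
    obtain ⟨g1, hg1⟩ := h1
    obtain ⟨g2, hg2⟩ := h2
    refine ⟨(g2 : G) * (g1 : G)⁻¹, (MulAction.stabilizer G x).mul_mem g2.2
      ((MulAction.stabilizer G x).inv_mem g1.2), ?_⟩
    rw [mul_smul]
    have e1 : ((g1 : G))⁻¹ • y = xs (cls y) := by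
      rw [inv_smul_eq_iff]
      exact hg1.symm
    rw [e1]
    exact hg2
  · exact harith

/-- Maximality of a stabiliser is transported along the action. -/
theorem isCoatom_stabilizer_smul (k : G) (x : X) (h : IsCoatom (MulAction.stabilizer G x)) :
    IsCoatom (MulAction.stabilizer G (k • x)) := by
  rw [MulAction.stabilizer_smul_eq_stabilizer_map_conj]
  exact ((MulAut.conj k).mapSubgroup.isCoatom_iff (MulAction.stabilizer G x)).2 h

end

end Cfsg.Agent.Lib.Helper21
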