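import Cfsg.Agent.Lib.Helper21.GolaySextetOrb
import Cfsg.Agent.Lib.Helper21.GolaySets
import Cfsg.Agent.Lib.Helper21.OrbitCoatom

/-!
Transitivity of `M24` on sextets, and the separation of the representatives of a table of
sextets by the invariant.
-/

set_option autoImplicit false

namespace Cfsg.Agent.Lib.Helper21

open Cfsg
open scoped Pointwise

theorem sextets_transitive {S S' : Finset (Finset GolayPt)} (hS : S ∈ sextets)
    (hS' : S' ∈ sextets) : ∃ g ∈ M24, g • S = S' := by
  have hne : S.Nonempty := Finset.card_pos.1 (by rw [hS.1]; norm_num)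
  have hne' : S'.Nonempty := Finset.card_pos.1 (by rw [hS'.1]; norm_num)
  obtain ⟨t, ht⟩ := hne
  obtain ⟨t', ht'⟩ := hne'
  have h4 := tetrad_card hS ht
  have h4' := tetrad_card hS' ht'
  obtain ⟨g, hg, e⟩ := M24_one_set t t' (by omega) (by rw [h4, h4'])
  refine ⟨g, hg, ?_⟩
  rw [eq_sextetOf hS ht, smul_sextetOf hg h4, e]
  exact (eq_sextetOf hS' ht').symm

theorem orbit_sextet {S : Finset (Finset GolayPt)} (hS : S ∈ sextets) :
    MulAction.orbit ↥M24 S = sextets := by
  ext S'
  constructor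
  · rintro ⟨g, rfl⟩
    exact smul_mem_sextets g.2 hS
  · intro hS'
    obtain ⟨g, hg, e⟩ := sextets_transitive hS hS'
    exact ⟨⟨g, hg⟩, e⟩

/-- The invariant separates the representative sextets of a table. -/
theorem sextet_table_sep (LA : List ℕ) (hA : ∀ m ∈ LA, m < 2 ^ 24) (hAn : LA.Nodup) (n R : ℕ)
    (f : ℕ → ℕ)
    (c4 : ∀ j < n, (repL R j).Nodup ∧ ∀ i < 6, sextetChk (repT R j 0) (repT R j i))
    (c6 : ∀ j < n, ∀ j' < n, cvalS f LA R j = cvalS f LA R j' → j = j') :
    ∀ j < n, ∀ j' < n, pairSum f (toFS LA) (sextetOf (maskFS (repT R j 0))) =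
      pairSum f (toFS LA) (sextetOf (maskFS (repT R j' 0))) → j = j' := by
  have hchk : ∀ j < n, ∀ i, sextetChk (repT R j 0) (repT R j i) := by
    intro j hj i
    have h := (c4 j hj).2 (i % 6) (Nat.mod_lt _ (by norm_num))
    have e : repT R j (i % 6) = repT R j i := by
      unfold repT
      rw [Nat.mod_mod]
    rwa [e] at h
  have hcval : ∀ j < n, pairSum f (toFS LA) (sextetOf (maskFS (repT R j 0))) = cvalS f LA R j := by
    intro j hj
    have hL : ∀ u ∈ repL R j, sextetChk (repT R j 0) u := by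
      intro u hu
      unfold repL at hu
      obtain ⟨i, -, rfl⟩ := List.mem_map.1 hu
      exact hchk j hj i
    have hc0 := hchk j hj 0
    rw [sextetOf_eq_toFS (by simp [repL]) (c4 j hj).1 hL hc0.1 hc0.2.2.1]
    exact pairSum_toFS f hA hAn (fun u hu => (hL u hu).2.1) (c4 j hj).1
  intro j hj j' hj' h
  rw [hcval j hj, hcval j' hj'] at h
  exact c6 j hj j' hj' h

end Cfsg.Agent.Lib.Helper21
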