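import Cfsg.Agent.Lib.Helper21.GolaySextetOrb
import Cfsg.Agent.Lib.Helper21.GolayFast

/-!
The orbits on sextets of the stabiliser in `M24` of a family of sets, from a packed table and
decidable checks, with generators acting on masks through an abstract step function.
-/

set_option autoImplicit false

namespace Cfsg.Agent.Lib.Helper21

open Cfsg
open scoped Pointwise

/-- A table permutation lies in the stabiliser of a family and acts on masks by the fast
table. -/
theorem permOfTab_fast_spec (T TI : ℕ) (h : TabInv T TI)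
    (hc : ∀ b ∈ basisMasks, encMask (gatherMask T b % 4096) = gatherMask T b)
    {LA : List ℕ} (hA : ∀ m ∈ LA, m < 2 ^ 24) (hcheck : ∀ a ∈ LA, gatherMask TI a ∈ LA)
    {P : ℕ} (hP : FastOK P TI) :
    permOfTab T TI h ∈ famSub (toFS LA) ∧
      ∀ s, fsMask (permOfTab T TI h • s) = fastG P (fsMask s) :=
  ⟨permOfTab_mem_famSub T TI h hc hA hcheck, fun s => fsMask_smul_fast T TI h hP s⟩

/-- The orbits on sextets of the stabiliser of a family, from a table and decidable checks. -/
theorem sextet_table_mainF (LA : List ℕ) (hA : ∀ m ∈ LA, m < 2 ^ 24) (hAn : LA.Nodup)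
    (gen : ℕ → Equiv.Perm GolayPt) (step : ℕ → ℕ → ℕ)
    (hgen : ∀ j, gen j ∈ famSub (toFS LA) ∧ ∀ s, fsMask (gen j • s) = step j (fsMask s))
    (K fuel n T R : ℕ) (kRep : ℕ → ℕ) (f : ℕ → ℕ)
    (c1 : ∀ k < 1771, tetT T k < 2 ^ 24 ∧ (tetT T k).testBit 0 = true ∧ popc 24 (tetT T k) = 4)
    (c2 : ∀ k < 1771, k + 1 < 1771 → tetT T k < tetT T (k + 1))
    (c3 : ∀ k < 1771, jOfT T k < n ∧
      runWordS step K fuel (wOfT T k) (repT R (jOfT T k) (iOfT T k)) = tetT T k)
    (c4 : ∀ j < n, (repL R j).Nodup ∧ ∀ i < 6, sextetChk (repT R j 0) (repT R j i))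
    (c5 : ∀ j < n, kRep j < 1771 ∧ tetT T (kRep j) = repT R j 0 ∧ jOfT T (kRep j) = j)
    (c6 : ∀ j < n, ∀ j' < n, cvalS f LA R j = cvalS f LA R j' → j = j') :
    (∀ j < n, (MulAction.orbit (MulAction.stabilizer ↥M24 (toFS LA))
        (sextetOf (maskFS (repT R j 0)))).ncard =
          ((Finset.range 1771).filter (fun k => jOfT T k = j)).card) ∧
      (∀ S ∈ sextets, ∃ j < n, S ∈ MulAction.orbit (MulAction.stabilizer ↥M24 (toFS LA))
        (sextetOf (maskFS (repT R j 0)))) ∧
      (∀ j < n, sextetOf (maskFS (repT R j 0)) ∈ sextets) ∧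
      ∀ j < n, ∀ j' < n, pairSum f (toFS LA) (sextetOf (maskFS (repT R j 0))) =
        pairSum f (toFS LA) (sextetOf (maskFS (repT R j' 0))) → j = j' := by
  classical
  have h1 : ∀ k < 1771, tetT T k < 2 ^ 24 ∧ (tetT T k).testBit 0 = true ∧
      popc 24 (tetT T k) = 4 := c1
  have h2 : ∀ k, k + 1 < 1771 → tetT T k < tetT T (k + 1) := fun k hk => c2 k (by omega) hk
  have h4 : ∀ k < 1771, (maskFS (tetT T k)).card = 4 := fun k hk => by
    rw [card_maskFS _ (h1 k hk).1, (h1 k hk).2.2]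
  have hr4 : ∀ j < n, (maskFS (repT R j 0)).card = 4 := by
    intro j hj
    obtain ⟨hk, e, -⟩ := c5 j hj
    rw [← e]
    exact h4 _ hk
  have hchk : ∀ j < n, ∀ i, sextetChk (repT R j 0) (repT R j i) := by
    intro j hj i
    have h := (c4 j hj).2 (i % 6) (Nat.mod_lt _ (by norm_num))
    have e : repT R j (i % 6) = repT R j i := by
      unfold repT
      rw [Nat.mod_mod]
    rwa [e] at h
  have hobjrep : ∀ j < n, sextetOf (maskFS (tetT T (kRep j))) = sextetOf (maskFS (repT R j 0)) :=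
    fun j hj => by rw [(c5 j hj).2.1]
  -- the invariant of the representatives
  have hcval : ∀ j < n, pairSum f (toFS LA) (sextetOf (maskFS (repT R j 0))) = cvalS f LA R j := by
    intro j hj
    have hL : ∀ u ∈ repL R j, sextetChk (repT R j 0) u := by
      intro u hu
      unfold repL at hu
      obtain ⟨i, -, rfl⟩ := List.mem_map.1 hu
      exact hchk j hj i
    have hc0 := hchk j hj 0
    rw [sextetOf_eq_toFS (by simp [repL]) (c4 j hj).1 hL hc0.1 hc0.2.2.1]
    exact pairSum_toFS f hA hAn (fun u hu => (hL u hu).2.1) (c4 j hj).1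
  have key := orbits_of_table (G := ↥(MulAction.stabilizer ↥M24 (toFS LA))) sextets
    (Set.toFinite _)
    (fun g S hS => smul_mem_sextets (g : ↥M24).2 hS) 1771 n
    (fun k => sextetOf (maskFS (tetT T k))) (jOfT T) kRep
    (fun k hk => sextetOf_mem (h4 k hk))
    (sextetOf_tab_inj (tetT T) 1771 h1 h2) ncard_sextets (fun k hk => (c3 k hk).1)
    (by
      intro k hk
      obtain ⟨hjn, hw⟩ := c3 k hk
      obtain ⟨g, hg, e⟩ := runWordS_spec (famSub (toFS LA)) gen step hgen K fuel (wOfT T k)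
      obtain ⟨hgM, hgA⟩ := hg
      refine ⟨⟨⟨g, hgM⟩, hgA⟩, ?_⟩
      show g • sextetOf (maskFS (tetT T (kRep (jOfT T k)))) = _
      rw [hobjrep _ hjn, smul_sextetOf hgM (hr4 _ hjn)]
      have hck := hchk _ hjn (iOfT T k)
      have hmem := mem_sextetOf_of_chk hck
      have himg : g • maskFS (repT R (jOfT T k) (iOfT T k)) = maskFS (tetT T k) := by
        apply fsMask_injective
        rw [e, fsMask_maskFS _ hck.2.1, fsMask_maskFS _ (h1 k hk).1]
        exact hw
      have h5 : maskFS (tetT T k) ∈ g • sextetOf (maskFS (repT R (jOfT T k) 0)) := by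
        rw [← himg]
        exact Finset.smul_mem_smul_finset hmem
      rw [smul_sextetOf hgM (hr4 _ hjn)] at h5
      exact ((sextetOf_eq_iff (h4 k hk) (by rw [Finset.card_smul_finset]; exact hr4 _ hjn)).2
        h5).symm)
    (fun j hj => ⟨(c5 j hj).1, (c5 j hj).2.2⟩) (pairSum f (toFS LA))
    (pairSum_stab f (toFS LA))
    (by
      intro j hj j' hj' h
      rw [hobjrep j hj, hobjrep j' hj', hcval j hj, hcval j' hj'] at h
      exact c6 j hj j' hj' h)
  obtain ⟨k1, k2, k3⟩ := key
  refine ⟨fun j hj => ?_, fun S hS => ?_, fun j hj => sextetOf_mem (hr4 j hj), ?_⟩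
  · rw [← hobjrep j hj, k1 j hj, k2 j]
  · obtain ⟨j, hj, hmem⟩ := k3 S hS
    refine ⟨j, hj, ?_⟩
    rwa [← hobjrep j hj]
  · intro j hj j' hj' h
    rw [hcval j hj, hcval j' hj'] at h
    exact c6 j hj j' hj' h

end Cfsg.Agent.Lib.Helper21
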