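import Cfsg.Agent.Lib.Helper21.GolayOctadOrb
import Cfsg.Agent.Lib.Helper21.GolaySextetMax
import Cfsg.Agent.Lib.Helper21.GolaySextetOrbF

/-!
Assembly of the final statements on the orbits of stabilisers in `M24` on octads, sextets and
trios.
-/

set_option autoImplicit false

namespace Cfsg.Agent.Lib.Helper21

open Cfsg
open scoped Pointwise

section Generic

variable {G A X : Type*} [Group G] [MulAction G A] [MulAction G X]

theorem stabilizer_singleton_finset [DecidableEq A] (a : A) :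
    MulAction.stabilizer G ({a} : Finset A) = MulAction.stabilizer G a := by
  ext g
  rw [MulAction.mem_stabilizer_iff, MulAction.mem_stabilizer_iff, Finset.smul_finset_singleton,
    Finset.singleton_inj]

theorem final3 (k : G) (a : A) (F : Set X) (hF : ∀ (g : G), ∀ y ∈ F, g • y ∈ F) (x : ℕ → X)
    (cnt : ℕ → ℕ) (n1 n2 n3 : ℕ)
    (h : (∀ j < 3, (MulAction.orbit (MulAction.stabilizer G a) (x j)).ncard = cnt j) ∧
      (∀ y ∈ F, ∃ j < 3, y ∈ MulAction.orbit (MulAction.stabilizer G a) (x j)) ∧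
        ∀ j < 3, x j ∈ F)
    (e1 : cnt 0 = n1) (e2 : cnt 1 = n2) (e3 : cnt 2 = n3) :
    ∃ X₁ ∈ F, ∃ X₂ ∈ F, ∃ X₃ ∈ F,
      (MulAction.orbit ↥(MulAction.stabilizer G (k • a)) X₁).ncard = n1 ∧
      (MulAction.orbit ↥(MulAction.stabilizer G (k • a)) X₂).ncard = n2 ∧
      (MulAction.orbit ↥(MulAction.stabilizer G (k • a)) X₃).ncard = n3 ∧
      F = MulAction.orbit ↥(MulAction.stabilizer G (k • a)) X₁ ∪
        MulAction.orbit ↥(MulAction.stabilizer G (k • a)) X₂ ∪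
        MulAction.orbit ↥(MulAction.stabilizer G (k • a)) X₃ := by
  obtain ⟨h1, h2, h3⟩ := orbits_transport_pack k a F hF 3 x cnt h
  refine ⟨_, h3 0 (by norm_num), _, h3 1 (by norm_num), _, h3 2 (by norm_num), ?_, ?_, ?_, ?_⟩
  · rw [h1 0 (by norm_num), e1]
  · rw [h1 1 (by norm_num), e2]
  · rw [h1 2 (by norm_num), e3]
  · exact union3_of_cover F hF (fun j => k • x j) h3 h2

theorem final4 (k : G) (a : A) (F : Set X) (hF : ∀ (g : G), ∀ y ∈ F, g • y ∈ F) (x : ℕ → X)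
    (cnt : ℕ → ℕ) (n1 n2 n3 n4 : ℕ)
    (h : (∀ j < 4, (MulAction.orbit (MulAction.stabilizer G a) (x j)).ncard = cnt j) ∧
      (∀ y ∈ F, ∃ j < 4, y ∈ MulAction.orbit (MulAction.stabilizer G a) (x j)) ∧
        ∀ j < 4, x j ∈ F)
    (e1 : cnt 0 = n1) (e2 : cnt 1 = n2) (e3 : cnt 2 = n3) (e4 : cnt 3 = n4) :
    ∃ X₁ ∈ F, ∃ X₂ ∈ F, ∃ X₃ ∈ F, ∃ X₄ ∈ F,
      (MulAction.orbit ↥(MulAction.stabilizer G (k • a)) X₁).ncard = n1 ∧
      (MulAction.orbit ↥(MulAction.stabilizer G (k • a)) X₂).ncard = n2 ∧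
      (MulAction.orbit ↥(MulAction.stabilizer G (k • a)) X₃).ncard = n3 ∧
      (MulAction.orbit ↥(MulAction.stabilizer G (k • a)) X₄).ncard = n4 ∧
      F = MulAction.orbit ↥(MulAction.stabilizer G (k • a)) X₁ ∪
        MulAction.orbit ↥(MulAction.stabilizer G (k • a)) X₂ ∪
        MulAction.orbit ↥(MulAction.stabilizer G (k • a)) X₃ ∪
        MulAction.orbit ↥(MulAction.stabilizer G (k • a)) X₄ := by
  obtain ⟨h1, h2, h3⟩ := orbits_transport_pack k a F hF 4 x cnt h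
  refine ⟨_, h3 0 (by norm_num), _, h3 1 (by norm_num), _, h3 2 (by norm_num), _,
    h3 3 (by norm_num), ?_, ?_, ?_, ?_, ?_⟩
  · rw [h1 0 (by norm_num), e1]
  · rw [h1 1 (by norm_num), e2]
  · rw [h1 2 (by norm_num), e3]
  · rw [h1 3 (by norm_num), e4]
  · exact union4_of_cover F hF (fun j => k • x j) h3 h2

end Generic

theorem toFS_singleton (m : ℕ) : toFS [m] = {maskFS m} := by
  unfold toFS
  simp

theorem sextets_inv : ∀ (g : ↥M24), ∀ y ∈ sextets, g • y ∈ sextets :=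
  fun g _ hy => smul_mem_sextets g.2 hy

theorem trios_inv : ∀ (g : ↥M24), ∀ y ∈ trios, g • y ∈ trios :=
  fun g _ hy => smul_mem_trios g.2 hy

theorem octads_inv : ∀ (g : ↥M24), ∀ y ∈ octads, g • y ∈ octads :=
  fun g _ hy => smul_mem_octads g.2 hy

end Cfsg.Agent.Lib.Helper21
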