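import Cfsg.Agent.Lib.Helper21.GolayGroup

/-!
Action of four explicit elements of `Cfsg.M24` on the code words, computed on the `12`-bit
information words, and words in these generators given as base-4 numerals.
-/

set_option autoImplicit false

namespace Cfsg.Agent.Lib.Helper21

open Cfsg
open scoped Pointwise

theorem encAux_lt (k : ℕ) (rs : List ℕ) (h : ∀ r ∈ rs, r < 2 ^ k) (c : ℕ) : encAux rs c < 2 ^ k := by
  induction rs generalizing c with
  | nil => simp [encAux]
  | cons x xs ih =>
    rw [encAux]
    apply Nat.xor_lt_two_pow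
    · split_ifs
      · exact h x (by simp)
      · exact Nat.two_pow_pos k
    · exact ih (fun r hr => h r (by simp [hr])) _

/-- A linear map whose values on the rows `bs` are the code words with information words `rs`
acts on all combinations of the rows through `rs`. -/
theorem act_encAux (T : (GolayPt → ZMod 2) →ₗ[ZMod 2] (GolayPt → ZMod 2)) :
    ∀ l : List (ℕ × ℕ), (∀ p ∈ l, toMask (T (ofMask p.1)) = encMask p.2) →
      ∀ c, toMask (T (ofMask (encAux (l.map Prod.fst) c))) = encMask (encAux (l.map Prod.snd) c) := by
  intro l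
  induction l with
  | nil =>
    intro _ c
    simp only [List.map_nil, encAux, ofMask_zero, map_zero, toMask_zero]
    rfl
  | cons p ps ih =>
    intro h c
    simp only [List.map_cons, encAux]
    rw [ofMask_xor, map_add, toMask_add, encMask_xor, ih (fun q hq => h q (by simp [hq]))]
    congr 1
    split_ifs
    · exact h p (by simp)
    · rw [ofMask_zero, map_zero, toMask_zero]; rfl

/-- The four generators: `x ↦ x + 1`, `x ↦ x - 1`, `x ↦ -1/x` and the cube twist. -/
noncomputable def genPerm : ℕ → Equiv.Perm GolayPt
  | 0 => Equiv.optionCongr (Equiv.addRight (1 : ZMod 23))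
  | 1 => Equiv.optionCongr (Equiv.addRight (22 : ZMod 23))
  | 2 => projInv
  | _ => cubeTwist

theorem genPerm_mem (j : ℕ) : genPerm j ∈ M24 := by
  have h0 : genPerm 0 ∈ M24 := by
    apply mem_M24_of_masks; unfold genPerm; decide +kernel
  have h1 : genPerm 1 ∈ M24 := by
    apply mem_M24_of_masks; unfold genPerm; decide +kernel
  have h2 : genPerm 2 ∈ M24 := by
    apply mem_M24_of_masks; unfold genPerm; decide +kernel
  have h3 : genPerm 3 ∈ M24 := by
    apply mem_M24_of_masks; unfold genPerm; decide +kernel
  match j with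
  | 0 => exact h0
  | 1 => exact h1
  | 2 => exact h2
  | (n + 3) => exact h3

/-- Images of the information words of the basis rows under the generators. -/
def genRows : ℕ → List ℕ
  | 0 => [2048, 2049, 2050, 2052, 2056, 16, 32, 2112, 128, 256, 2560, 1024]
  | 1 => [3, 5, 9, 17, 32, 64, 129, 256, 512, 1025, 2048, 1]
  | 2 => [1043, 1226, 2443, 210, 1489, 913, 75, 344, 1480, 1394, 1289, 1183]
  | _ => [771, 2880, 530, 2602, 2816, 162, 2086, 3586, 2338, 2336, 800, 288]

/-- Action of a generator on information words. -/
def actC (j c : ℕ) : ℕ := encAux (genRows j) c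

theorem genRows_lt (j : ℕ) : ∀ r ∈ genRows j, r < 2 ^ 12 := by
  have h3 : ∀ r ∈ genRows 3, r < 2 ^ 12 := by decide
  match j with
  | 0 => decide
  | 1 => decide
  | 2 => decide
  | (n + 3) => exact h3

theorem actC_lt (j c : ℕ) : actC j c < 4096 := encAux_lt 12 _ (genRows_lt j) c

theorem genRows_spec (j : ℕ) : ∀ p ∈ basisMasks.zip (genRows j),
    toMask (precomp (genPerm j) (ofMask p.1)) = encMask p.2 := by
  have h0 : ∀ p ∈ basisMasks.zip (genRows 0),
      toMask (precomp (genPerm 0) (ofMask p.1)) = encMask p.2 := by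
    unfold genPerm; decide +kernel
  have h1 : ∀ p ∈ basisMasks.zip (genRows 1),
      toMask (precomp (genPerm 1) (ofMask p.1)) = encMask p.2 := by
    unfold genPerm; decide +kernel
  have h2 : ∀ p ∈ basisMasks.zip (genRows 2),
      toMask (precomp (genPerm 2) (ofMask p.1)) = encMask p.2 := by
    unfold genPerm; decide +kernel
  have h3 : ∀ p ∈ basisMasks.zip (genRows 3),
      toMask (precomp (genPerm 3) (ofMask p.1)) = encMask p.2 := by
    unfold genPerm; decide +kernel
  match j with
  | 0 => exact h0
  | 1 => exact h1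
  | 2 => exact h2
  | (n + 3) => exact h3

theorem zip_fst (j : ℕ) : (basisMasks.zip (genRows j)).map Prod.fst = basisMasks := by
  match j with
  | 0 => rfl
  | 1 => rfl
  | 2 => rfl
  | (n + 3) => rfl

theorem zip_snd (j : ℕ) : (basisMasks.zip (genRows j)).map Prod.snd = genRows j := by
  match j with
  | 0 => rfl
  | 1 => rfl
  | 2 => rfl
  | (n + 3) => rfl

/-- The generators act on code words through `actC`. -/
theorem precomp_gen_wordOf (j c : ℕ) : precomp (genPerm j) (wordOf c) = wordOf (actC j c) := by
  apply toMask_injective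
  rw [toMask_wordOf _ (actC_lt j c)]
  have h := act_encAux (precomp (genPerm j)) _ (genRows_spec j) c
  rw [zip_fst, zip_snd] at h
  exact h

/-- Run a word given as a base-4 numeral with a leading sentinel digit `1`. -/
def runWord : ℕ → ℕ → ℕ → ℕ
  | 0, _, c => c
  | f + 1, w, c => if w ≤ 1 then c else runWord f (w / 4) (actC (w % 4) c)

theorem runWord_spec (f w c : ℕ) :
    ∃ g : Equiv.Perm GolayPt, g ∈ M24 ∧ precomp g (wordOf c) = wordOf (runWord f w c) := by
  induction f generalizing w c with
  | zero => exact ⟨1, M24.one_mem, rfl⟩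
  | succ f ih =>
    rw [runWord]
    split_ifs
    · exact ⟨1, M24.one_mem, rfl⟩
    · obtain ⟨g, hg, e⟩ := ih (w / 4) (actC (w % 4) c)
      refine ⟨genPerm (w % 4) * g, M24.mul_mem (genPerm_mem _) hg, ?_⟩
      rw [← e, ← precomp_gen_wordOf]
      rfl

theorem runWord_lt (f w c : ℕ) (hc : c < 4096) : runWord f w c < 4096 := by
  induction f generalizing w c with
  | zero => exact hc
  | succ f ih =>
    rw [runWord]
    split_ifs
    · exact hc
    · exact ih _ _ (actC_lt _ _)

/-- Entry `k` of a table packed in `24`-bit fields. -/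
def wordAt (T k : ℕ) : ℕ := (T >>> (24 * k)) % 16777216

/-- Transitivity from a table: if every information word `c` with property `Q` is reached from
`c₀` by the word stored at position `c`, then the corresponding supports form one orbit. -/
theorem orbit_of_table (T c₀ : ℕ) (Q : ℕ → Prop)
    (h : ∀ c < 4096, Q c → runWord 10 (wordAt T c) c₀ = c) (c : ℕ) (hc : c < 4096) (hq : Q c) :
    ∃ g : Equiv.Perm GolayPt, g ∈ M24 ∧ g • support₂ (wordOf c₀) = support₂ (wordOf c) := by
  obtain ⟨g, hg, e⟩ := runWord_spec 10 (wordAt T c) c₀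
  rw [h c hc hq] at e
  refine ⟨g⁻¹, M24.inv_mem hg, ?_⟩
  rw [← e, support₂_precomp]

end Cfsg.Agent.Lib.Helper21
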