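import Cfsg.Agent.Lib.Helper21.GolayFlag

/-!
Families of subsets of the 24 points given by lists of masks, and an invariant counting how the
members of two families meet.
-/

set_option autoImplicit false

namespace Cfsg.Agent.Lib.Helper21

open Cfsg
open scoped Pointwise

theorem maskFS_inj {m m' : ℕ} (hm : m < 2 ^ 24) (hm' : m' < 2 ^ 24) (h : maskFS m = maskFS m') :
    m = m' := by
  rw [← fsMask_maskFS m hm, ← fsMask_maskFS m' hm', h]

/-- The family of sets given by a list of masks. -/
def toFS (L : List ℕ) : Finset (Finset GolayPt) := (L.map maskFS).toFinset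

theorem mem_toFS {L : List ℕ} {s : Finset GolayPt} : s ∈ toFS L ↔ ∃ m ∈ L, maskFS m = s := by
  unfold toFS
  rw [List.mem_toFinset, List.mem_map]

theorem maskFS_mem_toFS {L : List ℕ} {m : ℕ} (h : m ∈ L) : maskFS m ∈ toFS L :=
  mem_toFS.2 ⟨m, h, rfl⟩

theorem nodup_map_maskFS {L : List ℕ} (hlt : ∀ m ∈ L, m < 2 ^ 24) (hnd : L.Nodup) :
    (L.map maskFS).Nodup := by
  rw [List.nodup_map_iff_inj_on hnd]
  intro a ha b hb h
  exact maskFS_inj (hlt a ha) (hlt b hb) h

theorem card_toFS {L : List ℕ} (hlt : ∀ m ∈ L, m < 2 ^ 24) (hnd : L.Nodup) :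
    (toFS L).card = L.length := by
  unfold toFS
  rw [List.toFinset_card_of_nodup (nodup_map_maskFS hlt hnd), List.length_map]

theorem sum_toFS {L : List ℕ} (hlt : ∀ m ∈ L, m < 2 ^ 24) (hnd : L.Nodup)
    (F : Finset GolayPt → ℕ) : ∑ s ∈ toFS L, F s = (L.map fun m => F (maskFS m)).sum := by
  unfold toFS
  rw [List.sum_toFinset _ (nodup_map_maskFS hlt hnd), List.map_map]
  rfl

/-- The invariant: sum over pairs of members of a function of the size of the intersection. -/
def pairSum (f : ℕ → ℕ) (A X : Finset (Finset GolayPt)) : ℕ :=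
  ∑ u ∈ X, ∑ v ∈ A, f (u ∩ v).card

theorem pairSum_smul (f : ℕ → ℕ) (g : Equiv.Perm GolayPt) (A X : Finset (Finset GolayPt)) :
    pairSum f (g • A) (g • X) = pairSum f A X := by
  unfold pairSum
  have hinj : Function.Injective (fun s : Finset GolayPt => g • s) := MulAction.injective g
  have hX : g • X = X.image (fun s => g • s) := rfl
  have hA : g • A = A.image (fun s => g • s) := rfl
  rw [hX, Finset.sum_image (fun _ _ _ _ h => hinj h)]
  apply Finset.sum_congr rfl
  intro u _
  rw [hA, Finset.sum_image (fun _ _ _ _ h => hinj h)]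
  apply Finset.sum_congr rfl
  intro v _
  rw [card_smul_inter]

theorem pairSum_toFS (f : ℕ → ℕ) {LA LX : List ℕ} (hA : ∀ m ∈ LA, m < 2 ^ 24) (hAn : LA.Nodup)
    (hX : ∀ m ∈ LX, m < 2 ^ 24) (hXn : LX.Nodup) :
    pairSum f (toFS LA) (toFS LX) =
      (LX.map fun x => (LA.map fun a => f (popc 24 (x &&& a))).sum).sum := by
  unfold pairSum
  rw [sum_toFS hX hXn]
  have h1 : ∀ x ∈ LX, (∑ v ∈ toFS LA, f (maskFS x ∩ v).card) =
      (LA.map fun a => f (popc 24 (x &&& a))).sum := by
    intro x hx
    rw [sum_toFS hA hAn]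
    refine congrArg List.sum (List.map_congr_left (fun a ha => ?_))
    rw [card_maskFS_inter x (hX x hx), fsMask_maskFS a (hA a ha)]
  exact congrArg List.sum (List.map_congr_left h1)

/-- The same invariant for a single set against a family. -/
def setSum (f : ℕ → ℕ) (A : Finset (Finset GolayPt)) (o : Finset GolayPt) : ℕ :=
  ∑ v ∈ A, f (o ∩ v).card

theorem setSum_smul (f : ℕ → ℕ) (g : Equiv.Perm GolayPt) (A : Finset (Finset GolayPt))
    (o : Finset GolayPt) : setSum f (g • A) (g • o) = setSum f A o := by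
  unfold setSum
  have hinj : Function.Injective (fun s : Finset GolayPt => g • s) := MulAction.injective g
  have hA : g • A = A.image (fun s => g • s) := rfl
  rw [hA, Finset.sum_image (fun _ _ _ _ h => hinj h)]
  apply Finset.sum_congr rfl
  intro v _
  rw [card_smul_inter]

theorem setSum_toFS (f : ℕ → ℕ) {LA : List ℕ} (hA : ∀ m ∈ LA, m < 2 ^ 24) (hAn : LA.Nodup)
    (o : Finset GolayPt) :
    setSum f (toFS LA) o = (LA.map fun a => f (popc 24 (a &&& fsMask o))).sum := by
  unfold setSum
  rw [sum_toFS hA hAn]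
  refine congrArg List.sum (List.map_congr_left (fun a ha => ?_))
  rw [Finset.inter_comm, card_maskFS_inter a (hA a ha)]

/-- The image of a set with a given mask under a table permutation. -/
theorem permOfTab_smul_maskFS (T TI : ℕ) (h : TabInv T TI) (m : ℕ) (hm : m < 2 ^ 24) :
    permOfTab T TI h • maskFS m = maskFS (gatherMask TI m) := by
  apply fsMask_injective
  rw [fsMask_smul, fsMask_maskFS m hm, fsMask_maskFS _ (gatherMask_lt _ _)]

/-- A table permutation maps a family given by masks to itself when it maps the masks among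
themselves. -/
theorem permOfTab_smul_toFS (T TI : ℕ) (h : TabInv T TI) {LA : List ℕ}
    (hA : ∀ m ∈ LA, m < 2 ^ 24) (hcheck : ∀ a ∈ LA, gatherMask TI a ∈ LA) :
    permOfTab T TI h • toFS LA = toFS LA := by
  apply Finset.eq_of_subset_of_card_le
  · intro s hs
    obtain ⟨s', hs', rfl⟩ := Finset.mem_smul_finset.1 hs
    obtain ⟨m, hm, rfl⟩ := mem_toFS.1 hs'
    rw [permOfTab_smul_maskFS T TI h m (hA m hm)]
    exact maskFS_mem_toFS (hcheck m hm)
  · rw [Finset.card_smul_finset]

end Cfsg.Agent.Lib.Helper21
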