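import Mathlib

/-!
Multiply transitive permutation groups acting on subsets: mapping a pair of sets to a pair of
sets with the same sizes, and counting the subsets of a given size meeting a fixed set in a
given number of points.
-/

set_option autoImplicit false

namespace Cfsg.Agent.Lib.Helper21

open scoped Pointwise

section trans

variable {α : Type*} [DecidableEq α]

/-- A group mapping any `n ≤ N` distinct points to any `n` distinct points realises every
injective map on a set of at most `N` points. -/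
theorem exists_perm_eqOn (G : Subgroup (Equiv.Perm α)) (N : ℕ)
    (hG : ∀ n, n ≤ N → ∀ x y : Fin n ↪ α, ∃ g ∈ G, ∀ i, g (x i) = y i)
    (S : Finset α) (hS : S.card ≤ N) (f : α → α) (hf : Set.InjOn f (S : Set α)) :
    ∃ g ∈ G, ∀ p ∈ S, g p = f p := by
  let e := S.equivFin
  let x : Fin S.card ↪ α := ⟨fun i => (e.symm i : α), fun i j h => by
    have := Subtype.ext h
    exact e.symm.injective this⟩
  let y : Fin S.card ↪ α := ⟨fun i => f (e.symm i : α), fun i j h => by
    have h1 := hf (e.symm i).2 (e.symm j).2 h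
    exact e.symm.injective (Subtype.ext h1)⟩
  obtain ⟨g, hg, hgx⟩ := hG S.card hS x y
  refine ⟨g, hg, fun p hp => ?_⟩
  have h := hgx (e ⟨p, hp⟩)
  have h1 : x (e ⟨p, hp⟩) = p := by
    show ((e.symm (e ⟨p, hp⟩) : S) : α) = p
    rw [Equiv.symm_apply_apply]
  have h2 : y (e ⟨p, hp⟩) = f p := by
    show f ((e.symm (e ⟨p, hp⟩) : S) : α) = f p
    rw [Equiv.symm_apply_apply]
  rw [h1, h2] at h
  exact h

theorem smul_finset_eq_of_eqOn (g : Equiv.Perm α) (f : α → α) (A A' : Finset α)
    (hgf : ∀ p ∈ A, g p = f p) (hfA : ∀ p ∈ A, f p ∈ A') (hc : A.card = A'.card) :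
    g • A = A' := by
  apply Finset.eq_of_subset_of_card_le
  · intro q hq
    rw [← Finset.inv_smul_mem_iff] at hq
    have h1 := hfA _ hq
    rw [← hgf _ hq] at h1
    have h2 : g (g⁻¹ • q) = q := g.apply_symm_apply q
    rwa [h2] at h1
  · rw [Finset.card_smul_finset, hc]

/-- An injective map on `A ∪ B` carrying `A` into `A'` and `B` into `B'`, for sets with the same
sizes and the same size of intersection. -/
theorem exists_injOn_two_sets
    (A B A' B' : Finset α) (hA : A.card = A'.card)
    (hB : B.card = B'.card) (hAB : (A ∩ B).card = (A' ∩ B').card) :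
    ∃ f : α → α, Set.InjOn f ((A ∪ B : Finset α) : Set α) ∧ (∀ p ∈ A, f p ∈ A') ∧
      (∀ p ∈ B, f p ∈ B') := by
  have h2 : (A \ B).card = (A' \ B').card := by
    have e1 := Finset.card_sdiff_add_card_inter A B
    have e2 := Finset.card_sdiff_add_card_inter A' B'
    omega
  have h3 : (B \ A).card = (B' \ A').card := by
    have e1 := Finset.card_sdiff_add_card_inter B A
    have e2 := Finset.card_sdiff_add_card_inter B' A'
    rw [Finset.inter_comm] at e1 e2
    omega
  let e1 := Finset.equivOfCardEq hAB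
  let e2 := Finset.equivOfCardEq h2
  let e3 := Finset.equivOfCardEq h3
  let f : α → α := fun p =>
    if h : p ∈ A ∩ B then (e1 ⟨p, h⟩ : α)
    else if h' : p ∈ A \ B then (e2 ⟨p, h'⟩ : α)
    else if h'' : p ∈ B \ A then (e3 ⟨p, h''⟩ : α) else p
  have f1 : ∀ p (h : p ∈ A ∩ B), f p = (e1 ⟨p, h⟩ : α) := fun p h => by
    simp only [f, dif_pos h]
  have f2 : ∀ p (h : p ∈ A \ B), f p = (e2 ⟨p, h⟩ : α) := fun p h => by
    have hn : p ∉ A ∩ B := by
      rw [Finset.mem_sdiff] at h
      rw [Finset.mem_inter]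
      tauto
    simp only [f, dif_neg hn, dif_pos h]
  have f3 : ∀ p (h : p ∈ B \ A), f p = (e3 ⟨p, h⟩ : α) := fun p h => by
    have hn : p ∉ A ∩ B := by
      rw [Finset.mem_sdiff] at h
      rw [Finset.mem_inter]
      tauto
    have hn' : p ∉ A \ B := by
      rw [Finset.mem_sdiff] at h ⊢
      tauto
    simp only [f, dif_neg hn, dif_neg hn', dif_pos h]
  have hcases : ∀ p ∈ A ∪ B, p ∈ A ∩ B ∨ p ∈ A \ B ∨ p ∈ B \ A := by
    intro p hp
    simp only [Finset.mem_union, Finset.mem_inter, Finset.mem_sdiff] at hp ⊢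
    tauto
  have hfA : ∀ p ∈ A, f p ∈ A' := by
    intro p hp
    by_cases hb : p ∈ B
    · have h : p ∈ A ∩ B := Finset.mem_inter.2 ⟨hp, hb⟩
      rw [f1 p h]
      exact (Finset.mem_inter.1 (e1 ⟨p, h⟩).2).1
    · have h : p ∈ A \ B := Finset.mem_sdiff.2 ⟨hp, hb⟩
      rw [f2 p h]
      exact (Finset.mem_sdiff.1 (e2 ⟨p, h⟩).2).1
  have hfB : ∀ p ∈ B, f p ∈ B' := by
    intro p hp
    by_cases ha : p ∈ A
    · have h : p ∈ A ∩ B := Finset.mem_inter.2 ⟨ha, hp⟩
      rw [f1 p h]
      exact (Finset.mem_inter.1 (e1 ⟨p, h⟩).2).2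
    · have h : p ∈ B \ A := Finset.mem_sdiff.2 ⟨hp, ha⟩
      rw [f3 p h]
      exact (Finset.mem_sdiff.1 (e3 ⟨p, h⟩).2).1
  have hinj : Set.InjOn f ((A ∪ B : Finset α) : Set α) := by
    intro p hp q hq hpq
    rw [Finset.mem_coe] at hp hq
    rcases hcases p hp with h | h | h <;> rcases hcases q hq with h' | h' | h'
    · rw [f1 p h, f1 q h'] at hpq
      have := e1.injective (Subtype.ext hpq)
      exact Subtype.mk.inj this
    · exfalso
      rw [f1 p h, f2 q h'] at hpq
      have m1 := (e1 ⟨p, h⟩).2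
      have m2 := (e2 ⟨q, h'⟩).2
      rw [hpq] at m1
      simp only [Finset.mem_inter, Finset.mem_sdiff] at m1 m2
      tauto
    · exfalso
      rw [f1 p h, f3 q h'] at hpq
      have m1 := (e1 ⟨p, h⟩).2
      have m2 := (e3 ⟨q, h'⟩).2
      rw [hpq] at m1
      simp only [Finset.mem_inter, Finset.mem_sdiff] at m1 m2
      tauto
    · exfalso
      rw [f2 p h, f1 q h'] at hpq
      have m1 := (e2 ⟨p, h⟩).2
      have m2 := (e1 ⟨q, h'⟩).2
      rw [hpq] at m1
      simp only [Finset.mem_inter, Finset.mem_sdiff] at m1 m2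
      tauto
    · rw [f2 p h, f2 q h'] at hpq
      have := e2.injective (Subtype.ext hpq)
      exact Subtype.mk.inj this
    · exfalso
      rw [f2 p h, f3 q h'] at hpq
      have m1 := (e2 ⟨p, h⟩).2
      have m2 := (e3 ⟨q, h'⟩).2
      rw [hpq] at m1
      simp only [Finset.mem_inter, Finset.mem_sdiff] at m1 m2
      tauto
    · exfalso
      rw [f3 p h, f1 q h'] at hpq
      have m1 := (e3 ⟨p, h⟩).2
      have m2 := (e1 ⟨q, h'⟩).2
      rw [hpq] at m1
      simp only [Finset.mem_inter, Finset.mem_sdiff] at m1 m2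
      tauto
    · exfalso
      rw [f3 p h, f2 q h'] at hpq
      have m1 := (e3 ⟨p, h⟩).2
      have m2 := (e2 ⟨q, h'⟩).2
      rw [hpq] at m1
      simp only [Finset.mem_inter, Finset.mem_sdiff] at m1 m2
      tauto
    · rw [f3 p h, f3 q h'] at hpq
      have := e3.injective (Subtype.ext hpq)
      exact Subtype.mk.inj this
  exact ⟨f, hinj, hfA, hfB⟩

/-- Two sets can be mapped to two sets with the same sizes and the same size of intersection. -/
theorem exists_perm_two_sets (G : Subgroup (Equiv.Perm α)) (N : ℕ)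
    (hG : ∀ n, n ≤ N → ∀ x y : Fin n ↪ α, ∃ g ∈ G, ∀ i, g (x i) = y i)
    (A B A' B' : Finset α) (hN : (A ∪ B).card ≤ N) (hA : A.card = A'.card)
    (hB : B.card = B'.card) (hAB : (A ∩ B).card = (A' ∩ B').card) :
    ∃ g ∈ G, g • A = A' ∧ g • B = B' := by
  obtain ⟨f, hinj, hfA, hfB⟩ := exists_injOn_two_sets A B A' B' hA hB hAB
  obtain ⟨g, hg, hgf⟩ := exists_perm_eqOn G N hG (A ∪ B) hN f hinj
  refine ⟨g, hg, ?_, ?_⟩
  · exact smul_finset_eq_of_eqOn g f A A' (fun p hp => hgf p (Finset.mem_union_left _ hp)) hfA hA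
  · exact smul_finset_eq_of_eqOn g f B B' (fun p hp => hgf p (Finset.mem_union_right _ hp)) hfB hB

end trans

section count

variable {α : Type*} [Fintype α] [DecidableEq α]

/-- The number of `j`-subsets meeting a fixed set `s` in exactly `i` points. -/
theorem card_powersetCard_filter_inter (s : Finset α) (j i : ℕ) (hij : i ≤ j) :
    ((Finset.univ.powersetCard j).filter (fun y : Finset α => (s ∩ y).card = i)).card
      = s.card.choose i * (Fintype.card α - s.card).choose (j - i) := by
  have hsc : sᶜ.card = Fintype.card α - s.card := Finset.card_compl s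
  rw [← hsc, ← Finset.card_powersetCard, ← Finset.card_powersetCard, ← Finset.card_product]
  symm
  apply Finset.card_bij (fun ab _ => ab.1 ∪ ab.2)
  · intro ab hab
    rw [Finset.mem_product, Finset.mem_powersetCard, Finset.mem_powersetCard] at hab
    obtain ⟨⟨ha, hac⟩, ⟨hb, hbc⟩⟩ := hab
    have hdisj : Disjoint ab.1 ab.2 :=
      Finset.disjoint_of_subset_left ha (Finset.disjoint_of_subset_right hb disjoint_compl_right)
    rw [Finset.mem_filter, Finset.mem_powersetCard]
    refine ⟨⟨Finset.subset_univ _, ?_⟩, ?_⟩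
    · rw [Finset.card_union_of_disjoint hdisj, hac, hbc]
      omega
    · have : s ∩ (ab.1 ∪ ab.2) = ab.1 := by
        ext p
        simp only [Finset.mem_inter, Finset.mem_union]
        constructor
        · rintro ⟨hs, h | h⟩
          · exact h
          · exact absurd hs (Finset.mem_compl.1 (hb h))
        · intro h
          exact ⟨ha h, Or.inl h⟩
      rw [this, hac]
  · intro ab hab cd hcd h
    rw [Finset.mem_product, Finset.mem_powersetCard, Finset.mem_powersetCard] at hab hcd
    have h1 : ∀ (u v : Finset α), u ⊆ s → v ⊆ sᶜ → s ∩ (u ∪ v) = u := by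
      intro u v hu hv
      ext p
      simp only [Finset.mem_inter, Finset.mem_union]
      constructor
      · rintro ⟨hs, h | h⟩
        · exact h
        · exact absurd hs (Finset.mem_compl.1 (hv h))
      · intro h
        exact ⟨hu h, Or.inl h⟩
    have h2 : ∀ (u v : Finset α), u ⊆ s → v ⊆ sᶜ → sᶜ ∩ (u ∪ v) = v := by
      intro u v hu hv
      ext p
      simp only [Finset.mem_inter, Finset.mem_union]
      constructor
      · rintro ⟨hs, h | h⟩
        · exact absurd (hu h) (Finset.mem_compl.1 hs)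
        · exact h
      · intro h
        exact ⟨hv h, Or.inr h⟩
    have e1 : ab.1 = cd.1 := by
      rw [← h1 ab.1 ab.2 hab.1.1 hab.2.1, ← h1 cd.1 cd.2 hcd.1.1 hcd.2.1]
      exact congrArg (s ∩ ·) h
    have e2 : ab.2 = cd.2 := by
      rw [← h2 ab.1 ab.2 hab.1.1 hab.2.1, ← h2 cd.1 cd.2 hcd.1.1 hcd.2.1]
      exact congrArg (sᶜ ∩ ·) h
    exact Prod.ext e1 e2
  · intro y hy
    rw [Finset.mem_filter, Finset.mem_powersetCard] at hy
    refine ⟨(s ∩ y, sᶜ ∩ y), ?_, ?_⟩
    · rw [Finset.mem_product, Finset.mem_powersetCard, Finset.mem_powersetCard]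
      refine ⟨⟨Finset.inter_subset_left, hy.2⟩, Finset.inter_subset_left, ?_⟩
      have h1 : (s ∩ y).card + (sᶜ ∩ y).card = y.card := by
        rw [← Finset.card_union_of_disjoint, ← Finset.union_inter_distrib_right,
          Finset.union_compl, Finset.univ_inter]
        exact Finset.disjoint_of_subset_left Finset.inter_subset_left
          (Finset.disjoint_of_subset_right Finset.inter_subset_left disjoint_compl_right)
      rw [hy.1.2, hy.2] at h1
      show (sᶜ ∩ y).card = j - i
      omega
    · show s ∩ y ∪ sᶜ ∩ y = y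
      rw [← Finset.union_inter_distrib_right, Finset.union_compl, Finset.univ_inter]

end count

end Cfsg.Agent.Lib.Helper21
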