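import Cfsg.Agent.Lib.Helper21.GolayM12Gen
import Cfsg.Agent.Lib.Helper21.GolayConj
import Cfsg.Agent.Lib.Helper21.SetTrans
import Cfsg.Agent.Lib.Helper21.GolayFacts

/-!
Hexads and quartets of a dodecad: equivariance, and transitivity of the stabiliser of a dodecad
on the pairs of disjoint triples whose union is a hexad.
-/

set_option autoImplicit false

namespace Cfsg.Agent.Lib.Helper21

open Cfsg
open scoped Pointwise

theorem hexadsOn_subset {d h : Finset GolayPt} (hh : h ∈ hexadsOn d) : h ⊆ d := by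
  obtain ⟨-, o, -, rfl⟩ := hh
  exact Finset.inter_subset_right

theorem smul_mem_hexadsOn {g : Equiv.Perm GolayPt} (hg : g ∈ M24) {d h : Finset GolayPt}
    (hh : h ∈ hexadsOn d) : g • h ∈ hexadsOn (g • d) := by
  classical
  obtain ⟨hc, o, ho, rfl⟩ := hh
  refine ⟨by rw [Finset.card_smul_finset]; exact hc, g • o, smul_mem_octads hg ho, ?_⟩
  rw [Finset.smul_finset_inter]

theorem smul_mem_quartets {g : Equiv.Perm GolayPt} (hg : g ∈ M24) {d : Finset GolayPt}
    {Q : Finset (Finset GolayPt)} (hQ : Q ∈ quartets d) : g • Q ∈ quartets (g • d) := by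
  classical
  obtain ⟨h4, h3, hu⟩ := hQ
  refine ⟨by rw [Finset.card_smul_finset]; exact h4, ?_, ?_⟩
  · intro t ht
    obtain ⟨t', ht', rfl⟩ := Finset.mem_smul_finset.1 ht
    exact ⟨by rw [Finset.card_smul_finset]; exact (h3 t' ht').1,
      Finset.smul_finset_subset_smul_finset (h3 t' ht').2⟩
  · intro t ht u hu' hne
    obtain ⟨t', ht', rfl⟩ := Finset.mem_smul_finset.1 ht
    obtain ⟨u', hu'', rfl⟩ := Finset.mem_smul_finset.1 hu'
    have hne' : t' ≠ u' := fun h => hne (by rw [h])
    rw [← Finset.smul_finset_union]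
    exact smul_mem_hexadsOn hg (hu t' ht' u' hu'' hne')

/-- Two hexads on a dodecad with five common points coincide. -/
theorem hexad_unique {d h h' : Finset GolayPt} (hh : h ∈ hexadsOn d) (hh' : h' ∈ hexadsOn d)
    (h5 : 5 ≤ (h ∩ h').card) : h = h' := by
  classical
  obtain ⟨-, o, ho, rfl⟩ := hh
  obtain ⟨-, o', ho', rfl⟩ := hh'
  have hsub : (o ∩ d) ∩ (o' ∩ d) ⊆ o ∩ o' := by
    intro x hx
    rw [Finset.mem_inter, Finset.mem_inter, Finset.mem_inter] at hx
    exact Finset.mem_inter.2 ⟨hx.1.1, hx.2.1⟩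
  have hle := Finset.card_le_card hsub
  rw [octad_unique o o' ho ho' (by omega)]

/-- The stabiliser of a dodecad realises every injective map between at most five of its
points. -/
theorem dodecad_stab_eqOn (d : Finset GolayPt) (hd : d ∈ dodecads) (S : Finset GolayPt)
    (hSd : S ⊆ d) (hS : S.card ≤ 5) (f : GolayPt → GolayPt)
    (hf : Set.InjOn f (S : Set GolayPt)) (hfd : ∀ p ∈ S, f p ∈ d) :
    ∃ g ∈ M24, g • d = d ∧ ∀ p ∈ S, g p = f p := by
  classical
  let e := S.equivFin
  let x : Fin S.card ↪ GolayPt := ⟨fun i => (e.symm i : GolayPt), fun i j h => by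
    have := Subtype.ext h
    exact e.symm.injective this⟩
  let y : Fin S.card ↪ GolayPt := ⟨fun i => f (e.symm i : GolayPt), fun i j h => by
    have h1 := hf (e.symm i).2 (e.symm j).2 h
    exact e.symm.injective (Subtype.ext h1)⟩
  obtain ⟨g, hg, hgd, hgx⟩ := dodecad_stab_trans hS d hd x y
    (fun i => hSd (e.symm i).2) (fun i => hfd _ (e.symm i).2)
  refine ⟨g, hg, hgd, fun p hp => ?_⟩
  have h := hgx (e ⟨p, hp⟩)
  have h1 : x (e ⟨p, hp⟩) = p := by
    show ((e.symm (e ⟨p, hp⟩) : S) : GolayPt) = p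
    rw [Equiv.symm_apply_apply]
  have h2 : y (e ⟨p, hp⟩) = f p := by
    show f ((e.symm (e ⟨p, hp⟩) : S) : GolayPt) = f p
    rw [Equiv.symm_apply_apply]
  rw [h1, h2] at h
  exact h

theorem disjoint_of_card_union {t u : Finset GolayPt} (ht : t.card = 3) (hu : u.card = 3)
    (h : (t ∪ u).card = 6) : Disjoint t u := by
  classical
  rw [Finset.disjoint_iff_inter_eq_empty, ← Finset.card_eq_zero]
  have := Finset.card_union_add_card_inter t u
  omega

/-- The stabiliser of a dodecad is transitive on the ordered pairs of disjoint triples whose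
union is a hexad. -/
theorem pair_transitive (d : Finset GolayPt) (hd : d ∈ dodecads) (t u t' u' : Finset GolayPt)
    (ht : t.card = 3) (hu : u.card = 3) (htu : Disjoint t u) (hh : t ∪ u ∈ hexadsOn d)
    (ht' : t'.card = 3) (hu' : u'.card = 3) (htu' : Disjoint t' u')
    (hh' : t' ∪ u' ∈ hexadsOn d) :
    ∃ g ∈ M24, g • d = d ∧ g • t = t' ∧ g • u = u' := by
  classical
  obtain ⟨b, hb⟩ : u.Nonempty := Finset.card_pos.1 (by omega)
  obtain ⟨b', hb'⟩ : u'.Nonempty := Finset.card_pos.1 (by omega)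
  have hsub := hexadsOn_subset hh
  have hsub' := hexadsOn_subset hh'
  have hdis : Disjoint t (u.erase b) := htu.mono_right (Finset.erase_subset _ _)
  have hdis' : Disjoint t' (u'.erase b') := htu'.mono_right (Finset.erase_subset _ _)
  have hc2 : (u.erase b).card = 2 := by rw [Finset.card_erase_of_mem hb, hu]
  have hc2' : (u'.erase b').card = 2 := by rw [Finset.card_erase_of_mem hb', hu']
  obtain ⟨f, hinj, hfA, hfB⟩ := exists_injOn_two_sets t (u.erase b) t' (u'.erase b')
    (by rw [ht, ht']) (by rw [hc2, hc2'])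
    (by rw [Finset.disjoint_iff_inter_eq_empty.1 hdis, Finset.disjoint_iff_inter_eq_empty.1 hdis'])
  have hS5 : (t ∪ u.erase b).card = 5 := by
    rw [Finset.card_union_of_disjoint hdis, ht, hc2]
  have hSd : t ∪ u.erase b ⊆ d := fun x hx => hsub (by
    rcases Finset.mem_union.1 hx with h | h
    · exact Finset.mem_union_left _ h
    · exact Finset.mem_union_right _ (Finset.mem_of_mem_erase h))
  obtain ⟨g, hg, hgd, hgf⟩ := dodecad_stab_eqOn d hd (t ∪ u.erase b) hSd (by omega) f hinj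
    (fun p hp => hsub' (by
      rcases Finset.mem_union.1 hp with h | h
      · exact Finset.mem_union_left _ (hfA p h)
      · exact Finset.mem_union_right _ (Finset.mem_of_mem_erase (hfB p h))))
  have hgt : g • t = t' := smul_finset_eq_of_eqOn g f t t'
    (fun p hp => hgf p (Finset.mem_union_left _ hp)) hfA (by rw [ht, ht'])
  have hgu2 : g • (u.erase b) = u'.erase b' := smul_finset_eq_of_eqOn g f _ _
    (fun p hp => hgf p (Finset.mem_union_right _ hp)) hfB (by rw [hc2, hc2'])
  have hgh : g • (t ∪ u) ∈ hexadsOn d := by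
    have := smul_mem_hexadsOn hg hh
    rwa [hgd] at this
  have hgun : g • (t ∪ u) = t' ∪ u' := by
    apply hexad_unique hgh hh'
    have hsub5 : t' ∪ u'.erase b' ⊆ g • (t ∪ u) ∩ (t' ∪ u') := by
      intro x hx
      rw [Finset.mem_inter]
      rcases Finset.mem_union.1 hx with h | h
      · refine ⟨?_, Finset.mem_union_left _ h⟩
        rw [Finset.smul_finset_union, hgt]
        exact Finset.mem_union_left _ h
      · refine ⟨?_, Finset.mem_union_right _ (Finset.mem_of_mem_erase h)⟩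
        rw [Finset.smul_finset_union]
        apply Finset.mem_union_right
        rw [← hgu2] at h
        exact Finset.smul_finset_subset_smul_finset (Finset.erase_subset _ _) h
    have hc5 : (t' ∪ u'.erase b').card = 5 := by
      rw [Finset.card_union_of_disjoint hdis', ht', hc2']
    have := Finset.card_le_card hsub5
    omega
  refine ⟨g, hg, hgd, hgt, ?_⟩
  have hdisg : Disjoint (g • t) (g • u) := by
    rw [Finset.disjoint_iff_inter_eq_empty, ← Finset.smul_finset_inter,
      Finset.disjoint_iff_inter_eq_empty.1 htu, Finset.smul_finset_empty]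
  rw [Finset.smul_finset_union, hgt] at hgun
  rw [hgt] at hdisg
  -- `g • u` and `u'` are both the complement of `t'` in the union
  have h1 : g • u = (t' ∪ g • u) \ t' := by
    rw [Finset.union_sdiff_left, Finset.sdiff_eq_self_of_disjoint hdisg.symm]
  have h2 : u' = (t' ∪ u') \ t' := by
    rw [Finset.union_sdiff_left, Finset.sdiff_eq_self_of_disjoint htu'.symm]
  rw [h1, hgun, ← h2]

/-- The statement that exactly one quartet contains two given triples. -/
def UniqueQuartet (d t u : Finset GolayPt) : Prop :=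
  ∃! Q : Finset (Finset GolayPt), Q ∈ quartets d ∧ t ∈ Q ∧ u ∈ Q

theorem UniqueQuartet.smul {g : Equiv.Perm GolayPt} (hg : g ∈ M24) {d t u : Finset GolayPt}
    (h : UniqueQuartet d t u) : UniqueQuartet (g • d) (g • t) (g • u) := by
  classical
  obtain ⟨Q, ⟨hQ, htQ, huQ⟩, huniq⟩ := h
  refine ⟨g • Q, ⟨smul_mem_quartets hg hQ, Finset.smul_mem_smul_finset htQ,
    Finset.smul_mem_smul_finset huQ⟩, ?_⟩
  rintro Q' ⟨hQ', htQ', huQ'⟩
  have h1 : g⁻¹ • Q' ∈ quartets d := by
    have := smul_mem_quartets (M24.inv_mem hg) hQ'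
    rwa [inv_smul_smul] at this
  have h2 : t ∈ g⁻¹ • Q' := by
    have := Finset.smul_mem_smul_finset (a := g⁻¹) htQ'
    rwa [inv_smul_smul] at this
  have h3 : u ∈ g⁻¹ • Q' := by
    have := Finset.smul_mem_smul_finset (a := g⁻¹) huQ'
    rwa [inv_smul_smul] at this
  have := huniq (g⁻¹ • Q') ⟨h1, h2, h3⟩
  rw [← this, smul_inv_smul]

/-- Reduction of the uniqueness of the quartet through two triples to one case. -/
theorem uniqueQuartet_of_base {d₀ t₀ u₀ : Finset GolayPt} (hd₀ : d₀ ∈ dodecads)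
    (ht₀ : t₀.card = 3) (hu₀ : u₀.card = 3) (htu₀ : Disjoint t₀ u₀)
    (hh₀ : t₀ ∪ u₀ ∈ hexadsOn d₀) (hbase : UniqueQuartet d₀ t₀ u₀)
    (d : Finset GolayPt) (hd : d ∈ dodecads) (t u : Finset GolayPt) (ht : t.card = 3)
    (hu : u.card = 3) (htu : Disjoint t u) (hh : t ∪ u ∈ hexadsOn d) : UniqueQuartet d t u := by
  classical
  obtain ⟨k, hk⟩ := dodecads_transitive d₀ d hd₀ hd
  have hk' : (k : Equiv.Perm GolayPt) • d₀ = d := hk
  have hkm : (k : Equiv.Perm GolayPt) ∈ M24 := k.2
  generalize (k : Equiv.Perm GolayPt) = κ at hk' hkm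
  have hh1 : κ⁻¹ • t ∪ κ⁻¹ • u ∈ hexadsOn d₀ := by
    have := smul_mem_hexadsOn (M24.inv_mem hkm) hh
    rwa [Finset.smul_finset_union, ← hk', inv_smul_smul] at this
  have hdis1 : Disjoint (κ⁻¹ • t) (κ⁻¹ • u) := by
    rw [Finset.disjoint_iff_inter_eq_empty, ← Finset.smul_finset_inter,
      Finset.disjoint_iff_inter_eq_empty.1 htu, Finset.smul_finset_empty]
  obtain ⟨g, hg, hgd, hgt, hgu⟩ := pair_transitive d₀ hd₀ t₀ u₀ (κ⁻¹ • t) (κ⁻¹ • u) ht₀ hu₀ htu₀
    hh₀ (by rw [Finset.card_smul_finset, ht]) (by rw [Finset.card_smul_finset, hu]) hdis1 hh1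
  have h1 := (hbase.smul hg).smul hkm
  rwa [hgd, hgt, hgu, hk', smul_inv_smul, smul_inv_smul] at h1

/-- The stabiliser of a dodecad is transitive on its quartets, given the uniqueness of the
quartet through two triples. -/
theorem quartets_transitive (huq : ∀ (d : Finset GolayPt), d ∈ dodecads → ∀ t u : Finset GolayPt,
      t.card = 3 → u.card = 3 → Disjoint t u → t ∪ u ∈ hexadsOn d → UniqueQuartet d t u)
    (d : Finset GolayPt) (hd : d ∈ dodecads) (Q Q' : Finset (Finset GolayPt))
    (hQ : Q ∈ quartets d) (hQ' : Q' ∈ quartets d) :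
    ∃ g : Equiv.Perm GolayPt, g ∈ M24 ∧ g • d = d ∧ g • Q = Q' := by
  classical
  obtain ⟨t, ht, u, hu, hne⟩ := Finset.one_lt_card.1 (show 1 < Q.card by rw [hQ.1]; norm_num)
  obtain ⟨t', ht', u', hu', hne'⟩ :=
    Finset.one_lt_card.1 (show 1 < Q'.card by rw [hQ'.1]; norm_num)
  have hh := hQ.2.2 t ht u hu hne
  have hh' := hQ'.2.2 t' ht' u' hu' hne'
  have c3 := (hQ.2.1 t ht).1
  have c3u := (hQ.2.1 u hu).1
  have c3' := (hQ'.2.1 t' ht').1
  have c3u' := (hQ'.2.1 u' hu').1
  have hdis := disjoint_of_card_union c3 c3u hh.1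
  have hdis' := disjoint_of_card_union c3' c3u' hh'.1
  obtain ⟨g, hg, hgd, hgt, hgu⟩ := pair_transitive d hd t u t' u' c3 c3u hdis hh c3' c3u' hdis' hh'
  refine ⟨g, hg, hgd, ?_⟩
  obtain ⟨Q₁, -, huniq⟩ := huq d hd t' u' c3' c3u' hdis' hh'
  have h1 : g • Q ∈ quartets d := by
    have := smul_mem_quartets hg hQ
    rwa [hgd] at this
  have e1 := huniq (g • Q) ⟨h1, hgt ▸ Finset.smul_mem_smul_finset ht,
    hgu ▸ Finset.smul_mem_smul_finset hu⟩
  have e2 := huniq Q' ⟨hQ', ht', hu'⟩
  rw [e1, e2]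

end Cfsg.Agent.Lib.Helper21
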