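import Cfsg.Agent.Lib.Helper21.GolayQuartetData

/-!
The 220 quartets of the dodecad of squares: every quartet is in the table, the table has no
repetitions, and the quartet through two triples is unique.
-/

set_option autoImplicit false

namespace Cfsg.Agent.Lib.Helper21

open Cfsg
open scoped Pointwise

theorem cA_lt (h1 h2 : ℕ) (hh : h1 < 2 ^ 24) : cA h1 h2 < 2 ^ 24 :=
  lt_of_le_of_lt Nat.and_le_left hh

theorem cB_lt (h1 h2 : ℕ) (hh : h1 < 2 ^ 24) : cB h1 h2 < 2 ^ 24 :=
  lt_of_le_of_lt Nat.and_le_left hh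

theorem cC_lt (h1 h2 : ℕ) (hh : h2 < 2 ^ 24) : cC h1 h2 < 2 ^ 24 :=
  lt_of_le_of_lt Nat.and_le_left hh

theorem cE_lt (h1 h2 : ℕ) : cE h1 h2 < 2 ^ 24 :=
  lt_of_le_of_lt Nat.and_le_left dsq_lt

/-- Every quartet of the dodecad of squares is in the table. -/
theorem exists_quart {Q : Finset (Finset GolayPt)} (hQ : Q ∈ quartets Spor.squareDodecad) :
    ∃ k < 220, Q = toFS (quart k) := by
  classical
  obtain ⟨h4, h3, hun⟩ := hQ
  obtain ⟨t, ht⟩ : Q.Nonempty := Finset.card_pos.1 (by omega)
  have hc3 : (Q.erase t).card = 3 := by rw [Finset.card_erase_of_mem ht, h4]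
  obtain ⟨u, v, w, huv, huw, hvw, he⟩ := Finset.card_eq_three.1 hc3
  have hQeq : Q = insert t {u, v, w} := by rw [← he, Finset.insert_erase ht]
  have hu' : u ∈ Q.erase t := by rw [he]; simp
  have hv' : v ∈ Q.erase t := by rw [he]; simp
  have hw' : w ∈ Q.erase t := by rw [he]; simp
  have htu : t ≠ u := (Finset.ne_of_mem_erase hu').symm
  have htv : t ≠ v := (Finset.ne_of_mem_erase hv').symm
  have htw : t ≠ w := (Finset.ne_of_mem_erase hw').symm
  have hu := Finset.mem_of_mem_erase hu'
  have hv := Finset.mem_of_mem_erase hv'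
  have hw := Finset.mem_of_mem_erase hw'
  have Htu := hun t ht u hu htu
  have Htv := hun t ht v hv htv
  have Htw := hun t ht w hw htw
  have Huv := hun u hu v hv huv
  have Huw := hun u hu w hw huw
  have Hvw := hun v hv w hw hvw
  have ct := (h3 t ht).1
  have cu := (h3 u hu).1
  have cv := (h3 v hv).1
  have cw := (h3 w hw).1
  have dtu := Finset.disjoint_left.1 (disjoint_of_card_union ct cu Htu.1)
  have dtv := Finset.disjoint_left.1 (disjoint_of_card_union ct cv Htv.1)
  have dtw := Finset.disjoint_left.1 (disjoint_of_card_union ct cw Htw.1)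
  have duv := Finset.disjoint_left.1 (disjoint_of_card_union cu cv Huv.1)
  have duw := Finset.disjoint_left.1 (disjoint_of_card_union cu cw Huw.1)
  have dvw := Finset.disjoint_left.1 (disjoint_of_card_union cv cw Hvw.1)
  -- the four triples cover the dodecad
  have hpart : (t ∪ u) ∪ (v ∪ w) = Spor.squareDodecad := by
    apply Finset.eq_of_subset_of_card_le
    · intro x hx
      rcases Finset.mem_union.1 hx with h | h
      · exact hexadsOn_subset Htu h
      · exact hexadsOn_subset Hvw h
    · rw [squareDodecad_mem.2, Finset.card_union_of_disjoint, Htu.1, Hvw.1]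
      rw [Finset.disjoint_left]
      intro x hx hx'
      rcases Finset.mem_union.1 hx with h | h <;> rcases Finset.mem_union.1 hx' with h' | h'
      · exact dtv h h'
      · exact dtw h h'
      · exact duv h h'
      · exact duw h h'
  have hsq : ∀ x, x ∈ Spor.squareDodecad ↔ x ∈ t ∨ x ∈ u ∨ x ∈ v ∨ x ∈ w := by
    intro x
    rw [← hpart]
    simp only [Finset.mem_union]
    tauto
  set h1 := fsMask (t ∪ u) with hh1
  set h2 := fsMask (t ∪ v) with hh2
  have m1 : h1 ∈ hexList := fsMask_mem_hexList Htu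
  have m2 : h2 ∈ hexList := fsMask_mem_hexList Htv
  have l1 : h1 < 2 ^ 24 := fsMask_lt _
  have l2 : h2 < 2 ^ 24 := fsMask_lt _
  have eA : maskFS (cA h1 h2) = t := by
    unfold cA
    rw [maskFS_and, hh1, hh2, maskFS_fsMask, maskFS_fsMask]
    ext x
    simp only [Finset.mem_inter, Finset.mem_union]
    constructor
    · rintro ⟨h | h, h' | h'⟩
      · exact h
      · exact h
      · exact h'
      · exact absurd h' (duv h)
    · intro h
      exact ⟨Or.inl h, Or.inl h⟩
  have eB : maskFS (cB h1 h2) = u := by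
    unfold cB
    rw [maskFS_and, maskFS_compl, eA, hh1, maskFS_fsMask]
    ext x
    simp only [Finset.mem_inter, Finset.mem_union, Finset.mem_compl]
    constructor
    · rintro ⟨h | h, h'⟩
      · exact absurd h h'
      · exact h
    · intro h
      exact ⟨Or.inr h, fun h' => dtu h' h⟩
  have eC : maskFS (cC h1 h2) = v := by
    unfold cC
    rw [maskFS_and, maskFS_compl, eA, hh2, maskFS_fsMask]
    ext x
    simp only [Finset.mem_inter, Finset.mem_union, Finset.mem_compl]
    constructor
    · rintro ⟨h | h, h'⟩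
      · exact absurd h h'
      · exact h
    · intro h
      exact ⟨Or.inr h, fun h' => dtv h' h⟩
  have eE : maskFS (cE h1 h2) = w := by
    unfold cE
    rw [maskFS_and, maskFS_compl, maskFS_or, maskFS_dsq, hh1, hh2, maskFS_fsMask, maskFS_fsMask]
    ext x
    simp only [Finset.mem_inter, Finset.mem_union, Finset.mem_compl, hsq]
    constructor
    · rintro ⟨h | h | h | h, h'⟩
      · exact absurd (Or.inl (Or.inl h)) h'
      · exact absurd (Or.inl (Or.inr h)) h'
      · exact absurd (Or.inr (Or.inr h)) h'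
      · exact h
    · intro h
      refine ⟨Or.inr (Or.inr (Or.inr h)), ?_⟩
      rintro ((h' | h') | (h' | h'))
      · exact dtw h' h
      · exact duw h' h
      · exact dtw h' h
      · exact dvw h' h
  have hp3 : popc 24 (cA h1 h2) = 3 := by
    rw [← card_maskFS _ (cA_lt h1 h2 l1), eA, ct]
  obtain ⟨k, hk, hmem⟩ := quart_sweep h1 m1 h2 m2 hp3
  refine ⟨k, hk, ?_⟩
  apply Finset.eq_of_subset_of_card_le
  · intro x hx
    rw [hQeq] at hx
    simp only [Finset.mem_insert, Finset.mem_singleton] at hx
    rcases hx with rfl | rfl | rfl | rfl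
    · rw [← eA]; exact maskFS_mem_toFS (hmem _ (by simp))
    · rw [← eB]; exact maskFS_mem_toFS (hmem _ (by simp))
    · rw [← eC]; exact maskFS_mem_toFS (hmem _ (by simp))
    · rw [← eE]; exact maskFS_mem_toFS (hmem _ (by simp))
  · rw [card_toFS_quart k hk, h4]

/-- A numerical key of quartet `k`. -/
def qKey (k : ℕ) : ℕ := ((quart k).map fun m => m * m).sum

theorem qKey_lt : ∀ k, k + 1 < 220 → qKey k < qKey (k + 1) := by
  intro k hk
  have h : ∀ k < 219, qKey k < qKey (k + 1) := by decide +kernel
  exact h k (by omega)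

theorem toFS_quart_key (k : ℕ) (hk : k < 220) :
    ∑ s ∈ toFS (quart k), fsMask s * fsMask s = qKey k := by
  obtain ⟨h1, hnd, -, -⟩ := quart_ok k hk
  rw [sum_toFS (fun m hm => (h1 m hm).1) hnd]
  unfold qKey
  apply congrArg
  apply List.map_congr_left
  intro m hm
  rw [fsMask_maskFS m (h1 m hm).1]

theorem quart_inj : ∀ k < 220, ∀ k' < 220, toFS (quart k) = toFS (quart k') → k = k' := by
  intro k hk k' hk' h
  apply inj_of_adjacent_lt qKey 220 qKey_lt k hk k' hk'
  rw [← toFS_quart_key k hk, ← toFS_quart_key k' hk', h]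

theorem quartets_sq_eq : quartets Spor.squareDodecad =
    (fun k => toFS (quart k)) '' (Finset.range 220 : Set ℕ) := by
  ext Q
  constructor
  · intro hQ
    obtain ⟨k, hk, rfl⟩ := exists_quart hQ
    exact ⟨k, by simpa using hk, rfl⟩
  · rintro ⟨k, hk, rfl⟩
    exact toFS_mem_quartets (quart_ok k (by simpa using hk))

theorem ncard_quartets_sq : (quartets Spor.squareDodecad).ncard = 220 := by
  rw [quartets_sq_eq, Set.InjOn.ncard_image, Set.ncard_coe_finset, Finset.card_range]
  intro k hk k' hk' h
  exact quart_inj k (by simpa using hk) k' (by simpa using hk') h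

theorem quart_zero : quart 0 = [0x1102, 0x2240, 0x10018, 0x40005] := by decide +kernel

theorem base_sweep : ∀ k < 220, 0x1102 ∈ quart k → 0x2240 ∈ quart k → k = 0 := by
  decide +kernel

theorem uniqueQuartet_base :
    UniqueQuartet Spor.squareDodecad (maskFS 0x1102) (maskFS 0x2240) := by
  refine ⟨toFS (quart 0), ⟨toFS_mem_quartets (quart_ok 0 (by norm_num)), ?_, ?_⟩, ?_⟩
  · rw [quart_zero]
    exact maskFS_mem_toFS (by simp)
  · rw [quart_zero]
    exact maskFS_mem_toFS (by simp)
  · rintro Q ⟨hQ, ht, hu⟩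
    obtain ⟨k, hk, rfl⟩ := exists_quart hQ
    have h1 : 0x1102 ∈ quart k := by
      obtain ⟨m, hm, e⟩ := mem_toFS.1 ht
      have := maskFS_inj ((quart_ok k hk).1 m hm).1 (by norm_num) e
      rwa [this] at hm
    have h2 : 0x2240 ∈ quart k := by
      obtain ⟨m, hm, e⟩ := mem_toFS.1 hu
      have := maskFS_inj ((quart_ok k hk).1 m hm).1 (by norm_num) e
      rwa [this] at hm
    rw [base_sweep k hk h1 h2]

/-- Exactly one quartet of a dodecad contains two given disjoint triples whose union is a
hexad. -/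
theorem uniqueQuartet (d : Finset GolayPt) (hd : d ∈ dodecads) (t u : Finset GolayPt)
    (ht : t.card = 3) (hu : u.card = 3) (htu : Disjoint t u) (hh : t ∪ u ∈ hexadsOn d) :
    UniqueQuartet d t u := by
  refine uniqueQuartet_of_base squareDodecad_mem ?_ ?_ ?_ ?_ uniqueQuartet_base d hd t u ht hu
    htu hh
  · rw [card_maskFS _ (by norm_num)]; decide
  · rw [card_maskFS _ (by norm_num)]; decide
  · rw [Finset.disjoint_iff_inter_eq_empty, ← maskFS_and]
    have : (0x1102 &&& 0x2240 : ℕ) = 0 := by decide
    rw [this]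
    ext x
    simp [mem_maskFS]
  · rw [← maskFS_or]
    exact hexList_mem (by decide)

theorem quartets_smul {g : Equiv.Perm GolayPt} (hg : g ∈ M24) (d : Finset GolayPt) :
    quartets (g • d) = (fun Q => g • Q) '' quartets d := by
  ext Q
  constructor
  · intro hQ
    refine ⟨g⁻¹ • Q, ?_, smul_inv_smul g Q⟩
    have := smul_mem_quartets (M24.inv_mem hg) hQ
    rwa [inv_smul_smul] at this
  · rintro ⟨Q', hQ', rfl⟩
    exact smul_mem_quartets hg hQ'

/-- A dodecad has 220 quartets. -/
theorem ncard_quartets (d : Finset GolayPt) (hd : d ∈ dodecads) : (quartets d).ncard = 220 := by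
  obtain ⟨k, hk⟩ := dodecads_transitive Spor.squareDodecad d squareDodecad_mem hd
  have hk' : (k : Equiv.Perm GolayPt) • Spor.squareDodecad = d := hk
  rw [← hk', quartets_smul k.2, Set.ncard_image_of_injective _ (MulAction.injective _),
    ncard_quartets_sq]

end Cfsg.Agent.Lib.Helper21
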