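import Cfsg.Agent.Lib.Helper21.GolayQuartetOrbData
import Cfsg.Agent.Lib.Helper21.OrbitClass

/-!
The orbits of the stabiliser of a quartet of a dodecad on the quartets of the dodecad.
-/

set_option autoImplicit false

namespace Cfsg.Agent.Lib.Helper21.QuartetOrb

open Cfsg
open Cfsg.Agent.Lib.Helper21
open scoped Pointwise

section Generic

variable {G A B X : Type*} [Group G] [MulAction G A] [MulAction G B] [MulAction G X]

theorem stabilizer_prod_eq (a : A) (b : B) :
    MulAction.stabilizer G (a, b) = MulAction.stabilizer G a ⊓ MulAction.stabilizer G b := by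
  ext g
  rw [Subgroup.mem_inf, MulAction.mem_stabilizer_iff, MulAction.mem_stabilizer_iff,
    MulAction.mem_stabilizer_iff, Prod.smul_mk, Prod.mk.injEq]

/-- Transport of a description of the orbits of a stabiliser on a family depending on the
stabilised object. -/
theorem orbits_transport_var (k : G) (a : A) (F F' : Set X)
    (hFF : ∀ y, y ∈ F' ↔ k⁻¹ • y ∈ F) (n : ℕ) (x : ℕ → X) (cnt : ℕ → ℕ)
    (h : (∀ j < n, (MulAction.orbit (MulAction.stabilizer G a) (x j)).ncard = cnt j) ∧
      (∀ y ∈ F, ∃ j < n, y ∈ MulAction.orbit (MulAction.stabilizer G a) (x j)) ∧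
        ∀ j < n, x j ∈ F) :
    (∀ j < n, (MulAction.orbit (MulAction.stabilizer G (k • a)) (k • x j)).ncard = cnt j) ∧
      (∀ y ∈ F', ∃ j < n, y ∈ MulAction.orbit (MulAction.stabilizer G (k • a)) (k • x j)) ∧
        ∀ j < n, k • x j ∈ F' := by
  refine ⟨fun j hj => ?_, fun y hy => ?_, fun j hj => ?_⟩
  · rw [ncard_orbit_stabilizer_smul]
    exact h.1 j hj
  · obtain ⟨j, hj, hmem⟩ := h.2.1 (k⁻¹ • y) ((hFF y).1 hy)
    refine ⟨j, hj, ?_⟩
    rw [orbit_stabilizer_smul]
    exact ⟨k⁻¹ • y, hmem, smul_inv_smul k y⟩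
  · rw [hFF, inv_smul_smul]
    exact h.2.2 j hj

end Generic

theorem qLA_eq : qLA = dsq :: quart 0 := by
  rw [quart_zero]
  rfl

theorem quart0_mem : toFS (quart 0) ∈ quartets Spor.squareDodecad :=
  toFS_mem_quartets (quart_ok 0 (by norm_num))

/-- An element of the stabiliser of the base family stabilises the dodecad and the quartet. -/
theorem famSub_split {g : Equiv.Perm GolayPt} (hg : g ∈ famSub (toFS qLA)) :
    g ∈ M24 ∧ g • Spor.squareDodecad = Spor.squareDodecad ∧
      g • toFS (quart 0) = toFS (quart 0) := by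
  classical
  obtain ⟨hgM, hgA⟩ := hg
  have hLA : toFS qLA = insert Spor.squareDodecad (toFS (quart 0)) := by
    rw [qLA_eq]
    unfold toFS
    rw [List.map_cons, List.toFinset_cons, maskFS_dsq]
  have hc12 : Spor.squareDodecad.card = 12 := squareDodecad_mem.2
  have hc3 : ∀ x ∈ toFS (quart 0), x.card = 3 := fun x hx => (quart0_mem.2.1 x hx).1
  have h1 : g • Spor.squareDodecad = Spor.squareDodecad := by
    have hmem : g • Spor.squareDodecad ∈ g • toFS qLA :=
      Finset.smul_mem_smul_finset (by rw [hLA]; exact Finset.mem_insert_self _ _)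
    rw [hgA, hLA, Finset.mem_insert] at hmem
    rcases hmem with h | h
    · exact h
    · have h3 := hc3 _ h
      rw [Finset.card_smul_finset, hc12] at h3
      omega
  refine ⟨hgM, h1, ?_⟩
  apply Finset.eq_of_subset_of_card_le
  · intro x hx
    obtain ⟨y, hy, rfl⟩ := Finset.mem_smul_finset.1 hx
    have hmem : g • y ∈ g • toFS qLA :=
      Finset.smul_mem_smul_finset (by rw [hLA]; exact Finset.mem_insert_of_mem hy)
    rw [hgA, hLA, Finset.mem_insert] at hmem
    rcases hmem with h | h
    · have h3 := hc3 y hy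
      have h2 : (g • y).card = 12 := by rw [h, hc12]
      rw [Finset.card_smul_finset] at h2
      omega
    · exact h
  · rw [Finset.card_smul_finset]

/-- The pair of the dodecad of squares and the base quartet. -/
noncomputable def basePair : Finset GolayPt × Finset (Finset GolayPt) :=
  (Spor.squareDodecad, toFS (quart 0))

theorem stab_basePair (g : ↥(MulAction.stabilizer ↥M24 basePair)) :
    ((g : ↥M24) : Equiv.Perm GolayPt) • Spor.squareDodecad = Spor.squareDodecad ∧
      ((g : ↥M24) : Equiv.Perm GolayPt) • toFS (quart 0) = toFS (quart 0) := by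
  have h := g.2
  rw [MulAction.mem_stabilizer_iff] at h
  unfold basePair at h
  rw [Prod.smul_mk, Prod.mk.injEq] at h
  exact h

theorem cval_eq (k : ℕ) (hk : k < 220) :
    pairSum fQ (toFS (quart 0)) (toFS (quart k)) = cvalQ k := by
  obtain ⟨h1, hnd, -, -⟩ := quart_ok k hk
  obtain ⟨h1', hnd', -, -⟩ := quart_ok 0 (by norm_num)
  exact pairSum_toFS fQ (fun m hm => (h1' m hm).1) hnd' (fun m hm => (h1 m hm).1) hnd

/-- The orbits of the stabiliser of the base pair on the quartets of the dodecad of squares. -/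
theorem base_orbits :
    (∀ j < 5, (MulAction.orbit (MulAction.stabilizer ↥M24 basePair)
        (toFS (quart (kRepQ j)))).ncard = ((Finset.range 220).filter (fun k => jOfQ k = j)).card) ∧
      (∀ Q ∈ quartets Spor.squareDodecad, ∃ j < 5,
        Q ∈ MulAction.orbit (MulAction.stabilizer ↥M24 basePair) (toFS (quart (kRepQ j)))) ∧
      ∀ j < 5, toFS (quart (kRepQ j)) ∈ quartets Spor.squareDodecad := by
  classical
  have key := orbits_of_table (G := ↥(MulAction.stabilizer ↥M24 basePair))
    (quartets Spor.squareDodecad) (Set.toFinite _)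
    (fun g y hy => by
      have h := smul_mem_quartets (g : ↥M24).2 hy
      rw [(stab_basePair g).1] at h
      exact h)
    220 5 (fun k => toFS (quart k)) jOfQ kRepQ
    (fun k hk => toFS_mem_quartets (quart_ok k hk))
    quart_inj ncard_quartets_sq (fun k hk => (table_ok k hk).1)
    (by
      intro k hk
      obtain ⟨hj, hw⟩ := table_ok k hk
      obtain ⟨γ, hγ, e⟩ := runWordS_spec (famSub (toFS qLA)) gen step gen_spec 4 7 (wOfQ k)
      obtain ⟨hγM, hγd, hγQ⟩ := famSub_split hγ
      have hrep := (rep_ok (jOfQ k) hj).1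
      refine ⟨⟨⟨γ, hγM⟩, ?_⟩, ?_⟩
      · rw [MulAction.mem_stabilizer_iff]
        unfold basePair
        rw [Prod.smul_mk]
        exact Prod.ext hγd hγQ
      · show γ • toFS (quart (kRepQ (jOfQ k))) = toFS (quart k)
        apply Finset.eq_of_subset_of_card_le
        · intro x hx
          obtain ⟨y, hy, rfl⟩ := Finset.mem_smul_finset.1 hx
          obtain ⟨m, hm, rfl⟩ := mem_toFS.1 hy
          have hlt := ((quart_ok _ hrep).1 m hm).1
          have h2 := e (maskFS m)
          rw [fsMask_maskFS m hlt] at h2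
          have h3 : γ • maskFS m = maskFS (runWordS step 4 7 (wOfQ k) m) := by
            rw [← h2, maskFS_fsMask]
          rw [h3]
          exact maskFS_mem_toFS (hw m hm)
        · rw [Finset.card_smul_finset, card_toFS_quart _ hrep, card_toFS_quart k hk])
    rep_ok (pairSum fQ (toFS (quart 0)))
    (fun g y => by
      have h7 := pairSum_smul fQ ((g : ↥M24) : Equiv.Perm GolayPt) (toFS (quart 0)) y
      rw [(stab_basePair g).2] at h7
      exact h7)
    (by
      intro j hj j' hj' h
      rw [cval_eq _ (rep_ok j hj).1, cval_eq _ (rep_ok j' hj').1] at h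
      exact cval_sep j hj j' hj' h)
  obtain ⟨k1, k2, k3⟩ := key
  refine ⟨fun j hj => ?_, k3, fun j hj => toFS_mem_quartets (quart_ok _ (rep_ok j hj).1)⟩
  rw [k1 j hj, k2 j]

theorem kRepQ_zero : kRepQ 0 = 0 := rfl

/-- A quartet stabiliser has five orbits on the quartets of its dodecad, of sizes
1, 12, 27, 72, 108. -/
theorem quartet_orbits (d : Finset GolayPt) (hd : d ∈ dodecads) (Q : Finset (Finset GolayPt))
    (hQ : Q ∈ quartets d) :
    ∃ X₁ ∈ quartets d, ∃ X₂ ∈ quartets d, ∃ X₃ ∈ quartets d, ∃ X₄ ∈ quartets d,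
      (MulAction.orbit ↥(MulAction.stabilizer M24 d ⊓ MulAction.stabilizer M24 Q) X₁).ncard = 12 ∧
      (MulAction.orbit ↥(MulAction.stabilizer M24 d ⊓ MulAction.stabilizer M24 Q) X₂).ncard = 27 ∧
      (MulAction.orbit ↥(MulAction.stabilizer M24 d ⊓ MulAction.stabilizer M24 Q) X₃).ncard = 72 ∧
      (MulAction.orbit ↥(MulAction.stabilizer M24 d ⊓ MulAction.stabilizer M24 Q) X₄).ncard = 108 ∧
      quartets d = {Q} ∪
        MulAction.orbit ↥(MulAction.stabilizer M24 d ⊓ MulAction.stabilizer M24 Q) X₁ ∪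
        MulAction.orbit ↥(MulAction.stabilizer M24 d ⊓ MulAction.stabilizer M24 Q) X₂ ∪
        MulAction.orbit ↥(MulAction.stabilizer M24 d ⊓ MulAction.stabilizer M24 Q) X₃ ∪
        MulAction.orbit ↥(MulAction.stabilizer M24 d ⊓ MulAction.stabilizer M24 Q) X₄ := by
  classical
  -- move the base pair to `(d, Q)`
  obtain ⟨k₁, hk₁⟩ := dodecads_transitive Spor.squareDodecad d squareDodecad_mem hd
  have hk₁' : (k₁ : Equiv.Perm GolayPt) • Spor.squareDodecad = d := hk₁
  have hQ1 : (k₁ : Equiv.Perm GolayPt)⁻¹ • Q ∈ quartets Spor.squareDodecad := by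
    have h := smul_mem_quartets (M24.inv_mem k₁.2) hQ
    rwa [← hk₁', inv_smul_smul] at h
  obtain ⟨g, hg, hgd, hgQ⟩ := quartets_transitive uniqueQuartet Spor.squareDodecad
    squareDodecad_mem (toFS (quart 0)) _ quart0_mem hQ1
  set k : ↥M24 := k₁ * ⟨g, hg⟩ with hk
  have hkd : k • Spor.squareDodecad = d := by
    show ((k₁ : Equiv.Perm GolayPt) * g) • Spor.squareDodecad = d
    rw [mul_smul, hgd, hk₁']
  have hkQ : k • toFS (quart 0) = Q := by
    show ((k₁ : Equiv.Perm GolayPt) * g) • toFS (quart 0) = Q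
    rw [mul_smul, hgQ, smul_inv_smul]
  have hka : k • basePair = (d, Q) := by
    unfold basePair
    rw [Prod.smul_mk, hkd, hkQ]
  have hFF : ∀ y, y ∈ quartets d ↔ k⁻¹ • y ∈ quartets Spor.squareDodecad := by
    intro y
    constructor
    · intro hy
      have h := smul_mem_quartets (k⁻¹ : ↥M24).2 hy
      have e : ((k⁻¹ : ↥M24) : Equiv.Perm GolayPt) • d = Spor.squareDodecad := by
        rw [← hkd]
        exact inv_smul_smul k _
      rwa [e] at h
    · intro hy
      have h := smul_mem_quartets k.2 hy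
      have e : (k : Equiv.Perm GolayPt) • Spor.squareDodecad = d := hkd
      rw [e] at h
      have e2 : (k : Equiv.Perm GolayPt) • (k⁻¹ • y) = y := smul_inv_smul k y
      rwa [e2] at h
  obtain ⟨h1, h2, h3⟩ := orbits_transport_var k basePair (quartets Spor.squareDodecad)
    (quartets d) hFF 5 (fun j => toFS (quart (kRepQ j)))
    (fun j => ((Finset.range 220).filter (fun k => jOfQ k = j)).card) base_orbits
  rw [hka, stabilizer_prod_eq] at h1 h2
  have hx0 : k • toFS (quart (kRepQ 0)) = Q := by rw [kRepQ_zero]; exact hkQ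
  have horbQ : ∀ y ∈ MulAction.orbit ↥(MulAction.stabilizer M24 d ⊓ MulAction.stabilizer M24 Q) Q,
      y = Q := by
    rintro y ⟨γ, rfl⟩
    have hγ := γ.2
    rw [Subgroup.mem_inf, MulAction.mem_stabilizer_iff, MulAction.mem_stabilizer_iff] at hγ
    exact hγ.2
  have hinv : ∀ (γ : ↥(MulAction.stabilizer M24 d ⊓ MulAction.stabilizer M24 Q)),
      ∀ y ∈ quartets d, γ • y ∈ quartets d := by
    intro γ y hy
    have hγ := γ.2
    rw [Subgroup.mem_inf, MulAction.mem_stabilizer_iff, MulAction.mem_stabilizer_iff] at hγ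
    have h := smul_mem_quartets ((γ : ↥M24)).2 hy
    have e : (((γ : ↥M24)) : Equiv.Perm GolayPt) • d = d := hγ.1
    rwa [e] at h
  have hsub : ∀ j < 5, MulAction.orbit ↥(MulAction.stabilizer M24 d ⊓ MulAction.stabilizer M24 Q)
      (k • toFS (quart (kRepQ j))) ⊆ quartets d := by
    rintro j hj y ⟨γ, rfl⟩
    exact hinv γ _ (h3 j hj)
  refine ⟨_, h3 1 (by norm_num), _, h3 2 (by norm_num), _, h3 3 (by norm_num), _,
    h3 4 (by norm_num), ?_, ?_, ?_, ?_, ?_⟩
  · rw [h1 1 (by norm_num)]; exact qcount_1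
  · rw [h1 2 (by norm_num)]; exact qcount_2
  · rw [h1 3 (by norm_num)]; exact qcount_3
  · rw [h1 4 (by norm_num)]; exact qcount_4
  · apply Set.Subset.antisymm
    · intro y hy
      obtain ⟨j, hj, hmem⟩ := h2 y hy
      interval_cases j
      · rw [hx0] at hmem
        exact Or.inl (Or.inl (Or.inl (Or.inl (horbQ y hmem))))
      · exact Or.inl (Or.inl (Or.inl (Or.inr hmem)))
      · exact Or.inl (Or.inl (Or.inr hmem))
      · exact Or.inl (Or.inr hmem)
      · exact Or.inr hmem
    · rintro y ((((hy | hy) | hy) | hy) | hy)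
      · rw [Set.mem_singleton_iff.1 hy]; exact hQ
      · exact hsub 1 (by norm_num) hy
      · exact hsub 2 (by norm_num) hy
      · exact hsub 3 (by norm_num) hy
      · exact hsub 4 (by norm_num) hy

end Cfsg.Agent.Lib.Helper21.QuartetOrb
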