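import Cfsg.Agent.Lib.Helper21.GolayQuartetStabData
import Cfsg.Agent.Lib.Helper21.GolayStab
import Mathlib.LinearAlgebra.Matrix.GeneralLinearGroup.Card
import Mathlib.GroupTheory.QuotientGroup.Basic

/-!
The stabiliser of a quartet of a dodecad: order 432, transitive on the dodecad, an extension of a
group of order 9 by `GL(2, 3)` through its affine action on an orbit of nine points.
-/

set_option autoImplicit false

namespace Cfsg.Agent.Lib.Helper21.QuartetStab

open Cfsg
open Cfsg.Agent.Lib.Helper21 Cfsg.Agent.Lib.Helper21.QuartetOrb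
open scoped Pointwise

section Generic

theorem exists_normal_quot_of_mulEquiv {G H K : Type*} [Group G] [Group H] [Group K] (e : G ≃* H)
    (n : ℕ) (h : ∃ (N : Subgroup G) (_ : N.Normal), Nat.card N = n ∧ Nonempty (G ⧸ N ≃* K)) :
    ∃ (N : Subgroup H) (_ : N.Normal), Nat.card N = n ∧ Nonempty (H ⧸ N ≃* K) := by
  obtain ⟨N, hN, hc, ⟨f⟩⟩ := h
  haveI := hN
  have hN' : (N.map (e : G →* H)).Normal := Subgroup.Normal.map hN (e : G →* H) e.surjective
  haveI := hN'
  refine ⟨N.map (e : G →* H), hN', ?_,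
    ⟨(QuotientGroup.congr N (N.map (e : G →* H)) e rfl).symm.trans f⟩⟩
  rw [← hc]
  exact Nat.card_congr (e.subgroupMap N).toEquiv.symm

theorem exists_normal_quot_of_hom {G K : Type*} [Group G] [Group K] [Finite G] [Finite K]
    (φ : G →* K) (n : ℕ) (hn : 0 < n) (hG : Nat.card G = n * Nat.card K)
    (hker : Nat.card φ.ker ≤ n) :
    ∃ (N : Subgroup G) (_ : N.Normal), Nat.card N = n ∧ Nonempty (G ⧸ N ≃* K) := by
  have h1 := Subgroup.card_mul_index φ.ker
  rw [Subgroup.index_ker] at h1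
  have h2 : Nat.card φ.range ≤ Nat.card K := Subgroup.card_le_card_group φ.range
  have hK : 0 < Nat.card K := Nat.card_pos
  have h3 : Nat.card φ.ker * Nat.card φ.range = n * Nat.card K := by rw [h1, hG]
  have hrc : Nat.card φ.range = Nat.card K := by
    by_contra hne
    have hlt : Nat.card φ.range < Nat.card K := lt_of_le_of_ne h2 hne
    have h4 : Nat.card φ.ker * Nat.card φ.range ≤ n * Nat.card φ.range :=
      Nat.mul_le_mul_right _ hker
    have h5 : n * Nat.card φ.range < n * Nat.card K := Nat.mul_lt_mul_of_pos_left hlt hn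
    omega
  have hkn : Nat.card φ.ker = n := by
    rw [hrc] at h3
    exact Nat.eq_of_mul_eq_mul_right hK h3
  have hsurj : Function.Surjective φ := by
    rw [← MonoidHom.range_eq_top]
    exact (Subgroup.card_eq_iff_eq_top φ.range).1 hrc
  exact ⟨φ.ker, inferInstance, hkn, ⟨QuotientGroup.quotientKerEquivOfSurjective φ hsurj⟩⟩

end Generic

/-! ### Words in the generators -/

theorem permOfTab_ptN (T TI : ℕ) (h : TabInv T TI) (i : ℕ) (hi : i < 24) :
    permOfTab T TI h (ptN i) = ptN (tabGet T i) ∧ tabGet T i < 24 := by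
  have h1 := (h ⟨i, hi⟩).1
  refine ⟨?_, h1⟩
  apply gEquiv.injective
  show gEquiv (tabMap T (ptN i)) = _
  rw [tabMap_apply h, gEquiv_ptN _ h1]
  apply Fin.ext
  show tabGet T ((gEquiv (ptN i) : Fin 24) : ℕ) = tabGet T i
  rw [gEquiv_ptN_val i hi]

theorem gen_ptN (j i : ℕ) (hi : i < 24) :
    gen j (ptN i) = ptN (tabGet (tq j) i) ∧ tabGet (tq j) i < 24 := by
  match j with
  | 0 => exact permOfTab_ptN t0 t2 tab0 i hi
  | 1 => exact permOfTab_ptN t1 t3 tab1 i hi
  | 2 => exact permOfTab_ptN t2 t0 tab2 i hi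
  | (n + 3) => exact permOfTab_ptN t3 t1 tab3 i hi

/-- The permutation of a word in the generators of the quartet stabiliser. -/
noncomputable def wordQ : ℕ → ℕ → Equiv.Perm GolayPt
  | 0, _ => 1
  | f + 1, w => if w ≤ 1 then 1 else wordQ f (w / 4) * gen (w % 4)

theorem wordQ_mem (f w : ℕ) : wordQ f w ∈ famSub (toFS qLA) := by
  induction f generalizing w with
  | zero => exact (famSub (toFS qLA)).one_mem
  | succ f ih =>
    rw [wordQ]
    split
    · exact (famSub (toFS qLA)).one_mem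
    · exact (famSub (toFS qLA)).mul_mem (ih _) (gen_spec _).1

theorem runQ_lt (f w i : ℕ) (hi : i < 24) : runQ f w i < 24 := by
  induction f generalizing w i with
  | zero => exact hi
  | succ f ih =>
    rw [runQ]
    split
    · exact hi
    · exact ih _ _ (gen_ptN _ _ hi).2

theorem wordQ_ptN (f w i : ℕ) (hi : i < 24) : wordQ f w (ptN i) = ptN (runQ f w i) := by
  induction f generalizing w i with
  | zero => rfl
  | succ f ih =>
    rw [wordQ, runQ]
    split
    · rfl
    · rw [Equiv.Perm.mul_apply, (gen_ptN _ _ hi).1, ih _ _ (gen_ptN _ _ hi).2]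

/-- Element `i` of the enumeration. -/
noncomputable def el (i : ℕ) : Equiv.Perm GolayPt := wordQ 9 (hW i)

theorem run_lt (i p : ℕ) (hp : p < 24) : run i p < 24 := runQ_lt _ _ _ hp

theorem el_ptN (i p : ℕ) (hp : p < 24) : el i (ptN p) = ptN (run i p) := wordQ_ptN _ _ _ hp

theorem el_mem (i : ℕ) : el i ∈ M24 ∧ el i • Spor.squareDodecad = Spor.squareDodecad ∧
    el i • toFS (quart 0) = toFS (quart 0) := famSub_split (wordQ_mem _ _)

theorem el_inj : ∀ i < 432, ∀ j < 432, el i = el j → i = j := by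
  intro i hi j hj h
  apply inj_of_adjacent_lt key 432 key_lt i hi j hj
  have hrun : ∀ p < 24, run i p = run j p := by
    intro p hp
    apply ptN_injOn (run_lt i p hp) (run_lt j p hp)
    rw [← el_ptN i p hp, ← el_ptN j p hp, h]
  unfold key
  rw [hrun 5 (by norm_num), hrun 20 (by norm_num), hrun 22 (by norm_num)]

/-! ### The order of the stabiliser -/

theorem mem_stab_basePair {g : ↥M24} : g ∈ MulAction.stabilizer ↥M24 basePair ↔
    (g : Equiv.Perm GolayPt) • Spor.squareDodecad = Spor.squareDodecad ∧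
      (g : Equiv.Perm GolayPt) • toFS (quart 0) = toFS (quart 0) := by
  rw [MulAction.mem_stabilizer_iff]
  unfold basePair
  rw [Prod.smul_mk, Prod.mk.injEq]
  rfl

theorem orbit_quart0 : MulAction.orbit ↥(MulAction.stabilizer ↥M24 Spor.squareDodecad)
    (toFS (quart 0)) = quartets Spor.squareDodecad := by
  ext Q
  constructor
  · rintro ⟨g, rfl⟩
    have h := smul_mem_quartets (g : ↥M24).2 quart0_mem
    have e : ((g : ↥M24) : Equiv.Perm GolayPt) • Spor.squareDodecad = Spor.squareDodecad :=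
      MulAction.mem_stabilizer_iff.1 g.2
    rw [e] at h
    exact h
  · intro hQ
    obtain ⟨g, hg, hgd, hgQ⟩ := quartets_transitive uniqueQuartet Spor.squareDodecad
      squareDodecad_mem (toFS (quart 0)) Q quart0_mem hQ
    exact ⟨⟨⟨g, hg⟩, MulAction.mem_stabilizer_iff.2 hgd⟩, hgQ⟩

theorem card_stab_basePair : Nat.card (MulAction.stabilizer ↥M24 basePair) = 432 := by
  have e1 : MulAction.stabilizer ↥M24 basePair =
      MulAction.stabilizer ↥M24 Spor.squareDodecad ⊓
        MulAction.stabilizer ↥M24 (toFS (quart 0)) := stabilizer_prod_eq _ _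
  have e2 : (MulAction.stabilizer ↥M24 (toFS (quart 0))).subgroupOf
      (MulAction.stabilizer ↥M24 Spor.squareDodecad) =
      MulAction.stabilizer ↥(MulAction.stabilizer ↥M24 Spor.squareDodecad) (toFS (quart 0)) := by
    ext g
    rw [Subgroup.mem_subgroupOf, MulAction.mem_stabilizer_iff, MulAction.mem_stabilizer_iff]
    rfl
  have h1 := Subgroup.relIndex_mul_index (inf_le_left :
    MulAction.stabilizer ↥M24 Spor.squareDodecad ⊓ MulAction.stabilizer ↥M24 (toFS (quart 0)) ≤
      MulAction.stabilizer ↥M24 Spor.squareDodecad)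
  rw [Subgroup.inf_relIndex_left, Subgroup.relIndex, e2, MulAction.index_stabilizer, orbit_quart0,
    ncard_quartets _ squareDodecad_mem, MulAction.index_stabilizer,
    orbit_dodecad _ squareDodecad_mem, ncard_dodecads, ← e1] at h1
  have h2 := Subgroup.card_mul_index (MulAction.stabilizer ↥M24 basePair)
  rw [← h1, card_M24] at h2
  have h3 : (432 : ℕ) * (220 * 2576) = 244823040 := by norm_num
  rw [← h3] at h2
  exact Nat.eq_of_mul_eq_mul_right (by norm_num) h2


/-! ### The enumeration of the stabiliser -/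

/-- Element `i` as an element of the stabiliser. -/
noncomputable def elH (i : ℕ) : ↥(MulAction.stabilizer ↥M24 basePair) :=
  ⟨⟨el i, (el_mem i).1⟩, mem_stab_basePair.2 ⟨(el_mem i).2.1, (el_mem i).2.2⟩⟩

theorem elH_coe (i : ℕ) : (((elH i : ↥(MulAction.stabilizer ↥M24 basePair)) : ↥M24) :
    Equiv.Perm GolayPt) = el i := rfl

theorem enum (h : ↥(MulAction.stabilizer ↥M24 basePair)) :
    ∃ i < 432, ((h : ↥M24) : Equiv.Perm GolayPt) = el i := by
  classical
  let f : ↥(MulAction.stabilizer ↥M24 basePair) → Equiv.Perm GolayPt :=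
    fun h => ((h : ↥M24) : Equiv.Perm GolayPt)
  have hf : Function.Injective f := fun a b hab => Subtype.ext (Subtype.ext hab)
  have hB : (Set.range f).ncard = 432 := by
    rw [← Nat.card_coe_set_eq, Nat.card_range_of_injective hf, card_stab_basePair]
  have hA : (el '' {i | i < 432}).ncard = 432 := by
    have hinj : Set.InjOn el {i | i < 432} := fun i hi j hj hij => el_inj i hi j hj hij
    rw [hinj.ncard_image]
    have : {i : ℕ | i < 432} = ↑(Finset.range 432) := by
      ext i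
      simp
    rw [this, Set.ncard_coe_finset, Finset.card_range]
  have hsub : el '' {i | i < 432} ⊆ Set.range f := by
    rintro g ⟨i, -, rfl⟩
    exact ⟨elH i, rfl⟩
  have heq := Set.eq_of_subset_of_ncard_le hsub (by rw [hA, hB]) (Set.toFinite _)
  have hmem : f h ∈ el '' {i | i < 432} := by
    rw [heq]
    exact ⟨h, rfl⟩
  obtain ⟨i, hi, e⟩ := hmem
  exact ⟨i, hi, e.symm⟩

/-! ### The affine action on the orbit of nine points -/

/-- The point with coordinates `(x, y)`. -/
def P (x y : ZMod 3) : GolayPt := ptN (posOf x y)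

/-- The first coordinate of a point. -/
def gX (p : GolayPt) : ZMod 3 := cX ((gEquiv p : Fin 24) : ℕ)

/-- The second coordinate of a point. -/
def gY (p : GolayPt) : ZMod 3 := cY ((gEquiv p : Fin 24) : ℕ)

theorem mem_z3 (x : ZMod 3) : x ∈ z3 := by
  revert x
  decide

theorem posOf_lt (x y : ZMod 3) : posOf x y < 24 := (pos_ok x (mem_z3 x) y (mem_z3 y)).1

theorem gX_P (x y : ZMod 3) : gX (P x y) = x := by
  unfold gX P
  rw [gEquiv_ptN_val _ (posOf_lt x y)]
  exact (pos_ok x (mem_z3 x) y (mem_z3 y)).2.1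

theorem gY_P (x y : ZMod 3) : gY (P x y) = y := by
  unfold gY P
  rw [gEquiv_ptN_val _ (posOf_lt x y)]
  exact (pos_ok x (mem_z3 x) y (mem_z3 y)).2.2

/-- The coefficients of the affine map induced by a permutation. -/
def BX (g : Equiv.Perm GolayPt) : ZMod 3 := gX (g (P 0 0))
def BY (g : Equiv.Perm GolayPt) : ZMod 3 := gY (g (P 0 0))
def A11 (g : Equiv.Perm GolayPt) : ZMod 3 := gX (g (P 1 0)) - BX g
def A21 (g : Equiv.Perm GolayPt) : ZMod 3 := gY (g (P 1 0)) - BY g
def A12 (g : Equiv.Perm GolayPt) : ZMod 3 := gX (g (P 0 1)) - BX g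
def A22 (g : Equiv.Perm GolayPt) : ZMod 3 := gY (g (P 0 1)) - BY g

/-- The permutation acts on the nine points as an affine map. -/
def IsAffQ (g : Equiv.Perm GolayPt) : Prop :=
  ∀ x y : ZMod 3, g (P x y) = P (A11 g * x + A12 g * y + BX g) (A21 g * x + A22 g * y + BY g)

theorem el_P (i : ℕ) (x y : ZMod 3) : el i (P x y) = ptN (run i (posOf x y)) :=
  el_ptN i _ (posOf_lt x y)

theorem gX_el (i : ℕ) (x y : ZMod 3) : gX (el i (P x y)) = cX (run i (posOf x y)) := by
  rw [el_P]
  unfold gX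
  rw [gEquiv_ptN_val _ (run_lt _ _ (posOf_lt x y))]

theorem gY_el (i : ℕ) (x y : ZMod 3) : gY (el i (P x y)) = cY (run i (posOf x y)) := by
  rw [el_P]
  unfold gY
  rw [gEquiv_ptN_val _ (run_lt _ _ (posOf_lt x y))]

theorem coeff_el (i : ℕ) : BX (el i) = bx i ∧ BY (el i) = by' i ∧ A11 (el i) = a11 i ∧
    A21 (el i) = a21 i ∧ A12 (el i) = a12 i ∧ A22 (el i) = a22 i := by
  unfold A11 A21 A12 A22 BX BY
  simp only [gX_el, gY_el]
  exact ⟨rfl, rfl, rfl, rfl, rfl, rfl⟩

theorem isAffQ_el (i : ℕ) (hi : i < 432) : IsAffQ (el i) := by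
  intro x y
  obtain ⟨h1, h2, h3, h4, h5, h6⟩ := coeff_el i
  rw [h1, h2, h3, h4, h5, h6, el_P, aff_ok i hi x (mem_z3 x) y (mem_z3 y)]
  rfl

theorem isAffQ_of_mem (h : ↥(MulAction.stabilizer ↥M24 basePair)) :
    IsAffQ ((h : ↥M24) : Equiv.Perm GolayPt) := by
  obtain ⟨i, hi, e⟩ := enum h
  rw [e]
  exact isAffQ_el i hi

theorem aff_eval {g h : Equiv.Perm GolayPt} (hg : IsAffQ g) (hh : IsAffQ h) (x y : ZMod 3) :
    gX ((g * h) (P x y)) = A11 g * (A11 h * x + A12 h * y + BX h) +
      A12 g * (A21 h * x + A22 h * y + BY h) + BX g ∧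
    gY ((g * h) (P x y)) = A21 g * (A11 h * x + A12 h * y + BX h) +
      A22 g * (A21 h * x + A22 h * y + BY h) + BY g := by
  rw [Equiv.Perm.mul_apply, hh x y, hg, gX_P, gY_P]
  exact ⟨rfl, rfl⟩

theorem coeff_mul {g h : Equiv.Perm GolayPt} (hg : IsAffQ g) (hh : IsAffQ h) :
    BX (g * h) = A11 g * BX h + A12 g * BY h + BX g ∧
    BY (g * h) = A21 g * BX h + A22 g * BY h + BY g ∧
    A11 (g * h) = A11 g * A11 h + A12 g * A21 h ∧
    A12 (g * h) = A11 g * A12 h + A12 g * A22 h ∧
    A21 (g * h) = A21 g * A11 h + A22 g * A21 h ∧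
    A22 (g * h) = A21 g * A12 h + A22 g * A22 h := by
  have e00 := aff_eval hg hh 0 0
  have e10 := aff_eval hg hh 1 0
  have e01 := aff_eval hg hh 0 1
  have hBX : BX (g * h) = A11 g * BX h + A12 g * BY h + BX g := by
    show gX ((g * h) (P 0 0)) = _
    rw [e00.1]
    ring
  have hBY : BY (g * h) = A21 g * BX h + A22 g * BY h + BY g := by
    show gY ((g * h) (P 0 0)) = _
    rw [e00.2]
    ring
  refine ⟨hBX, hBY, ?_, ?_, ?_, ?_⟩
  · show gX ((g * h) (P 1 0)) - BX (g * h) = _
    rw [e10.1, hBX]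
    ring
  · show gX ((g * h) (P 0 1)) - BX (g * h) = _
    rw [e01.1, hBX]
    ring
  · show gY ((g * h) (P 1 0)) - BY (g * h) = _
    rw [e10.2, hBY]
    ring
  · show gY ((g * h) (P 0 1)) - BY (g * h) = _
    rw [e01.2, hBY]
    ring

theorem IsAffQ.mul {g h : Equiv.Perm GolayPt} (hg : IsAffQ g) (hh : IsAffQ h) :
    IsAffQ (g * h) := by
  intro x y
  obtain ⟨c1, c2, c3, c4, c5, c6⟩ := coeff_mul hg hh
  rw [c1, c2, c3, c4, c5, c6, Equiv.Perm.mul_apply, hh x y, hg]
  congr 1 <;> ring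

/-- The linear part of the affine map. -/
def mat (g : Equiv.Perm GolayPt) : Matrix (Fin 2) (Fin 2) (ZMod 3) :=
  !![A11 g, A12 g; A21 g, A22 g]

theorem mat_mul {g h : Equiv.Perm GolayPt} (hg : IsAffQ g) (hh : IsAffQ h) :
    mat (g * h) = mat g * mat h := by
  obtain ⟨-, -, c3, c4, c5, c6⟩ := coeff_mul hg hh
  unfold mat
  rw [Matrix.mul_fin_two, c3, c4, c5, c6]

theorem mat_one : mat 1 = 1 := by
  unfold mat A11 A12 A21 A22 BX BY
  simp only [Equiv.Perm.coe_one, id_eq, gX_P, gY_P, Matrix.one_fin_two]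
  simp

/-- The linear part, as a homomorphism on the stabiliser. -/
noncomputable def matHom : ↥(MulAction.stabilizer ↥M24 basePair) →*
    Matrix (Fin 2) (Fin 2) (ZMod 3) where
  toFun h := mat ((h : ↥M24) : Equiv.Perm GolayPt)
  map_one' := mat_one
  map_mul' a b := mat_mul (isAffQ_of_mem a) (isAffQ_of_mem b)

/-- The linear part, with values in the general linear group. -/
noncomputable def glHom : ↥(MulAction.stabilizer ↥M24 basePair) →* GL (Fin 2) (ZMod 3) :=
  matHom.toHomUnits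

theorem mem_ker_glHom {h : ↥(MulAction.stabilizer ↥M24 basePair)} (hh : h ∈ glHom.ker) :
    mat ((h : ↥M24) : Equiv.Perm GolayPt) = 1 := by
  rw [MonoidHom.mem_ker] at hh
  have := congrArg (fun u : GL (Fin 2) (ZMod 3) => (u : Matrix (Fin 2) (Fin 2) (ZMod 3))) hh
  exact this

theorem coeff_of_mat_one {g : Equiv.Perm GolayPt} (h : mat g = 1) :
    A11 g = 1 ∧ A12 g = 0 ∧ A21 g = 0 ∧ A22 g = 1 := by
  unfold mat at h
  have h00 := congrFun (congrFun h 0) 0
  have h01 := congrFun (congrFun h 0) 1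
  have h10 := congrFun (congrFun h 1) 0
  have h11 := congrFun (congrFun h 1) 1
  simp at h00 h01 h10 h11
  exact ⟨h00, h01, h10, h11⟩

theorem eq_one_of_fix_nine (h : ↥(MulAction.stabilizer ↥M24 basePair))
    (hfix : ∀ x y : ZMod 3, ((h : ↥M24) : Equiv.Perm GolayPt) (P x y) = P x y) : h = 1 := by
  obtain ⟨i, hi, e⟩ := enum h
  have h1 : ∀ x ∈ z3, ∀ y ∈ z3, run i (posOf x y) = posOf x y := by
    intro x _ y _
    have := hfix x y
    rw [e, el_P] at this
    exact ptN_injOn (run_lt _ _ (posOf_lt x y)) (posOf_lt x y) this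
  have h2 := faithful_ok i hi h1
  apply Subtype.ext
  apply Subtype.ext
  rw [e]
  ext p
  have := el_ptN i _ (gEquiv p).isLt
  rw [ptN_gEquiv, h2 _ (gEquiv p).isLt, ptN_gEquiv] at this
  rw [this]
  rfl

theorem card_ker_glHom_le : Nat.card glHom.ker ≤ 9 := by
  have hinj : Function.Injective (fun h : ↥glHom.ker =>
      (BX (((h : ↥(MulAction.stabilizer ↥M24 basePair)) : ↥M24) : Equiv.Perm GolayPt),
        BY (((h : ↥(MulAction.stabilizer ↥M24 basePair)) : ↥M24) : Equiv.Perm GolayPt))) := by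
    intro a b hab
    have hX : BX _ = BX _ := congrArg Prod.fst hab
    have hY : BY _ = BY _ := congrArg Prod.snd hab
    obtain ⟨a1, a2, a3, a4⟩ := coeff_of_mat_one (mem_ker_glHom a.2)
    obtain ⟨b1, b2, b3, b4⟩ := coeff_of_mat_one (mem_ker_glHom b.2)
    have hagree : ∀ x y : ZMod 3,
        (((a : ↥(MulAction.stabilizer ↥M24 basePair)) : ↥M24) : Equiv.Perm GolayPt) (P x y) =
        (((b : ↥(MulAction.stabilizer ↥M24 basePair)) : ↥M24) : Equiv.Perm GolayPt) (P x y) := by
      intro x y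
      rw [isAffQ_of_mem a.1 x y, isAffQ_of_mem b.1 x y, a1, a2, a3, a4, b1, b2, b3, b4, hX, hY]
    have h1 : (a : ↥(MulAction.stabilizer ↥M24 basePair))⁻¹ *
        (b : ↥(MulAction.stabilizer ↥M24 basePair)) = 1 := by
      apply eq_one_of_fix_nine
      intro x y
      show (((a : ↥(MulAction.stabilizer ↥M24 basePair)) : ↥M24) : Equiv.Perm GolayPt)⁻¹
        ((((b : ↥(MulAction.stabilizer ↥M24 basePair)) : ↥M24) : Equiv.Perm GolayPt) (P x y)) = _
      rw [← hagree x y, perm_inv_apply]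
    exact Subtype.ext (inv_mul_eq_one.1 h1)
  have h9 : Nat.card (ZMod 3 × ZMod 3) = 9 := by
    rw [Nat.card_prod, Nat.card_eq_fintype_card, ZMod.card]
  have := Nat.card_le_card_of_injective _ hinj
  rw [h9] at this
  exact this

theorem card_GL23 : Nat.card (GL (Fin 2) (ZMod 3)) = 48 := by
  rw [Matrix.card_GL_field, Fin.prod_univ_two, ZMod.card]
  rfl

/-- The structure of the stabiliser of the base pair. -/
theorem base_structure : ∃ (N : Subgroup ↥(MulAction.stabilizer ↥M24 basePair)) (_ : N.Normal),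
    Nat.card N = 9 ∧
      Nonempty (↥(MulAction.stabilizer ↥M24 basePair) ⧸ N ≃* GL (Fin 2) (ZMod 3)) :=
  exists_normal_quot_of_hom glHom 9 (by norm_num) (by rw [card_stab_basePair, card_GL23])
    card_ker_glHom_le

/-! ### Transitivity on the dodecad -/

theorem base_transitive (p q : GolayPt) (hp : p ∈ Spor.squareDodecad)
    (hq : q ∈ Spor.squareDodecad) :
    ∃ g ∈ MulAction.stabilizer ↥M24 basePair, ((g : ↥M24) : Equiv.Perm GolayPt) p = q := by
  have key : ∀ r ∈ Spor.squareDodecad, ∃ g : ↥(MulAction.stabilizer ↥M24 basePair),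
      (((g : ↥(MulAction.stabilizer ↥M24 basePair)) : ↥M24) : Equiv.Perm GolayPt) (ptN 0) = r := by
    intro r hr
    rw [← maskFS_dsq, mem_maskFS] at hr
    obtain ⟨-, h2⟩ := trans_ok _ (gEquiv r).isLt hr
    refine ⟨elH (tI (gEquiv r : Fin 24)), ?_⟩
    rw [elH_coe, el_ptN _ _ (by norm_num), h2, ptN_gEquiv]
  obtain ⟨a, ha⟩ := key p hp
  obtain ⟨b, hb⟩ := key q hq
  refine ⟨(b * a⁻¹ : ↥(MulAction.stabilizer ↥M24 basePair)), (b * a⁻¹).2, ?_⟩
  show (((b : ↥(MulAction.stabilizer ↥M24 basePair)) : ↥M24) : Equiv.Perm GolayPt)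
    ((((a : ↥(MulAction.stabilizer ↥M24 basePair)) : ↥M24) : Equiv.Perm GolayPt)⁻¹ p) = q
  rw [← ha, perm_inv_apply, hb]


/-- A quartet stabiliser inside the dodecad stabiliser has order 432, a normal subgroup of order 9
with quotient `GL(2, 3)`, and is transitive on the dodecad. -/
theorem quartet_stab_structure (d : Finset GolayPt) (hd : d ∈ dodecads)
    (Q : Finset (Finset GolayPt)) (hQ : Q ∈ quartets d) :
    Nat.card ↥(MulAction.stabilizer M24 d ⊓ MulAction.stabilizer M24 Q) = 432 ∧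
    (∃ (N : Subgroup ↥(MulAction.stabilizer M24 d ⊓ MulAction.stabilizer M24 Q)) (_ : N.Normal),
      Nat.card N = 9 ∧ Nonempty (↥(MulAction.stabilizer M24 d ⊓ MulAction.stabilizer M24 Q) ⧸ N ≃*
        GL (Fin 2) (ZMod 3))) ∧
    ∀ p ∈ d, ∀ q ∈ d, ∃ g ∈ (MulAction.stabilizer M24 d ⊓ MulAction.stabilizer M24 Q),
      ((g : ↥M24) : Equiv.Perm GolayPt) p = q := by
  classical
  obtain ⟨k₁, hk₁⟩ := dodecads_transitive Spor.squareDodecad d squareDodecad_mem hd
  have hk₁' : (k₁ : Equiv.Perm GolayPt) • Spor.squareDodecad = d := hk₁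
  have hQ1 : (k₁ : Equiv.Perm GolayPt)⁻¹ • Q ∈ quartets Spor.squareDodecad := by
    have h := smul_mem_quartets (M24.inv_mem k₁.2) hQ
    rwa [← hk₁', inv_smul_smul] at h
  obtain ⟨g, hg, hgd, hgQ⟩ := quartets_transitive uniqueQuartet Spor.squareDodecad
    squareDodecad_mem (toFS (quart 0)) _ quart0_mem hQ1
  set k : ↥M24 := k₁ * ⟨g, hg⟩ with hk
  have hkd : k • Spor.squareDodecad = d := by
    show ((k₁ : Equiv.Perm GolayPt) * g) • Spor.squareDodecad = d
    rw [mul_smul, hgd, hk₁']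
  have hkQ : k • toFS (quart 0) = Q := by
    show ((k₁ : Equiv.Perm GolayPt) * g) • toFS (quart 0) = Q
    rw [mul_smul, hgQ, smul_inv_smul]
  have hka : k • basePair = (d, Q) := by
    unfold basePair
    rw [Prod.smul_mk, hkd, hkQ]
  have key : Nat.card ↥(MulAction.stabilizer ↥M24 (k • basePair)) = 432 ∧
      (∃ (N : Subgroup ↥(MulAction.stabilizer ↥M24 (k • basePair))) (_ : N.Normal),
        Nat.card N = 9 ∧ Nonempty (↥(MulAction.stabilizer ↥M24 (k • basePair)) ⧸ N ≃*
          GL (Fin 2) (ZMod 3))) ∧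
      ∀ p ∈ d, ∀ q ∈ d, ∃ γ ∈ MulAction.stabilizer ↥M24 (k • basePair),
        ((γ : ↥M24) : Equiv.Perm GolayPt) p = q := by
    have e : ↥(MulAction.stabilizer ↥M24 basePair) ≃* ↥(MulAction.stabilizer ↥M24 (k • basePair)) :=
      MulAction.stabilizerEquivStabilizer (G := ↥M24) (a := basePair) (b := k • basePair) (g := k) rfl
    refine ⟨?_, exists_normal_quot_of_mulEquiv e 9 base_structure, ?_⟩
    · rw [← Nat.card_congr e.toEquiv, card_stab_basePair]
    · intro p hp q hq
      have hp' : (k : Equiv.Perm GolayPt)⁻¹ p ∈ Spor.squareDodecad := by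
        have h1 : p ∈ (k : Equiv.Perm GolayPt) • Spor.squareDodecad := by
          rw [show (k : Equiv.Perm GolayPt) • Spor.squareDodecad = d from hkd]
          exact hp
        exact Finset.inv_smul_mem_iff.2 h1
      have hq' : (k : Equiv.Perm GolayPt)⁻¹ q ∈ Spor.squareDodecad := by
        have h1 : q ∈ (k : Equiv.Perm GolayPt) • Spor.squareDodecad := by
          rw [show (k : Equiv.Perm GolayPt) • Spor.squareDodecad = d from hkd]
          exact hq
        exact Finset.inv_smul_mem_iff.2 h1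
      obtain ⟨γ, hγ, hγpq⟩ := base_transitive _ _ hp' hq'
      refine ⟨k * γ * k⁻¹, ?_, ?_⟩
      · rw [MulAction.mem_stabilizer_iff, mul_smul, mul_smul, inv_smul_smul,
          MulAction.mem_stabilizer_iff.1 hγ]
      · show (k : Equiv.Perm GolayPt) ((γ : Equiv.Perm GolayPt)
          ((k : Equiv.Perm GolayPt)⁻¹ p)) = q
        rw [hγpq, perm_apply_inv]
  rw [hka, stabilizer_prod_eq] at key
  exact key

end Cfsg.Agent.Lib.Helper21.QuartetStab
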