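import Cfsg.Agent.Lib.Helper21.GolayConj

/-!
Rigidity of `Cfsg.M24`: a certificate checker showing that an element fixing a given set of
points fixes further points (an octad meeting the fixed set in at least five points is mapped to
itself, and a singleton cut out by such octads and their complements is a fixed point).
In particular an element fixing the seven points at positions `0..6` is the identity.
-/

set_option autoImplicit false

namespace Cfsg.Agent.Lib.Helper21

open Cfsg
open scoped Pointwise

/-! ### Points by position, finsets by masks -/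

/-- The point at bit position `i` (positions `0..22` are the residues, `23` is the extra point). -/
def ptN (i : ℕ) : GolayPt := if h : i < 24 then gEquiv.symm ⟨i, h⟩ else none

theorem gEquiv_ptN (i : ℕ) (h : i < 24) : gEquiv (ptN i) = ⟨i, h⟩ := by
  unfold ptN
  rw [dif_pos h, Equiv.apply_symm_apply]

theorem gEquiv_ptN_val (i : ℕ) (h : i < 24) : ((gEquiv (ptN i) : Fin 24) : ℕ) = i := by
  rw [gEquiv_ptN i h]

theorem ptN_gEquiv (p : GolayPt) : ptN (gEquiv p : Fin 24) = p := by
  unfold ptN
  rw [dif_pos (gEquiv p).isLt]
  simp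

theorem ptN_injOn {i j : ℕ} (hi : i < 24) (hj : j < 24) (h : ptN i = ptN j) : i = j := by
  have := congrArg (fun p => ((gEquiv p : Fin 24) : ℕ)) h
  simpa [gEquiv_ptN_val _ hi, gEquiv_ptN_val _ hj] using this

/-- The finset of points whose bits are set in a mask. -/
def maskFS (m : ℕ) : Finset GolayPt := Finset.univ.filter (fun p => m.testBit (gEquiv p) = true)

theorem mem_maskFS (m : ℕ) (p : GolayPt) : p ∈ maskFS m ↔ m.testBit (gEquiv p) = true := by
  unfold maskFS
  simp

theorem fsMask_maskFS (m : ℕ) (hm : m < 2 ^ 24) : fsMask (maskFS m) = m := by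
  apply testBit_eq_of_lt (fsMask_lt _) hm
  intro p
  rw [testBit_fsMask]
  by_cases h : m.testBit (gEquiv p) = true
  · simp [mem_maskFS, h]
  · simp [mem_maskFS, h]

theorem maskFS_fsMask (s : Finset GolayPt) : maskFS (fsMask s) = s := by
  ext p
  rw [mem_maskFS, testBit_fsMask]
  simp

theorem maskFS_and (a b : ℕ) : maskFS (a &&& b) = maskFS a ∩ maskFS b := by
  ext p
  simp [mem_maskFS, Nat.testBit_and]

theorem maskFS_or (a b : ℕ) : maskFS (a ||| b) = maskFS a ∪ maskFS b := by
  ext p
  simp [mem_maskFS, Nat.testBit_or]

theorem testBit_full (i : ℕ) (hi : i < 24) : (0xFFFFFF : ℕ).testBit i = true := by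
  have : (0xFFFFFF : ℕ) = 2 ^ 24 - 1 := by norm_num
  rw [this, Nat.testBit_two_pow_sub_one]
  simpa using hi

theorem maskFS_full : maskFS 0xFFFFFF = Finset.univ := by
  ext p
  simp [mem_maskFS, testBit_full _ (gEquiv p).isLt]

theorem maskFS_compl (a : ℕ) : maskFS (a ^^^ 0xFFFFFF) = (maskFS a)ᶜ := by
  ext p
  simp [mem_maskFS, Nat.testBit_xor, testBit_full _ (gEquiv p).isLt]

theorem maskFS_bit (i : ℕ) (hi : i < 24) : maskFS (1 <<< i) = {ptN i} := by
  ext p
  rw [mem_maskFS, Finset.mem_singleton, Nat.one_shiftLeft, Nat.testBit_two_pow]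
  constructor
  · intro h
    have h' : i = ((gEquiv p : Fin 24) : ℕ) := by simpa using h
    rw [h', ptN_gEquiv]
  · rintro rfl
    simp [gEquiv_ptN_val _ hi]

theorem popc_mod_two_pow (k n : ℕ) : popc k (n % 2 ^ k) = popc k n := by
  rw [popc_eq_sum, popc_eq_sum]
  apply Finset.sum_congr rfl
  intro i hi
  rw [Nat.testBit_mod_two_pow, decide_eq_true (Finset.mem_range.1 hi), Bool.true_and]

/-! ### Sets mapped to themselves -/

theorem smul_perm_point (g : Equiv.Perm GolayPt) (p : GolayPt) : g • p = g p := rfl

/-- An octad having at least five points fixed by `g ∈ M24` is mapped to itself. -/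
theorem smul_octad_eq_of_fixed {g : Equiv.Perm GolayPt} (hg : g ∈ M24) {o : Finset GolayPt}
    (ho : o ∈ octads) (F : Finset GolayPt) (hF : ∀ p ∈ F, g p = p) (h5 : 5 ≤ (o ∩ F).card) :
    g • o = o := by
  symm
  apply octad_unique o (g • o) ho (smul_mem_octads hg ho)
  refine le_trans h5 (Finset.card_le_card ?_)
  intro p hp
  rw [Finset.mem_inter] at hp ⊢
  refine ⟨hp.1, ?_⟩
  have h1 : g • p ∈ g • o := Finset.smul_mem_smul_finset hp.1
  rwa [smul_perm_point, hF p hp.2] at h1

/-- `g` maps the set with mask `m` to itself. -/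
def StabM (g : Equiv.Perm GolayPt) (m : ℕ) : Prop := g • maskFS m = maskFS m

theorem StabM.and {g : Equiv.Perm GolayPt} {a b : ℕ} (ha : StabM g a) (hb : StabM g b) :
    StabM g (a &&& b) := by
  unfold StabM at *
  rw [maskFS_and, Finset.smul_finset_inter, ha, hb]

theorem StabM.compl {g : Equiv.Perm GolayPt} {a : ℕ} (ha : StabM g a) :
    StabM g (a ^^^ 0xFFFFFF) := by
  unfold StabM at *
  rw [maskFS_compl]
  ext p
  rw [← Finset.inv_smul_mem_iff, Finset.mem_compl, Finset.mem_compl, Finset.inv_smul_mem_iff, ha]

theorem StabM.full (g : Equiv.Perm GolayPt) : StabM g 0xFFFFFF := by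
  unfold StabM
  rw [maskFS_full, Finset.smul_finset_univ]

theorem StabM.fixed {g : Equiv.Perm GolayPt} {i : ℕ} (hi : i < 24) (h : StabM g (1 <<< i)) :
    g (ptN i) = ptN i := by
  unfold StabM at h
  rw [maskFS_bit i hi, Finset.smul_finset_singleton, Finset.singleton_inj] at h
  exact h

/-- `g` maps an element of the set with mask `m` into this set. -/
theorem StabM.apply_mem {g : Equiv.Perm GolayPt} {m : ℕ} (h : StabM g m) {p : GolayPt}
    (hp : p ∈ maskFS m) : g p ∈ maskFS m := by
  unfold StabM at h
  have h1 : g • p ∈ g • maskFS m := Finset.smul_mem_smul_finset hp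
  rwa [h] at h1

/-- All points in the mask `F` are fixed by `g`. -/
def FixedM (g : Equiv.Perm GolayPt) (F : ℕ) : Prop := ∀ p ∈ maskFS F, g p = p

/-- An octad (given by its information bits) meeting the fixed points in five points is mapped
to itself. -/
theorem StabM.octad {g : Equiv.Perm GolayPt} (hg : g ∈ M24) {F : ℕ} (hF : FixedM g F)
    {c : ℕ} (hc : c < 4096) (h8 : popc 24 (encMask c) = 8)
    (h5 : 5 ≤ popc 24 (encMask c &&& F)) : StabM g (encMask c) := by
  have hm : fsMask (support₂ (wordOf c)) = encMask c := fsMask_wordOf c hc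
  have hfs : maskFS (encMask c) = support₂ (wordOf c) := by rw [← hm, maskFS_fsMask]
  have ho : support₂ (wordOf c) ∈ octads := by
    rw [mem_octads_iff]
    refine ⟨wordOf c, wordOf_mem c, rfl, ?_⟩
    rw [card_eq_popc, hm, h8]
  unfold StabM
  rw [hfs]
  apply smul_octad_eq_of_fixed hg ho (maskFS (F % 2 ^ 24))
  · intro p hp
    apply hF p
    rw [mem_maskFS] at hp ⊢
    rwa [Nat.testBit_mod_two_pow, decide_eq_true (gEquiv p).isLt, Bool.true_and] at hp
  · rw [card_eq_popc, fsMask_inter, hm, fsMask_maskFS _ (Nat.mod_lt _ (by norm_num))]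
    have : encMask c &&& F % 2 ^ 24 = (encMask c &&& F) % 2 ^ 24 := by
      apply Nat.eq_of_testBit_eq
      intro i
      simp only [Nat.testBit_and, Nat.testBit_mod_two_pow]
      by_cases h : i < 24 <;> simp [h]
    rw [this, popc_mod_two_pow]
    exact h5

/-! ### Certificates -/

/-- The mask of a literal: an octad (given by its information bits) or its complement. -/
def litMask (l : ℕ × Bool) : ℕ := if l.2 then encMask l.1 else encMask l.1 ^^^ 0xFFFFFF

/-- The literal is an octad meeting the fixed set `F` in at least five points. -/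
def litOk (F : ℕ) (l : ℕ × Bool) : Bool :=
  decide (l.1 < 4096) &&
    (decide (popc 24 (encMask l.1) = 8) && decide (5 ≤ popc 24 (encMask l.1 &&& F)))

/-- Intersection of the literal masks. -/
def stepMask : List (ℕ × Bool) → ℕ
  | [] => 0xFFFFFF
  | l :: ls => litMask l &&& stepMask ls

/-- Run a certificate: each step isolates a new fixed point `s.2` by the literals `s.1`. -/
def runCert : List (List (ℕ × Bool) × ℕ) → ℕ → Option ℕ
  | [], F => some F
  | s :: rest, F =>
    if s.1.all (litOk F) && (decide (s.2 < 24) && decide (stepMask s.1 = 1 <<< s.2)) then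
      runCert rest (F ||| 1 <<< s.2)
    else none

theorem stabM_stepMask {g : Equiv.Perm GolayPt} (hg : g ∈ M24) {F : ℕ} (hF : FixedM g F) :
    ∀ lits : List (ℕ × Bool), lits.all (litOk F) = true → StabM g (stepMask lits)
  | [], _ => StabM.full g
  | l :: ls, h => by
    rw [List.all_cons, Bool.and_eq_true] at h
    have hl := h.1
    unfold litOk at hl
    simp only [Bool.and_eq_true, decide_eq_true_eq] at hl
    have h1 : StabM g (encMask l.1) := StabM.octad hg hF hl.1 hl.2.1 hl.2.2
    have h2 : StabM g (litMask l) := by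
      unfold litMask
      split
      · exact h1
      · exact h1.compl
    exact h2.and (stabM_stepMask hg hF ls h.2)

theorem runCert_sound {g : Equiv.Perm GolayPt} (hg : g ∈ M24) :
    ∀ (cert : List (List (ℕ × Bool) × ℕ)) (F F' : ℕ), FixedM g F → runCert cert F = some F' →
      FixedM g F'
  | [], F, F', hF, h => by
    rw [runCert, Option.some.injEq] at h
    subst h
    exact hF
  | s :: rest, F, F', hF, h => by
    rw [runCert] at h
    split at h
    · rename_i hc
      simp only [Bool.and_eq_true, decide_eq_true_eq] at hc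
      have hst := stabM_stepMask hg hF s.1 hc.1
      rw [hc.2.2] at hst
      have hfix := hst.fixed hc.2.1
      apply runCert_sound hg rest _ F' _ h
      intro p hp
      rw [maskFS_or, Finset.mem_union, maskFS_bit _ hc.2.1, Finset.mem_singleton] at hp
      rcases hp with hp | rfl
      · exact hF p hp
      · exact hfix
    · exact absurd h (by simp)

theorem eq_one_of_fixedM_full {g : Equiv.Perm GolayPt} (h : FixedM g 0xFFFFFF) : g = 1 := by
  refine Equiv.ext fun p => ?_
  exact h p (by rw [maskFS_full]; exact Finset.mem_univ p)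

/-- An element of `M24` whose fixed points extend, by a certificate, to all points is trivial. -/
theorem eq_one_of_cert {g : Equiv.Perm GolayPt} (hg : g ∈ M24) (cert : List (List (ℕ × Bool) × ℕ))
    (F : ℕ) (hF : FixedM g F) (h : runCert cert F = some 0xFFFFFF) : g = 1 :=
  eq_one_of_fixedM_full (runCert_sound hg cert F _ hF h)

/-- Points of a mask `2 ^ k - 1` are the points at positions below `k`. -/
theorem fixedM_of_lt {g : Equiv.Perm GolayPt} (k : ℕ) (h : ∀ i, i < k → g (ptN i) = ptN i) :
    FixedM g (2 ^ k - 1) := by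
  intro p hp
  rw [mem_maskFS, Nat.testBit_two_pow_sub_one, decide_eq_true_eq] at hp
  have := h _ hp
  rwa [ptN_gEquiv] at this

/-- Certificate for the seven points at positions `0..6`. -/
def cert7 : List (List (ℕ × Bool) × ℕ) :=
  [([(246, true), (47, false), (61, false), (93, false)], 7),
  ([(343, true), (47, false), (61, false), (93, false)], 8),
  ([(567, true), (47, false), (2639, true)], 9),
  ([(1134, true), (47, false), (1183, true)], 10),
  ([(2366, true), (47, false), (2639, true)], 11),
  ([(103, true), (47, false), (1183, true)], 12),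
  ([(93, true), (47, false), (94, false), (103, true)], 13),
  ([(47, true), (61, false), (636, true)], 14),
  ([(61, true), (47, false), (103, true)], 15),
  ([(47, true), (61, false), (93, true)], 17),
  ([(94, true), (47, false), (61, false), (93, false)], 18),
  ([(93, true), (47, false), (94, false), (103, false)], 19),
  ([(61, true), (47, false), (1134, true)], 20),
  ([(61, true), (47, false), (2639, true)], 22),
  ([(47, true), (61, false), (3189, true)], 23),
  ([(1, true), (28, true), (4, false)], 16),
  ([(8, true), (35, true), (2, false)], 21)]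

theorem cert7_ok : runCert cert7 (2 ^ 7 - 1) = some 0xFFFFFF := by decide +kernel

/-- **Rigidity**: an element of `M24` fixing the seven points at positions `0..6` is trivial. -/
theorem eq_one_of_fix7 {g : Equiv.Perm GolayPt} (hg : g ∈ M24)
    (h : ∀ i, i < 7 → g (ptN i) = ptN i) : g = 1 :=
  eq_one_of_cert hg cert7 _ (fixedM_of_lt 7 h) cert7_ok

end Cfsg.Agent.Lib.Helper21
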