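import Cfsg.Agent.Lib.Helper21.GolaySteiner
import Cfsg.Agent.Lib.Helper21.GolayConj
import Cfsg.Prelude.Def_SporadicCombinatorics

/-!
Sextets of the length-24 code: every four points lie in exactly one sextet, a sextet consists of
six pairwise disjoint tetrads covering the 24 points, and there are 1771 sextets.
-/

set_option autoImplicit false

namespace Cfsg.Agent.Lib.Helper21

open Cfsg
open scoped Pointwise

/-- The octads containing a given set, as a finset. -/
noncomputable def octadsOver (t : Finset GolayPt) : Finset (Finset GolayPt) := by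
  classical exact (blocksFinset octads).filter (t ⊆ ·)

theorem mem_octadsOver {t o : Finset GolayPt} : o ∈ octadsOver t ↔ o ∈ octads ∧ t ⊆ o := by
  classical
  unfold octadsOver
  rw [Finset.mem_filter, mem_blocksFinset]

theorem card_octadsOver {t : Finset GolayPt} (ht : t.card = 4) : (octadsOver t).card = 5 := by
  classical
  unfold octadsOver
  exact (lam_5_8_24 card_golayPt octads_steiner t).2.2.2.2 ht

/-- The sextet through a tetrad. -/
noncomputable def sextetOf (t : Finset GolayPt) : Finset (Finset GolayPt) :=
  insert t ((octadsOver t).image (fun o => o \ t))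

theorem mem_sextetOf {t u : Finset GolayPt} :
    u ∈ sextetOf t ↔ u = t ∨ ∃ o ∈ octads, t ⊆ o ∧ o \ t = u := by
  unfold sextetOf
  rw [Finset.mem_insert, Finset.mem_image]
  constructor
  · rintro (h | ⟨o, ho, rfl⟩)
    · exact Or.inl h
    · exact Or.inr ⟨o, (mem_octadsOver.1 ho).1, (mem_octadsOver.1 ho).2, rfl⟩
  · rintro (h | ⟨o, ho, hto, rfl⟩)
    · exact Or.inl h
    · exact Or.inr ⟨o, mem_octadsOver.2 ⟨ho, hto⟩, rfl⟩

theorem self_mem_sextetOf (t : Finset GolayPt) : t ∈ sextetOf t := mem_sextetOf.2 (Or.inl rfl)

theorem octad_card' {o : Finset GolayPt} (ho : o ∈ octads) : o.card = 8 := ho.2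

theorem card_sdiff_octad {t o : Finset GolayPt} (ht : t.card = 4) (ho : o ∈ octads) (hto : t ⊆ o) :
    (o \ t).card = 4 := by
  rw [Finset.card_sdiff_of_subset hto, octad_card' ho, ht]

theorem sdiff_union_self' {t o : Finset GolayPt} (hto : t ⊆ o) : t ∪ (o \ t) = o := by
  rw [Finset.union_sdiff_of_subset hto]

/-- Two distinct octads through a tetrad meet exactly in the tetrad. -/
theorem inter_eq_of_octads_over {t o o' : Finset GolayPt} (ht : t.card = 4) (ho : o ∈ octads)
    (ho' : o' ∈ octads) (hto : t ⊆ o) (hto' : t ⊆ o') (hne : o ≠ o') : o ∩ o' = t := by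
  symm
  apply Finset.eq_of_subset_of_card_le (Finset.subset_inter hto hto')
  rw [ht]
  by_contra hlt
  exact hne (octad_unique o o' ho ho' (by omega))

theorem card_sextetOf {t : Finset GolayPt} (ht : t.card = 4) : (sextetOf t).card = 6 := by
  classical
  unfold sextetOf
  rw [Finset.card_insert_of_notMem, Finset.card_image_of_injOn, card_octadsOver ht]
  · intro o ho o' ho' h
    have h1 := (mem_octadsOver.1 ho).2
    have h2 := (mem_octadsOver.1 ho').2
    have h' : o \ t = o' \ t := h
    rw [← sdiff_union_self' h1, ← sdiff_union_self' h2, h']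
  · rw [Finset.mem_image]
    rintro ⟨o, ho, h⟩
    have h1 := mem_octadsOver.1 ho
    have : (o \ t).card = 4 := card_sdiff_octad ht h1.1 h1.2
    have h2 : t ∩ (o \ t) = ∅ := by
      rw [← Finset.disjoint_iff_inter_eq_empty]
      exact Finset.disjoint_sdiff
    rw [h, Finset.inter_self] at h2
    rw [h2] at ht
    simp at ht

theorem sextetOf_mem {t : Finset GolayPt} (ht : t.card = 4) : sextetOf t ∈ sextets := by
  classical
  refine ⟨card_sextetOf ht, ?_, ?_⟩
  · intro u hu
    rcases mem_sextetOf.1 hu with rfl | ⟨o, ho, hto, rfl⟩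
    · exact ht
    · exact card_sdiff_octad ht ho hto
  · intro u hu v hv hne
    rcases mem_sextetOf.1 hu with rfl | ⟨o, ho, hto, rfl⟩ <;>
      rcases mem_sextetOf.1 hv with rfl | ⟨o', ho', hto', rfl⟩
    · exact absurd rfl hne
    · rw [sdiff_union_self' hto']
      exact ho'
    · rw [Finset.union_comm, sdiff_union_self' hto]
      exact ho
    · have hoo : o ≠ o' := by
        rintro rfl
        exact hne rfl
      have hint := inter_eq_of_octads_over ht ho ho' hto hto' hoo
      have h4 : (o ∩ o').card = 4 := by rw [hint, ht]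
      have := octads_symmDiff ho ho' h4
      have e : symmDiff o o' = o \ t ∪ o' \ t := by
        rw [symmDiff_def, Finset.sup_eq_union]
        congr 1
        · ext x
          simp only [Finset.mem_sdiff]
          constructor
          · rintro ⟨h1, h2⟩
            refine ⟨h1, fun hx => h2 (hto' hx)⟩
          · rintro ⟨h1, h2⟩
            refine ⟨h1, fun hx => h2 ?_⟩
            rw [← hint]
            exact Finset.mem_inter.2 ⟨h1, hx⟩
        · ext x
          simp only [Finset.mem_sdiff]
          constructor
          · rintro ⟨h1, h2⟩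
            refine ⟨h1, fun hx => h2 (hto hx)⟩
          · rintro ⟨h1, h2⟩
            refine ⟨h1, fun hx => h2 ?_⟩
            rw [← hint]
            exact Finset.mem_inter.2 ⟨hx, h1⟩
      rw [← e]
      exact this

/-- A sextet is determined by any of its tetrads. -/
theorem eq_sextetOf {S : Finset (Finset GolayPt)} (hS : S ∈ sextets) {t : Finset GolayPt}
    (ht : t ∈ S) : S = sextetOf t := by
  classical
  obtain ⟨h6, h4, hun⟩ := hS
  have ht4 := h4 t ht
  apply Finset.eq_of_subset_of_card_le
  · intro u hu
    by_cases hut : u = t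
    · rw [hut]
      exact self_mem_sextetOf t
    · have ho := hun t ht u hu (Ne.symm hut)
      have hu4 := h4 u hu
      have hdis : Disjoint t u := by
        rw [Finset.disjoint_iff_inter_eq_empty, ← Finset.card_eq_zero]
        have h1 := Finset.card_union_add_card_inter t u
        rw [octad_card' ho, ht4, hu4] at h1
        omega
      rw [mem_sextetOf]
      refine Or.inr ⟨t ∪ u, ho, Finset.subset_union_left, ?_⟩
      rw [Finset.union_sdiff_cancel_left hdis]
  · rw [card_sextetOf ht4, h6]

theorem tetrad_card {S : Finset (Finset GolayPt)} (hS : S ∈ sextets) {t : Finset GolayPt}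
    (ht : t ∈ S) : t.card = 4 := hS.2.1 t ht

/-- The tetrads of a sextet are pairwise disjoint. -/
theorem sextet_disjoint {S : Finset (Finset GolayPt)} (hS : S ∈ sextets) {t u : Finset GolayPt}
    (ht : t ∈ S) (hu : u ∈ S) (hne : t ≠ u) : Disjoint t u := by
  have ho := hS.2.2 t ht u hu hne
  rw [Finset.disjoint_iff_inter_eq_empty, ← Finset.card_eq_zero]
  have h1 := Finset.card_union_add_card_inter t u
  rw [octad_card' ho, tetrad_card hS ht, tetrad_card hS hu] at h1
  omega

/-- The tetrads of a sextet cover the 24 points. -/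
theorem sextet_cover {S : Finset (Finset GolayPt)} (hS : S ∈ sextets) (p : GolayPt) :
    ∃ t ∈ S, p ∈ t := by
  classical
  have hcard : (S.biUnion id).card = 24 := by
    rw [Finset.card_biUnion]
    · have h4 : ∀ u ∈ S, (id u : Finset GolayPt).card = 4 := fun u hu => tetrad_card hS hu
      rw [Finset.sum_congr rfl h4, Finset.sum_const, hS.1]
      rfl
    · intro t ht u hu hne
      exact sextet_disjoint hS ht hu hne
  have huniv : S.biUnion id = Finset.univ := by
    apply Finset.eq_univ_of_card
    rw [hcard, card_golayPt]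
  have hp : p ∈ S.biUnion id := by rw [huniv]; exact Finset.mem_univ p
  obtain ⟨t, ht, hpt⟩ := Finset.mem_biUnion.1 hp
  exact ⟨t, ht, hpt⟩

/-- Every four points lie in exactly one sextet. -/
theorem existsUnique_sextet (t : Finset GolayPt) (ht4 : t.card = 4) :
    ∃! S : Finset (Finset GolayPt), S ∈ sextets ∧ t ∈ S :=
  ⟨sextetOf t, ⟨sextetOf_mem ht4, self_mem_sextetOf t⟩, fun _ hS => eq_sextetOf hS.1 hS.2⟩

theorem sextetOf_eq_iff {t u : Finset GolayPt} (ht : t.card = 4) (hu : u.card = 4) :
    sextetOf t = sextetOf u ↔ t ∈ sextetOf u := by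
  constructor
  · intro h
    rw [← h]
    exact self_mem_sextetOf t
  · intro h
    exact (eq_sextetOf (sextetOf_mem hu) h).symm

/-- The action of `M24` preserves sextets. -/
theorem smul_mem_sextets {g : Equiv.Perm GolayPt} (hg : g ∈ M24) {S : Finset (Finset GolayPt)}
    (hS : S ∈ sextets) : g • S ∈ sextets := by
  classical
  obtain ⟨h6, h4, hun⟩ := hS
  refine ⟨by rw [Finset.card_smul_finset, h6], ?_, ?_⟩
  · intro t ht
    obtain ⟨t', ht', rfl⟩ := Finset.mem_smul_finset.1 ht
    rw [Finset.card_smul_finset]
    exact h4 t' ht'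
  · intro t ht u hu hne
    obtain ⟨t', ht', rfl⟩ := Finset.mem_smul_finset.1 ht
    obtain ⟨u', hu', rfl⟩ := Finset.mem_smul_finset.1 hu
    rw [← Finset.smul_finset_union]
    apply smul_mem_octads hg
    exact hun t' ht' u' hu' (fun h => hne (by rw [h]))

theorem smul_sextetOf {g : Equiv.Perm GolayPt} (hg : g ∈ M24) {t : Finset GolayPt}
    (ht : t.card = 4) : g • sextetOf t = sextetOf (g • t) := by
  apply eq_sextetOf (smul_mem_sextets hg (sextetOf_mem ht))
  exact Finset.smul_mem_smul_finset (self_mem_sextetOf t)

/-- The number of sextets. -/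
theorem ncard_sextets : sextets.ncard = 1771 := by
  classical
  set Q : Finset (Finset GolayPt) := (Finset.univ : Finset GolayPt).powersetCard 4 with hQ
  have hQcard : Q.card = 10626 := by
    rw [hQ, Finset.card_powersetCard, Finset.card_univ, card_golayPt]
    decide
  have hQmem : ∀ t, t ∈ Q ↔ t.card = 4 := by
    intro t
    rw [hQ, Finset.mem_powersetCard]
    exact ⟨fun h => h.2, fun h => ⟨Finset.subset_univ _, h⟩⟩
  have himg : sextets = ↑(Q.image sextetOf) := by
    ext S
    rw [Finset.coe_image, Set.mem_image]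
    constructor
    · intro hS
      have hne : S.Nonempty := by
        rw [← Finset.card_pos, hS.1]
        norm_num
      obtain ⟨t, ht⟩ := hne
      exact ⟨t, (hQmem t).2 (tetrad_card hS ht), (eq_sextetOf hS ht).symm⟩
    · rintro ⟨t, ht, rfl⟩
      exact sextetOf_mem ((hQmem t).1 ht)
  rw [himg, Set.ncard_coe_finset]
  have hsum := Finset.card_eq_sum_card_image sextetOf Q
  have hfib : ∀ S ∈ Q.image sextetOf, (Q.filter (fun t => sextetOf t = S)).card = 6 := by
    intro S hS
    obtain ⟨u, hu, rfl⟩ := Finset.mem_image.1 hS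
    have hu4 := (hQmem u).1 hu
    have : Q.filter (fun t => sextetOf t = sextetOf u) = sextetOf u := by
      ext t
      rw [Finset.mem_filter, hQmem]
      constructor
      · rintro ⟨h4, h⟩
        exact (sextetOf_eq_iff h4 hu4).1 h
      · intro h
        have h4 := tetrad_card (sextetOf_mem hu4) h
        exact ⟨h4, (sextetOf_eq_iff h4 hu4).2 h⟩
    rw [this, card_sextetOf hu4]
  rw [Finset.sum_congr rfl hfib, Finset.sum_const, smul_eq_mul, hQcard] at hsum
  omega

end Cfsg.Agent.Lib.Helper21
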