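import Cfsg.Agent.Lib.Helper21.GolaySextet

/-!
How a small set of points meets the tetrads of a sextet.
-/

set_option autoImplicit false

namespace Cfsg.Agent.Lib.Helper21

open Cfsg
open scoped Pointwise

/-- The tetrads of `S` meeting `Y`. -/
noncomputable def meetTetrads (S : Finset (Finset GolayPt)) (Y : Finset GolayPt) :
    Finset (Finset GolayPt) := by
  classical exact S.filter fun t => (t ∩ Y).Nonempty

theorem mem_meetTetrads {S : Finset (Finset GolayPt)} {Y t : Finset GolayPt} :
    t ∈ meetTetrads S Y ↔ t ∈ S ∧ (t ∩ Y).Nonempty := by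
  classical
  unfold meetTetrads
  rw [Finset.mem_filter]

/-- Each point lies in exactly one tetrad of a sextet. -/
theorem sextet_tetrad_unique {S : Finset (Finset GolayPt)} (hS : S ∈ sextets) {p : GolayPt}
    {t u : Finset GolayPt} (ht : t ∈ S) (hu : u ∈ S) (hpt : p ∈ t) (hpu : p ∈ u) : t = u := by
  by_contra hne
  exact Finset.disjoint_left.1 (sextet_disjoint hS ht hu hne) hpt hpu

/-- The tetrads meeting `Y` cover `Y`. -/
theorem subset_biUnion_meetTetrads {S : Finset (Finset GolayPt)} (hS : S ∈ sextets)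
    (Y : Finset GolayPt) : ∀ y ∈ Y, ∃ t ∈ meetTetrads S Y, y ∈ t := by
  intro y hy
  obtain ⟨t, ht, hyt⟩ := sextet_cover hS y
  exact ⟨t, mem_meetTetrads.2 ⟨ht, ⟨y, Finset.mem_inter.2 ⟨hyt, hy⟩⟩⟩, hyt⟩

/-- The intersections of `Y` with the tetrads meeting it have total size `card Y`. -/
theorem sum_card_inter_meetTetrads {S : Finset (Finset GolayPt)} (hS : S ∈ sextets)
    (Y : Finset GolayPt) : ∑ t ∈ meetTetrads S Y, (t ∩ Y).card = Y.card := by
  classical
  rw [← Finset.card_biUnion]
  · congr 1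
    ext y
    rw [Finset.mem_biUnion]
    constructor
    · rintro ⟨t, -, hy⟩
      exact (Finset.mem_inter.1 hy).2
    · intro hy
      obtain ⟨t, ht, hyt⟩ := subset_biUnion_meetTetrads hS Y y hy
      exact ⟨t, ht, Finset.mem_inter.2 ⟨hyt, hy⟩⟩
  · intro t ht u hu hne
    have h1 := (mem_meetTetrads.1 ht).1
    have h2 := (mem_meetTetrads.1 hu).1
    exact Finset.disjoint_of_subset_left Finset.inter_subset_left
      (Finset.disjoint_of_subset_right Finset.inter_subset_left (sextet_disjoint hS h1 h2 hne))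

theorem card_inter_pos_of_mem_meetTetrads {S : Finset (Finset GolayPt)} {Y t : Finset GolayPt}
    (ht : t ∈ meetTetrads S Y) : 1 ≤ (t ∩ Y).card :=
  Finset.card_pos.2 (mem_meetTetrads.1 ht).2

/-- The number of tetrads meeting `Y` is at most `card Y`. -/
theorem card_meetTetrads_le {S : Finset (Finset GolayPt)} (hS : S ∈ sextets)
    (Y : Finset GolayPt) : (meetTetrads S Y).card ≤ Y.card := by
  rw [← sum_card_inter_meetTetrads hS Y]
  have := Finset.card_nsmul_le_sum (meetTetrads S Y) (fun t => (t ∩ Y).card) 1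
    (fun t ht => card_inter_pos_of_mem_meetTetrads ht)
  simpa using this

theorem card_meetTetrads_pos {S : Finset (Finset GolayPt)} (hS : S ∈ sextets)
    {Y : Finset GolayPt} (hY : Y.Nonempty) : 1 ≤ (meetTetrads S Y).card := by
  obtain ⟨y, hy⟩ := hY
  obtain ⟨t, ht, -⟩ := subset_biUnion_meetTetrads hS Y y hy
  exact Finset.card_pos.2 ⟨t, ht⟩

/-- For a tetrad meeting `Y`, the other tetrads meeting `Y` account for the rest of `Y`. -/
theorem card_inter_add_le {S : Finset (Finset GolayPt)} (hS : S ∈ sextets)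
    (Y : Finset GolayPt) {t : Finset GolayPt} (ht : t ∈ meetTetrads S Y) :
    (t ∩ Y).card + ((meetTetrads S Y).card - 1) ≤ Y.card := by
  classical
  rw [← sum_card_inter_meetTetrads hS Y, ← Finset.add_sum_erase _ _ ht]
  apply Nat.add_le_add_left
  have := Finset.card_nsmul_le_sum ((meetTetrads S Y).erase t) (fun t => (t ∩ Y).card) 1
    (fun u hu => card_inter_pos_of_mem_meetTetrads (Finset.mem_of_mem_erase hu))
  rw [Finset.card_erase_of_mem ht] at this
  simpa using this

/-- If `Y` lies in a tetrad of `S`, this is the only tetrad meeting `Y`. -/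
theorem meetTetrads_of_subset {S : Finset (Finset GolayPt)} (hS : S ∈ sextets)
    {Y t : Finset GolayPt} (hY : Y.Nonempty) (ht : t ∈ S) (hYt : Y ⊆ t) :
    meetTetrads S Y = {t} := by
  ext u
  rw [mem_meetTetrads, Finset.mem_singleton]
  constructor
  · rintro ⟨hu, ⟨y, hy⟩⟩
    have h1 := Finset.mem_inter.1 hy
    exact sextet_tetrad_unique hS hu ht h1.1 (hYt h1.2)
  · rintro rfl
    obtain ⟨y, hy⟩ := hY
    exact ⟨ht, ⟨y, Finset.mem_inter.2 ⟨hYt hy, hy⟩⟩⟩

/-- If exactly one tetrad meets `Y`, it contains `Y`. -/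
theorem subset_of_meetTetrads_eq {S : Finset (Finset GolayPt)} (hS : S ∈ sextets)
    {Y t : Finset GolayPt} (h : meetTetrads S Y = {t}) : t ∈ S ∧ Y ⊆ t := by
  have ht : t ∈ meetTetrads S Y := by rw [h]; exact Finset.mem_singleton_self t
  refine ⟨(mem_meetTetrads.1 ht).1, fun y hy => ?_⟩
  obtain ⟨u, hu, hyu⟩ := subset_biUnion_meetTetrads hS Y y hy
  rw [h, Finset.mem_singleton] at hu
  rwa [hu] at hyu

end Cfsg.Agent.Lib.Helper21
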