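import Cfsg.Agent.Lib.Helper21.GolaySextetTab

/-!
The orbits on sextets of the stabiliser in `M24` of a family of sets, from a packed table and
decidable checks.
-/

set_option autoImplicit false

namespace Cfsg.Agent.Lib.Helper21

open Cfsg
open scoped Pointwise

/-- The subgroup of `M24` stabilising a family of sets. -/
def famSub (A : Finset (Finset GolayPt)) : Subgroup (Equiv.Perm GolayPt) where
  carrier := {g | g ∈ M24 ∧ g • A = A}
  mul_mem' := fun {a b} ha hb => ⟨M24.mul_mem ha.1 hb.1, by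
    show (a * b) • A = A
    rw [mul_smul, hb.2, ha.2]⟩
  one_mem' := ⟨M24.one_mem, one_smul _ _⟩
  inv_mem' := fun {a} ha => ⟨M24.inv_mem ha.1, by
    show a⁻¹ • A = A
    rw [inv_smul_eq_iff, ha.2]⟩

theorem mem_famSub {A : Finset (Finset GolayPt)} {g : Equiv.Perm GolayPt} :
    g ∈ famSub A ↔ g ∈ M24 ∧ g • A = A := Iff.rfl

theorem permOfTab_mem_famSub (T TI : ℕ) (h : TabInv T TI)
    (hc : ∀ b ∈ basisMasks, encMask (gatherMask T b % 4096) = gatherMask T b)
    {LA : List ℕ} (hA : ∀ m ∈ LA, m < 2 ^ 24) (hcheck : ∀ a ∈ LA, gatherMask TI a ∈ LA) :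
    permOfTab T TI h ∈ famSub (toFS LA) :=
  ⟨permOfTab_mem T TI h hc, permOfTab_smul_toFS T TI h hA hcheck⟩

/-- The tetrad through the first point in entry `k` of a table of sextets. -/
def tetT (T k : ℕ) : ℕ := entryAt 64 T k % 2 ^ 24

/-- The index of the tetrad of the representative mapped to the tetrad of entry `k`. -/
def iOfT (T k : ℕ) : ℕ := (entryAt 64 T k >>> 24) % 8

/-- The class of entry `k`. -/
def jOfT (T k : ℕ) : ℕ := (entryAt 64 T k >>> 27) % 32

/-- The word of entry `k`. -/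
def wOfT (T k : ℕ) : ℕ := entryAt 64 T k >>> 32

/-- Tetrad `i` of the representative sextet `j`. -/
def repT (R j i : ℕ) : ℕ := entryAt 24 R (6 * j + i % 6)

/-- The tetrads of the representative sextet `j`. -/
def repL (R j : ℕ) : List ℕ := (List.range 6).map (repT R j)

/-- The invariant of the representative sextet `j`. -/
def cvalS (f : ℕ → ℕ) (LA : List ℕ) (R j : ℕ) : ℕ :=
  ((repL R j).map fun x => (LA.map fun a => f (popc 24 (x &&& a))).sum).sum

/-- A decidable criterion for a set to be a tetrad of the sextet through a tetrad. -/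
def sextetChk (t u : ℕ) : Prop :=
  t < 2 ^ 24 ∧ u < 2 ^ 24 ∧ popc 24 t = 4 ∧
    (u = t ∨ (t &&& u = 0 ∧ encMask ((t ||| u) % 4096) = t ||| u ∧ popc 24 (t ||| u) = 8))

instance (t u : ℕ) : Decidable (sextetChk t u) := by
  unfold sextetChk
  infer_instance

theorem mem_sextetOf_of_chk {t u : ℕ} (h : sextetChk t u) : maskFS u ∈ sextetOf (maskFS t) := by
  obtain ⟨ht, hu, h4, h | ⟨hd, hc, h8⟩⟩ := h
  · rw [h]
    exact self_mem_sextetOf _
  · exact maskFS_mem_sextetOf ht hu h4 hd hc h8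

theorem sextetOf_eq_toFS {t : ℕ} {L : List ℕ} (hlen : L.length = 6) (hnd : L.Nodup)
    (h : ∀ u ∈ L, sextetChk t u) (ht : t < 2 ^ 24) (h4 : popc 24 t = 4) :
    sextetOf (maskFS t) = toFS L := by
  symm
  apply Finset.eq_of_subset_of_card_le
  · intro s hs
    obtain ⟨u, hu, rfl⟩ := mem_toFS.1 hs
    exact mem_sextetOf_of_chk (h u hu)
  · rw [card_sextetOf (by rw [card_maskFS _ ht, h4]), card_toFS (fun u hu => (h u hu).2.1) hnd,
      hlen]

/-- Invariance of `pairSum` under the stabiliser of the family. -/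
theorem pairSum_stab (f : ℕ → ℕ) (A : Finset (Finset GolayPt))
    (g : ↥(MulAction.stabilizer ↥M24 A)) (y : Finset (Finset GolayPt)) :
    pairSum f A (g • y) = pairSum f A y := by
  have hg : ((g : ↥M24) : Equiv.Perm GolayPt) • A = A := g.2
  have h7 := pairSum_smul f ((g : ↥M24) : Equiv.Perm GolayPt) A y
  rw [hg] at h7
  exact h7

/-- The orbits on sextets of the stabiliser of a family, from a table and decidable checks. -/
theorem sextet_table_main (LA : List ℕ) (hA : ∀ m ∈ LA, m < 2 ^ 24) (hAn : LA.Nodup)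
    (gen : ℕ → Equiv.Perm GolayPt) (ti : ℕ → ℕ)
    (hgen : ∀ j, gen j ∈ famSub (toFS LA) ∧
      ∀ s, fsMask (gen j • s) = gatherMask (ti j) (fsMask s))
    (K fuel n T R : ℕ) (kRep : ℕ → ℕ) (f : ℕ → ℕ)
    (c1 : ∀ k < 1771, tetT T k < 2 ^ 24 ∧ (tetT T k).testBit 0 = true ∧ popc 24 (tetT T k) = 4)
    (c2 : ∀ k < 1771, k + 1 < 1771 → tetT T k < tetT T (k + 1))
    (c3 : ∀ k < 1771, jOfT T k < n ∧
      runWordM ti K fuel (wOfT T k) (repT R (jOfT T k) (iOfT T k)) = tetT T k)
    (c4 : ∀ j < n, (repL R j).Nodup ∧ ∀ i < 6, sextetChk (repT R j 0) (repT R j i))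
    (c5 : ∀ j < n, kRep j < 1771 ∧ tetT T (kRep j) = repT R j 0 ∧ jOfT T (kRep j) = j)
    (c6 : ∀ j < n, ∀ j' < n, cvalS f LA R j = cvalS f LA R j' → j = j') :
    (∀ j < n, (MulAction.orbit (MulAction.stabilizer ↥M24 (toFS LA))
        (sextetOf (maskFS (repT R j 0)))).ncard =
          ((Finset.range 1771).filter (fun k => jOfT T k = j)).card) ∧
      (∀ S ∈ sextets, ∃ j < n, S ∈ MulAction.orbit (MulAction.stabilizer ↥M24 (toFS LA))
        (sextetOf (maskFS (repT R j 0)))) ∧
      ∀ j < n, sextetOf (maskFS (repT R j 0)) ∈ sextets := by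
  classical
  have h1 : ∀ k < 1771, tetT T k < 2 ^ 24 ∧ (tetT T k).testBit 0 = true ∧
      popc 24 (tetT T k) = 4 := c1
  have h2 : ∀ k, k + 1 < 1771 → tetT T k < tetT T (k + 1) := fun k hk => c2 k (by omega) hk
  have h4 : ∀ k < 1771, (maskFS (tetT T k)).card = 4 := fun k hk => by
    rw [card_maskFS _ (h1 k hk).1, (h1 k hk).2.2]
  have hr4 : ∀ j < n, (maskFS (repT R j 0)).card = 4 := by
    intro j hj
    obtain ⟨hk, e, -⟩ := c5 j hj
    rw [← e]
    exact h4 _ hk
  have hchk : ∀ j < n, ∀ i, sextetChk (repT R j 0) (repT R j i) := by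
    intro j hj i
    have h := (c4 j hj).2 (i % 6) (Nat.mod_lt _ (by norm_num))
    have e : repT R j (i % 6) = repT R j i := by
      unfold repT
      rw [Nat.mod_mod]
    rwa [e] at h
  have hobjrep : ∀ j < n, sextetOf (maskFS (tetT T (kRep j))) = sextetOf (maskFS (repT R j 0)) :=
    fun j hj => by rw [(c5 j hj).2.1]
  -- the invariant of the representatives
  have hcval : ∀ j < n, pairSum f (toFS LA) (sextetOf (maskFS (repT R j 0))) = cvalS f LA R j := by
    intro j hj
    have hL : ∀ u ∈ repL R j, sextetChk (repT R j 0) u := by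
      intro u hu
      unfold repL at hu
      obtain ⟨i, -, rfl⟩ := List.mem_map.1 hu
      exact hchk j hj i
    have hc0 := hchk j hj 0
    rw [sextetOf_eq_toFS (by simp [repL]) (c4 j hj).1 hL hc0.1 hc0.2.2.1]
    exact pairSum_toFS f hA hAn (fun u hu => (hL u hu).2.1) (c4 j hj).1
  have key := orbits_of_table (G := ↥(MulAction.stabilizer ↥M24 (toFS LA))) sextets
    (Set.toFinite _)
    (fun g S hS => smul_mem_sextets (g : ↥M24).2 hS) 1771 n
    (fun k => sextetOf (maskFS (tetT T k))) (jOfT T) kRep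
    (fun k hk => sextetOf_mem (h4 k hk))
    (sextetOf_tab_inj (tetT T) 1771 h1 h2) ncard_sextets (fun k hk => (c3 k hk).1)
    (by
      intro k hk
      obtain ⟨hjn, hw⟩ := c3 k hk
      obtain ⟨g, hg, e⟩ := runWordM_spec (famSub (toFS LA)) gen ti hgen K fuel (wOfT T k)
      obtain ⟨hgM, hgA⟩ := hg
      refine ⟨⟨⟨g, hgM⟩, hgA⟩, ?_⟩
      show g • sextetOf (maskFS (tetT T (kRep (jOfT T k)))) = _
      rw [hobjrep _ hjn, smul_sextetOf hgM (hr4 _ hjn)]
      have hck := hchk _ hjn (iOfT T k)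
      have hmem := mem_sextetOf_of_chk hck
      have himg : g • maskFS (repT R (jOfT T k) (iOfT T k)) = maskFS (tetT T k) := by
        apply fsMask_injective
        rw [e, fsMask_maskFS _ hck.2.1, fsMask_maskFS _ (h1 k hk).1]
        exact hw
      have h5 : maskFS (tetT T k) ∈ g • sextetOf (maskFS (repT R (jOfT T k) 0)) := by
        rw [← himg]
        exact Finset.smul_mem_smul_finset hmem
      rw [smul_sextetOf hgM (hr4 _ hjn)] at h5
      exact ((sextetOf_eq_iff (h4 k hk) (by rw [Finset.card_smul_finset]; exact hr4 _ hjn)).2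
        h5).symm)
    (fun j hj => ⟨(c5 j hj).1, (c5 j hj).2.2⟩) (pairSum f (toFS LA))
    (pairSum_stab f (toFS LA))
    (by
      intro j hj j' hj' h
      rw [hobjrep j hj, hobjrep j' hj', hcval j hj, hcval j' hj'] at h
      exact c6 j hj j' hj' h)
  obtain ⟨k1, k2, k3⟩ := key
  refine ⟨fun j hj => ?_, fun S hS => ?_, fun j hj => sextetOf_mem (hr4 j hj)⟩
  · rw [← hobjrep j hj, k1 j hj, k2 j]
  · obtain ⟨j, hj, hmem⟩ := k3 S hS
    refine ⟨j, hj, ?_⟩
    rwa [← hobjrep j hj]

end Cfsg.Agent.Lib.Helper21
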