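import Cfsg.Agent.Lib.Helper21.GolaySextetMax
import Cfsg.Agent.Lib.Helper21.GolayOctSplit
import Mathlib.GroupTheory.Perm.Closure
import Mathlib.GroupTheory.Perm.Fin
import Cfsg.Agent.Lib.Helper21.GolayStab

/-!
The stabiliser of a sextet: the elements acting on every tetrad as an element of the four-group
form a subgroup of exponent two, determined by the images of three points.
-/

set_option autoImplicit false

namespace Cfsg.Agent.Lib.Helper21

open Cfsg
open scoped Pointwise

/-- `g` preserves `T` and each partition of `T` into two pairs. -/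
def PairCond (g : Equiv.Perm GolayPt) (T : Finset GolayPt) : Prop :=
  g • T = T ∧ ∀ a : Finset GolayPt, a ⊆ T → a.card = 2 → g • a = a ∨ g • a = T \ a

theorem pairCond_one (T : Finset GolayPt) : PairCond 1 T :=
  ⟨one_smul _ _, fun a _ _ => Or.inl (one_smul _ _)⟩

theorem PairCond.mul {g h : Equiv.Perm GolayPt} {T : Finset GolayPt} (hg : PairCond g T)
    (hh : PairCond h T) : PairCond (g * h) T := by
  refine ⟨by rw [mul_smul, hh.1, hg.1], fun a ha h2 => ?_⟩
  rw [mul_smul]
  rcases hh.2 a ha h2 with e | e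
  · rw [e]
    exact hg.2 a ha h2
  · rw [e, Finset.smul_finset_sdiff, hg.1]
    rcases hg.2 a ha h2 with e' | e'
    · exact Or.inr (by rw [e'])
    · exact Or.inl (by rw [e', Finset.sdiff_sdiff_eq_self ha])

theorem PairCond.inv {g : Equiv.Perm GolayPt} {T : Finset GolayPt} (hg : PairCond g T) :
    PairCond g⁻¹ T := by
  refine ⟨by rw [inv_smul_eq_iff, hg.1], fun a ha h2 => ?_⟩
  rcases hg.2 a ha h2 with e | e
  · exact Or.inl (by rw [inv_smul_eq_iff, e])
  · refine Or.inr ?_
    rw [inv_smul_eq_iff, Finset.smul_finset_sdiff, hg.1, e, Finset.sdiff_sdiff_eq_self ha]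

theorem PairCond.conj {g : Equiv.Perm GolayPt} {T : Finset GolayPt} (hg : PairCond g T)
    (k : Equiv.Perm GolayPt) : PairCond (k * g * k⁻¹) (k • T) := by
  refine ⟨by rw [mul_smul, mul_smul, inv_smul_smul, hg.1], fun a ha h2 => ?_⟩
  have ha' : k⁻¹ • a ⊆ T := by
    rw [← Finset.smul_finset_subset_smul_finset_iff (a := k), smul_inv_smul]
    exact ha
  have h2' : (k⁻¹ • a).card = 2 := by rw [Finset.card_smul_finset, h2]
  rw [mul_smul, mul_smul]
  rcases hg.2 _ ha' h2' with e | e
  · exact Or.inl (by rw [e, smul_inv_smul])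
  · exact Or.inr (by rw [e, Finset.smul_finset_sdiff, smul_inv_smul])

theorem PairCond.apply_mem {g : Equiv.Perm GolayPt} {T : Finset GolayPt} (hg : PairCond g T)
    {p : GolayPt} (hp : p ∈ T) : g p ∈ T := by
  have : g • p ∈ g • T := Finset.smul_mem_smul_finset hp
  rw [hg.1] at this
  exact this

theorem smul_pair (g : Equiv.Perm GolayPt) (p q : GolayPt) :
    g • ({p, q} : Finset GolayPt) = {g p, g q} := by
  rw [Finset.smul_finset_insert, Finset.smul_finset_singleton]
  rfl

/-- An element with a fixed point in `T` fixes `T` pointwise. -/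
theorem PairCond.fix {g : Equiv.Perm GolayPt} {T : Finset GolayPt} (hg : PairCond g T)
    {p : GolayPt} (hp : p ∈ T) (hgp : g p = p) : ∀ q ∈ T, g q = q := by
  intro q hq
  by_cases hqp : q = p
  · rw [hqp, hgp]
  have hsub : ({p, q} : Finset GolayPt) ⊆ T := by
    intro x hx
    rcases Finset.mem_insert.1 hx with rfl | hx
    · exact hp
    · rw [Finset.mem_singleton.1 hx]
      exact hq
  have hcard : ({p, q} : Finset GolayPt).card = 2 := Finset.card_pair (Ne.symm hqp)
  have hgq : g q ≠ p := fun h => hqp (g.injective (h.trans hgp.symm))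
  rcases hg.2 _ hsub hcard with e | e
  · rw [smul_pair, hgp] at e
    have : g q ∈ ({p, q} : Finset GolayPt) := by
      rw [← e]
      exact Finset.mem_insert_of_mem (Finset.mem_singleton_self _)
    rcases Finset.mem_insert.1 this with h | h
    · exact absurd h hgq
    · exact Finset.mem_singleton.1 h
  · rw [smul_pair, hgp] at e
    have : p ∈ T \ ({p, q} : Finset GolayPt) := by
      rw [← e]
      exact Finset.mem_insert_self _ _
    exact absurd (Finset.mem_insert_self p _) (Finset.mem_sdiff.1 this).2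

/-- Such an element is an involution on `T`. -/
theorem PairCond.sq {g : Equiv.Perm GolayPt} {T : Finset GolayPt} (hg : PairCond g T)
    {p : GolayPt} (hp : p ∈ T) : g (g p) = p := by
  by_cases hgp : g p = p
  · rw [hgp, hgp]
  have hq : g p ∈ T := hg.apply_mem hp
  have hsub : ({p, g p} : Finset GolayPt) ⊆ T := by
    intro x hx
    rcases Finset.mem_insert.1 hx with rfl | hx
    · exact hp
    · rw [Finset.mem_singleton.1 hx]
      exact hq
  have hcard : ({p, g p} : Finset GolayPt).card = 2 := Finset.card_pair (Ne.symm hgp)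
  have hne : g (g p) ≠ g p := fun h => hgp (g.injective h)
  rcases hg.2 _ hsub hcard with e | e
  · rw [smul_pair] at e
    have : g (g p) ∈ ({p, g p} : Finset GolayPt) := by
      rw [← e]
      exact Finset.mem_insert_of_mem (Finset.mem_singleton_self _)
    rcases Finset.mem_insert.1 this with h | h
    · exact h
    · exact absurd (Finset.mem_singleton.1 h) hne
  · rw [smul_pair] at e
    have : g p ∈ T \ ({p, g p} : Finset GolayPt) := by
      rw [← e]
      exact Finset.mem_insert_self _ _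
    exact absurd (Finset.mem_insert_of_mem (Finset.mem_singleton_self _))
      (Finset.mem_sdiff.1 this).2

/-- A pointwise criterion for `PairCond`. -/
theorem pairCond_of_v4 {g : Equiv.Perm GolayPt} {T : Finset GolayPt} (hT : T.card = 4)
    (hmem : ∀ p ∈ T, g p ∈ T) (hsq : ∀ p ∈ T, g (g p) = p)
    (hfix : ∀ p ∈ T, g p = p → ∀ q ∈ T, g q = q) : PairCond g T := by
  have hgT : g • T = T := by
    apply Finset.eq_of_subset_of_card_le
    · intro x hx
      obtain ⟨y, hy, rfl⟩ := Finset.mem_smul_finset.1 hx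
      exact hmem y hy
    · rw [Finset.card_smul_finset]
  refine ⟨hgT, fun a ha h2 => ?_⟩
  obtain ⟨p, q, hpq, rfl⟩ := Finset.card_eq_two.1 h2
  have hp : p ∈ T := ha (Finset.mem_insert_self _ _)
  have hq : q ∈ T := ha (Finset.mem_insert_of_mem (Finset.mem_singleton_self _))
  rw [smul_pair]
  by_cases h1 : g p = p
  · exact Or.inl (by rw [h1, hfix p hp h1 q hq])
  by_cases h2' : g q = q
  · exact Or.inl (by rw [h2', hfix q hq h2' p hp])
  by_cases h3 : g p = q
  · have : g q = p := by rw [← h3, hsq p hp]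
    exact Or.inl (by rw [h3, this, Finset.pair_comm])
  by_cases h4 : g q = p
  · have : g p = q := by rw [← h4, hsq q hq]
    exact absurd this h3
  refine Or.inr ?_
  apply Finset.eq_of_subset_of_card_le
  · intro x hx
    rw [Finset.mem_sdiff]
    rcases Finset.mem_insert.1 hx with rfl | hx
    · refine ⟨hmem p hp, fun h => ?_⟩
      rcases Finset.mem_insert.1 h with h | h
      · exact h1 h
      · exact h3 (Finset.mem_singleton.1 h)
    · rw [Finset.mem_singleton.1 hx]
      refine ⟨hmem q hq, fun h => ?_⟩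
      rcases Finset.mem_insert.1 h with h | h
      · exact h4 h
      · exact h2' (Finset.mem_singleton.1 h)
  · rw [Finset.card_sdiff_of_subset ha, hT, Finset.card_pair hpq,
      Finset.card_pair (fun h => hpq (g.injective h))]

/-- The elements of `M24` acting on each tetrad of `S` as an element of the four-group. -/
def NSub (S : Finset (Finset GolayPt)) : Subgroup (Equiv.Perm GolayPt) where
  carrier := {g | g ∈ M24 ∧ ∀ T ∈ S, PairCond g T}
  mul_mem' := fun hg hh => ⟨M24.mul_mem hg.1 hh.1, fun T hT => (hg.2 T hT).mul (hh.2 T hT)⟩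
  one_mem' := ⟨M24.one_mem, fun T _ => pairCond_one T⟩
  inv_mem' := fun hg => ⟨M24.inv_mem hg.1, fun T hT => (hg.2 T hT).inv⟩

theorem mem_NSub {S : Finset (Finset GolayPt)} {g : Equiv.Perm GolayPt} :
    g ∈ NSub S ↔ g ∈ M24 ∧ ∀ T ∈ S, PairCond g T := Iff.rfl

theorem NSub_conj {S : Finset (Finset GolayPt)} {g k : Equiv.Perm GolayPt} (hg : g ∈ NSub S)
    (hk : k ∈ M24) : k * g * k⁻¹ ∈ NSub (k • S) := by
  refine ⟨M24.mul_mem (M24.mul_mem hk hg.1) (M24.inv_mem hk), fun T hT => ?_⟩
  obtain ⟨T', hT', rfl⟩ := Finset.mem_smul_finset.1 hT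
  exact (hg.2 T' hT').conj k

theorem NSub_smul {S : Finset (Finset GolayPt)} {g : Equiv.Perm GolayPt} (hg : g ∈ NSub S) :
    g • S = S := by
  apply Finset.eq_of_subset_of_card_le
  · intro x hx
    obtain ⟨T, hT, rfl⟩ := Finset.mem_smul_finset.1 hx
    have e : g • T = T := (hg.2 T hT).1
    rw [show (g • T : Finset GolayPt) = T from e]
    exact hT
  · rw [Finset.card_smul_finset]

theorem NSub_sq {S : Finset (Finset GolayPt)} (hS : S ∈ sextets) {g : Equiv.Perm GolayPt}
    (hg : g ∈ NSub S) : g * g = 1 := by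
  ext p
  obtain ⟨T, hT, hp⟩ := sextet_cover hS p
  rw [Equiv.Perm.mul_apply, (hg.2 T hT).sq hp]
  rfl


/-- Counting `NSub S` through the images of three base points. -/
theorem card_NSub_of_base {S : Finset (Finset GolayPt)} (hS : S ∈ sextets)
    {T1 T2 T3 : Finset GolayPt} (h1 : T1 ∈ S) (h2 : T2 ∈ S) (h3 : T3 ∈ S)
    (h12 : T1 ≠ T2) (h13 : T1 ≠ T3) (h23 : T2 ≠ T3) {p1 p2 p3 : GolayPt}
    (hp1 : p1 ∈ T1) (hp2 : p2 ∈ T2) (hp3 : p3 ∈ T3)
    (ha : ∀ x ∈ T1, ∃ g ∈ NSub S, g p1 = x)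
    (hb : ∀ y ∈ T2, ∃ g ∈ NSub S, g p1 = p1 ∧ g p2 = y)
    (hc : ∀ z ∈ T3, ∃ g ∈ NSub S, g p1 = p1 ∧ g p2 = p2 ∧ g p3 = z) :
    Nat.card (NSub S) = 64 := by
  classical
  let f : ↥(NSub S) → ↥T1 × ↥T2 × ↥T3 := fun g =>
    (⟨g.1 p1, (g.2.2 T1 h1).apply_mem hp1⟩, ⟨g.1 p2, (g.2.2 T2 h2).apply_mem hp2⟩,
      ⟨g.1 p3, (g.2.2 T3 h3).apply_mem hp3⟩)
  have hinj : Function.Injective f := by
    intro g h e
    have e1 : g.1 p1 = h.1 p1 := congrArg (fun x => (x.1 : GolayPt)) e
    have e2 : g.1 p2 = h.1 p2 := congrArg (fun x => (x.2.1 : GolayPt)) e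
    have e3 : g.1 p3 = h.1 p3 := congrArg (fun x => (x.2.2 : GolayPt)) e
    have hk : h.1⁻¹ * g.1 ∈ NSub S := (NSub S).mul_mem ((NSub S).inv_mem h.2) g.2
    have k1 : (h.1⁻¹ * g.1) p1 = p1 := by
      rw [Equiv.Perm.mul_apply, e1, perm_inv_apply]
    have k2 : (h.1⁻¹ * g.1) p2 = p2 := by
      rw [Equiv.Perm.mul_apply, e2, perm_inv_apply]
    have k3 : (h.1⁻¹ * g.1) p3 = p3 := by
      rw [Equiv.Perm.mul_apply, e3, perm_inv_apply]
    have hfix1 := (hk.2 T1 h1).fix hp1 k1
    have hfix2 := (hk.2 T2 h2).fix hp2 k2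
    have ho : T1 ∪ T2 ∈ octads := hS.2.2 T1 h1 T2 h2 h12
    have hp3o : p3 ∉ T1 ∪ T2 := by
      intro h
      rcases Finset.mem_union.1 h with h | h
      · exact Finset.disjoint_left.1 (sextet_disjoint hS h1 h3 h13) h hp3
      · exact Finset.disjoint_left.1 (sextet_disjoint hS h2 h3 h23) h hp3
    have h1' := eq_one_of_fix_octad_pt (T1 ∪ T2) ho p3 hp3o _ hk.1 (fun x hx => by
      rcases Finset.mem_union.1 hx with hx | hx
      · exact hfix1 x hx
      · exact hfix2 x hx) k3
    exact Subtype.ext (inv_mul_eq_one.1 h1').symm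
  have hsurj : Function.Surjective f := by
    rintro ⟨⟨x, hx⟩, ⟨y, hy⟩, ⟨z, hz⟩⟩
    obtain ⟨a, haN, hax⟩ := ha x hx
    have hy' : a⁻¹ y ∈ T2 := ((haN.2 T2 h2).inv).apply_mem hy
    obtain ⟨b, hbN, hb1, hb2⟩ := hb _ hy'
    have hz' : b⁻¹ (a⁻¹ z) ∈ T3 := ((hbN.2 T3 h3).inv).apply_mem (((haN.2 T3 h3).inv).apply_mem hz)
    obtain ⟨c, hcN, hc1, hc2, hc3⟩ := hc _ hz'
    refine ⟨⟨a * b * c, (NSub S).mul_mem ((NSub S).mul_mem haN hbN) hcN⟩, ?_⟩
    have r1 : (a * b * c) p1 = x := by
      rw [Equiv.Perm.mul_apply, Equiv.Perm.mul_apply, hc1, hb1, hax]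
    have r2 : (a * b * c) p2 = y := by
      rw [Equiv.Perm.mul_apply, Equiv.Perm.mul_apply, hc2, hb2, perm_apply_inv]
    have r3 : (a * b * c) p3 = z := by
      rw [Equiv.Perm.mul_apply, Equiv.Perm.mul_apply, hc3, perm_apply_inv, perm_apply_inv]
    exact Prod.ext (Subtype.ext r1) (Prod.ext (Subtype.ext r2) (Subtype.ext r3))
  rw [Nat.card_congr (Equiv.ofBijective f ⟨hinj, hsurj⟩), Nat.card_prod, Nat.card_prod,
    Nat.card_eq_fintype_card, Nat.card_eq_fintype_card, Nat.card_eq_fintype_card,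
    Fintype.card_coe, Fintype.card_coe, Fintype.card_coe, tetrad_card hS h1, tetrad_card hS h2,
    tetrad_card hS h3]

/-- Conjugation identifies `NSub S` with `NSub (k • S)`. -/
theorem card_NSub_smul (S : Finset (Finset GolayPt)) {k : Equiv.Perm GolayPt} (hk : k ∈ M24) :
    Nat.card (NSub (k • S)) = Nat.card (NSub S) := by
  symm
  refine Nat.card_congr ⟨fun g => ⟨k * g.1 * k⁻¹, NSub_conj g.2 hk⟩,
    fun g => ⟨k⁻¹ * g.1 * k, ?_⟩, fun g => ?_, fun g => ?_⟩
  · have := NSub_conj g.2 (M24.inv_mem hk)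
    rw [inv_smul_smul, inv_inv] at this
    exact this
  · apply Subtype.ext
    show k⁻¹ * (k * g.1 * k⁻¹) * k = g.1
    group
  · apply Subtype.ext
    show k * (k⁻¹ * g.1 * k) * k⁻¹ = g.1
    group

/-- The permutations of an enumeration of six sets induced by `M24`. -/
def IndPerm (τ : Fin 6 → Finset GolayPt) : Subgroup (Equiv.Perm (Fin 6)) where
  carrier := {σ | ∃ g ∈ M24, ∀ i, g • τ i = τ (σ i)}
  mul_mem' := by
    rintro σ σ' ⟨g, hg, h⟩ ⟨g', hg', h'⟩
    exact ⟨g * g', M24.mul_mem hg hg', fun i => by rw [mul_smul, h', h]; rfl⟩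
  one_mem' := ⟨1, M24.one_mem, fun i => one_smul _ _⟩
  inv_mem' := by
    rintro σ ⟨g, hg, h⟩
    refine ⟨g⁻¹, M24.inv_mem hg, fun i => ?_⟩
    rw [inv_smul_eq_iff, h]
    exact congrArg τ (σ.apply_symm_apply i).symm

theorem indPerm_top {τ : Fin 6 → Finset GolayPt}
    (hrot : ∃ g ∈ M24, ∀ i, g • τ i = τ (finRotate 6 i))
    (hswap : ∃ g ∈ M24, ∀ i, g • τ i = τ (Equiv.swap (0 : Fin 6) 1 i)) : IndPerm τ = ⊤ := by
  rw [eq_top_iff, ← Equiv.Perm.closure_cycle_adjacent_swap
    (isCycle_finRotate_of_le (n := 6) (by norm_num))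
    (support_finRotate_of_le (n := 6) (by norm_num)) (0 : Fin 6), Subgroup.closure_le]
  intro σ hσ
  rcases hσ with rfl | hσ
  · exact hrot
  · rw [Set.mem_singleton_iff] at hσ
    subst hσ
    have : finRotate 6 (0 : Fin 6) = 1 := by decide
    rw [this]
    exact hswap

theorem indPerm_smul {τ : Fin 6 → Finset GolayPt} {k : Equiv.Perm GolayPt} (hk : k ∈ M24)
    (h : IndPerm τ = ⊤) : IndPerm (fun i => k • τ i) = ⊤ := by
  rw [eq_top_iff]
  intro σ _
  have hσ : σ ∈ IndPerm τ := by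
    rw [h]
    trivial
  obtain ⟨g, hg, hσ⟩ := hσ
  refine ⟨k * g * k⁻¹, M24.mul_mem (M24.mul_mem hk hg) (M24.inv_mem hk), fun i => ?_⟩
  show (k * g * k⁻¹) • k • τ i = k • τ (σ i)
  rw [mul_smul, mul_smul, inv_smul_smul, hσ]

/-- All permutations of the members of `S` are induced. -/
theorem induce_all {S : Finset (Finset GolayPt)} {τ : Fin 6 → Finset GolayPt}
    (hτ : Function.Injective τ) (hS : S = Finset.univ.image τ) (htop : IndPerm τ = ⊤)
    (e : Equiv.Perm ↥S) :
    ∃ g ∈ M24, g • S = S ∧ ∀ t : ↥S, g • (t : Finset GolayPt) = ((e t : ↥S) : Finset GolayPt) := by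
  classical
  have hmem : ∀ i, τ i ∈ S := fun i => by
    rw [hS]
    exact Finset.mem_image_of_mem _ (Finset.mem_univ _)
  let φ : Fin 6 ≃ ↥S := Equiv.ofBijective (fun i => ⟨τ i, hmem i⟩) ⟨fun i j h => hτ (congrArg Subtype.val h),
    fun t => by
      have h1 : (t : Finset GolayPt) ∈ Finset.univ.image τ := by
        rw [← hS]
        exact t.2
      obtain ⟨i, _, hi⟩ := Finset.mem_image.1 h1
      exact ⟨i, Subtype.ext hi⟩⟩
  have hφ : ∀ i, ((φ i : ↥S) : Finset GolayPt) = τ i := fun i => rfl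
  have hσ : (φ.trans (e.trans φ.symm) : Equiv.Perm (Fin 6)) ∈ IndPerm τ := by
    rw [htop]
    trivial
  obtain ⟨g, hg, hσ⟩ := hσ
  have key : ∀ t : ↥S, g • (t : Finset GolayPt) = ((e t : ↥S) : Finset GolayPt) := by
    intro t
    obtain ⟨i, rfl⟩ := φ.surjective t
    rw [hφ, hσ, ← hφ]
    congr 1
    simp
  refine ⟨g, hg, ?_, key⟩
  apply Finset.eq_of_subset_of_card_le
  · intro x hx
    obtain ⟨T, hT, rfl⟩ := Finset.mem_smul_finset.1 hx
    have := key ⟨T, hT⟩
    show g • T ∈ S
    rw [show g • T = ((e ⟨T, hT⟩ : ↥S) : Finset GolayPt) from this]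
    exact (e ⟨T, hT⟩).2
  · rw [Finset.card_smul_finset]

theorem card_stabilizer_sextet {S : Finset (Finset GolayPt)} (hS : S ∈ sextets) :
    Nat.card (MulAction.stabilizer M24 S) = 138240 := by
  have h1 := Subgroup.card_mul_index (MulAction.stabilizer M24 S)
  rw [MulAction.index_stabilizer, orbit_sextet hS, ncard_sextets, card_M24] at h1
  omega

/-- The action of the stabiliser of a family of sets on its members. -/
@[reducible] def stabAct (S : Finset (Finset GolayPt)) : MulAction ↥(MulAction.stabilizer M24 S) ↥S where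
  smul g t := ⟨((g : M24) : Equiv.Perm GolayPt) • (t : Finset GolayPt), by
    have h := g.2
    rw [MulAction.mem_stabilizer_iff] at h
    have h' : ((g : M24) : Equiv.Perm GolayPt) • (t : Finset GolayPt) ∈
      ((g : M24) : Equiv.Perm GolayPt) • S := Finset.smul_mem_smul_finset t.2
    rw [show ((g : M24) : Equiv.Perm GolayPt) • S = S from h] at h'
    exact h'⟩
  one_smul t := Subtype.ext (one_smul _ _)
  mul_smul g h t := Subtype.ext (mul_smul _ _ _)

/-- The permutation of the members induced by an element of the stabiliser. -/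
def tetHom (S : Finset (Finset GolayPt)) :
    ↥(MulAction.stabilizer M24 S) →* Equiv.Perm ↥S :=
  letI := stabAct S
  MulAction.toPermHom _ _

theorem tetHom_apply (S : Finset (Finset GolayPt)) (g : ↥(MulAction.stabilizer M24 S)) (t : ↥S) :
    ((tetHom S g t : ↥S) : Finset GolayPt) =
      ((g : M24) : Equiv.Perm GolayPt) • (t : Finset GolayPt) := rfl

theorem mem_ker_tetHom (S : Finset (Finset GolayPt)) (g : ↥(MulAction.stabilizer M24 S)) :
    g ∈ (tetHom S).ker ↔ ∀ t ∈ S, ((g : M24) : Equiv.Perm GolayPt) • t = t := by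
  rw [MonoidHom.mem_ker]
  constructor
  · intro h t ht
    have := tetHom_apply S g ⟨t, ht⟩
    rw [h] at this
    exact this.symm
  · intro h
    refine Equiv.ext fun t => Subtype.ext ?_
    rw [tetHom_apply]
    exact h t t.2


/-- The structure of the stabiliser of any sextet, from data at one base sextet. -/
theorem sextet_stab_of_base {S0 : Finset (Finset GolayPt)} (hS0 : S0 ∈ sextets)
    {τ0 : Fin 6 → Finset GolayPt} (hτ0 : Function.Injective τ0) (hS0τ : S0 = Finset.univ.image τ0)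
    (htop : IndPerm τ0 = ⊤) (hN0 : Nat.card (NSub S0) = 64)
    (S : Finset (Finset GolayPt)) (hS : S ∈ sextets) :
    (∀ e : Equiv.Perm ↥S, ∃ g ∈ MulAction.stabilizer M24 S, ∀ t : ↥S,
      (g : Equiv.Perm GolayPt) • (t : Finset GolayPt) = ((e t : ↥S) : Finset GolayPt)) ∧
    Nat.card {g : ↥(MulAction.stabilizer M24 S) //
      ∀ t ∈ S, ((g : M24) : Equiv.Perm GolayPt) • t = t} = 192 ∧
    ∃ N : Subgroup ↥(MulAction.stabilizer M24 S), N.Normal ∧ Nat.card N = 64 ∧
      ∀ x ∈ N, x * x = 1 := by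
  classical
  obtain ⟨k, hk, rfl⟩ := sextets_transitive hS0 hS
  have part1 : ∀ e : Equiv.Perm ↥(k • S0), ∃ g ∈ MulAction.stabilizer M24 (k • S0),
      ∀ t : ↥(k • S0),
      (g : Equiv.Perm GolayPt) • (t : Finset GolayPt) = ((e t : ↥(k • S0)) : Finset GolayPt) := by
    intro e
    have hτ : Function.Injective (fun i => k • τ0 i) := fun i j h => hτ0 (smul_left_cancel k h)
    have hSτ : k • S0 = Finset.univ.image (fun i => k • τ0 i) := by
      rw [hS0τ, ← Finset.image_smul, Finset.image_image]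
      rfl
    obtain ⟨g, hg, hgS, hge⟩ := induce_all hτ hSτ (indPerm_smul hk htop) e
    exact ⟨⟨g, hg⟩, MulAction.mem_stabilizer_iff.2 hgS, hge⟩
  refine ⟨part1, ?_, ?_⟩
  · rw [← Nat.card_congr (Equiv.subtypeEquivRight (mem_ker_tetHom (k • S0)))]
    have hsurj : Function.Surjective (tetHom (k • S0)) := by
      intro e
      obtain ⟨g, hg, hge⟩ := part1 e
      refine ⟨⟨g, hg⟩, Equiv.ext fun t => Subtype.ext ?_⟩
      rw [tetHom_apply]
      exact hge t
    have h1 := Subgroup.card_mul_index (tetHom (k • S0)).ker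
    rw [Subgroup.index_ker, MonoidHom.range_eq_top.2 hsurj, Subgroup.card_top,
      card_stabilizer_sextet hS, Nat.card_eq_fintype_card (α := Equiv.Perm ↥(k • S0)),
      Fintype.card_perm, Fintype.card_coe, hS.1] at h1
    have h720 : Nat.factorial 6 = 720 := by decide
    rw [h720] at h1
    omega
  · refine ⟨(NSub (k • S0)).comap ((Subgroup.subtype M24).comp
      (Subgroup.subtype (MulAction.stabilizer M24 (k • S0)))), ⟨fun x hx h => ?_⟩, ?_, ?_⟩
    · have hx' : ((x : M24) : Equiv.Perm GolayPt) ∈ NSub (k • S0) := hx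
      have h1 := NSub_conj hx' (h : M24).2
      have h2 : ((h : M24) : Equiv.Perm GolayPt) • (k • S0) = k • S0 :=
        MulAction.mem_stabilizer_iff.1 h.2
      rw [h2] at h1
      exact h1
    · rw [← hN0, ← card_NSub_smul S0 hk]
      refine Nat.card_congr ⟨fun x => ⟨((x.1 : M24) : Equiv.Perm GolayPt), x.2⟩,
        fun g => ⟨⟨⟨g.1, g.2.1⟩, MulAction.mem_stabilizer_iff.2 (NSub_smul g.2)⟩, g.2⟩,
        fun x => rfl, fun g => rfl⟩
    · intro x hx
      have hx' : ((x : M24) : Equiv.Perm GolayPt) ∈ NSub (k • S0) := hx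
      exact Subtype.ext (Subtype.ext (NSub_sq hS hx'))

end Cfsg.Agent.Lib.Helper21
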