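import Cfsg.Agent.S5610
import Cfsg.Agent.Lib.Helper21.TrioPairData
import Cfsg.Agent.Lib.Helper21.GolayOctA8
import Cfsg.Agent.Lib.Helper21.GolayOctSplit
import Cfsg.Agent.Lib.Helper21.GolayDodPair

/-!
The fifteen trios through the base octad: the stabiliser of the octad is doubly transitive on
them, and the elements fixing the octad pointwise fix each of them.
-/

set_option autoImplicit false

namespace Cfsg.Agent.Lib.Helper21

open Cfsg
open scoped Pointwise

theorem maskFS_mem_toFS_iff {L : List ℕ} (hL : ∀ m ∈ L, m < 2 ^ 24) {m : ℕ} (hm : m < 2 ^ 24) :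
    maskFS m ∈ toFS L ↔ m ∈ L := by
  constructor
  · intro h
    obtain ⟨m', hm', e⟩ := mem_toFS.1 h
    rw [← maskFS_inj (hL m' hm') hm e]
    exact hm'
  · exact maskFS_mem_toFS

/-- The word maps the positions of the mask `D` into `D'`. -/
def wordMaps (f w D D' : ℕ) : Bool :=
  (List.range 24).all (fun i => !D.testBit i || D'.testBit (runWordP f w i))

theorem wordPerm_smul_maskFS (f w D D' : ℕ) (hD : D < 2 ^ 24) (hD' : D' < 2 ^ 24)
    (hc : popc 24 D = popc 24 D') (h : wordMaps f w D D' = true) :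
    wordPerm f w • maskFS D = maskFS D' := by
  apply Finset.eq_of_subset_of_card_le
  · intro p hp
    rw [← Finset.inv_smul_mem_iff] at hp
    have hq : wordPerm f w ((wordPerm f w)⁻¹ • p) = p := (wordPerm f w).apply_symm_apply p
    generalize (wordPerm f w)⁻¹ • p = q at hp hq
    rw [← hq, mem_maskFS]
    rw [mem_maskFS] at hp
    unfold wordMaps at h
    rw [List.all_eq_true] at h
    have h1 := h _ (List.mem_range.2 (gEquiv q).isLt)
    rw [hp] at h1
    have h2 : wordPerm f w q = ptN (runWordP f w (gEquiv q : Fin 24)) := by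
      rw [← wordPerm_ptN _ _ _ (gEquiv q).isLt, ptN_gEquiv]
    rw [h2, gEquiv_ptN_val _ (runWordP_lt _ _ _ (gEquiv q).isLt)]
    simpa using h1
  · rw [Finset.card_smul_finset, card_maskFS _ hD, card_maskFS _ hD', hc]

/-- The base trio through the base octad. -/
def trioR0 : Finset (Finset GolayPt) := toFS [0x149f, 0xf6840, 0xf08320]

/-- A second trio through the base octad. -/
def trioR1 : Finset (Finset GolayPt) := toFS [0x149f, 0x132b20, 0xecc040]

theorem trioR0_eq : trioR0 = {oct0, maskFS 0xf6840, maskFS 0xf08320} := by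
  unfold trioR0 toFS oct0
  simp

theorem rep_S5610 : toFS (rep3L Cfsg.Agent.S5610.rR 0) = trioR0 := by
  have e : rep3L Cfsg.Agent.S5610.rR 0 = [0x149f, 0xf6840, 0xf08320] := by decide +kernel
  rw [e]
  rfl

theorem rep_pair0 : toFS (rep3L TrioPair.rR 0) = trioR0 := by
  have e : rep3L TrioPair.rR 0 = [0x149f, 0xf6840, 0xf08320] := by decide +kernel
  rw [e]
  rfl

theorem rep_pair1 : toFS (rep3L TrioPair.rR 1) = trioR1 := by
  have e : rep3L TrioPair.rR 1 = [0x149f, 0x132b20, 0xecc040] := by decide +kernel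
  rw [e]
  rfl

theorem trioR0_ne_R1 : trioR0 ≠ trioR1 := by
  intro h
  have h1 : maskFS 0xf6840 ∈ trioR1 := by
    rw [← h]
    exact maskFS_mem_toFS (by decide)
  have := (maskFS_mem_toFS_iff (L := [0x149f, 0x132b20, 0xecc040]) (by decide) (by decide)).1 h1
  exact absurd this (by decide)

theorem oct0_mem_R0 : oct0 ∈ trioR0 := maskFS_mem_toFS (by decide)

theorem oct0_mem_R1 : oct0 ∈ trioR1 := maskFS_mem_toFS (by decide)

theorem trioR0_mem : trioR0 ∈ trios := by
  rw [← rep_S5610]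
  exact Cfsg.Agent.S5610.rmain.2.2.1 0 (by norm_num)

theorem trioR1_mem : trioR1 ∈ trios := by
  rw [← rep_pair1]
  exact toFS_trioL_mem_trios (TrioPair.rc4 1 (by norm_num))

/-- Stabilising the family `{oct0}` is stabilising `oct0`. -/
theorem smul_famO_iff (g : Equiv.Perm GolayPt) :
    g • toFS Cfsg.Agent.S5610.LA = toFS Cfsg.Agent.S5610.LA ↔ g • oct0 = oct0 := by
  have e : toFS Cfsg.Agent.S5610.LA = {oct0} := toFS_singleton _
  rw [e, Finset.smul_finset_singleton, Finset.singleton_inj]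

/-- The trios through the base octad form the orbit of the base trio. -/
theorem mem_thru_iff (T : Finset (Finset GolayPt)) :
    (T ∈ trios ∧ oct0 ∈ T) ↔ ∃ g ∈ M24, g • oct0 = oct0 ∧ g • trioR0 = T := by
  constructor
  · rintro ⟨hT, ho⟩
    obtain ⟨j, hj, ⟨g, hg⟩⟩ := Cfsg.Agent.S5610.rmain.2.1 T hT
    have hgA : ((g : ↥M24) : Equiv.Perm GolayPt) • toFS Cfsg.Agent.S5610.LA =
        toFS Cfsg.Agent.S5610.LA := g.2
    have hgo := (smul_famO_iff _).1 hgA
    have hgT : ((g : ↥M24) : Equiv.Perm GolayPt) • toFS (rep3L Cfsg.Agent.S5610.rR j) = T := hg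
    have hmem : oct0 ∈ toFS (rep3L Cfsg.Agent.S5610.rR j) := by
      rw [← hgT, ← hgo] at ho
      exact (Finset.smul_mem_smul_finset_iff _).1 ho
    have hj0 : j = 0 := by
      have h2 := (maskFS_mem_toFS_iff (L := rep3L Cfsg.Agent.S5610.rR j)
        (trioL_lt (Cfsg.Agent.S5610.rc4 j hj).1) (m := 0x149f) (by decide)).1 hmem
      have hall : ∀ j < 3, 0x149f ∈ rep3L Cfsg.Agent.S5610.rR j → j = 0 := by decide +kernel
      exact hall j hj h2
    subst hj0
    rw [rep_S5610] at hgT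
    exact ⟨_, (g : ↥M24).2, hgo, hgT⟩
  · rintro ⟨g, hg, hgo, rfl⟩
    refine ⟨smul_mem_trios hg trioR0_mem, ?_⟩
    rw [← hgo]
    exact Finset.smul_mem_smul_finset oct0_mem_R0

theorem ncard_thru_base : {T : Finset (Finset GolayPt) | T ∈ trios ∧ oct0 ∈ T}.ncard = 15 := by
  have h := Cfsg.Agent.S5610.rmain.1 0 (by norm_num)
  rw [Cfsg.Agent.S5610.rcount_0, rep_S5610] at h
  rw [← h]
  congr 1
  ext T
  rw [Set.mem_ofPred_eq, mem_thru_iff]
  constructor
  · rintro ⟨g, hg, hgo, rfl⟩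
    exact ⟨⟨⟨g, hg⟩, (smul_famO_iff g).2 hgo⟩, rfl⟩
  · rintro ⟨g, rfl⟩
    exact ⟨_, (g : ↥M24).2, (smul_famO_iff _).1 g.2, rfl⟩

/-- An element stabilising the family of the base octad and its union with the second octad of
the base trio stabilises the base octad and the base trio. -/
theorem smul_famP (g : Equiv.Perm GolayPt) (h : g • toFS TrioPair.LA = toFS TrioPair.LA) :
    g • oct0 = oct0 ∧ g • trioR0 = trioR0 := by
  have e : toFS TrioPair.LA = {oct0, maskFS 0xf7cdf} := by
    unfold toFS TrioPair.LA oct0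
    simp
  have c8 : oct0.card = 8 := by
    unfold oct0
    rw [card_maskFS _ (by norm_num)]
    decide
  have c16 : (maskFS 0xf7cdf).card = 16 := by
    rw [card_maskFS _ (by norm_num)]
    decide
  have h1 : g • oct0 = oct0 := by
    have hm : g • oct0 ∈ g • toFS TrioPair.LA := Finset.smul_mem_smul_finset (by rw [e]; simp)
    rw [h, e, Finset.mem_insert, Finset.mem_singleton] at hm
    rcases hm with hm | hm
    · exact hm
    · have := congrArg Finset.card hm
      rw [Finset.card_smul_finset, c8, c16] at this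
      omega
  have h2 : g • maskFS 0xf7cdf = maskFS 0xf7cdf := by
    have hm : g • maskFS 0xf7cdf ∈ g • toFS TrioPair.LA :=
      Finset.smul_mem_smul_finset (by rw [e]; simp)
    rw [h, e, Finset.mem_insert, Finset.mem_singleton] at hm
    rcases hm with hm | hm
    · have := congrArg Finset.card hm
      rw [Finset.card_smul_finset, c8, c16] at this
      omega
    · exact hm
  have ea : maskFS 0xf6840 = maskFS 0xf7cdf \ oct0 := by
    unfold oct0
    rw [Finset.sdiff_eq_inter_compl, ← maskFS_compl, ← maskFS_and]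
    rfl
  have eb : maskFS 0xf08320 = (maskFS 0xf7cdf)ᶜ := by
    rw [← maskFS_compl]
    rfl
  have h3 : g • maskFS 0xf6840 = maskFS 0xf6840 := by
    rw [ea, Finset.smul_finset_sdiff, h1, h2]
  have h4 : g • maskFS 0xf08320 = maskFS 0xf08320 := by
    rw [eb, smul_finset_compl', h2]
  refine ⟨h1, ?_⟩
  rw [trioR0_eq, Finset.smul_finset_insert, Finset.smul_finset_insert,
    Finset.smul_finset_singleton, h1, h3, h4]

/-- Two distinct trios through the base octad can be mapped to the two base trios. -/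
theorem pair_normal_form (T₁ T₂ : Finset (Finset GolayPt)) (h1 : T₁ ∈ trios) (h2 : T₂ ∈ trios)
    (ho1 : oct0 ∈ T₁) (ho2 : oct0 ∈ T₂) (hne : T₁ ≠ T₂) :
    ∃ g ∈ M24, g • oct0 = oct0 ∧ g • T₁ = trioR0 ∧ g • T₂ = trioR1 := by
  obtain ⟨g1, hg1, hg1o, rfl⟩ := (mem_thru_iff T₁).1 ⟨h1, ho1⟩
  have h2' : g1⁻¹ • T₂ ∈ trios := smul_mem_trios (M24.inv_mem hg1) h2
  have hg1o' : g1⁻¹ • oct0 = oct0 := by rw [inv_smul_eq_iff, hg1o]
  have ho2' : oct0 ∈ g1⁻¹ • T₂ := by
    rw [← hg1o']
    exact Finset.smul_mem_smul_finset ho2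
  have hne' : g1⁻¹ • T₂ ≠ trioR0 := by
    intro e
    apply hne
    rw [← e, smul_inv_smul]
  obtain ⟨j, hj, h, hh, hhA, hhT⟩ := TrioPair.rcover _ h2'
  obtain ⟨hho, hhR⟩ := smul_famP h hhA
  have hho' : h⁻¹ • oct0 = oct0 := by rw [inv_smul_eq_iff, hho]
  have hmem : oct0 ∈ toFS (rep3L TrioPair.rR j) := by
    rw [← hhT, ← hho] at ho2'
    exact (Finset.smul_mem_smul_finset_iff _).1 ho2'
  have hj01 : j = 0 ∨ j = 1 := by
    have h3 := (maskFS_mem_toFS_iff (L := rep3L TrioPair.rR j)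
      (trioL_lt (TrioPair.rc4 j hj).1) (m := 0x149f) (by decide)).1 hmem
    have hall : ∀ j < 9, 0x149f ∈ rep3L TrioPair.rR j → j = 0 ∨ j = 1 := by decide +kernel
    exact hall j hj h3
  rcases hj01 with rfl | rfl
  · rw [rep_pair0, hhR] at hhT
    exact absurd hhT.symm hne'
  · rw [rep_pair1] at hhT
    refine ⟨(g1 * h)⁻¹, M24.inv_mem (M24.mul_mem hg1 hh), ?_, ?_, ?_⟩
    · rw [inv_smul_eq_iff, mul_smul, hho, hg1o]
    · rw [inv_smul_eq_iff, mul_smul, hhR]
    · rw [inv_smul_eq_iff, mul_smul, hhT, smul_inv_smul]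

theorem oct0Words_R0 : ∀ w ∈ oct0Words,
    ((wordMaps 32 w 0xf6840 0xf6840 && wordMaps 32 w 0xf08320 0xf08320) ||
      (wordMaps 32 w 0xf6840 0xf08320 && wordMaps 32 w 0xf08320 0xf6840)) = true := by
  decide +kernel

/-- An element of `M24` fixing the base octad pointwise fixes the base trio. -/
theorem fix_R0 (n : Equiv.Perm GolayPt) (hn : n ∈ M24) (hfix : ∀ p ∈ oct0, n p = p) :
    n • trioR0 = trioR0 := by
  have hmem : n ∈ conSub [] oct0Fs := by
    rw [conSub_oct0_eq, Subgroup.mem_inf, mem_fixing_iff]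
    exact ⟨hn, hfix⟩
  obtain ⟨w, hw, rfl⟩ := eq_word_of_levelC 32 _ _ _ _ _ _ oct0_ok conSub_oct0_five n hmem
  have ho : wordPerm 32 w • oct0 = oct0 := smul_eq_of_fixing hfix
  have hchk := oct0Words_R0 w hw
  rw [Bool.or_eq_true, Bool.and_eq_true, Bool.and_eq_true] at hchk
  rw [trioR0_eq, Finset.smul_finset_insert, Finset.smul_finset_insert,
    Finset.smul_finset_singleton, ho]
  rcases hchk with ⟨ha, hb⟩ | ⟨ha, hb⟩
  · rw [wordPerm_smul_maskFS 32 w _ _ (by norm_num) (by norm_num) (by decide) ha,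
      wordPerm_smul_maskFS 32 w _ _ (by norm_num) (by norm_num) (by decide) hb]
  · rw [wordPerm_smul_maskFS 32 w _ _ (by norm_num) (by norm_num) (by decide) ha,
      wordPerm_smul_maskFS 32 w _ _ (by norm_num) (by norm_num) (by decide) hb,
      Finset.pair_comm (maskFS 0xf08320)]

/-- An element of `M24` fixing the base octad pointwise fixes each trio through it. -/
theorem fix_thru_base (n : Equiv.Perm GolayPt) (hn : n ∈ M24) (hfix : ∀ p ∈ oct0, n p = p)
    (T : Finset (Finset GolayPt)) (hT : T ∈ trios) (ho : oct0 ∈ T) : n • T = T := by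
  obtain ⟨g, hg, hgo, rfl⟩ := (mem_thru_iff T).1 ⟨hT, ho⟩
  have hfix' : ∀ p ∈ oct0, (g⁻¹ * n * g) p = p := by
    intro p hp
    have hgp : g p ∈ oct0 := (apply_mem_iff_of_smul_eq hgo p).2 hp
    rw [Equiv.Perm.mul_apply, Equiv.Perm.mul_apply, hfix _ hgp]
    exact g.symm_apply_apply p
  have := fix_R0 (g⁻¹ * n * g) (M24.mul_mem (M24.mul_mem (M24.inv_mem hg) hn) hg) hfix'
  rw [mul_smul, mul_smul, inv_smul_eq_iff] at this
  exact this

end Cfsg.Agent.Lib.Helper21
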