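import Cfsg.Agent.Lib.Helper21.GolaySextetStab
import Cfsg.Agent.Lib.Helper21.GolaySextetOrb
import Cfsg.Agent.Lib.Helper21.TrioPairBase

/-!
Explicit data at a base sextet: elements of `M24` inducing a six-cycle and a transposition of the
tetrads, and elements acting as four-group elements on every tetrad with prescribed images of
three base points.
-/

set_option autoImplicit false

namespace Cfsg.Agent.Lib.Helper21.SextetStab

open Cfsg Cfsg.Agent.Lib.Helper21
open scoped Pointwise

/-- The tetrads of the base sextet as masks. -/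
def tetL : List ℕ := [0xf, 0x1490, 0x98100, 0x342000, 0x400a40, 0x824020]

/-- The `i`-th tetrad mask. -/
def tetN (i : ℕ) : ℕ := tetL.getD i 0

/-- The `i`-th tetrad. -/
def tau0 (i : Fin 6) : Finset GolayPt := maskFS (tetN i)

/-- The base sextet. -/
def sext0 : Finset (Finset GolayPt) := Finset.univ.image tau0

theorem tetN_lt : ∀ i : Fin 6, tetN i < 2 ^ 24 := by decide

theorem tetN_popc : ∀ i : Fin 6, popc 24 (tetN i) = 4 := by decide

theorem tetL_lt : ∀ m ∈ tetL, m < 2 ^ 24 := by decide

theorem tetL_popc : ∀ m ∈ tetL, popc 24 m = 4 := by decide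

theorem tau0_inj : Function.Injective tau0 := by
  intro i j h
  have h1 := maskFS_inj (tetN_lt i) (tetN_lt j) h
  revert h1
  revert i j
  decide

theorem sext0_eq : sext0 = toFS tetL := by
  ext s
  unfold sext0
  rw [mem_toFS, Finset.mem_image]
  constructor
  · rintro ⟨i, _, rfl⟩
    refine ⟨tetN i, ?_, rfl⟩
    revert i
    decide
  · rintro ⟨m, hm, rfl⟩
    have h1 : ∀ m ∈ tetL, ∃ i : Fin 6, tetN i = m := by decide
    obtain ⟨i, rfl⟩ := h1 m hm
    exact ⟨i, Finset.mem_univ _, rfl⟩

theorem sext0_mem : sext0 ∈ sextets := by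
  rw [sext0_eq, ← sextetOf_eq_toFS (t := 0xf) (L := tetL) rfl (by decide) (by decide) (by decide)
    (by decide)]
  exact sextetOf_mem (by rw [card_maskFS _ (by decide)]; decide)

/-- A word inducing the six-cycle on the tetrads. -/
def rotW : ℕ := 78877835212

/-- A word swapping the first two tetrads and fixing the others. -/
def swapW : ℕ := 1140031053571

theorem rot_ok : ∀ i : Fin 6, wordMaps 32 rotW (tetN i) (tetN ((i + 1 : Fin 6) : ℕ)) = true := by
  decide +kernel

theorem swap_ok : ∀ i : Fin 6, wordMaps 32 swapW (tetN i)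
    (tetN ((if i = 0 then 1 else if i = 1 then 0 else i : Fin 6) : ℕ)) = true := by
  decide +kernel

theorem indPerm_tau0 : IndPerm tau0 = ⊤ := by
  apply indPerm_top
  · refine ⟨wordPerm 32 rotW, wordPerm_mem_M24 _ _, fun i => ?_⟩
    have h1 : finRotate 6 i = i + 1 := finRotate_succ_apply i
    rw [h1]
    exact wordPerm_smul_maskFS 32 rotW _ _ (tetN_lt i) (tetN_lt _)
      (by rw [tetN_popc, tetN_popc]) (rot_ok i)
  · refine ⟨wordPerm 32 swapW, wordPerm_mem_M24 _ _, fun i => ?_⟩
    rw [Equiv.swap_apply_def]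
    exact wordPerm_smul_maskFS 32 swapW _ _ (tetN_lt i) (tetN_lt _)
      (by rw [tetN_popc, tetN_popc]) (swap_ok i)

/-- The word acts on the positions of the mask `t` as an element of the four-group. -/
def v4Chk (w t : ℕ) : Bool :=
  (List.range 24).all fun i => !t.testBit i ||
    (t.testBit (runWordP 32 w i) && runWordP 32 w (runWordP 32 w i) == i &&
      (runWordP 32 w i != i ||
        (List.range 24).all fun j => !t.testBit j || runWordP 32 w j == j))

theorem wordPerm_apply (f w : ℕ) (q : GolayPt) :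
    wordPerm f w q = ptN (runWordP f w (gEquiv q : Fin 24)) := by
  rw [← wordPerm_ptN _ _ _ (gEquiv q).isLt, ptN_gEquiv]

theorem pairCond_of_chk {w t : ℕ} (ht : t < 2 ^ 24) (h4 : popc 24 t = 4)
    (h : v4Chk w t = true) : PairCond (wordPerm 32 w) (maskFS t) := by
  unfold v4Chk at h
  rw [List.all_eq_true] at h
  have key : ∀ p ∈ maskFS t, wordPerm 32 w p ∈ maskFS t ∧
      wordPerm 32 w (wordPerm 32 w p) = p ∧
      (wordPerm 32 w p = p → ∀ q ∈ maskFS t, wordPerm 32 w q = q) := by
    intro p hp
    rw [mem_maskFS] at hp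
    have h1 := h _ (List.mem_range.2 (gEquiv p).isLt)
    rw [hp] at h1
    simp only [Bool.not_true, Bool.false_or, Bool.and_eq_true, Bool.or_eq_true, beq_iff_eq,
      bne_iff_ne, List.all_eq_true, List.mem_range, Bool.not_eq_true'] at h1
    obtain ⟨⟨h1a, h1b⟩, h1c⟩ := h1
    have hlt : runWordP 32 w (gEquiv p : Fin 24) < 24 := runWordP_lt _ _ _ (gEquiv p).isLt
    refine ⟨?_, ?_, ?_⟩
    · rw [wordPerm_apply, mem_maskFS, gEquiv_ptN_val _ hlt]
      exact h1a
    · rw [wordPerm_apply 32 w p, wordPerm_apply, gEquiv_ptN_val _ hlt, h1b, ptN_gEquiv]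
    · intro hfix q hq
      rw [mem_maskFS] at hq
      rcases h1c with h1c | h1c
      · exfalso
        apply h1c
        have := congrArg (fun x => ((gEquiv x : Fin 24) : ℕ)) hfix
        simp only [wordPerm_apply] at this
        rw [gEquiv_ptN_val _ hlt] at this
        exact this
      · rcases h1c _ (gEquiv q).isLt with h2 | h2
        · rw [hq] at h2
          exact absurd h2 (by decide)
        · rw [wordPerm_apply, h2, ptN_gEquiv]
  apply pairCond_of_v4
  · rw [card_maskFS _ ht, h4]
  · exact fun p hp => (key p hp).1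
  · exact fun p hp => (key p hp).2.1
  · exact fun p hp => (key p hp).2.2

theorem mem_NSub_word {w : ℕ} (h : tetL.all (v4Chk w) = true) : wordPerm 32 w ∈ NSub sext0 := by
  refine ⟨wordPerm_mem_M24 _ _, fun T hT => ?_⟩
  rw [sext0_eq, mem_toFS] at hT
  obtain ⟨m, hm, rfl⟩ := hT
  rw [List.all_eq_true] at h
  exact pairCond_of_chk (tetL_lt m hm) (tetL_popc m hm) (h m hm)

/-- Words of elements mapping the base point `0` to the points of the first tetrad. -/
def aW : ℕ → ℕ
  | 1 => 391611547191
  | 2 => 123679268181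
  | 3 => 96572261327
  | _ => 1

/-- Words of elements fixing `0` and mapping the base point `4` to the points of the second
tetrad. -/
def bW : ℕ → ℕ
  | 7 => 17367358805
  | 10 => 4562390072
  | 12 => 2113886012
  | _ => 1

/-- Words of elements fixing `0`, `4` and mapping the base point `8` to the points of the third
tetrad. -/
def cW : ℕ → ℕ
  | 15 => 546367828597
  | 16 => 429439532941
  | 19 => 290999923518
  | _ => 1

/-- The words `W i`, for `i` in the mask `t`, lie in the four-group subgroup, fix the points of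
`fixed` and map `b` to `i`. -/
def baseChk (W : ℕ → ℕ) (t : ℕ) (fixed : List ℕ) (b : ℕ) : Bool :=
  (List.range 24).all fun i => !t.testBit i ||
    (tetL.all (v4Chk (W i)) && fixed.all (fun j => runWordP 32 (W i) j == j) &&
      runWordP 32 (W i) b == i)

theorem aW_ok : baseChk aW 0xf [] 0 = true := by decide +kernel

theorem bW_ok : baseChk bW 0x1490 [0] 4 = true := by decide +kernel

theorem cW_ok : baseChk cW 0x98100 [0, 4] 8 = true := by decide +kernel

theorem base_spec {W : ℕ → ℕ} {t : ℕ} {fixed : List ℕ} {b : ℕ} (hb : b < 24)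
    (hf : ∀ j ∈ fixed, j < 24) (h : baseChk W t fixed b = true) (x : GolayPt)
    (hx : x ∈ maskFS t) :
    ∃ g ∈ NSub sext0, (∀ j ∈ fixed, g (ptN j) = ptN j) ∧ g (ptN b) = x := by
  unfold baseChk at h
  rw [List.all_eq_true] at h
  rw [mem_maskFS] at hx
  have h1 := h _ (List.mem_range.2 (gEquiv x).isLt)
  rw [hx] at h1
  simp only [Bool.not_true, Bool.false_or, Bool.and_eq_true, beq_iff_eq] at h1
  obtain ⟨⟨h1a, h1b⟩, h1c⟩ := h1
  refine ⟨wordPerm 32 (W (gEquiv x : Fin 24)), mem_NSub_word h1a, fun j hj => ?_, ?_⟩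
  · rw [List.all_eq_true] at h1b
    have := h1b j hj
    rw [beq_iff_eq] at this
    rw [wordPerm_ptN _ _ _ (hf j hj), this]
  · rw [wordPerm_ptN _ _ _ hb, h1c, ptN_gEquiv]

theorem card_NSub_sext0 : Nat.card (NSub sext0) = 64 := by
  have m0 : tau0 0 ∈ sext0 := Finset.mem_image_of_mem _ (Finset.mem_univ _)
  have m1 : tau0 1 ∈ sext0 := Finset.mem_image_of_mem _ (Finset.mem_univ _)
  have m2 : tau0 2 ∈ sext0 := Finset.mem_image_of_mem _ (Finset.mem_univ _)
  have p0 : ptN 0 ∈ tau0 0 := by
    unfold tau0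
    rw [mem_maskFS, gEquiv_ptN_val _ (by norm_num)]
    decide
  have p1 : ptN 4 ∈ tau0 1 := by
    unfold tau0
    rw [mem_maskFS, gEquiv_ptN_val _ (by norm_num)]
    decide
  have p2 : ptN 8 ∈ tau0 2 := by
    unfold tau0
    rw [mem_maskFS, gEquiv_ptN_val _ (by norm_num)]
    decide
  refine card_NSub_of_base sext0_mem m0 m1 m2 (fun h => absurd (tau0_inj h) (by decide))
    (fun h => absurd (tau0_inj h) (by decide)) (fun h => absurd (tau0_inj h) (by decide))
    p0 p1 p2 ?_ ?_ ?_
  · intro x hx
    obtain ⟨g, hg, -, h2⟩ := base_spec (by norm_num) (by decide) aW_ok x hx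
    exact ⟨g, hg, h2⟩
  · intro y hy
    obtain ⟨g, hg, h1, h2⟩ := base_spec (by norm_num) (by decide) bW_ok y hy
    exact ⟨g, hg, h1 0 (by decide), h2⟩
  · intro z hz
    obtain ⟨g, hg, h1, h2⟩ := base_spec (by norm_num) (by decide) cW_ok z hz
    exact ⟨g, hg, h1 0 (by decide), h1 4 (by decide), h2⟩

end Cfsg.Agent.Lib.Helper21.SextetStab
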