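import Cfsg.Agent.Lib.Helper21.GolaySextetMeet
import Cfsg.Agent.Lib.Helper21.GolayPairSum
import Cfsg.Agent.Lib.Helper21.OrbitClass

/-!
Tables of sextets: a list of 1771 tetrads through the first point, in increasing order of their
masks, represents all sextets.
-/

set_option autoImplicit false

namespace Cfsg.Agent.Lib.Helper21

open Cfsg
open scoped Pointwise

/-- Field `k` of width `w` of a packed table. -/
def entryAt (w T k : ℕ) : ℕ := (T >>> (w * k)) % 2 ^ w

theorem card_maskFS' (m : ℕ) (hm : m < 2 ^ 24) : (maskFS m).card = popc 24 m := card_maskFS m hm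

theorem ptN_zero_mem_maskFS {m : ℕ} (h : m.testBit 0 = true) : ptN 0 ∈ maskFS m := by
  rw [mem_maskFS, gEquiv_ptN_val 0 (by norm_num)]
  exact h

/-- Membership in the sextet through a tetrad, in terms of masks. -/
theorem maskFS_mem_sextetOf {t u : ℕ} (ht : t < 2 ^ 24) (hu : u < 2 ^ 24) (ht4 : popc 24 t = 4)
    (hdisj : t &&& u = 0) (hcode : encMask ((t ||| u) % 4096) = t ||| u)
    (h8 : popc 24 (t ||| u) = 8) : maskFS u ∈ sextetOf (maskFS t) := by
  rw [mem_sextetOf]
  right
  have ho : maskFS (t ||| u) ∈ octads := by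
    rw [← hcode]
    apply maskFS_encMask_mem_octads _ (Nat.mod_lt _ (by norm_num))
    rw [hcode]
    exact h8
  refine ⟨maskFS (t ||| u), ho, ?_, ?_⟩
  · rw [maskFS_or]
    exact Finset.subset_union_left
  · rw [maskFS_or, Finset.union_sdiff_left]
    apply Finset.sdiff_eq_self_of_disjoint
    rw [Finset.disjoint_iff_inter_eq_empty, Finset.inter_comm, ← maskFS_and, hdisj]
    ext p
    simp [mem_maskFS]

/-- The sextets through the tetrads of an increasing table of tetrads through the first point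
are pairwise distinct. -/
theorem sextetOf_tab_inj (tet : ℕ → ℕ) (N : ℕ)
    (h1 : ∀ k < N, tet k < 2 ^ 24 ∧ (tet k).testBit 0 = true ∧ popc 24 (tet k) = 4)
    (h2 : ∀ k, k + 1 < N → tet k < tet (k + 1)) :
    ∀ k < N, ∀ k' < N, sextetOf (maskFS (tet k)) = sextetOf (maskFS (tet k')) → k = k' := by
  intro k hk k' hk' h
  obtain ⟨hlt, hb, h4⟩ := h1 k hk
  obtain ⟨hlt', hb', h4'⟩ := h1 k' hk'
  have c4 : (maskFS (tet k)).card = 4 := by rw [card_maskFS _ hlt, h4]
  have c4' : (maskFS (tet k')).card = 4 := by rw [card_maskFS _ hlt', h4']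
  have hmem : maskFS (tet k) ∈ sextetOf (maskFS (tet k')) := (sextetOf_eq_iff c4 c4').1 h
  have heq : maskFS (tet k) = maskFS (tet k') :=
    sextet_tetrad_unique (sextetOf_mem c4') hmem (self_mem_sextetOf _)
      (ptN_zero_mem_maskFS hb) (ptN_zero_mem_maskFS hb')
  exact inj_of_adjacent_lt tet N h2 k hk k' hk' (maskFS_inj hlt hlt' heq)

/-- A table of 1771 tetrads through the first point, with increasing masks, meets every
sextet. -/
theorem sextet_cover_of_table (tet : ℕ → ℕ)
    (h1 : ∀ k < 1771, tet k < 2 ^ 24 ∧ (tet k).testBit 0 = true ∧ popc 24 (tet k) = 4)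
    (h2 : ∀ k, k + 1 < 1771 → tet k < tet (k + 1)) :
    ∀ S ∈ sextets, ∃ k < 1771, S = sextetOf (maskFS (tet k)) := by
  classical
  have hinj := sextetOf_tab_inj tet 1771 h1 h2
  set I : Finset (Finset (Finset GolayPt)) :=
    (Finset.range 1771).image (fun k => sextetOf (maskFS (tet k))) with hI
  have hIcard : I.card = 1771 := by
    rw [hI, Finset.card_image_of_injOn, Finset.card_range]
    intro k hk k' hk' h
    exact hinj k (Finset.mem_range.1 hk) k' (Finset.mem_range.1 hk') h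
  have hfin : Set.Finite sextets := Set.toFinite _
  have hsub : (I : Set (Finset (Finset GolayPt))) ⊆ sextets := by
    intro S hS
    rw [Finset.mem_coe, hI, Finset.mem_image] at hS
    obtain ⟨k, hk, rfl⟩ := hS
    obtain ⟨hlt, -, h4⟩ := h1 k (Finset.mem_range.1 hk)
    exact sextetOf_mem (by rw [card_maskFS _ hlt, h4])
  have heq : (I : Set (Finset (Finset GolayPt))) = sextets := by
    apply Set.eq_of_subset_of_ncard_le hsub _ hfin
    rw [ncard_sextets, Set.ncard_coe_finset, hIcard]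
  intro S hS
  rw [← heq, Finset.mem_coe, hI, Finset.mem_image] at hS
  obtain ⟨k, hk, rfl⟩ := hS
  exact ⟨k, Finset.mem_range.1 hk, rfl⟩

end Cfsg.Agent.Lib.Helper21

namespace Cfsg.Agent.Lib.Helper21

open Cfsg
open scoped Pointwise

/-- The orbits on sextets of the stabiliser of a family `A0`, from a table: entry `k` gives a
tetrad `tet k` through the first point, the number `jOf k` of a representative sextet, the index
`iOf k` of one of its tetrads and a word mapping that tetrad to `tet k`. -/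
theorem sextet_orbits_of_table (A0 : Finset (Finset GolayPt))
    (H : Subgroup (Equiv.Perm GolayPt)) (hH : ∀ g ∈ H, g ∈ M24 ∧ g • A0 = A0)
    (gen : ℕ → Equiv.Perm GolayPt) (ti : ℕ → ℕ)
    (hgen : ∀ j, gen j ∈ H ∧ ∀ s, fsMask (gen j • s) = gatherMask (ti j) (fsMask s))
    (K fuel n : ℕ) (tet iOf jOf wOf kRep : ℕ → ℕ) (repTet : ℕ → ℕ → ℕ)
    (h1 : ∀ k < 1771, tet k < 2 ^ 24 ∧ (tet k).testBit 0 = true ∧ popc 24 (tet k) = 4)
    (h2 : ∀ k, k + 1 < 1771 → tet k < tet (k + 1))
    (h3 : ∀ k < 1771, jOf k < n ∧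
      runWordM ti K fuel (wOf k) (repTet (jOf k) (iOf k)) = tet k)
    (hrep : ∀ j < n, ∀ i < 8, repTet j i < 2 ^ 24 ∧
      maskFS (repTet j i) ∈ sextetOf (maskFS (repTet j 0)))
    (hrepk : ∀ j < n, kRep j < 1771 ∧ tet (kRep j) = repTet j 0 ∧ jOf (kRep j) = j)
    (hi : ∀ k < 1771, iOf k < 8)
    (f : ℕ → ℕ)
    (hinv : ∀ j < n, ∀ j' < n, pairSum f A0 (sextetOf (maskFS (repTet j 0))) =
      pairSum f A0 (sextetOf (maskFS (repTet j' 0))) → j = j') (j : ℕ) (hj : j < n) :
    MulAction.orbit (MulAction.stabilizer ↥M24 A0) (sextetOf (maskFS (repTet j 0))) =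
      {S | ∃ k < 1771, jOf k = j ∧ S = sextetOf (maskFS (tet k))} := by
  classical
  have h4 : ∀ k < 1771, (maskFS (tet k)).card = 4 := fun k hk => by
    rw [card_maskFS _ (h1 k hk).1, (h1 k hk).2.2]
  have hr4 : ∀ j < n, (maskFS (repTet j 0)).card = 4 := by
    intro j hj
    obtain ⟨hk, e, -⟩ := hrepk j hj
    rw [← e]
    exact h4 _ hk
  -- the action of the stabiliser
  have hact : ∀ (g : ↥(MulAction.stabilizer ↥M24 A0)) (S : Finset (Finset GolayPt)),
      g • S = (((g : ↥M24) : Equiv.Perm GolayPt)) • S := fun _ _ => rfl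
  have key := orbit_eq_of_cover (G := ↥(MulAction.stabilizer ↥M24 A0)) (ι := Fin n)
    (sextets) (fun i => sextetOf (maskFS (repTet i 0))) (pairSum f A0)
    (by
      intro g y
      have hg : ((g : ↥M24) : Equiv.Perm GolayPt) • A0 = A0 := g.2
      rw [hact]
      have h7 := pairSum_smul f ((g : ↥M24) : Equiv.Perm GolayPt) A0 y
      rw [hg] at h7
      exact h7)
    (by
      intro i i' h
      exact Fin.ext (hinv i i.2 i' i'.2 h))
    (fun i => {S | ∃ k < 1771, jOf k = i ∧ S = sextetOf (maskFS (tet k))})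
    (by
      rintro i S ⟨k, hk, hjk, rfl⟩
      obtain ⟨-, hw⟩ := h3 k hk
      obtain ⟨g, hg, e⟩ := runWordM_spec H gen ti hgen K fuel (wOf k)
      obtain ⟨hgM, hgA⟩ := hH g hg
      refine ⟨⟨⟨g, hgM⟩, hgA⟩, ?_⟩
      show g • sextetOf (maskFS (repTet i 0)) = _
      rw [smul_sextetOf hgM (hr4 i i.2)]
      have hmem := (hrep i i.2 (iOf k) (hi k hk)).2
      have himg : g • maskFS (repTet i (iOf k)) = maskFS (tet k) := by
        apply fsMask_injective
        rw [e, fsMask_maskFS _ (hrep i i.2 (iOf k) (hi k hk)).1, fsMask_maskFS _ (h1 k hk).1,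
          ← hjk]
        exact hw
      have h5 : maskFS (tet k) ∈ g • sextetOf (maskFS (repTet i 0)) := by
        rw [← himg]
        exact Finset.smul_mem_smul_finset hmem
      rw [smul_sextetOf hgM (hr4 i i.2)] at h5
      exact ((sextetOf_eq_iff (h4 k hk) (by rw [Finset.card_smul_finset]; exact hr4 i i.2)).2
        h5).symm)
    (by
      rintro i S ⟨k, hk, -, rfl⟩
      exact sextetOf_mem (h4 k hk))
    (by
      intro i
      obtain ⟨hk, e, hjk⟩ := hrepk i i.2
      exact ⟨kRep i, hk, hjk, by rw [e]⟩)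
    (by
      intro S hS
      obtain ⟨k, hk, rfl⟩ := sextet_cover_of_table tet h1 h2 S hS
      exact ⟨⟨jOf k, (h3 k hk).1⟩, k, hk, rfl, rfl⟩)
    (by
      intro g S hS
      rw [hact]
      exact smul_mem_sextets (g : ↥M24).2 hS)
    ⟨j, hj⟩
  exact key.1

/-- The number of sextets in a class of the table. -/
theorem ncard_sextet_class (tet jOf : ℕ → ℕ)
    (h1 : ∀ k < 1771, tet k < 2 ^ 24 ∧ (tet k).testBit 0 = true ∧ popc 24 (tet k) = 4)
    (h2 : ∀ k, k + 1 < 1771 → tet k < tet (k + 1)) (j : ℕ) :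
    {S | ∃ k < 1771, jOf k = j ∧ S = sextetOf (maskFS (tet k))}.ncard =
      ((Finset.range 1771).filter (fun k => jOf k = j)).card := by
  classical
  have hinj := sextetOf_tab_inj tet 1771 h1 h2
  have : {S | ∃ k < 1771, jOf k = j ∧ S = sextetOf (maskFS (tet k))} =
      (fun k => sextetOf (maskFS (tet k))) ''
        ↑((Finset.range 1771).filter (fun k => jOf k = j)) := by
    ext S
    simp only [Set.mem_setOf_eq, Set.mem_image, Finset.coe_filter, Finset.mem_range]
    constructor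
    · rintro ⟨k, hk, hjk, rfl⟩
      exact ⟨k, ⟨hk, hjk⟩, rfl⟩
    · rintro ⟨k, ⟨hk, hjk⟩, rfl⟩
      exact ⟨k, hk, hjk, rfl⟩
  rw [this, Set.ncard_image_of_injOn, Set.ncard_coe_finset]
  intro k hk k' hk' h
  simp only [Finset.coe_filter, Finset.mem_range, Set.mem_setOf_eq] at hk hk'
  exact hinj k hk.1 k' hk'.1 h

/-- Every sextet lies in one of the classes of the table. -/
theorem sextets_eq_iUnion_classes (tet jOf : ℕ → ℕ) (n : ℕ)
    (h1 : ∀ k < 1771, tet k < 2 ^ 24 ∧ (tet k).testBit 0 = true ∧ popc 24 (tet k) = 4)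
    (h2 : ∀ k, k + 1 < 1771 → tet k < tet (k + 1)) (hj : ∀ k < 1771, jOf k < n) :
    sextets = ⋃ j ∈ Finset.range n,
      {S | ∃ k < 1771, jOf k = j ∧ S = sextetOf (maskFS (tet k))} := by
  ext S
  simp only [Set.mem_iUnion, Finset.mem_range, Set.mem_setOf_eq]
  constructor
  · intro hS
    obtain ⟨k, hk, rfl⟩ := sextet_cover_of_table tet h1 h2 S hS
    exact ⟨jOf k, hj k hk, k, hk, rfl, rfl⟩
  · rintro ⟨j, -, k, hk, -, rfl⟩
    obtain ⟨hlt, -, h4⟩ := h1 k hk
    exact sextetOf_mem (by rw [card_maskFS _ hlt, h4])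

end Cfsg.Agent.Lib.Helper21
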