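import Cfsg.Agent.Lib.Helper21.GolayTrioOrb

/-!
A table of trios with words from representatives, without an invariant separating the classes:
every trio is in the orbit of one of the representatives under the stabiliser of the family.
-/

set_option autoImplicit false

namespace Cfsg.Agent.Lib.Helper21

open Cfsg
open scoped Pointwise

/-- An injective table of `N` members of a family of `N` elements lists the whole family. -/
theorem table_cover {X : Type*} (F : Set X) (hfin : F.Finite) (N : ℕ) (obj : ℕ → X)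
    (hobj : ∀ k < N, obj k ∈ F) (hinj : ∀ k < N, ∀ k' < N, obj k = obj k' → k = k')
    (hcard : F.ncard = N) : ∀ y ∈ F, ∃ k < N, y = obj k := by
  classical
  set I : Finset X := (Finset.range N).image obj with hI
  have hIcard : I.card = N := by
    rw [hI, Finset.card_image_of_injOn, Finset.card_range]
    intro k hk k' hk' h
    exact hinj k (Finset.mem_range.1 hk) k' (Finset.mem_range.1 hk') h
  have hsub : (I : Set X) ⊆ F := by
    intro y hy
    rw [Finset.mem_coe, hI, Finset.mem_image] at hy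
    obtain ⟨k, hk, rfl⟩ := hy
    exact hobj k (Finset.mem_range.1 hk)
  have heq : (I : Set X) = F := by
    apply Set.eq_of_subset_of_ncard_le hsub _ hfin
    rw [hcard, Set.ncard_coe_finset, hIcard]
  intro y hy
  rw [← heq, Finset.mem_coe, hI, Finset.mem_image] at hy
  obtain ⟨k, hk, rfl⟩ := hy
  exact ⟨k, Finset.mem_range.1 hk, rfl⟩

/-- Every trio is conjugate under the stabiliser of the family to one of the representatives. -/
theorem trio_table_cover (LA : List ℕ)
    (gen : ℕ → Equiv.Perm GolayPt) (step : ℕ → ℕ → ℕ)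
    (hgen : ∀ j, gen j ∈ famSub (toFS LA) ∧ ∀ s, fsMask (gen j • s) = step j (fsMask s))
    (K fuel n T R : ℕ)
    (c1 : ∀ k < 3795, trioNF (m1T T k) (m2T T k))
    (c2 : ∀ k < 3795, k + 1 < 3795 → keyT T k < keyT T (k + 1))
    (c3 : ∀ k < 3795, jOf3 T k < n ∧ ∀ u ∈ rep3L R (jOf3 T k),
      runWordS step K fuel (wOf3 T k) u ∈ trioL (m1T T k) (m2T T k))
    (c4 : ∀ j < n, trioChk (rep3 R j 0) (rep3 R j 1)) :
    ∀ S ∈ trios, ∃ j < n, ∃ g ∈ M24, g • toFS LA = toFS LA ∧ g • toFS (rep3L R j) = S := by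
  classical
  have hkey : ∀ k, k + 1 < 3795 → keyT T k < keyT T (k + 1) := fun k hk => c2 k (by omega) hk
  have hconn : ∀ k < 3795, ∃ g ∈ M24, g • toFS LA = toFS LA ∧
      g • toFS (rep3L R (jOf3 T k)) = toFS (trioL (m1T T k) (m2T T k)) := by
    intro k hk
    obtain ⟨hjn, hw⟩ := c3 k hk
    obtain ⟨g, hg, e⟩ := runWordS_spec (famSub (toFS LA)) gen step hgen K fuel (wOf3 T k)
    obtain ⟨hgM, hgA⟩ := hg
    refine ⟨g, hgM, hgA, ?_⟩
    apply Finset.eq_of_subset_of_card_le
    · exact smul_toFS_subset e (trioL_lt (c4 _ hjn).1) hw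
    · have h3 : (toFS (rep3L R (jOf3 T k))).card = 3 := card_toFS_trioL (c4 _ hjn).1
      rw [Finset.card_smul_finset, card_toFS_trioL (c1 k hk), h3]
  have hcov := table_cover trios (Set.toFinite _) 3795
    (fun k => toFS (trioL (m1T T k) (m2T T k)))
    (by
      intro k hk
      obtain ⟨g, hgM, -, hg⟩ := hconn k hk
      show toFS (trioL (m1T T k) (m2T T k)) ∈ trios
      rw [← hg]
      exact smul_mem_trios hgM (toFS_trioL_mem_trios (c4 _ (c3 k hk).1)))
    (by
      intro k hk k' hk' h
      obtain ⟨e1, e2⟩ := trioL_inj (c1 k hk) (c1 k' hk') h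
      apply inj_of_adjacent_lt (keyT T) 3795 hkey k hk k' hk'
      rw [keyT_eq, keyT_eq, e1, e2])
    ncard_trios
  intro S hS
  obtain ⟨k, hk, rfl⟩ := hcov S hS
  obtain ⟨g, hgM, hgA, hg⟩ := hconn k hk
  exact ⟨jOf3 T k, (c3 k hk).1, g, hgM, hgA, hg⟩

end Cfsg.Agent.Lib.Helper21
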