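import Cfsg.Agent.Lib.Helper21.GolaySextetOrb
import Cfsg.Agent.Lib.Helper21.GolaySteiner
import Cfsg.Agent.Lib.Helper21.GolayFast

/-!
The orbits on trios of the stabiliser in `M24` of a family of sets, from a packed table and
decidable checks.
-/

set_option autoImplicit false

namespace Cfsg.Agent.Lib.Helper21

open Cfsg
open scoped Pointwise

/-- A decidable criterion for a mask to be an octad. -/
def octChk (m : ℕ) : Prop := m < 2 ^ 24 ∧ encMask (m % 4096) = m ∧ popc 24 m = 8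

instance (m : ℕ) : Decidable (octChk m) := by
  unfold octChk
  infer_instance

theorem maskFS_mem_octads_of_chk {m : ℕ} (h : octChk m) : maskFS m ∈ octads := by
  obtain ⟨-, hc, h8⟩ := h
  rw [← hc]
  apply maskFS_encMask_mem_octads _ (Nat.mod_lt _ (by norm_num))
  rw [hc]
  exact h8

theorem maskFS_zero : maskFS 0 = ∅ := by
  ext p
  simp [mem_maskFS]

theorem disjoint_maskFS {a b : ℕ} (h : a &&& b = 0) : Disjoint (maskFS a) (maskFS b) := by
  rw [Finset.disjoint_iff_inter_eq_empty, ← maskFS_and, h, maskFS_zero]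

/-- The third octad of a trio. -/
def trio3 (m1 m2 : ℕ) : ℕ := m1 ^^^ m2 ^^^ 0xFFFFFF

/-- The masks of the octads of a trio. -/
def trioL (m1 m2 : ℕ) : List ℕ := [m1, m2, trio3 m1 m2]

/-- A cheap decidable criterion for two masks to give three masks in the normal form of a trio:
the first contains the first point, and the second is smaller than the third. -/
def trioNF (m1 m2 : ℕ) : Prop :=
  m1 < 2 ^ 24 ∧ m2 < 2 ^ 24 ∧ trio3 m1 m2 < 2 ^ 24 ∧ m1.testBit 0 = true ∧
    m2.testBit 0 = false ∧ (trio3 m1 m2).testBit 0 = false ∧ m2 < trio3 m1 m2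

instance (m1 m2 : ℕ) : Decidable (trioNF m1 m2) := by
  unfold trioNF
  infer_instance

/-- A decidable criterion for two masks to give a trio in normal form. -/
def trioChk (m1 m2 : ℕ) : Prop :=
  trioNF m1 m2 ∧ octChk m1 ∧ octChk m2 ∧ octChk (trio3 m1 m2) ∧ m1 &&& m2 = 0 ∧
    m1 &&& trio3 m1 m2 = 0 ∧ m2 &&& trio3 m1 m2 = 0

instance (m1 m2 : ℕ) : Decidable (trioChk m1 m2) := by
  unfold trioChk
  infer_instance

theorem trioL_lt {m1 m2 : ℕ} (h : trioNF m1 m2) : ∀ a ∈ trioL m1 m2, a < 2 ^ 24 := by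
  obtain ⟨h1, h2, h3, -⟩ := h
  intro a ha
  simp only [trioL, List.mem_cons, List.not_mem_nil, or_false] at ha
  rcases ha with rfl | rfl | rfl
  · exact h1
  · exact h2
  · exact h3

theorem trioL_nodup {m1 m2 : ℕ} (h : trioNF m1 m2) : (trioL m1 m2).Nodup := by
  obtain ⟨-, -, -, b1, b2, b3, hlt⟩ := h
  have h12 : m1 ≠ m2 := by
    rintro rfl
    rw [b1] at b2
    exact absurd b2 (by decide)
  have h13 : m1 ≠ trio3 m1 m2 := by
    intro e
    rw [← e, b1] at b3
    exact absurd b3 (by decide)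
  have h23 : m2 ≠ trio3 m1 m2 := Nat.ne_of_lt hlt
  simp [trioL, h12, h13, h23]

theorem card_toFS_trioL {m1 m2 : ℕ} (h : trioNF m1 m2) : (toFS (trioL m1 m2)).card = 3 := by
  rw [card_toFS (trioL_lt h) (trioL_nodup h)]
  rfl

theorem trioL_and {m1 m2 : ℕ} (h : trioChk m1 m2) :
    ∀ a ∈ trioL m1 m2, ∀ b ∈ trioL m1 m2, a ≠ b → a &&& b = 0 := by
  obtain ⟨-, -, -, -, a12, a13, a23⟩ := h
  intro a ha b hb hab
  simp only [trioL, List.mem_cons, List.not_mem_nil, or_false] at ha hb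
  rcases ha with rfl | rfl | rfl <;> rcases hb with rfl | rfl | rfl
  · exact absurd rfl hab
  · exact a12
  · exact a13
  · rw [Nat.land_comm]; exact a12
  · exact absurd rfl hab
  · exact a23
  · rw [Nat.land_comm]; exact a13
  · rw [Nat.land_comm]; exact a23
  · exact absurd rfl hab

theorem toFS_trioL_mem_trios {m1 m2 : ℕ} (h : trioChk m1 m2) : toFS (trioL m1 m2) ∈ trios := by
  refine ⟨card_toFS_trioL h.1, ?_, ?_⟩
  · intro o ho
    obtain ⟨a, ha, rfl⟩ := mem_toFS.1 ho
    obtain ⟨-, h1, h2, h3, -⟩ := h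
    simp only [trioL, List.mem_cons, List.not_mem_nil, or_false] at ha
    rcases ha with rfl | rfl | rfl
    · exact maskFS_mem_octads_of_chk h1
    · exact maskFS_mem_octads_of_chk h2
    · exact maskFS_mem_octads_of_chk h3
  · intro o ho o' ho' hne
    obtain ⟨a, ha, rfl⟩ := mem_toFS.1 ho
    obtain ⟨b, hb, rfl⟩ := mem_toFS.1 ho'
    have hab : a ≠ b := fun e => hne (by rw [e])
    exact disjoint_maskFS (trioL_and h a ha b hb hab)

theorem trioL_inj {m1 m2 m1' m2' : ℕ} (h : trioNF m1 m2) (h' : trioNF m1' m2')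
    (e : toFS (trioL m1 m2) = toFS (trioL m1' m2')) : m1 = m1' ∧ m2 = m2' := by
  have key : ∀ a ∈ trioL m1 m2, a ∈ trioL m1' m2' := by
    intro a ha
    have hm : maskFS a ∈ toFS (trioL m1' m2') := by
      rw [← e]
      exact maskFS_mem_toFS ha
    obtain ⟨b, hb, hba⟩ := mem_toFS.1 hm
    have := maskFS_inj (trioL_lt h' b hb) (trioL_lt h a ha) hba
    rwa [← this]
  obtain ⟨-, -, -, b1, b2, b3, hlt⟩ := h
  obtain ⟨-, -, -, b1', b2', b3', hlt'⟩ := h'
  have k1 := key m1 (by simp [trioL])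
  have k2 := key m2 (by simp [trioL])
  have k3 := key (trio3 m1 m2) (by simp [trioL])
  simp only [trioL, List.mem_cons, List.not_mem_nil, or_false] at k1 k2 k3
  have e1 : m1 = m1' := by
    rcases k1 with h | h | h
    · exact h
    · rw [h, b2'] at b1
      exact absurd b1 (by decide)
    · rw [h, b3'] at b1
      exact absurd b1 (by decide)
  refine ⟨e1, ?_⟩
  rcases k2 with h | h | h
  · rw [h, b1'] at b2
    exact absurd b2 (by decide)
  · exact h
  · rcases k3 with h3 | h3 | h3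
    · rw [h3, b1'] at b3
      exact absurd b3 (by decide)
    · omega
    · omega

/-! ### Tables of trios -/

/-- The first octad of entry `k` of a table of trios. -/
def m1T (T k : ℕ) : ℕ := (entryAt 96 T k >>> 24) % 2 ^ 24

/-- The second octad of entry `k`. -/
def m2T (T k : ℕ) : ℕ := entryAt 96 T k % 2 ^ 24

/-- The sorting key of entry `k`. -/
def keyT (T k : ℕ) : ℕ := entryAt 96 T k % 2 ^ 48

/-- The class of entry `k`. -/
def jOf3 (T k : ℕ) : ℕ := (entryAt 96 T k >>> 48) % 32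

/-- The word of entry `k`. -/
def wOf3 (T k : ℕ) : ℕ := entryAt 96 T k >>> 56

theorem keyT_eq (T k : ℕ) : keyT T k = m1T T k * 2 ^ 24 + m2T T k := by
  unfold keyT m1T m2T
  rw [Nat.shiftRight_eq_div_pow]
  norm_num
  omega

/-- Octad `i` (`i < 2`) of the representative trio `j`. -/
def rep3 (R j i : ℕ) : ℕ := entryAt 24 R (2 * j + i)

/-- The masks of the representative trio `j`. -/
def rep3L (R j : ℕ) : List ℕ := trioL (rep3 R j 0) (rep3 R j 1)

/-- The invariant of the representative trio `j`. -/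
def cval3 (f : ℕ → ℕ) (LA : List ℕ) (R j : ℕ) : ℕ :=
  ((rep3L R j).map fun x => (LA.map fun a => f (popc 24 (x &&& a))).sum).sum

theorem smul_mem_trios {g : Equiv.Perm GolayPt} (hg : g ∈ M24) {T : Finset (Finset GolayPt)}
    (hT : T ∈ trios) : g • T ∈ trios := by
  obtain ⟨h3, ho, hd⟩ := hT
  refine ⟨by rw [Finset.card_smul_finset]; exact h3, ?_, ?_⟩
  · intro o hoT
    obtain ⟨o', ho', rfl⟩ := Finset.mem_smul_finset.1 hoT
    exact smul_mem_octads hg (ho o' ho')
  · intro o hoT o' hoT' hne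
    obtain ⟨a, ha, rfl⟩ := Finset.mem_smul_finset.1 hoT
    obtain ⟨b, hb, rfl⟩ := Finset.mem_smul_finset.1 hoT'
    have hab : a ≠ b := fun e => hne (by rw [e])
    have := hd a ha b hb hab
    rw [Finset.disjoint_iff_inter_eq_empty] at this ⊢
    rw [← Finset.smul_finset_inter, this, Finset.smul_finset_empty]

/-- The image of a family given by masks under a group element acting on masks. -/
theorem smul_toFS_subset {g : Equiv.Perm GolayPt} {run : ℕ → ℕ}
    (e : ∀ s : Finset GolayPt, fsMask (g • s) = run (fsMask s)) {L L' : List ℕ}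
    (hL : ∀ u ∈ L, u < 2 ^ 24) (h : ∀ u ∈ L, run u ∈ L') : g • toFS L ⊆ toFS L' := by
  intro s hs
  obtain ⟨s', hs', rfl⟩ := Finset.mem_smul_finset.1 hs
  obtain ⟨u, hu, rfl⟩ := mem_toFS.1 hs'
  have : g • maskFS u = maskFS (run u) := by
    rw [← maskFS_fsMask (g • maskFS u), e, fsMask_maskFS _ (hL u hu)]
  rw [this]
  exact maskFS_mem_toFS (h u hu)

/-- The orbits on trios of the stabiliser of a family, from a table and decidable checks. -/
theorem trio_table_main (LA : List ℕ) (hA : ∀ m ∈ LA, m < 2 ^ 24) (hAn : LA.Nodup)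
    (gen : ℕ → Equiv.Perm GolayPt) (step : ℕ → ℕ → ℕ)
    (hgen : ∀ j, gen j ∈ famSub (toFS LA) ∧ ∀ s, fsMask (gen j • s) = step j (fsMask s))
    (K fuel n T R : ℕ) (kRep : ℕ → ℕ) (f : ℕ → ℕ)
    (c1 : ∀ k < 3795, trioNF (m1T T k) (m2T T k))
    (c2 : ∀ k < 3795, k + 1 < 3795 → keyT T k < keyT T (k + 1))
    (c3 : ∀ k < 3795, jOf3 T k < n ∧ ∀ u ∈ rep3L R (jOf3 T k),
      runWordS step K fuel (wOf3 T k) u ∈ trioL (m1T T k) (m2T T k))
    (c4 : ∀ j < n, trioChk (rep3 R j 0) (rep3 R j 1))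
    (c5 : ∀ j < n, kRep j < 3795 ∧ m1T T (kRep j) = rep3 R j 0 ∧ m2T T (kRep j) = rep3 R j 1 ∧
      jOf3 T (kRep j) = j)
    (c6 : ∀ j < n, ∀ j' < n, cval3 f LA R j = cval3 f LA R j' → j = j') :
    (∀ j < n, (MulAction.orbit (MulAction.stabilizer ↥M24 (toFS LA))
        (toFS (rep3L R j))).ncard = ((Finset.range 3795).filter (fun k => jOf3 T k = j)).card) ∧
      (∀ S ∈ trios, ∃ j < n, S ∈ MulAction.orbit (MulAction.stabilizer ↥M24 (toFS LA))
        (toFS (rep3L R j))) ∧
      (∀ j < n, toFS (rep3L R j) ∈ trios) ∧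
      ∀ j < n, ∀ j' < n, pairSum f (toFS LA) (toFS (rep3L R j)) =
        pairSum f (toFS LA) (toFS (rep3L R j')) → j = j' := by
  classical
  have hobjrep : ∀ j < n, toFS (trioL (m1T T (kRep j)) (m2T T (kRep j))) = toFS (rep3L R j) :=
    fun j hj => by rw [(c5 j hj).2.1, (c5 j hj).2.2.1]; rfl
  have hcval : ∀ j < n, pairSum f (toFS LA) (toFS (rep3L R j)) = cval3 f LA R j := by
    intro j hj
    exact pairSum_toFS f hA hAn (trioL_lt (c4 j hj).1) (trioL_nodup (c4 j hj).1)
  have hkey : ∀ k, k + 1 < 3795 → keyT T k < keyT T (k + 1) := fun k hk => c2 k (by omega) hk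
  have hconn : ∀ k < 3795, ∃ g : ↥(MulAction.stabilizer ↥M24 (toFS LA)),
      g • toFS (rep3L R (jOf3 T k)) = toFS (trioL (m1T T k) (m2T T k)) := by
    intro k hk
    obtain ⟨hjn, hw⟩ := c3 k hk
    obtain ⟨g, hg, e⟩ := runWordS_spec (famSub (toFS LA)) gen step hgen K fuel (wOf3 T k)
    obtain ⟨hgM, hgA⟩ := hg
    refine ⟨⟨⟨g, hgM⟩, hgA⟩, ?_⟩
    show g • toFS (rep3L R (jOf3 T k)) = _
    apply Finset.eq_of_subset_of_card_le
    · exact smul_toFS_subset e (trioL_lt (c4 _ hjn).1) hw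
    · have h3 : (toFS (rep3L R (jOf3 T k))).card = 3 := card_toFS_trioL (c4 _ hjn).1
      rw [Finset.card_smul_finset, card_toFS_trioL (c1 k hk), h3]
  have key := orbits_of_table (G := ↥(MulAction.stabilizer ↥M24 (toFS LA))) trios
    (Set.toFinite _)
    (fun g S hS => smul_mem_trios (g : ↥M24).2 hS) 3795 n
    (fun k => toFS (trioL (m1T T k) (m2T T k))) (jOf3 T) kRep
    (by
      intro k hk
      obtain ⟨g, hg⟩ := hconn k hk
      rw [← hg]
      exact smul_mem_trios (g : ↥M24).2 (toFS_trioL_mem_trios (c4 _ (c3 k hk).1)))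
    (by
      intro k hk k' hk' h
      obtain ⟨e1, e2⟩ := trioL_inj (c1 k hk) (c1 k' hk') h
      apply inj_of_adjacent_lt (keyT T) 3795 hkey k hk k' hk'
      rw [keyT_eq, keyT_eq, e1, e2])
    ncard_trios (fun k hk => (c3 k hk).1)
    (by
      intro k hk
      obtain ⟨g, hg⟩ := hconn k hk
      refine ⟨g, ?_⟩
      rw [hobjrep _ (c3 k hk).1]
      exact hg)
    (fun j hj => ⟨(c5 j hj).1, (c5 j hj).2.2.2⟩) (pairSum f (toFS LA))
    (pairSum_stab f (toFS LA))
    (by
      intro j hj j' hj' h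
      rw [hobjrep j hj, hobjrep j' hj', hcval j hj, hcval j' hj'] at h
      exact c6 j hj j' hj' h)
  obtain ⟨k1, k2, k3⟩ := key
  refine ⟨fun j hj => ?_, fun S hS => ?_, fun j hj => toFS_trioL_mem_trios (c4 j hj), ?_⟩
  · rw [← hobjrep j hj, k1 j hj, k2 j]
  · obtain ⟨j, hj, hmem⟩ := k3 S hS
    refine ⟨j, hj, ?_⟩
    rwa [← hobjrep j hj]
  · intro j hj j' hj' h
    rw [hcval j hj, hcval j' hj'] at h
    exact c6 j hj j' hj' h

end Cfsg.Agent.Lib.Helper21
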