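import Cfsg.Agent.Lib.Helper21.GolayTrioStabData
import Cfsg.Agent.Lib.Helper21.GolayQuartetStab
import Cfsg.Agent.Lib.Helper21.GolaySextetStab
import Cfsg.Agent.Lib.Helper21.TrioPairBase

/-!
The stabiliser of a trio: every permutation of the three octads is induced, and the elements
fixing the three octads and acting on them by translations form a normal subgroup of order 64
with quotient `GL(3, 2) × S₃`.
-/

set_option autoImplicit false

namespace Cfsg.Agent.Lib.Helper21.TrioStab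

open Cfsg
open Cfsg.Agent.Lib.Helper21
open scoped Pointwise
open Matrix

section Generic

theorem exists_normal_quot_of_mulEquiv' {G H K : Type*} [Group G] [Group H] [Group K]
    (e : G ≃* H) (n : ℕ)
    (h : ∃ (N : Subgroup G) (_ : N.Normal), Nat.card N = n ∧ (∀ x ∈ N, x * x = 1) ∧
      Nonempty (G ⧸ N ≃* K)) :
    ∃ (N : Subgroup H) (_ : N.Normal), Nat.card N = n ∧ (∀ x ∈ N, x * x = 1) ∧
      Nonempty (H ⧸ N ≃* K) := by
  obtain ⟨N, hN, hc, hsq, ⟨f⟩⟩ := h
  haveI := hN
  have hN' : (N.map (e : G →* H)).Normal := Subgroup.Normal.map hN (e : G →* H) e.surjective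
  haveI := hN'
  refine ⟨N.map (e : G →* H), hN', ?_, ?_,
    ⟨(QuotientGroup.congr N (N.map (e : G →* H)) e rfl).symm.trans f⟩⟩
  · rw [← hc]
    exact Nat.card_congr (e.subgroupMap N).toEquiv.symm
  · rintro x ⟨y, hy, rfl⟩
    show e y * e y = 1
    rw [← map_mul, hsq y hy, map_one]

theorem ker_quot_of_hom {G K : Type*} [Group G] [Group K] [Finite G] [Finite K]
    (φ : G →* K) (n : ℕ) (hn : 0 < n) (hG : Nat.card G = n * Nat.card K)
    (hker : Nat.card φ.ker ≤ n) : Nat.card φ.ker = n ∧ Nonempty (G ⧸ φ.ker ≃* K) := by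
  have h1 := Subgroup.card_mul_index φ.ker
  rw [Subgroup.index_ker] at h1
  have h2 : Nat.card φ.range ≤ Nat.card K := Subgroup.card_le_card_group φ.range
  have hK : 0 < Nat.card K := Nat.card_pos
  have h3 : Nat.card φ.ker * Nat.card φ.range = n * Nat.card K := by rw [h1, hG]
  have hrc : Nat.card φ.range = Nat.card K := by
    by_contra hne
    have hlt : Nat.card φ.range < Nat.card K := lt_of_le_of_ne h2 hne
    have h4 : Nat.card φ.ker * Nat.card φ.range ≤ n * Nat.card φ.range :=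
      Nat.mul_le_mul_right _ hker
    have h5 : n * Nat.card φ.range < n * Nat.card K := Nat.mul_lt_mul_of_pos_left hlt hn
    omega
  have hkn : Nat.card φ.ker = n := by
    rw [hrc] at h3
    exact Nat.eq_of_mul_eq_mul_right hK h3
  have hsurj : Function.Surjective φ := by
    rw [← MonoidHom.range_eq_top]
    exact (Subgroup.card_eq_iff_eq_top φ.range).1 hrc
  exact ⟨hkn, ⟨QuotientGroup.quotientKerEquivOfSurjective φ hsurj⟩⟩

end Generic

/-! ### Vectors over the field of two elements and their codes -/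

/-- The vectors of the affine space. -/
abbrev V3 : Type := Fin 3 → ZMod 2

/-- The vector of a code. -/
def vec (n : ℕ) : V3 := fun j => if n.testBit j then 1 else 0

/-- The code of a vector. -/
def code (v : V3) : ℕ := (v 0).val + 2 * (v 1).val + 4 * (v 2).val

theorem vec_code : ∀ v : V3, vec (code v) = v := by decide

theorem code_vec : ∀ n < 8, code (vec n) = n := by decide

theorem code_lt : ∀ v : V3, code v < 8 := by decide

theorem code_zero : code 0 = 0 := by decide

theorem code_single : ∀ c : Fin 3, code (Pi.single c 1) = 2 ^ (c : ℕ) := by decide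

theorem testBit_code : ∀ (v : V3) (c : Fin 3), (code v).testBit c = decide (v c = 1) := by decide

theorem vec_zero : vec 0 = 0 := by
  funext j
  simp [vec]

theorem vec_xor (a b : ℕ) : vec (a ^^^ b) = vec a + vec b := by
  funext j
  simp only [vec, Nat.testBit_xor, Pi.add_apply]
  cases a.testBit j <;> cases b.testBit j <;> decide

theorem zmod2_cases : ∀ a : ZMod 2, a = 0 ∨ a = 1 := by decide

theorem v3_add_self (v : V3) : v + v = 0 := by
  funext j
  exact CharTwo.add_self_eq_zero (v j)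

theorem v3_sub_eq_add (u v : V3) : u - v = u + v := by
  funext j
  exact CharTwo.sub_eq_add (u j) (v j)


theorem vec_ite (b : Bool) (a : ℕ) : vec (if b = true then a else 0) = if b = true then vec a else 0 := by
  cases b
  · simp [vec_zero]
  · simp

theorem vec_term (x : V3) (c : Fin 3) (a : ℕ) (r' : Fin 3) :
    vec (if (code x).testBit (c : ℕ) = true then a else 0) r' = vec a r' * x c := by
  rw [testBit_code]
  rcases zmod2_cases (x c) with h | h
  · simp [h, vec_zero]
  · simp [h]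

theorem vec_pow : ∀ c r' : Fin 3, vec (2 ^ (c : ℕ)) r' = if r' = c then 1 else 0 := by decide

theorem vec_inj {a b : ℕ} (ha : a < 8) (hb : b < 8) (h : vec a = vec b) : a = b := by
  rw [← code_vec a ha, ← code_vec b hb, h]

/-! ### Words and coordinates -/

theorem gen_eval (j i : ℕ) (hi : i < 24) :
    Cfsg.Agent.S5612.gen j (ptN i) = ptN (tabGet (tq j) i) ∧ tabGet (tq j) i < 24 := by
  match j with
  | 0 => exact permOfTab_ptN_lt _ _ Cfsg.Agent.S5612.tab0 i hi
  | 1 => exact permOfTab_ptN_lt _ _ Cfsg.Agent.S5612.tab1 i hi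
  | 2 => exact permOfTab_ptN_lt _ _ Cfsg.Agent.S5612.tab2 i hi
  | (n + 3) => exact permOfTab_ptN_lt _ _ Cfsg.Agent.S5612.tab3 i hi

/-- The permutation of a word. -/
noncomputable def wP (w : ℕ) : Equiv.Perm GolayPt := wordG Cfsg.Agent.S5612.gen 4 14 w

theorem wP_ptN (w i : ℕ) (hi : i < 24) : wP w (ptN i) = ptN (runW w i) ∧ runW w i < 24 :=
  ⟨wordG_ptN _ _ gen_eval 4 14 w i hi, runG_lt _ _ gen_eval 4 14 w i hi⟩

theorem trioR0_eq_LA : trioR0 = toFS Cfsg.Agent.S5612.LA := rfl

theorem wP_mem (w : ℕ) : wP w ∈ M24 ∧ wP w • trioR0 = trioR0 := by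
  have h := wordG_mem (famSub (toFS Cfsg.Agent.S5612.LA)) Cfsg.Agent.S5612.gen
    (fun j => (Cfsg.Agent.S5612.gen_spec j).1) 4 14 w
  exact h

/-- The point with octad index `k` and vector `x`. -/
def P (k : Fin 3) (x : V3) : GolayPt := ptN (posOf k.val (code x))

/-- The octad index of a point. -/
def gO (p : GolayPt) : Fin 3 := cO ((gEquiv p : Fin 24) : ℕ)

/-- The vector of a point. -/
def gV (p : GolayPt) : V3 := vec (cV ((gEquiv p : Fin 24) : ℕ))

theorem posOf_lt (k : Fin 3) (x : V3) : posOf k.val (code x) < 24 :=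
  (pos_ok k.val k.isLt (code x) (code_lt x)).1

theorem gO_P (k : Fin 3) (x : V3) : gO (P k x) = k := by
  unfold gO P
  rw [gEquiv_ptN_val _ (posOf_lt k x)]
  exact Fin.ext (pos_ok k.val k.isLt (code x) (code_lt x)).2.1

theorem gV_P (k : Fin 3) (x : V3) : gV (P k x) = x := by
  unfold gV P
  rw [gEquiv_ptN_val _ (posOf_lt k x), (pos_ok k.val k.isLt (code x) (code_lt x)).2.2, vec_code]

theorem P_surj (p : GolayPt) : P (gO p) (gV p) = p := by
  unfold P gO gV
  obtain ⟨h1, h2⟩ := pos_ok' _ (gEquiv p).isLt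
  rw [code_vec _ h2, h1, ptN_gEquiv]

theorem gO_ptN (q : ℕ) (hq : q < 24) : gO (ptN q) = cO q := by
  unfold gO
  rw [gEquiv_ptN_val _ hq]

theorem gV_ptN (q : ℕ) (hq : q < 24) : gV (ptN q) = vec (cV q) := by
  unfold gV
  rw [gEquiv_ptN_val _ hq]

/-- The coefficients of the affine map induced by a permutation. -/
def sg (g : Equiv.Perm GolayPt) : Fin 3 → Fin 3 := fun k => gO (g (P k 0))
def bg (g : Equiv.Perm GolayPt) : Fin 3 → V3 := fun k => gV (g (P k 0))
def Ag (g : Equiv.Perm GolayPt) : Matrix (Fin 3) (Fin 3) (ZMod 2) :=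
  Matrix.of fun r c => gV (g (P 0 (Pi.single c 1))) r - bg g 0 r

/-- The permutation maps the octads to each other by affine maps with a common linear part. -/
def IsAffT (g : Equiv.Perm GolayPt) : Prop :=
  ∀ k x, g (P k x) = P (sg g k) (Ag g *ᵥ x + bg g k)

theorem aff_mul_apply {g h : Equiv.Perm GolayPt} (hg : IsAffT g) (hh : IsAffT h) (k : Fin 3)
    (x : V3) : (g * h) (P k x) =
      P (sg g (sg h k)) (Ag g *ᵥ (Ag h *ᵥ x + bg h k) + bg g (sg h k)) := by
  rw [Equiv.Perm.mul_apply, hh k x, hg]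

theorem sg_mul {g h : Equiv.Perm GolayPt} (hg : IsAffT g) (hh : IsAffT h) :
    sg (g * h) = sg g ∘ sg h := by
  funext k
  show gO ((g * h) (P k 0)) = _
  rw [aff_mul_apply hg hh, gO_P]
  rfl

theorem bg_mul {g h : Equiv.Perm GolayPt} (hg : IsAffT g) (hh : IsAffT h) (k : Fin 3) :
    bg (g * h) k = Ag g *ᵥ bg h k + bg g (sg h k) := by
  show gV ((g * h) (P k 0)) = _
  rw [aff_mul_apply hg hh, gV_P, Matrix.mulVec_zero, zero_add]

theorem Ag_mul {g h : Equiv.Perm GolayPt} (hg : IsAffT g) (hh : IsAffT h) :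
    Ag (g * h) = Ag g * Ag h := by
  ext r c
  show gV ((g * h) (P 0 (Pi.single c 1))) r - bg (g * h) 0 r = _
  rw [aff_mul_apply hg hh, gV_P, bg_mul hg hh, Matrix.mulVec_add, Matrix.mulVec_mulVec,
    Matrix.mulVec_single_one]
  simp only [Pi.add_apply]
  rw [show (Ag g * Ag h).col c r = (Ag g * Ag h) r c from rfl]
  ring

theorem IsAffT.mul {g h : Equiv.Perm GolayPt} (hg : IsAffT g) (hh : IsAffT h) :
    IsAffT (g * h) := by
  intro k x
  rw [aff_mul_apply hg hh, sg_mul hg hh, Ag_mul hg hh, bg_mul hg hh, ← Matrix.mulVec_mulVec,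
    Matrix.mulVec_add, add_assoc]
  rfl

theorem sg_one : sg 1 = id := by
  funext k
  show gO (P k 0) = k
  rw [gO_P]

theorem bg_one (k : Fin 3) : bg 1 k = 0 := by
  show gV (P k 0) = 0
  rw [gV_P]

theorem Ag_one : Ag 1 = 1 := by
  ext r c
  show gV (P 0 (Pi.single c 1)) r - bg 1 0 r = _
  rw [gV_P, bg_one, Matrix.one_apply, Pi.single_apply]
  simp

theorem isAffT_one : IsAffT 1 := by
  intro k x
  rw [sg_one, Ag_one, bg_one, Matrix.one_mulVec, add_zero]
  rfl

/-! ### Permutations evaluated through a map of positions -/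

section Bridge

variable (g : Equiv.Perm GolayPt) (r : ℕ → ℕ)
  (hr : ∀ i < 24, g (ptN i) = ptN (r i) ∧ r i < 24)

include hr

theorem g_P (k : Fin 3) (x : V3) : g (P k x) = ptN (r (posOf k.val (code x))) :=
  (hr _ (posOf_lt k x)).1

theorem sg_eq (k : Fin 3) : sg g k = sgN r k.val := by
  show gO (g (P k 0)) = _
  rw [g_P g r hr, gO_ptN _ (hr _ (posOf_lt k 0)).2, code_zero]
  rfl

theorem bg_eq (k : Fin 3) : bg g k = vec (bgN r k.val) := by
  show gV (g (P k 0)) = _
  rw [g_P g r hr, gV_ptN _ (hr _ (posOf_lt k 0)).2, code_zero]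
  rfl

theorem bgN_lt (k : Fin 3) : bgN r k.val < 8 := by
  have h := posOf_lt k 0
  rw [code_zero] at h
  exact (pos_ok' _ (hr _ h).2).2

theorem colN_lt (c : Fin 3) : colN r c.val < 8 := by
  have h := posOf_lt 0 (Pi.single c 1)
  rw [code_single] at h
  have h1 : cV (r (posOf 0 (2 ^ (c : ℕ)))) < 8 := (pos_ok' _ (hr _ h).2).2
  have h2 := bgN_lt g r hr 0
  exact Nat.xor_lt_two_pow (n := 3) h1 h2

theorem Ag_eq (r' c : Fin 3) : Ag g r' c = vec (colN r c.val) r' := by
  show gV (g (P 0 (Pi.single c 1))) r' - bg g 0 r' = _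
  have h := posOf_lt 0 (Pi.single c 1)
  rw [g_P g r hr, gV_ptN _ (hr _ h).2, bg_eq g r hr, code_single]
  unfold colN
  rw [vec_xor, Pi.add_apply]
  exact CharTwo.sub_eq_add _ _

theorem linN_lt (n : ℕ) : linN r n < 8 := by
  unfold linN
  have h0 := colN_lt g r hr 0
  have h1 := colN_lt g r hr 1
  have h2 := colN_lt g r hr 2
  have e0 : ∀ b : Bool, (if b = true then colN r 0 else 0) < 8 := by
    intro b; cases b <;> simp <;> exact h0
  have e1 : ∀ b : Bool, (if b = true then colN r 1 else 0) < 8 := by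
    intro b; cases b <;> simp <;> exact h1
  have e2 : ∀ b : Bool, (if b = true then colN r 2 else 0) < 8 := by
    intro b; cases b <;> simp <;> exact h2
  exact Nat.xor_lt_two_pow (n := 3) (Nat.xor_lt_two_pow (n := 3) (e0 _) (e1 _)) (e2 _)

theorem lin_bridge (x : V3) : Ag g *ᵥ x = vec (linN r (code x)) := by
  funext r'
  unfold linN
  rw [vec_xor, vec_xor, Pi.add_apply, Pi.add_apply]
  have t0 := vec_term x 0 (colN r 0) r'
  have t1 := vec_term x 1 (colN r 1) r'
  have t2 := vec_term x 2 (colN r 2) r'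
  rw [show ((0 : Fin 3) : ℕ) = 0 from rfl] at t0
  rw [show ((1 : Fin 3) : ℕ) = 1 from rfl] at t1
  rw [show ((2 : Fin 3) : ℕ) = 2 from rfl] at t2
  rw [t0, t1, t2]
  show (fun c => Ag g r' c) ⬝ᵥ x = _
  rw [dotProduct, Fin.sum_univ_three, Ag_eq g r hr, Ag_eq g r hr, Ag_eq g r hr]
  rfl

theorem isAffT_of_chk (h : affChkN r = true) : IsAffT g := by
  intro k x
  unfold affChkN at h
  rw [List.all_eq_true] at h
  have h1 := h k.val (List.mem_range.2 k.isLt)
  rw [List.all_eq_true] at h1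
  have h2 := h1 (code x) (List.mem_range.2 (code_lt x))
  rw [beq_iff_eq] at h2
  rw [g_P g r hr, h2, sg_eq g r hr, lin_bridge g r hr, bg_eq g r hr, ← vec_xor]
  unfold P
  rw [code_vec _ (Nat.xor_lt_two_pow (n := 3) (linN_lt g r hr _) (bgN_lt g r hr k))]

end Bridge

theorem isAffT_gen (j : ℕ) : IsAffT (Cfsg.Agent.S5612.gen j) := by
  have hchk : affChkN (fun p => tabGet (tq j) p) = true := by
    match j with
    | 0 => exact gen_aff 0 (by norm_num)
    | 1 => exact gen_aff 1 (by norm_num)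
    | 2 => exact gen_aff 2 (by norm_num)
    | (n + 3) => exact gen_aff 3 (by norm_num)
  exact isAffT_of_chk _ _ (fun i hi => gen_eval j i hi) hchk

theorem isAffT_wP (w : ℕ) : IsAffT (wP w) :=
  wordG_induction _ 4 IsAffT isAffT_one (fun _ _ hg hh => hg.mul hh) isAffT_gen 14 w


/-! ### The enumeration of the stabiliser -/

/-- Translation element `a`. -/
noncomputable def elN (a : ℕ) : Equiv.Perm GolayPt := wP (nW a)

/-- Coset representative `b`. -/
noncomputable def elR (b : ℕ) : Equiv.Perm GolayPt := wP (rW b)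

/-- Element `i` of the enumeration. -/
noncomputable def el (i : ℕ) : Equiv.Perm GolayPt := elN (i / 1008) * elR (i % 1008)

theorem isAffT_elN (a : ℕ) : IsAffT (elN a) := isAffT_wP _

theorem isAffT_elR (b : ℕ) : IsAffT (elR b) := isAffT_wP _

theorem elN_eval (a : ℕ) : ∀ i < 24, elN a (ptN i) = ptN (runW (nW a) i) ∧ runW (nW a) i < 24 :=
  wP_ptN (nW a)

theorem elR_eval (b : ℕ) : ∀ i < 24, elR b (ptN i) = ptN (runW (rW b) i) ∧ runW (rW b) i < 24 :=
  wP_ptN (rW b)

theorem isAffT_el (i : ℕ) : IsAffT (el i) := (isAffT_elN _).mul (isAffT_elR _)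

theorem el_mem (i : ℕ) : el i ∈ M24 ∧ el i • trioR0 = trioR0 := by
  have h := (famSub trioR0).mul_mem (wP_mem (nW (i / 1008))) (wP_mem (rW (i % 1008)))
  exact h

theorem elN_lin (a : ℕ) (ha : a < 64) : Ag (elN a) = 1 ∧ sg (elN a) = id := by
  constructor
  · ext r' c
    rw [Ag_eq (elN a) _ (elN_eval a), (nW_lin a ha c.val c.isLt).2, vec_pow, Matrix.one_apply]
  · funext k
    rw [sg_eq (elN a) _ (elN_eval a)]
    exact Fin.ext (nW_lin a ha k.val k.isLt).1

theorem keyR_eq {b b' : ℕ} (hA : Ag (elR b) = Ag (elR b')) (hs : sg (elR b) = sg (elR b')) :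
    keyR b = keyR b' := by
  have hcol : ∀ c : Fin 3, colN (runW (rW b)) c.val = colN (runW (rW b')) c.val := by
    intro c
    apply vec_inj (colN_lt _ _ (elR_eval b) c) (colN_lt _ _ (elR_eval b') c)
    funext r'
    rw [← Ag_eq (elR b) _ (elR_eval b), ← Ag_eq (elR b') _ (elR_eval b'), hA]
  have hsg : ∀ k : Fin 3, sgN (runW (rW b)) k.val = sgN (runW (rW b')) k.val := by
    intro k
    rw [← sg_eq (elR b) _ (elR_eval b), ← sg_eq (elR b') _ (elR_eval b'), hs]
  unfold keyR
  have c0 := hcol 0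
  have c1 := hcol 1
  have c2 := hcol 2
  have s0 := hsg 0
  have s1 := hsg 1
  have s2 := hsg 2
  rw [show ((0 : Fin 3) : ℕ) = 0 from rfl] at c0 s0
  rw [show ((1 : Fin 3) : ℕ) = 1 from rfl] at c1 s1
  rw [show ((2 : Fin 3) : ℕ) = 2 from rfl] at c2 s2
  rw [c0, c1, c2, s0, s1, s2]

theorem keyN_eq {a a' : ℕ} (h : elN a = elN a') : keyN a = keyN a' := by
  have hb : ∀ k : Fin 3, bgN (runW (nW a)) k.val = bgN (runW (nW a')) k.val := by
    intro k
    apply vec_inj (bgN_lt _ _ (elN_eval a) k) (bgN_lt _ _ (elN_eval a') k)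
    rw [← bg_eq (elN a) _ (elN_eval a), ← bg_eq (elN a') _ (elN_eval a'), h]
  unfold keyN
  have b0 := hb 0
  have b1 := hb 1
  rw [show ((0 : Fin 3) : ℕ) = 0 from rfl] at b0
  rw [show ((1 : Fin 3) : ℕ) = 1 from rfl] at b1
  rw [b0, b1]

theorem el_inj : ∀ i < 64512, ∀ j < 64512, el i = el j → i = j := by
  intro i hi j hj h
  have ha : i / 1008 < 64 := by omega
  have ha' : j / 1008 < 64 := by omega
  have hb : i % 1008 < 1008 := Nat.mod_lt _ (by norm_num)
  have hb' : j % 1008 < 1008 := Nat.mod_lt _ (by norm_num)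
  have hA := congrArg Ag h
  have hs := congrArg sg h
  unfold el at hA hs
  rw [Ag_mul (isAffT_elN _) (isAffT_elR _), Ag_mul (isAffT_elN _) (isAffT_elR _),
    (elN_lin _ ha).1, (elN_lin _ ha').1, one_mul, one_mul] at hA
  rw [sg_mul (isAffT_elN _) (isAffT_elR _), sg_mul (isAffT_elN _) (isAffT_elR _),
    (elN_lin _ ha).2, (elN_lin _ ha').2, Function.id_comp, Function.id_comp] at hs
  have e1 : i % 1008 = j % 1008 :=
    inj_of_adjacent_lt keyR 1008 keyR_lt _ hb _ hb' (keyR_eq hA hs)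
  have h2 : elN (i / 1008) = elN (j / 1008) := by
    unfold el at h
    rw [e1] at h
    exact mul_right_cancel h
  have e2 : i / 1008 = j / 1008 :=
    inj_of_adjacent_lt keyN 64 keyN_lt _ ha _ ha' (keyN_eq h2)
  rw [← Nat.div_add_mod i 1008, ← Nat.div_add_mod j 1008, e1, e2]

theorem card_stab_trioR0 : Nat.card (MulAction.stabilizer ↥M24 trioR0) = 64512 := by
  have h1 := Subgroup.card_mul_index (MulAction.stabilizer ↥M24 trioR0)
  rw [MulAction.index_stabilizer, orbit_trio trioR0_mem, ncard_trios, card_M24] at h1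
  have h3 : (64512 : ℕ) * 3795 = 244823040 := by norm_num
  rw [← h3] at h1
  exact Nat.eq_of_mul_eq_mul_right (by norm_num) h1

/-- Element `i` as an element of the stabiliser. -/
noncomputable def elH (i : ℕ) : ↥(MulAction.stabilizer ↥M24 trioR0) :=
  ⟨⟨el i, (el_mem i).1⟩, MulAction.mem_stabilizer_iff.2 (el_mem i).2⟩

theorem enum (h : ↥(MulAction.stabilizer ↥M24 trioR0)) :
    ∃ i < 64512, ((h : ↥M24) : Equiv.Perm GolayPt) = el i := by
  classical
  let f : ↥(MulAction.stabilizer ↥M24 trioR0) → Equiv.Perm GolayPt :=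
    fun h => ((h : ↥M24) : Equiv.Perm GolayPt)
  have hf : Function.Injective f := fun a b hab => Subtype.ext (Subtype.ext hab)
  have hB : (Set.range f).ncard = 64512 := by
    rw [← Nat.card_coe_set_eq, Nat.card_range_of_injective hf, card_stab_trioR0]
  have hA : (el '' {i | i < 64512}).ncard = 64512 := by
    have hinj : Set.InjOn el {i | i < 64512} := fun i hi j hj hij => el_inj i hi j hj hij
    rw [hinj.ncard_image]
    have : {i : ℕ | i < 64512} = ↑(Finset.range 64512) := by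
      ext i
      simp
    rw [this, Set.ncard_coe_finset, Finset.card_range]
  have hsub : el '' {i | i < 64512} ⊆ Set.range f := by
    rintro g ⟨i, -, rfl⟩
    exact ⟨elH i, rfl⟩
  have heq := Set.eq_of_subset_of_ncard_le hsub (by rw [hA, hB]) (Set.toFinite _)
  have hmem : f h ∈ el '' {i | i < 64512} := by
    rw [heq]
    exact ⟨h, rfl⟩
  obtain ⟨i, hi, e⟩ := hmem
  exact ⟨i, hi, e.symm⟩

theorem isAffT_of_mem (h : ↥(MulAction.stabilizer ↥M24 trioR0)) :
    IsAffT ((h : ↥M24) : Equiv.Perm GolayPt) := by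
  obtain ⟨i, -, e⟩ := enum h
  rw [e]
  exact isAffT_el i

/-! ### The homomorphism onto `GL(3, 2) × S₃` -/

/-- The linear part and the permutation of the octads. -/
noncomputable def linHom : ↥(MulAction.stabilizer ↥M24 trioR0) →*
    Matrix (Fin 3) (Fin 3) (ZMod 2) × Function.End (Fin 3) where
  toFun h := (Ag ((h : ↥M24) : Equiv.Perm GolayPt), sg ((h : ↥M24) : Equiv.Perm GolayPt))
  map_one' := Prod.ext Ag_one sg_one
  map_mul' a b := Prod.ext (Ag_mul (isAffT_of_mem a) (isAffT_of_mem b))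
    (sg_mul (isAffT_of_mem a) (isAffT_of_mem b))

/-- The homomorphism into the units. -/
noncomputable def unitHom : ↥(MulAction.stabilizer ↥M24 trioR0) →*
    (Matrix (Fin 3) (Fin 3) (ZMod 2) × Function.End (Fin 3))ˣ := linHom.toHomUnits

/-- The target, identified with `GL(3, 2) × S₃`. -/
noncomputable def targetEquiv : (Matrix (Fin 3) (Fin 3) (ZMod 2) × Function.End (Fin 3))ˣ ≃*
    GL (Fin 3) (ZMod 2) × Equiv.Perm (Fin 3) :=
  MulEquiv.prodUnits.trans (MulEquiv.prodCongr (MulEquiv.refl _) Equiv.Perm.equivUnitsEnd.symm)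

theorem card_GL32 : Nat.card (GL (Fin 3) (ZMod 2)) = 168 := by
  rw [Matrix.card_GL_field, Fin.prod_univ_three, ZMod.card]
  rfl

theorem card_target : Nat.card (Matrix (Fin 3) (Fin 3) (ZMod 2) × Function.End (Fin 3))ˣ = 1008 := by
  rw [Nat.card_congr targetEquiv.toEquiv, Nat.card_prod, card_GL32, Nat.card_eq_fintype_card,
    Fintype.card_perm, Fintype.card_fin]
  rfl

theorem ker_spec {h : ↥(MulAction.stabilizer ↥M24 trioR0)} (hh : h ∈ unitHom.ker) :
    Ag ((h : ↥M24) : Equiv.Perm GolayPt) = 1 ∧ sg ((h : ↥M24) : Equiv.Perm GolayPt) = id := by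
  rw [MonoidHom.mem_ker] at hh
  have h1 := congrArg (fun u : (Matrix (Fin 3) (Fin 3) (ZMod 2) × Function.End (Fin 3))ˣ =>
    (u : Matrix (Fin 3) (Fin 3) (ZMod 2) × Function.End (Fin 3))) hh
  have h2 : (Ag ((h : ↥M24) : Equiv.Perm GolayPt), sg ((h : ↥M24) : Equiv.Perm GolayPt)) =
      ((1 : Matrix (Fin 3) (Fin 3) (ZMod 2)), (1 : Function.End (Fin 3))) := h1
  exact ⟨congrArg Prod.fst h2, congrArg Prod.snd h2⟩

theorem ker_apply {h : ↥(MulAction.stabilizer ↥M24 trioR0)} (hh : h ∈ unitHom.ker) (k : Fin 3)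
    (x : V3) : ((h : ↥M24) : Equiv.Perm GolayPt) (P k x) =
      P k (x + bg ((h : ↥M24) : Equiv.Perm GolayPt) k) := by
  obtain ⟨h1, h2⟩ := ker_spec hh
  rw [isAffT_of_mem h k x, h1, h2, Matrix.one_mulVec]
  rfl

theorem ker_sq {h : ↥(MulAction.stabilizer ↥M24 trioR0)} (hh : h ∈ unitHom.ker) : h * h = 1 := by
  apply Subtype.ext
  apply Subtype.ext
  show ((h : ↥M24) : Equiv.Perm GolayPt) * ((h : ↥M24) : Equiv.Perm GolayPt) = 1
  ext p
  rw [← P_surj p, Equiv.Perm.mul_apply, ker_apply hh, ker_apply hh, add_assoc, v3_add_self,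
    add_zero]
  rfl

theorem P0_mem_oct0 (p : GolayPt) (hp : p ∈ oct0) : ∃ x, p = P 0 x := by
  unfold oct0 at hp
  rw [mem_maskFS] at hp
  have h := oct_ok _ (gEquiv p).isLt hp
  refine ⟨gV p, ?_⟩
  have h2 := P_surj p
  unfold gO at h2
  rw [h] at h2
  exact h2.symm

theorem P1_not_mem : P 1 0 ∉ oct0 := by
  unfold oct0 P
  rw [mem_maskFS, gEquiv_ptN_val _ (posOf_lt 1 0), code_zero]
  decide

theorem card_ker_le : Nat.card unitHom.ker ≤ 64 := by
  have hinj : Function.Injective (fun h : ↥unitHom.ker =>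
      (bg (((h : ↥(MulAction.stabilizer ↥M24 trioR0)) : ↥M24) : Equiv.Perm GolayPt) 0,
        bg (((h : ↥(MulAction.stabilizer ↥M24 trioR0)) : ↥M24) : Equiv.Perm GolayPt) 1)) := by
    intro a b hab
    have h0 : bg _ 0 = bg _ 0 := congrArg Prod.fst hab
    have h1 : bg _ 1 = bg _ 1 := congrArg Prod.snd hab
    set ga : Equiv.Perm GolayPt :=
      (((a : ↥(MulAction.stabilizer ↥M24 trioR0)) : ↥M24) : Equiv.Perm GolayPt) with hga
    set gb : Equiv.Perm GolayPt :=
      (((b : ↥(MulAction.stabilizer ↥M24 trioR0)) : ↥M24) : Equiv.Perm GolayPt) with hgb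
    have hg : ga⁻¹ * gb ∈ M24 := M24.mul_mem (M24.inv_mem
      ((a : ↥(MulAction.stabilizer ↥M24 trioR0)) : ↥M24).2)
      ((b : ↥(MulAction.stabilizer ↥M24 trioR0)) : ↥M24).2
    have hfix0 : ∀ x, (ga⁻¹ * gb) (P 0 x) = P 0 x := by
      intro x
      rw [Equiv.Perm.mul_apply, hgb, ker_apply b.2, ← h0, ← ker_apply a.2, ← hga, perm_inv_apply]
    have hfix1 : ∀ x, (ga⁻¹ * gb) (P 1 x) = P 1 x := by
      intro x
      rw [Equiv.Perm.mul_apply, hgb, ker_apply b.2, ← h1, ← ker_apply a.2, ← hga, perm_inv_apply]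
    have h1' := eq_one_of_fix_octad_pt oct0 oct0_mem (P 1 0) P1_not_mem _ hg (fun p hp => by
      obtain ⟨x, rfl⟩ := P0_mem_oct0 p hp
      exact hfix0 x) (hfix1 0)
    exact Subtype.ext (Subtype.ext (Subtype.ext (inv_mul_eq_one.1 h1')))
  have h64 : Nat.card (V3 × V3) = 64 := by
    rw [Nat.card_prod, Nat.card_eq_fintype_card, Fintype.card_fun, ZMod.card, Fintype.card_fin]
    norm_num
  have := Nat.card_le_card_of_injective _ hinj
  rw [h64] at this
  exact this

/-- The structure of the stabiliser of the base trio. -/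
theorem base_structure : ∃ (N : Subgroup ↥(MulAction.stabilizer ↥M24 trioR0)) (_ : N.Normal),
    Nat.card N = 64 ∧ (∀ x ∈ N, x * x = 1) ∧
      Nonempty (↥(MulAction.stabilizer ↥M24 trioR0) ⧸ N ≃*
        GL (Fin 3) (ZMod 2) × Equiv.Perm (Fin 3)) := by
  have : Finite (Matrix (Fin 3) (Fin 3) (ZMod 2) × Function.End (Fin 3))ˣ :=
    Finite.of_equiv _ targetEquiv.symm.toEquiv
  obtain ⟨h1, ⟨f⟩⟩ := ker_quot_of_hom unitHom 64 (by norm_num)
    (by rw [card_stab_trioR0, card_target]) card_ker_le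
  exact ⟨unitHom.ker, inferInstance, h1, fun x hx => ker_sq hx, ⟨f.trans targetEquiv⟩⟩


/-! ### Induced permutations of the octads -/

/-- The permutations of an enumeration of sets induced by `M24`. -/
def IndPermN {n : ℕ} (τ : Fin n → Finset GolayPt) : Subgroup (Equiv.Perm (Fin n)) where
  carrier := {σ | ∃ g ∈ M24, ∀ i, g • τ i = τ (σ i)}
  mul_mem' := by
    rintro σ σ' ⟨g, hg, h⟩ ⟨g', hg', h'⟩
    exact ⟨g * g', M24.mul_mem hg hg', fun i => by rw [mul_smul, h', h]; rfl⟩
  one_mem' := ⟨1, M24.one_mem, fun i => one_smul _ _⟩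
  inv_mem' := by
    rintro σ ⟨g, hg, h⟩
    refine ⟨g⁻¹, M24.inv_mem hg, fun i => ?_⟩
    rw [inv_smul_eq_iff, h]
    exact congrArg τ (σ.apply_symm_apply i).symm

theorem indPerm3_top {τ : Fin 3 → Finset GolayPt}
    (hrot : ∃ g ∈ M24, ∀ i, g • τ i = τ (finRotate 3 i))
    (hswap : ∃ g ∈ M24, ∀ i, g • τ i = τ (Equiv.swap (0 : Fin 3) 1 i)) : IndPermN τ = ⊤ := by
  rw [eq_top_iff, ← Equiv.Perm.closure_cycle_adjacent_swap
    (isCycle_finRotate_of_le (n := 3) (by norm_num))
    (support_finRotate_of_le (n := 3) (by norm_num)) (0 : Fin 3), Subgroup.closure_le]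
  intro σ hσ
  rcases hσ with rfl | hσ
  · exact hrot
  · rw [Set.mem_singleton_iff] at hσ
    subst hσ
    have : finRotate 3 (0 : Fin 3) = 1 := by decide
    rw [this]
    exact hswap

theorem indPermN_smul {n : ℕ} {τ : Fin n → Finset GolayPt} {k : Equiv.Perm GolayPt}
    (hk : k ∈ M24) (h : IndPermN τ = ⊤) : IndPermN (fun i => k • τ i) = ⊤ := by
  rw [eq_top_iff]
  intro σ _
  have hσ : σ ∈ IndPermN τ := by
    rw [h]
    trivial
  obtain ⟨g, hg, hσ⟩ := hσ
  refine ⟨k * g * k⁻¹, M24.mul_mem (M24.mul_mem hk hg) (M24.inv_mem hk), fun i => ?_⟩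
  show (k * g * k⁻¹) • k • τ i = k • τ (σ i)
  rw [mul_smul, mul_smul, inv_smul_smul, hσ]

/-- All permutations of the members of `S` are induced. -/
theorem induce_allN {n : ℕ} {S : Finset (Finset GolayPt)} {τ : Fin n → Finset GolayPt}
    (hτ : Function.Injective τ) (hS : S = Finset.univ.image τ) (htop : IndPermN τ = ⊤)
    (e : Equiv.Perm ↥S) :
    ∃ g ∈ M24, g • S = S ∧ ∀ t : ↥S, g • (t : Finset GolayPt) = ((e t : ↥S) : Finset GolayPt) := by
  classical
  have hmem : ∀ i, τ i ∈ S := fun i => by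
    rw [hS]
    exact Finset.mem_image_of_mem _ (Finset.mem_univ _)
  let φ : Fin n ≃ ↥S := Equiv.ofBijective (fun i => ⟨τ i, hmem i⟩)
    ⟨fun i j h => hτ (congrArg Subtype.val h),
    fun t => by
      have h1 : (t : Finset GolayPt) ∈ Finset.univ.image τ := by
        rw [← hS]
        exact t.2
      obtain ⟨i, _, hi⟩ := Finset.mem_image.1 h1
      exact ⟨i, Subtype.ext hi⟩⟩
  have hφ : ∀ i, ((φ i : ↥S) : Finset GolayPt) = τ i := fun i => rfl
  have hσ : (φ.trans (e.trans φ.symm) : Equiv.Perm (Fin n)) ∈ IndPermN τ := by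
    rw [htop]
    trivial
  obtain ⟨g, hg, hσ⟩ := hσ
  have key : ∀ t : ↥S, g • (t : Finset GolayPt) = ((e t : ↥S) : Finset GolayPt) := by
    intro t
    obtain ⟨i, rfl⟩ := φ.surjective t
    rw [hφ, hσ, ← hφ]
    congr 1
    simp
  refine ⟨g, hg, ?_, key⟩
  apply Finset.eq_of_subset_of_card_le
  · intro x hx
    obtain ⟨T, hT, rfl⟩ := Finset.mem_smul_finset.1 hx
    have := key ⟨T, hT⟩
    show g • T ∈ S
    rw [show g • T = ((e ⟨T, hT⟩ : ↥S) : Finset GolayPt) from this]
    exact (e ⟨T, hT⟩).2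
  · rw [Finset.card_smul_finset]

/-- The `k`-th octad of the base trio. -/
def tau0 (k : Fin 3) : Finset GolayPt := maskFS (octN k)

theorem octN_lt : ∀ k : Fin 3, octN k < 2 ^ 24 := by decide

theorem octN_popc : ∀ k : Fin 3, popc 24 (octN k) = 8 := by decide

theorem tau0_inj : Function.Injective tau0 := by
  intro i j h
  have h1 := maskFS_inj (octN_lt i) (octN_lt j) h
  revert h1
  revert i j
  decide

theorem trioR0_eq : trioR0 = Finset.univ.image tau0 := by
  ext s
  unfold trioR0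
  rw [mem_toFS, Finset.mem_image]
  constructor
  · rintro ⟨m, hm, rfl⟩
    have h1 : ∀ m ∈ [0x149f, 0xf6840, 0xf08320], ∃ i : Fin 3, octN i = m := by decide
    obtain ⟨i, rfl⟩ := h1 m hm
    exact ⟨i, Finset.mem_univ _, rfl⟩
  · rintro ⟨i, _, rfl⟩
    refine ⟨octN i, ?_, rfl⟩
    revert i
    decide

theorem indPerm_tau0 : IndPermN tau0 = ⊤ := by
  apply indPerm3_top
  · refine ⟨wP rotW, (wP_mem rotW).1, fun i => ?_⟩
    have h1 : finRotate 3 i = i + 1 := finRotate_apply i
    rw [h1]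
    exact smul_maskFS_of_eval _ _ (wP_ptN rotW) _ _ (octN_lt i) (octN_lt _)
      (by rw [octN_popc, octN_popc]) (rot_ok i)
  · refine ⟨wP swapW, (wP_mem swapW).1, fun i => ?_⟩
    rw [Equiv.swap_apply_def]
    exact smul_maskFS_of_eval _ _ (wP_ptN swapW) _ _ (octN_lt i) (octN_lt _)
      (by rw [octN_popc, octN_popc]) (swap_ok i)

/-- Structure of a trio stabiliser. -/
theorem trio_stab_structure (T : Finset (Finset GolayPt)) (hT : T ∈ trios) :
    (∀ e : Equiv.Perm ↥T, ∃ g ∈ MulAction.stabilizer M24 T, ∀ o : ↥T,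
      (g : Equiv.Perm GolayPt) • (o : Finset GolayPt) = ((e o : ↥T) : Finset GolayPt)) ∧
    ∃ (N : Subgroup ↥(MulAction.stabilizer M24 T)) (_ : N.Normal), Nat.card N = 64 ∧
      (∀ x ∈ N, x * x = 1) ∧
      Nonempty (↥(MulAction.stabilizer M24 T) ⧸ N ≃* GL (Fin 3) (ZMod 2) × Equiv.Perm (Fin 3)) := by
  classical
  obtain ⟨k, hk, rfl⟩ := trios_transitive trioR0_mem hT
  constructor
  · intro e
    have hτ : Function.Injective (fun i => k • tau0 i) := fun i j h => tau0_inj (smul_left_cancel k h)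
    have hSτ : k • trioR0 = Finset.univ.image (fun i => k • tau0 i) := by
      rw [trioR0_eq, ← Finset.image_smul, Finset.image_image]
      rfl
    obtain ⟨g, hg, hgS, hge⟩ := induce_allN hτ hSτ (indPermN_smul hk indPerm_tau0) e
    exact ⟨⟨g, hg⟩, MulAction.mem_stabilizer_iff.2 hgS, hge⟩
  · have e : ↥(MulAction.stabilizer ↥M24 trioR0) ≃*
        ↥(MulAction.stabilizer ↥M24 ((⟨k, hk⟩ : ↥M24) • trioR0)) :=
      MulAction.stabilizerEquivStabilizer (G := ↥M24) (a := trioR0)
        (b := (⟨k, hk⟩ : ↥M24) • trioR0) (g := ⟨k, hk⟩) rfl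
    exact exists_normal_quot_of_mulEquiv' e 64 base_structure

end Cfsg.Agent.Lib.Helper21.TrioStab
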