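import Cfsg.Agent.Lib.Helper21.GolaySix

/-!
Triples of points under `Cfsg.M24`: the triples disjoint from a given triple `T` split into 210
lying with `T` in an octad and 1120 others; the stabiliser of `T` is transitive on each family
and is a maximal subgroup.
-/

set_option autoImplicit false

namespace Cfsg.Agent.Lib.Helper21

open Cfsg
open scoped Pointwise

/-- The triples lying with `T` in a common octad. -/
theorem ncard_special_triples (T : Finset GolayPt) (hT : T.card = 3) :
    {U : Finset GolayPt | U.card = 3 ∧ Disjoint T U ∧ (∃ o ∈ octads, T ∪ U ⊆ o)}.ncard = 210 := by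
  classical
  have h21 := (lam_5_8_24 card_golayPt octads_steiner T).2.2.2.1 hT
  set OT := (blocksFinset octads).filter (T ⊆ ·) with hOT
  have hset : {U : Finset GolayPt | U.card = 3 ∧ Disjoint T U ∧ (∃ o ∈ octads, T ∪ U ⊆ o)}
      = ↑(OT.biUnion (fun o => (o \ T).powersetCard 3)) := by
    ext U
    simp only [Set.mem_setOf_eq, Finset.coe_biUnion, Set.mem_iUnion, Finset.mem_coe,
      Finset.mem_powersetCard, exists_prop, hOT, Finset.mem_filter, mem_blocksFinset]
    constructor
    · rintro ⟨hU, hd, o, ho, hsub⟩
      refine ⟨o, ⟨ho, Finset.union_subset_left hsub⟩, ?_, hU⟩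
      intro p hp
      rw [Finset.mem_sdiff]
      exact ⟨Finset.union_subset_right hsub hp, fun hpT => Finset.disjoint_left.1 hd hpT hp⟩
    · rintro ⟨o, ⟨ho, hTo⟩, hUo, hU⟩
      refine ⟨hU, ?_, o, ho, Finset.union_subset hTo (fun p hp => (Finset.mem_sdiff.1 (hUo hp)).1)⟩
      rw [Finset.disjoint_left]
      intro p hpT hpU
      exact (Finset.mem_sdiff.1 (hUo hpU)).2 hpT
  rw [hset, Set.ncard_coe_finset, Finset.card_biUnion]
  · have : ∀ o ∈ OT, ((o \ T).powersetCard 3).card = 10 := by
      intro o ho
      rw [hOT, Finset.mem_filter, mem_blocksFinset] at ho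
      rw [Finset.card_powersetCard, Finset.card_sdiff_of_subset ho.2, octad_card o ho.1, hT]
      rfl
    rw [Finset.sum_congr rfl this, Finset.sum_const, h21]
    rfl
  · intro o ho o' ho' hne
    rw [hOT, Finset.mem_coe, Finset.mem_filter, mem_blocksFinset] at ho ho'
    rw [Function.onFun, Finset.disjoint_left]
    intro U hU hU'
    rw [Finset.mem_powersetCard] at hU hU'
    apply hne
    apply octad_unique o o' ho.1 ho'.1
    have hsub : T ∪ U ⊆ o ∩ o' := by
      intro p hp
      rw [Finset.mem_inter]
      rcases Finset.mem_union.1 hp with h | h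
      · exact ⟨ho.2 h, ho'.2 h⟩
      · exact ⟨(Finset.mem_sdiff.1 (hU.1 h)).1, (Finset.mem_sdiff.1 (hU'.1 h)).1⟩
    have hdisj : Disjoint T U := by
      rw [Finset.disjoint_left]
      intro p hpT hpU
      exact (Finset.mem_sdiff.1 (hU.1 hpU)).2 hpT
    have hc : (T ∪ U).card = 6 := by
      rw [Finset.card_union_of_disjoint hdisj, hT, hU.2]
    have := Finset.card_le_card hsub
    omega

theorem ncard_disjoint_triples (T : Finset GolayPt) (hT : T.card = 3) :
    {U : Finset GolayPt | U.card = 3 ∧ Disjoint T U}.ncard = 1330 := by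
  have h := ncard_subsets_inter T 3 0 (by norm_num)
  rw [hT] at h
  have : {U : Finset GolayPt | U.card = 3 ∧ Disjoint T U}
      = {y : Finset GolayPt | y.card = 3 ∧ (T ∩ y).card = 0} := by
    ext U
    simp only [Set.mem_setOf_eq, Finset.card_eq_zero, Finset.disjoint_iff_inter_eq_empty]
  rw [this, h]
  decide

theorem ncard_umbral_triples (T : Finset GolayPt) (hT : T.card = 3) :
    {U : Finset GolayPt | U.card = 3 ∧ Disjoint T U ∧ ¬ (∃ o ∈ octads, T ∪ U ⊆ o)}.ncard
      = 1120 := by
  have h1 := ncard_special_triples T hT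
  have h2 := ncard_disjoint_triples T hT
  have hunion : {U : Finset GolayPt | U.card = 3 ∧ Disjoint T U}
      = {U : Finset GolayPt | U.card = 3 ∧ Disjoint T U ∧ (∃ o ∈ octads, T ∪ U ⊆ o)} ∪
        {U : Finset GolayPt | U.card = 3 ∧ Disjoint T U ∧ ¬ (∃ o ∈ octads, T ∪ U ⊆ o)} := by
    ext U
    simp only [Set.mem_setOf_eq, Set.mem_union]
    by_cases hc : ∃ o ∈ octads, T ∪ U ⊆ o
    · constructor
      · rintro ⟨h1, h2⟩
        exact Or.inl ⟨h1, h2, hc⟩
      · rintro (h | h)
        · exact ⟨h.1, h.2.1⟩
        · exact ⟨h.1, h.2.1⟩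
    · constructor
      · rintro ⟨h1, h2⟩
        exact Or.inr ⟨h1, h2, hc⟩
      · rintro (h | h)
        · exact ⟨h.1, h.2.1⟩
        · exact ⟨h.1, h.2.1⟩
  have hdisj : Disjoint
      {U : Finset GolayPt | U.card = 3 ∧ Disjoint T U ∧ (∃ o ∈ octads, T ∪ U ⊆ o)}
      {U : Finset GolayPt | U.card = 3 ∧ Disjoint T U ∧ ¬ (∃ o ∈ octads, T ∪ U ⊆ o)} := by
    rw [Set.disjoint_left]
    rintro U ⟨-, -, h⟩ ⟨-, -, h'⟩
    exact h' h
  rw [hunion, Set.ncard_union_eq hdisj (Set.toFinite _) (Set.toFinite _), h1] at h2
  omega

/-- The stabiliser of a triple is transitive on the disjoint triples of each kind. -/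
theorem triple_stab_trans (T U U' : Finset GolayPt) (hT : T.card = 3) (hU : U.card = 3)
    (hU' : U'.card = 3) (hd : Disjoint T U) (hd' : Disjoint T U')
    (hiff : (∃ o ∈ octads, T ∪ U ⊆ o) ↔ (∃ o ∈ octads, T ∪ U' ⊆ o)) :
    ∃ g : Equiv.Perm GolayPt, g ∈ M24 ∧ g • T = T ∧ g • U = U' := by
  obtain ⟨g, hg, h1, h2⟩ := M24_two_sets_six T U T U'
    (by rw [Finset.card_union_of_disjoint hd, hT, hU]) rfl (hU.trans hU'.symm)
    (by rw [Finset.disjoint_iff_inter_eq_empty.1 hd, Finset.disjoint_iff_inter_eq_empty.1 hd'])
    hiff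
  exact ⟨g, hg, h1, h2⟩

end Cfsg.Agent.Lib.Helper21

namespace Cfsg.Agent.Lib.Helper21

open Cfsg
open scoped Pointwise

open Classical in
/-- Classifier of the triples relative to `s`. -/
noncomputable def tripleClass (s y : Finset GolayPt) : ℕ :=
  if (s ∩ y).card = 0 then (if ∃ o ∈ octads, s ∪ y ⊆ o then 3 else 0) else (s ∩ y).card

/-- The stabiliser of a triple of points is a maximal subgroup of `M24`. -/
theorem isCoatom_stabilizer_triple (s : Finset GolayPt) (hs : s.card = 3) :
    IsCoatom (MulAction.stabilizer M24 s) := by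
  have horb := orbit_small_set s (by omega)
  rw [hs] at horb
  have hle : ∀ y : Finset GolayPt, y.card = 3 → y ≠ s → (s ∩ y).card ≤ 2 := by
    intro y hy hne
    have h1 : (s ∩ y).card ≤ 3 := hs ▸ Finset.card_le_card Finset.inter_subset_left
    have h2 : (s ∩ y).card ≠ 3 := by
      intro h
      apply hne
      have e1 : s ∩ y = s := Finset.eq_of_subset_of_card_le Finset.inter_subset_left (by omega)
      have e2 : s ∩ y = y := Finset.eq_of_subset_of_card_le Finset.inter_subset_right
        (by rw [h]; exact le_of_eq hy)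
      rw [← e2, e1]
    omega
  apply isCoatom_stabilizer_of_suborbits s (tripleClass s) {0, 1, 2, 3}
    (fun i => if i = 0 then 1120 else if i = 1 then 630 else if i = 2 then 63 else 210) 2024
  · rw [horb, ncard_subsets]
    decide
  · norm_num
  · intro y hy hne
    rw [horb] at hy
    have := hle y hy hne
    unfold tripleClass
    split_ifs <;> simp
    omega
  · intro i hi
    simp only [Finset.mem_insert, Finset.mem_singleton] at hi
    rw [horb]
    rcases hi with rfl | rfl | rfl | rfl
    · have : {y | y ∈ {t : Finset GolayPt | t.card = 3} ∧ y ≠ s ∧ tripleClass s y = 0}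
          = {U : Finset GolayPt | U.card = 3 ∧ Disjoint s U ∧ ¬ (∃ o ∈ octads, s ∪ U ⊆ o)} := by
        ext y
        simp only [Set.mem_setOf_eq]
        unfold tripleClass
        constructor
        · rintro ⟨h1, h2, h3⟩
          split_ifs at h3 with h4 h5
          · exact ⟨h1, Finset.disjoint_iff_inter_eq_empty.2 (Finset.card_eq_zero.1 h4), h5⟩
          · exact absurd h3 h4
        · rintro ⟨h1, h2, h3⟩
          have h4 : (s ∩ y).card = 0 :=
            Finset.card_eq_zero.2 (Finset.disjoint_iff_inter_eq_empty.1 h2)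
          refine ⟨h1, ?_, ?_⟩
          · rintro rfl
            rw [Finset.inter_self, hs] at h4
            omega
          · rw [if_pos h4, if_neg h3]
      rw [this, ncard_umbral_triples s hs]
      rfl
    · have : {y | y ∈ {t : Finset GolayPt | t.card = 3} ∧ y ≠ s ∧ tripleClass s y = 1}
          = {y : Finset GolayPt | y.card = 3 ∧ (s ∩ y).card = 1} := by
        ext y
        simp only [Set.mem_setOf_eq]
        unfold tripleClass
        constructor
        · rintro ⟨h1, h2, h3⟩
          refine ⟨h1, ?_⟩
          split_ifs at h3 <;> first | omega | exact h3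
        · rintro ⟨h1, h2⟩
          refine ⟨h1, ?_, ?_⟩
          · rintro rfl
            rw [Finset.inter_self, hs] at h2
            omega
          · rw [if_neg (by omega), h2]
      rw [this, ncard_subsets_inter s 3 1 (by norm_num), hs]
      decide
    · have : {y | y ∈ {t : Finset GolayPt | t.card = 3} ∧ y ≠ s ∧ tripleClass s y = 2}
          = {y : Finset GolayPt | y.card = 3 ∧ (s ∩ y).card = 2} := by
        ext y
        simp only [Set.mem_setOf_eq]
        unfold tripleClass
        constructor
        · rintro ⟨h1, h2, h3⟩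
          refine ⟨h1, ?_⟩
          split_ifs at h3 <;> first | omega | exact h3
        · rintro ⟨h1, h2⟩
          refine ⟨h1, ?_, ?_⟩
          · rintro rfl
            rw [Finset.inter_self, hs] at h2
            omega
          · rw [if_neg (by omega), h2]
      rw [this, ncard_subsets_inter s 3 2 (by norm_num), hs]
      decide
    · have : {y | y ∈ {t : Finset GolayPt | t.card = 3} ∧ y ≠ s ∧ tripleClass s y = 3}
          = {U : Finset GolayPt | U.card = 3 ∧ Disjoint s U ∧ (∃ o ∈ octads, s ∪ U ⊆ o)} := by
        ext y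
        simp only [Set.mem_setOf_eq]
        unfold tripleClass
        constructor
        · rintro ⟨h1, h2, h3⟩
          split_ifs at h3 with h4 h5
          · exact ⟨h1, Finset.disjoint_iff_inter_eq_empty.2 (Finset.card_eq_zero.1 h4), h5⟩
          · have := hle y h1 h2
            omega
        · rintro ⟨h1, h2, h3⟩
          have h4 : (s ∩ y).card = 0 :=
            Finset.card_eq_zero.2 (Finset.disjoint_iff_inter_eq_empty.1 h2)
          refine ⟨h1, ?_, ?_⟩
          · rintro rfl
            rw [Finset.inter_self, hs] at h4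
            omega
          · rw [if_pos h4, if_pos h3]
      rw [this, ncard_special_triples s hs]
      rfl
  · intro y hy y' hy' hne hne' hc
    rw [horb] at hy hy'
    have hy3 : y.card = 3 := hy
    have hy3' : y'.card = 3 := hy'
    have hl := hle y hy3 hne
    have hl' := hle y' hy3' hne'
    by_cases h0 : (s ∩ y).card = 0
    · -- disjoint from `s`
      have h0' : (s ∩ y').card = 0 := by
        by_contra hn
        unfold tripleClass at hc
        rw [if_pos h0, if_neg hn] at hc
        split_ifs at hc <;> omega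
      have hd : Disjoint s y := Finset.disjoint_iff_inter_eq_empty.2 (Finset.card_eq_zero.1 h0)
      have hd' : Disjoint s y' := Finset.disjoint_iff_inter_eq_empty.2 (Finset.card_eq_zero.1 h0')
      have hiff : (∃ o ∈ octads, s ∪ y ⊆ o) ↔ (∃ o ∈ octads, s ∪ y' ⊆ o) := by
        unfold tripleClass at hc
        rw [if_pos h0, if_pos h0'] at hc
        constructor
        · intro h
          by_contra hn
          rw [if_pos h, if_neg hn] at hc
          omega
        · intro h
          by_contra hn
          rw [if_neg hn, if_pos h] at hc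
          omega
      obtain ⟨g, hg, h1, h2⟩ := triple_stab_trans s y y' hs hy3 hy3' hd hd' hiff
      exact ⟨⟨g, hg⟩, h1, h2⟩
    · have h0' : (s ∩ y').card ≠ 0 := by
        intro hn
        unfold tripleClass at hc
        rw [if_neg h0, if_pos hn] at hc
        split_ifs at hc <;> omega
      have hcc : (s ∩ y).card = (s ∩ y').card := by
        unfold tripleClass at hc
        rw [if_neg h0, if_neg h0'] at hc
        exact hc
      obtain ⟨g, hg, h1, h2⟩ := M24_two_sets s y s y' (by
        have := Finset.card_union_add_card_inter s y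
        rw [hs, hy3] at this
        omega) rfl (hy3.trans hy3'.symm) hcc
      exact ⟨⟨g, hg⟩, h1, h2⟩
  · decide

end Cfsg.Agent.Lib.Helper21
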