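import Cfsg.Agent.Lib.Helper21.GolayOctMax
import Cfsg.Agent.Lib.Helper21.GolayChain

/-!
The stabiliser in `Cfsg.M24` of two octads.
-/

set_option autoImplicit false

namespace Cfsg.Agent.Lib.Helper21

open Cfsg
open scoped Pointwise

theorem orbit_stab_octad (o o' : Finset GolayPt) (ho : o ∈ octads) (ho' : o' ∈ octads)
    (hne : o' ≠ o) :
    MulAction.orbit (MulAction.stabilizer M24 o) o'
      = {y | y ∈ MulAction.orbit M24 o ∧ y ≠ o ∧ (o ∩ y).card = (o ∩ o').card} := by
  ext y
  rw [mem_orbit_subgroup_iff', orbit_octad o ho]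
  constructor
  · rintro ⟨g, hg, rfl⟩
    have hgo : g • o = o := hg
    refine ⟨smul_mem_octads g.2 ho', ?_, ?_⟩
    · intro h
      apply hne
      rw [← hgo] at h
      exact smul_left_cancel g h
    · have h1 : (g • o ∩ g • o').card = (o ∩ o').card := by
        rw [← Finset.smul_finset_inter, Finset.card_smul_finset]
      rw [hgo] at h1
      exact h1
  · rintro ⟨hy, -, hc⟩
    obtain ⟨g, hg, hgo, hgy⟩ := Cfsg.Agent.S1556.result o o' y ho ho' hy hc.symm
    exact ⟨⟨g, hg⟩, hgo, hgy⟩

theorem card_two_octad_stab (o o' : Finset GolayPt) (ho : o ∈ octads) (ho' : o' ∈ octads)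
    (hne : o' ≠ o) :
    interCount octads o (o ∩ o').card *
      Nat.card ↥(MulAction.stabilizer M24 o ⊓ MulAction.stabilizer M24 o') = 322560 := by
  have h := card_eq_orbit_mul_card_inf_stabilizer (MulAction.stabilizer M24 o) o'
  rw [card_stabilizer_octad o ho, orbit_stab_octad o o' ho ho' hne, ncard_octad_class o ho] at h
  exact h.symm

end Cfsg.Agent.Lib.Helper21
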