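import Cfsg.Agent.Lib.Helper21.GolayRigid

/-!
Words in the four generators `genPerm` of `Cfsg.M24` as explicit permutations, evaluated on
points through packed tables.
-/

set_option autoImplicit false

namespace Cfsg.Agent.Lib.Helper21

open Cfsg
open scoped Pointwise

/-- Packed tables of the four generators `genPerm`. -/
def genTab : ℕ → ℕ
  | 0 => 956302485175575353788796878166559809
  | 1 => 983478296959358443554250846857397270
  | 2 => 1795248432537898728475572672376535
  | _ => 974380510768821363662145534143076928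

theorem genTab_spec (j : ℕ) (i : Fin 24) :
    ((gEquiv (genPerm j (gEquiv.symm i)) : Fin 24) : ℕ) = tabGet (genTab j) i := by
  have h0 : ∀ i : Fin 24, ((gEquiv (genPerm 0 (gEquiv.symm i)) : Fin 24) : ℕ)
      = tabGet (genTab 0) i := by unfold genPerm; decide +kernel
  have h1 : ∀ i : Fin 24, ((gEquiv (genPerm 1 (gEquiv.symm i)) : Fin 24) : ℕ)
      = tabGet (genTab 1) i := by unfold genPerm; decide +kernel
  have h2 : ∀ i : Fin 24, ((gEquiv (genPerm 2 (gEquiv.symm i)) : Fin 24) : ℕ)
      = tabGet (genTab 2) i := by unfold genPerm; decide +kernel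
  have h3 : ∀ i : Fin 24, ((gEquiv (genPerm 3 (gEquiv.symm i)) : Fin 24) : ℕ)
      = tabGet (genTab 3) i := by unfold genPerm; decide +kernel
  match j with
  | 0 => exact h0 i
  | 1 => exact h1 i
  | 2 => exact h2 i
  | (n + 3) => exact h3 i

theorem genTab_lt (j i : ℕ) (hi : i < 24) : tabGet (genTab j) i < 24 := by
  rw [← genTab_spec j ⟨i, hi⟩]
  exact (gEquiv _).isLt

theorem genPerm_ptN (j i : ℕ) (hi : i < 24) : genPerm j (ptN i) = ptN (tabGet (genTab j) i) := by
  apply gEquiv.injective
  apply Fin.ext
  rw [gEquiv_ptN_val _ (genTab_lt j i hi), ← genTab_spec j ⟨i, hi⟩]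
  unfold ptN
  rw [dif_pos hi]

/-- Evaluate a word (a base-4 numeral with leading sentinel digit `1`, least significant digit
applied first) on a point position. -/
def runWordP : ℕ → ℕ → ℕ → ℕ
  | 0, _, i => i
  | f + 1, w, i => if w ≤ 1 then i else runWordP f (w / 4) (tabGet (genTab (w % 4)) i)

/-- The permutation of a word. -/
noncomputable def wordPerm : ℕ → ℕ → Equiv.Perm GolayPt
  | 0, _ => 1
  | f + 1, w => if w ≤ 1 then 1 else wordPerm f (w / 4) * genPerm (w % 4)

theorem wordPerm_mem (H : Subgroup (Equiv.Perm GolayPt)) (hH : ∀ j, genPerm j ∈ H) (f w : ℕ) :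
    wordPerm f w ∈ H := by
  induction f generalizing w with
  | zero => exact H.one_mem
  | succ f ih =>
    rw [wordPerm]
    split
    · exact H.one_mem
    · exact H.mul_mem (ih _) (hH _)

theorem wordPerm_mem_M24 (f w : ℕ) : wordPerm f w ∈ M24 := wordPerm_mem M24 genPerm_mem f w

theorem runWordP_lt (f w i : ℕ) (hi : i < 24) : runWordP f w i < 24 := by
  induction f generalizing w i with
  | zero => exact hi
  | succ f ih =>
    rw [runWordP]
    split
    · exact hi
    · exact ih _ _ (genTab_lt _ _ hi)

theorem wordPerm_ptN (f w i : ℕ) (hi : i < 24) : wordPerm f w (ptN i) = ptN (runWordP f w i) := by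
  induction f generalizing w i with
  | zero => rfl
  | succ f ih =>
    rw [wordPerm, runWordP]
    split
    · rfl
    · rw [Equiv.Perm.mul_apply, genPerm_ptN _ _ hi, ih _ _ (genTab_lt _ _ hi)]

/-- The three generators of the statement generate all four `genPerm`. -/
theorem genPerm_mem_closure (j : ℕ) : genPerm j ∈ Subgroup.closure
    ({Equiv.optionCongr (Equiv.addRight (1 : ZMod 23)), projInv, cubeTwist} :
      Set (Equiv.Perm GolayPt)) := by
  have h0 : genPerm 0 ∈ Subgroup.closure
    ({Equiv.optionCongr (Equiv.addRight (1 : ZMod 23)), projInv, cubeTwist} :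
      Set (Equiv.Perm GolayPt)) := Subgroup.subset_closure (by unfold genPerm; simp)
  have h2 : genPerm 2 ∈ Subgroup.closure
    ({Equiv.optionCongr (Equiv.addRight (1 : ZMod 23)), projInv, cubeTwist} :
      Set (Equiv.Perm GolayPt)) := Subgroup.subset_closure (by unfold genPerm; simp)
  have h3 : genPerm 3 ∈ Subgroup.closure
    ({Equiv.optionCongr (Equiv.addRight (1 : ZMod 23)), projInv, cubeTwist} :
      Set (Equiv.Perm GolayPt)) := Subgroup.subset_closure (by unfold genPerm; simp)
  have h1 : genPerm 1 = (genPerm 0)⁻¹ := by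
    rw [eq_inv_iff_mul_eq_one]
    refine Equiv.ext fun p => ?_
    unfold genPerm
    cases p with
    | none => rfl
    | some x =>
      simp only [Equiv.Perm.mul_apply, Equiv.optionCongr_apply, Option.map_some,
        Equiv.coe_addRight, Equiv.Perm.one_apply]
      congr 1
      rw [add_assoc]
      have : (1 : ZMod 23) + 22 = 0 := by decide
      rw [this, add_zero]
  match j with
  | 0 => exact h0
  | 1 => rw [h1]; exact Subgroup.inv_mem _ h0
  | 2 => exact h2
  | (n + 3) => exact h3

end Cfsg.Agent.Lib.Helper21
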