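import Mathlib
import Cfsg.Agent.Lib.Helper21.HeData1

/-! Kernel checks for the He certificate: Schreier closure at level 1, part 3. -/

set_option Elab.async false

namespace Cfsg.Agent.Lib.Helper21.He
open Cfsg.Agent.Lib.Helper18.SS

theorem sch1_g3_4 : loopAll 2058 (schQ 12 2058 lvl1 chainR g3_4) = true := by decide +kernel
theorem sch1_g3_5 : loopAll 2058 (schQ 12 2058 lvl1 chainR g3_5) = true := by decide +kernel
theorem sch1_g4_1 : loopAll 2058 (schQ 12 2058 lvl1 chainR g4_1) = true := by decide +kernel
theorem sch1_g4_2 : loopAll 2058 (schQ 12 2058 lvl1 chainR g4_2) = true := by decide +kernel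

end Cfsg.Agent.Lib.Helper21.He
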