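import Mathlib
import Cfsg.Agent.Lib.Helper21.HeData1

/-! Kernel checks for the He certificate: Schreier closure at level 1, part 4. -/

set_option Elab.async false

namespace Cfsg.Agent.Lib.Helper21.He
open Cfsg.Agent.Lib.Helper18.SS

theorem sch1_g4_3 : loopAll 2058 (schQ 12 2058 lvl1 chainR g4_3) = true := by decide +kernel

end Cfsg.Agent.Lib.Helper21.He
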