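import Mathlib
import Cfsg.Agent.Lib.Helper21.HeData1

/-! Kernel checks for the He certificate: deeper levels. -/

set_option Elab.async false

namespace Cfsg.Agent.Lib.Helper21.He
open Cfsg.Agent.Lib.Helper18.SS

theorem chk_l1a : lvlOK2a 12 2058 [] lvl1 chainR = true := by decide +kernel
theorem chk_l2a : lvlOK2a 12 2058 [0] lvl2 chain3 = true := by decide +kernel
theorem chk_l3a : lvlOK2a 12 2058 [0, 8] lvl3 chain4 = true := by decide +kernel
theorem sch2_g2_1 : loopAll 2058 (schQ 12 2058 lvl2 chain3 g2_1) = true := by decide +kernel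
theorem sch2_g2_2 : loopAll 2058 (schQ 12 2058 lvl2 chain3 g2_2) = true := by decide +kernel
theorem sch2_g2_3 : loopAll 2058 (schQ 12 2058 lvl2 chain3 g2_3) = true := by decide +kernel
theorem sch2_g3_1 : loopAll 2058 (schQ 12 2058 lvl2 chain3 g3_1) = true := by decide +kernel
theorem sch2_g3_2 : loopAll 2058 (schQ 12 2058 lvl2 chain3 g3_2) = true := by decide +kernel
theorem sch2_g3_3 : loopAll 2058 (schQ 12 2058 lvl2 chain3 g3_3) = true := by decide +kernel
theorem sch2_g3_4 : loopAll 2058 (schQ 12 2058 lvl2 chain3 g3_4) = true := by decide +kernel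
theorem sch2_g3_5 : loopAll 2058 (schQ 12 2058 lvl2 chain3 g3_5) = true := by decide +kernel
theorem sch2_g4_1 : loopAll 2058 (schQ 12 2058 lvl2 chain3 g4_1) = true := by decide +kernel
theorem sch2_g4_2 : loopAll 2058 (schQ 12 2058 lvl2 chain3 g4_2) = true := by decide +kernel
theorem sch2_g4_3 : loopAll 2058 (schQ 12 2058 lvl2 chain3 g4_3) = true := by decide +kernel
theorem sch3_g3_1 : loopAll 2058 (schQ 12 2058 lvl3 chain4 g3_1) = true := by decide +kernel
theorem sch3_g3_2 : loopAll 2058 (schQ 12 2058 lvl3 chain4 g3_2) = true := by decide +kernel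
theorem sch3_g3_3 : loopAll 2058 (schQ 12 2058 lvl3 chain4 g3_3) = true := by decide +kernel
theorem sch3_g3_4 : loopAll 2058 (schQ 12 2058 lvl3 chain4 g3_4) = true := by decide +kernel
theorem sch3_g3_5 : loopAll 2058 (schQ 12 2058 lvl3 chain4 g3_5) = true := by decide +kernel
theorem sch3_g4_1 : loopAll 2058 (schQ 12 2058 lvl3 chain4 g4_1) = true := by decide +kernel
theorem sch3_g4_2 : loopAll 2058 (schQ 12 2058 lvl3 chain4 g4_2) = true := by decide +kernel
theorem sch3_g4_3 : loopAll 2058 (schQ 12 2058 lvl3 chain4 g4_3) = true := by decide +kernel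
theorem chk_chain4 : chainOK2 12 2058 [0, 8, 10] chain4 = true := by decide +kernel

end Cfsg.Agent.Lib.Helper21.He
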