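import Mathlib
import Cfsg.Agent.Lib.Helper21.HeSch1_1
import Cfsg.Agent.Lib.Helper21.HeSch1_2
import Cfsg.Agent.Lib.Helper21.HeSch1_3
import Cfsg.Agent.Lib.Helper21.HeSch1_4
import Cfsg.Agent.Lib.Helper21.HeSch2

/-! The stabiliser chain check for He (assembly of the pieces). -/

set_option Elab.async false

namespace Cfsg.Agent.Lib.Helper21.He
open Cfsg.Agent.Lib.Helper18.SS

theorem chk_l1 : lvlOK2 12 2058 [] lvl1 chainR = true := by
  rw [lvlOK2, chk_l1a, Bool.true_and, List.all_eq_true]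
  intro p hp
  have hp' : p ∈ [(cA, cAi), (cB, cBi), (g2_1, g2_1i), (g2_2, g2_2i), (g2_3, g2_3i), (g3_1, g3_1i), (g3_2, g3_2i), (g3_3, g3_3i), (g3_4, g3_4i), (g3_5, g3_5i), (g4_1, g4_1i), (g4_2, g4_2i), (g4_3, g4_3i)] := hp
  simp only [List.mem_cons, List.not_mem_nil, or_false] at hp'
  rcases hp' with rfl | rfl | rfl | rfl | rfl | rfl | rfl | rfl | rfl | rfl | rfl | rfl | rfl
  · exact sch1_cA
  · exact sch1_cB
  · exact sch1_g2_1
  · exact sch1_g2_2
  · exact sch1_g2_3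
  · exact sch1_g3_1
  · exact sch1_g3_2
  · exact sch1_g3_3
  · exact sch1_g3_4
  · exact sch1_g3_5
  · exact sch1_g4_1
  · exact sch1_g4_2
  · exact sch1_g4_3
theorem chk_l2 : lvlOK2 12 2058 [0] lvl2 chain3 = true := by
  rw [lvlOK2, chk_l2a, Bool.true_and, List.all_eq_true]
  intro p hp
  have hp' : p ∈ [(g2_1, g2_1i), (g2_2, g2_2i), (g2_3, g2_3i), (g3_1, g3_1i), (g3_2, g3_2i), (g3_3, g3_3i), (g3_4, g3_4i), (g3_5, g3_5i), (g4_1, g4_1i), (g4_2, g4_2i), (g4_3, g4_3i)] := hp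
  simp only [List.mem_cons, List.not_mem_nil, or_false] at hp'
  rcases hp' with rfl | rfl | rfl | rfl | rfl | rfl | rfl | rfl | rfl | rfl | rfl
  · exact sch2_g2_1
  · exact sch2_g2_2
  · exact sch2_g2_3
  · exact sch2_g3_1
  · exact sch2_g3_2
  · exact sch2_g3_3
  · exact sch2_g3_4
  · exact sch2_g3_5
  · exact sch2_g4_1
  · exact sch2_g4_2
  · exact sch2_g4_3
theorem chk_l3 : lvlOK2 12 2058 [0, 8] lvl3 chain4 = true := by
  rw [lvlOK2, chk_l3a, Bool.true_and, List.all_eq_true]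
  intro p hp
  have hp' : p ∈ [(g3_1, g3_1i), (g3_2, g3_2i), (g3_3, g3_3i), (g3_4, g3_4i), (g3_5, g3_5i), (g4_1, g4_1i), (g4_2, g4_2i), (g4_3, g4_3i)] := hp
  simp only [List.mem_cons, List.not_mem_nil, or_false] at hp'
  rcases hp' with rfl | rfl | rfl | rfl | rfl | rfl | rfl | rfl
  · exact sch3_g3_1
  · exact sch3_g3_2
  · exact sch3_g3_3
  · exact sch3_g3_4
  · exact sch3_g3_5
  · exact sch3_g4_1
  · exact sch3_g4_2
  · exact sch3_g4_3
theorem chk_chain3 : chainOK2 12 2058 [0, 8] chain3 = true := by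
  show (chainOK2 12 2058 [0, 8, 10] chain4 && lvlOK2 12 2058 [0, 8] lvl3 chain4) = true
  rw [chk_chain4, chk_l3]
  rfl

theorem chk_chainR : chainOK2 12 2058 [0] chainR = true := by
  show (chainOK2 12 2058 [0, 8] chain3 && lvlOK2 12 2058 [0] lvl2 chain3) = true
  rw [chk_chain3, chk_l2]
  rfl

theorem chk_chainS : chainOK2 12 2058 [] chainS = true := by
  show (chainOK2 12 2058 [0] chainR && lvlOK2 12 2058 [] lvl1 chainR) = true
  rw [chk_chainR, chk_l1]
  rfl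

theorem chk_chain : chainOK2 12 2058 [] chainS = true := chk_chainS

end Cfsg.Agent.Lib.Helper21.He
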