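import Mathlib
import Cfsg.Agent.Lib.Helper21.HeData1
import Cfsg.Agent.Lib.Helper21.HeData2

/-! Kernel checks for the He certificate: generators and the straight-line program. -/

set_option Elab.async false

namespace Cfsg.Agent.Lib.Helper21.He
open Cfsg.Agent.Lib.Helper18.SS

theorem chk_powA : powOKf 12 2058 cA 6 = true := by decide +kernel
theorem chk_powB : powOKf 12 2058 cB 6 = true := by decide +kernel
theorem chk_slp1 : slpOKf 12 2058 prev1 slpD1 = true := by decide +kernel
theorem chk_slp2 : slpOKf 12 2058 prev2 slpD2 = true := by decide +kernel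
theorem chk_slp3 : slpOKf 12 2058 prev3 slpD3 = true := by decide +kernel
theorem chk_slp4 : slpOKf 12 2058 prev4 slpD4 = true := by decide +kernel
theorem chk_slp5 : slpOKf 12 2058 prev5 slpD5 = true := by decide +kernel
theorem chk_slp6 : slpOKf 12 2058 prev6 slpD6 = true := by decide +kernel
theorem chk_slp7 : slpOKf 12 2058 prev7 slpD7 = true := by decide +kernel
theorem chk_slp8 : slpOKf 12 2058 prev8 slpD8 = true := by decide +kernel
theorem chk_slp9 : slpOKf 12 2058 prev9 slpD9 = true := by decide +kernel
theorem chk_slp10 : slpOKf 12 2058 prev10 slpD10 = true := by decide +kernel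
theorem chk_slp11 : slpOKf 12 2058 prev11 slpD11 = true := by decide +kernel
theorem chk_slp12 : slpOKf 12 2058 prev12 slpD12 = true := by decide +kernel
theorem chk_slp13 : slpOKf 12 2058 prev13 slpD13 = true := by decide +kernel
theorem chk_slp14 : slpOKf 12 2058 prev14 slpD14 = true := by decide +kernel
theorem chk_slp15 : slpOKf 12 2058 prev15 slpD15 = true := by decide +kernel
theorem chk_strong : (cpairs chainS).all (fun p => prev16.any (fun c => c == p.1)) = true := by
  decide +kernel

end Cfsg.Agent.Lib.Helper21.He
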