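import Mathlib
import Cfsg.Agent.Lib.Helper21.HeData1

/-! Certificate data for He on 2058 points (generated): suborbit classes. -/

namespace Cfsg.Agent.Lib.Helper21.He
open Cfsg.Agent.Lib.Helper18.SS

def clT : ℕ := 0x332223223221222222322222233222213312223312223333322222232222222222223322222233322333332322333322222223232233222222333222233222224422222222222222222222222222222222222224222222422242222222222222222222222222222222222222222444222222244212224222242244222221142324422242222222242222244424242444423212121224422114422221222222222221144221222222211122222224244442222222222222211111222222222222222221112211222211222222222222222222222222222332224222222222222222222222222222222222222222222212122222222222222222222222222222442222222222212422442222222222222222221222242222222222222212122422222222222224224422222221222222222441142422222311122221212222221123211222112212222222222222222222222211111222242441122222222222222211111222222222222222222222222222222222322222211111222222232121222222222222111122222222222222222222221322222211244421222222211122222222222442211242122444212122111122221221111112222221222222121222222222222333311112224442222222222111122222242222222222222221222122222212222222222222222222222222333221121221112222222112222222211122332221111222313133222233333322222212322323332213333331221322222222223222222222224414444222221112222211222222221222122222221221122121122222222222222122444444222222444144222211224422442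212211442222222222224444244442222222222222222111111222224244144442222244244242411111111244222222222221222422411244412442222222222223222222221121122211111212223222222111111111122222242221222122222222222211111222222222222212211111111112222222222122221111122222222222211221111122221122222221222222222222222112222221111111111111121111111222222122222222222222211112222222122222111222222221122222222111122221211111111211122222233112222211111222221112222222222111121122221411122221433111122222331113333222221112111121111423344414433332222222222222111111111111111323333332221222222222222221111111111111122232222322111111112311322244442222133332322221122222122222222221122222222333232222221221111121222211122222231111122111112233321212211111112221111222222211221212212222112121133322211322332122112222231222332223332222222222222211111121211111122222220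
def orbL : ℕ → CLvl2
  | 0 => lvl2
  | 1 => lvlO1
  | 2 => lvlO2
  | _ => lvlO3
/-- class index of a point (0 for the base point) -/
def clsOf (x : ℕ) : ℕ := fld 4 clT x
/-- the class check of a point -/
noncomputable def clsQ (x : ℕ) : Bool :=
  (fun k => Bool.rec (inOrb 2058 (orbL (Nat.pred k)) x && Nat.ble k 4) (Nat.beq x 0) (Nat.beq k 0)) (clsOf x)
/-- membership in a union of classes coded by a mask -/
noncomputable def qB (m x : ℕ) : Bool :=
  (fun k => Bool.rec (Nat.beq (bitN m (Nat.pred k)) 1) (Nat.beq x 0) (Nat.beq k 0)) (clsOf x)
/-- the arithmetic check for one mask -/
noncomputable def arithQ (m : ℕ) : Bool :=
  Nat.beq m 0 || Nat.beq m 15 || !(Nat.beq (Nat.mod 2058 ((List.range 2058).filter (qB m)).length) 0)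

end Cfsg.Agent.Lib.Helper21.He
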