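import Mathlib
import Cfsg.Agent.Lib.Helper21.HeData1
import Cfsg.Agent.Lib.Helper21.HeData4

/-! Kernel checks for the He certificate: the suborbits and the order. -/

set_option Elab.async false

namespace Cfsg.Agent.Lib.Helper21.He
open Cfsg.Agent.Lib.Helper18.SS

/-- the orbit check of a level -/
noncomputable def orbQ (l : CLvl2) (y : ℕ) : Bool :=
  Bool.rec true (Nat.beq (evalF 12 2058 (wordL 12 l y) l.b) y) (inOrb 2058 l y)

theorem chk_orb0 : loopAll 2058 (orbQ (orbL 0)) = true := by decide +kernel
theorem chk_orb1 : loopAll 2058 (orbQ (orbL 1)) = true := by decide +kernel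
theorem chk_orb2 : loopAll 2058 (orbQ (orbL 2)) = true := by decide +kernel
theorem chk_orb3 : loopAll 2058 (orbQ (orbL 3)) = true := by decide +kernel
theorem chk_PO : ∀ i < 4, (orbL i).P = lvl2.P ∧ (orbL i).b < 2058 := by decide +kernel
theorem chk_card : (chainS.map (fun l => ((List.range 2058).filter (inOrb 2058 l)).length)).prod
    = 4030387200 := by decide +kernel
theorem chk_cardR : (chainR.map (fun l => ((List.range 2058).filter (inOrb 2058 l)).length)).prod
    = 1958400 := by decide +kernel
theorem chk_len1 : ((List.range 2058).filter (inOrb 2058 lvl1)).length = 2058 := by decide +kernel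
theorem chk_cover : ∀ d ∈ allB, d ∈ ([] : List ℕ) ∨ d ∈ chainS.map (fun l => l.b) := by
  decide +kernel
theorem chk_cls : loopAll 2058 clsQ = true := by decide +kernel
theorem chk_arith : loopAll 16 arithQ = true := by decide +kernel

end Cfsg.Agent.Lib.Helper21.He
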