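import Mathlib
import Cfsg.Agent.Lib.Helper21.HeData1
import Cfsg.Agent.Lib.Helper21.HeData3

/-! Kernel checks for the He certificate: colour refinement, round 2. -/

set_option Elab.async false

namespace Cfsg.Agent.Lib.Helper21.He
open Cfsg.Agent.Lib.Helper18.SS Cfsg.Agent.Lib.Helper21.RR

theorem step2_0 : loopAll 512 (fun t => stepQ gd cC1 cC2 (Nat.add 0 t)) = true := by
  decide +kernel
theorem step2_1 : loopAll 512 (fun t => stepQ gd cC1 cC2 (Nat.add 512 t)) = true := by
  decide +kernel
theorem step2_2 : loopAll 512 (fun t => stepQ gd cC1 cC2 (Nat.add 1024 t)) = true := by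
  decide +kernel
theorem step2_3 : loopAll 512 (fun t => stepQ gd cC1 cC2 (Nat.add 1536 t)) = true := by
  decide +kernel
theorem step2_4 : loopAll 10 (fun t => stepQ gd cC1 cC2 (Nat.add 2048 t)) = true := by
  decide +kernel

end Cfsg.Agent.Lib.Helper21.He
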