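import Mathlib

/-!
# A simplicity criterion for permutation groups of small rank

`G = ⟨a, b⟩` transitive on `Fin n` with `a^p = b^p = 1`, `|G| = n * m` with `m` prime to `p`,
and a point stabiliser whose orbits cannot be combined to a proper block: then `G` is simple.
(Generalises the rank three criterion of `Helper18.SimpleCert`.)
-/

namespace Cfsg.Agent.Lib.Helper21.SimpleRank
open scoped Pointwise

variable {n : ℕ}

theorem normal_trans_r (G H : Subgroup (Equiv.Perm (Fin n)))
    (b1 : Fin n) (htrans : ∀ x, ∃ g ∈ G, g • b1 = x)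
    (hHle : H ≤ G) (hHfix : ∀ h ∈ H, h • b1 = b1)
    (r : ℕ) (q : ℕ → Fin n → Prop) (rep : ℕ → Fin n)
    (horb : ∀ i < r, ∀ x, q i x → ∃ h ∈ H, h • rep i = x)
    (hpart : ∀ x, x = b1 ∨ ∃ i < r, q i x)
    (harith : ∀ m < 2 ^ r, m ≠ 0 → m ≠ 2 ^ r - 1 →
      ¬ Set.ncard {x | x = b1 ∨ ∃ i < r, m.testBit i = true ∧ q i x} ∣ n)
    (N : Subgroup G) [hN : N.Normal] (hne : N ≠ ⊥) :
    MulAction.orbit N b1 = Set.univ := by
  classical
  haveI : MulAction.IsPretransitive G (Fin n) := by
    constructor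
    intro x y
    obtain ⟨gx, hgx, hx⟩ := htrans x
    obtain ⟨gy, hgy, hy⟩ := htrans y
    refine ⟨⟨gy * gx⁻¹, mul_mem hgy (inv_mem hgx)⟩, ?_⟩
    show (gy * gx⁻¹) • x = y
    rw [← hx, ← hy, smul_smul, inv_mul_cancel_right]
  set O : Set (Fin n) := MulAction.orbit N b1 with hO
  have hblock : MulAction.IsBlock G O := MulAction.IsBlock.orbit_of_normal b1
  have hb1 : b1 ∈ O := MulAction.mem_orbit_self b1
  have hdvd : O.ncard ∣ n := by
    have := hblock.ncard_dvd_card ⟨b1, hb1⟩
    simpa using this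
  have hstab := hblock.stabilizer_le hb1
  have hinv : ∀ h ∈ H, ∀ x ∈ O, h • x ∈ O := by
    intro h hh x hx
    have hG : h ∈ G := hHle hh
    have h1 : (⟨h, hG⟩ : G) ∈ MulAction.stabilizer G b1 := by
      rw [MulAction.mem_stabilizer_iff]
      exact hHfix h hh
    have h2 := hstab h1
    rw [MulAction.mem_stabilizer_iff] at h2
    have : (⟨h, hG⟩ : G) • x ∈ (⟨h, hG⟩ : G) • O := Set.smul_mem_smul_set hx
    rw [h2] at this
    exact this
  have hex : ∃ y ∈ O, y ≠ b1 := by
    by_contra hcon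
    push Not at hcon
    apply hne
    rw [Subgroup.eq_bot_iff_forall]
    intro k hk
    have hfix : ∀ m ∈ N, m • b1 = b1 := by
      intro m hm
      exact hcon _ ⟨⟨m, hm⟩, rfl⟩
    apply Subtype.ext
    apply Equiv.ext
    intro x
    obtain ⟨g, hg, rfl⟩ := htrans x
    have hc : (⟨g, hg⟩ : G)⁻¹ * k * ⟨g, hg⟩ ∈ N := by
      have := hN.conj_mem k hk (⟨g, hg⟩ : G)⁻¹
      simpa using this
    have := hfix _ hc
    have h3 : (g⁻¹ * k.1 * g) • b1 = b1 := this
    show k.1 • (g • b1) = g • b1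
    rw [mul_smul, mul_smul, inv_smul_eq_iff] at h3
    exact h3
  obtain ⟨y, hyO, hyne⟩ := hex
  -- a class meeting the orbit lies inside it
  have hL : ∀ i < r, (∃ x ∈ O, q i x) → ∀ x : Fin n, q i x → x ∈ O := by
    rintro i hi ⟨x0, hx0, hx0L⟩ x hx
    obtain ⟨h0, hh0, e0⟩ := horb i hi x0 hx0L
    obtain ⟨h, hh, e⟩ := horb i hi x hx
    have hb2 : rep i ∈ O := by
      have := hinv h0⁻¹ (inv_mem hh0) x0 hx0
      rw [← e0, inv_smul_smul] at this
      exact this
    rw [← e]
    exact hinv h hh (rep i) hb2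
  set m : ℕ := Nat.ofBits (fun i : Fin r => decide (∃ x ∈ O, q i x)) with hm
  have hmlt : m < 2 ^ r := Nat.ofBits_lt_two_pow _
  have hbit : ∀ i (hi : i < r), m.testBit i = true ↔ ∃ x ∈ O, q i x := by
    intro i hi
    rw [hm, Nat.testBit_ofBits_lt _ _ hi]
    simp
  have hOeq : O = {x | x = b1 ∨ ∃ i < r, m.testBit i = true ∧ q i x} := by
    ext x
    constructor
    · intro hx
      rcases hpart x with h | ⟨i, hi, hqi⟩
      · exact Or.inl h
      · exact Or.inr ⟨i, hi, (hbit i hi).2 ⟨x, hx, hqi⟩, hqi⟩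
    · rintro (h | ⟨i, hi, hb, hqi⟩)
      · rw [h]; exact hb1
      · exact hL i hi ((hbit i hi).1 hb) x hqi
  by_cases hm0 : m = 0
  · exfalso
    rcases hpart y with h | ⟨i, hi, hqi⟩
    · exact hyne h
    · have := (hbit i hi).2 ⟨y, hyO, hqi⟩
      rw [hm0] at this
      simp at this
  by_cases hm1 : m = 2 ^ r - 1
  · apply Set.eq_univ_of_forall
    intro x
    rcases hpart x with h | ⟨i, hi, hqi⟩
    · rw [h]; exact hb1
    · have hb : m.testBit i = true := by
        rw [hm1, Nat.testBit_two_pow_sub_one]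
        simpa using hi
      exact hL i hi ((hbit i hi).1 hb) x hqi
  · exfalso
    rw [hOeq] at hdvd
    exact harith m hmlt hm0 hm1 hdvd

theorem simple_of_rank_r [NeZero n] (G H : Subgroup (Equiv.Perm (Fin n)))
    (a b : Equiv.Perm (Fin n)) (p m : ℕ)
    (hG : G = Subgroup.closure {a, b}) (hap : a ^ p = 1) (hbp : b ^ p = 1)
    (hcard : Nat.card G = n * m) (hcop : Nat.Coprime m p) (hbig : 1 < n * m)
    (b1 : Fin n) (htrans : ∀ x, ∃ g ∈ G, g • b1 = x)
    (hHle : H ≤ G) (hHfix : ∀ h ∈ H, h • b1 = b1)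
    (r : ℕ) (q : ℕ → Fin n → Prop) (rep : ℕ → Fin n)
    (horb : ∀ i < r, ∀ x, q i x → ∃ h ∈ H, h • rep i = x)
    (hpart : ∀ x, x = b1 ∨ ∃ i < r, q i x)
    (harith : ∀ m < 2 ^ r, m ≠ 0 → m ≠ 2 ^ r - 1 →
      ¬ Set.ncard {x | x = b1 ∨ ∃ i < r, m.testBit i = true ∧ q i x} ∣ n) :
    IsSimpleGroup G := by
  have hnpos : 0 < n := NeZero.pos n
  have hmemp : ∀ (N : Subgroup G) [N.Normal], N ≠ ⊥ → ∀ c : G, c ^ p = 1 → c ∈ N := by
    intro N hN hne c hc
    have horb' := normal_trans_r G H b1 htrans hHle hHfix r q rep horb hpart harith N hne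
    have hdiv : n ∣ Nat.card N := by
      have h1 : (MulAction.stabilizer N b1).index = (MulAction.orbit N b1).ncard :=
        MulAction.index_stabilizer N b1
      rw [horb', Set.ncard_univ, Nat.card_fin] at h1
      have h2 := Subgroup.index_dvd_card (MulAction.stabilizer N b1)
      rw [h1] at h2
      exact h2
    have hcardq : Nat.card (G ⧸ N) * Nat.card N = n * m := by
      rw [← hcard]
      exact (Subgroup.card_eq_card_quotient_mul_card_subgroup N).symm
    have hcopq : Nat.Coprime (Nat.card (G ⧸ N)) p := by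
      obtain ⟨t, ht⟩ := hdiv
      rw [ht] at hcardq
      have h6 : Nat.card (G ⧸ N) * t = m := by
        have : n * (Nat.card (G ⧸ N) * t) = n * m := by
          rw [← hcardq]; ring
        exact Nat.eq_of_mul_eq_mul_left hnpos this
      have hd : Nat.card (G ⧸ N) ∣ m := Dvd.intro _ h6
      exact Nat.Coprime.coprime_dvd_left hd hcop
    have hq : (QuotientGroup.mk c : G ⧸ N) ^ p = 1 := by
      rw [← QuotientGroup.mk_pow, hc]
      rfl
    have hq2 : (QuotientGroup.mk c : G ⧸ N) ^ Nat.card (G ⧸ N) = 1 := pow_card_eq_one'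
    have ho1 := orderOf_dvd_of_pow_eq_one hq
    have ho2 := orderOf_dvd_of_pow_eq_one hq2
    have : orderOf (QuotientGroup.mk c : G ⧸ N) ∣ 1 := by
      have := Nat.dvd_gcd ho2 ho1
      rwa [hcopq] at this
    have h1 : (QuotientGroup.mk c : G ⧸ N) = 1 := by
      rw [← orderOf_eq_one_iff]
      exact Nat.dvd_one.mp this
    exact (QuotientGroup.eq_one_iff c).mp h1
  have hnt : Nontrivial G := by
    rw [← Finite.one_lt_card_iff_nontrivial, hcard]
    exact hbig
  refine ⟨?_⟩
  intro N hN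
  by_cases hne : N = ⊥
  · exact Or.inl hne
  · right
    have ha_mem : a ∈ G := by rw [hG]; exact Subgroup.subset_closure (by simp)
    have hb_mem : b ∈ G := by rw [hG]; exact Subgroup.subset_closure (by simp)
    have hA : (⟨a, ha_mem⟩ : G) ∈ N := hmemp N hne _ (by
      apply Subtype.ext
      show a ^ p = 1
      exact hap)
    have hB : (⟨b, hb_mem⟩ : G) ∈ N := hmemp N hne _ (by
      apply Subtype.ext
      show b ^ p = 1
      exact hbp)
    rw [Subgroup.eq_top_iff']
    rintro ⟨g, hg⟩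
    have hg' : g ∈ Subgroup.closure {a, b} := hG ▸ hg
    have key : ∀ (g : Equiv.Perm (Fin n)) (hg' : g ∈ Subgroup.closure {a, b}) (hg : g ∈ G),
        (⟨g, hg⟩ : G) ∈ N := by
      intro g hg'
      induction hg' using Subgroup.closure_induction with
      | mem x hx =>
        intro hg
        rcases hx with rfl | rfl
        · exact hA
        · exact hB
      | one => intro hg; exact one_mem N
      | mul x y hx hy ihx ihy =>
        intro hg
        have hx' : x ∈ G := hG ▸ hx
        have hy' : y ∈ G := hG ▸ hy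
        have : (⟨x * y, hg⟩ : G) = ⟨x, hx'⟩ * ⟨y, hy'⟩ := rfl
        rw [this]
        exact mul_mem (ihx hx') (ihy hy')
      | inv x hx ih =>
        intro hg
        have hx' : x ∈ G := hG ▸ hx
        have : (⟨x⁻¹, hg⟩ : G) = (⟨x, hx'⟩ : G)⁻¹ := rfl
        rw [this]
        exact inv_mem (ih hx')
    exact key g hg' hg

end Cfsg.Agent.Lib.Helper21.SimpleRank
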