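import Mathlib
import Cfsg.Prelude.Def_Classical
import Cfsg.Agent.Lib.Helper21.F4
import Cfsg.Agent.Lib.Helper18.SS4

/-!
# Matrices over `F4` from codes, unitary elements, and a group of compatible pairs

Generic part of the construction of the triple cover of `J3` inside `SU(9, 4)`.
-/

namespace Cfsg.Agent.Lib.Helper21.J3U
open Cfsg.Agent.Lib.Helper18.SS Matrix

abbrev Mat9 := Matrix (Fin 9) (Fin 9) F4

/-- a vector of length 9 from its code (two bits per coordinate) -/
def vecOf (c : ℕ) : Fin 9 → F4 := fun p => F4.dec (fld 2 c p.val)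

/-- an `r × k` matrix from its code (row-major, two bits per entry) -/
def matOf (r k : ℕ) (c : ℕ) : Matrix (Fin r) (Fin k) F4 :=
  Matrix.of fun i j => F4.dec (fld 2 c (Nat.add (Nat.mul k i.val) j.val))

/-- the Frobenius map of `F4` -/
def frob : F4 →+* F4 where
  toFun x := x ^ 2
  map_one' := by decide
  map_mul' := by decide
  map_zero' := by decide
  map_add' := by decide

theorem herm_pres (M : Mat9) (h : Mᵀ * M.map (fun x => x ^ 2) = 1) (u v : Fin 9 → F4) :
    Cfsg.hermForm 9 F4 2 (M *ᵥ u) (M *ᵥ v) = Cfsg.hermForm 9 F4 2 u v := by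
  have hf : ∀ a b : Fin 9 → F4, Cfsg.hermForm 9 F4 2 a b = a ⬝ᵥ (frob ∘ b) := fun a b => rfl
  have h1 : (frob ∘ (M *ᵥ v)) = (M.map frob) *ᵥ (frob ∘ v) := by
    funext i
    exact RingHom.map_mulVec frob M v i
  have h2 : (M.map frob)ᵀ * M = 1 := by
    have := congrArg Matrix.transpose h
    rw [Matrix.transpose_mul, Matrix.transpose_transpose, Matrix.transpose_one] at this
    exact this
  rw [hf, hf, h1, Matrix.dotProduct_mulVec, ← Matrix.mulVec_transpose, Matrix.mulVec_mulVec, h2,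
    Matrix.one_mulVec]

theorem det_of_pow19 (M : Mat9) (h : M ^ 19 = 1) : M.det = 1 := by
  have := congrArg Matrix.det h
  rw [Matrix.det_pow, Matrix.det_one] at this
  exact F4.eq_one_of_pow19 this

/-- an element of `SU(9, 4)` from a matrix -/
def mkSU (M : Mat9) (hd : M.det = 1) (hu : Mᵀ * M.map (fun x => x ^ 2) = 1) : Cfsg.SU 9 F4 2 :=
  ⟨⟨M, hd⟩, fun u v => herm_pres M hu u v⟩

/-- the matrix of an element of `SU(9, 4)` -/
def mat (s : Cfsg.SU 9 F4 2) : Mat9 := s.1.1

theorem mat_mkSU (M : Mat9) (hd hu) : mat (mkSU M hd hu) = M := rfl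
theorem mat_mul (s t : Cfsg.SU 9 F4 2) : mat (s * t) = mat s * mat t := rfl
theorem mat_one : mat 1 = 1 := rfl
theorem mat_inv_mul (s : Cfsg.SU 9 F4 2) : mat s⁻¹ * mat s = 1 := by
  rw [← mat_mul, inv_mul_cancel, mat_one]
theorem mat_mul_inv (s : Cfsg.SU 9 F4 2) : mat s * mat s⁻¹ = 1 := by
  rw [← mat_mul, mul_inv_cancel, mat_one]
theorem mat_pow (s : Cfsg.SU 9 F4 2) (k : ℕ) : mat (s ^ k) = mat s ^ k := by
  induction k with
  | zero => rfl
  | succ k ih => rw [pow_succ, pow_succ, mat_mul, ih]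
theorem mat_injective : Function.Injective mat := by
  intro s t h
  apply Subtype.ext
  apply Subtype.ext
  exact h

end Cfsg.Agent.Lib.Helper21.J3U
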