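import Mathlib
import Cfsg.Agent.Lib.Helper21.J3ULin
import Cfsg.Agent.Lib.Helper21.HeSpData

/-!
# Compatible pairs of symplectic matrices and permutations for the Held group

The 425 points of one orbit of a point stabiliser of the Held group on 2058 points are labelled by
the flags (point, line) of the symplectic generalised quadrangle over the field with four elements.
A matrix and a permutation are compatible when the matrix maps the flag of each point to the flag
of its image.
-/

namespace Cfsg.Agent.Lib.Helper21.He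
open Cfsg.Agent.Lib.Helper18.SS Matrix
open Cfsg.Agent.Lib.Helper21.J3U (matOf)

abbrev Mat4 := Matrix (Fin 4) (Fin 4) F4
abbrev S4 := ↥(Matrix.symplecticGroup (Fin 2) F4)
abbrev P58 := Equiv.Perm (Fin 2058)

/-! ### Symplectic matrices from codes -/

/-- the index bijection -/
def e4 : Fin 2 ⊕ Fin 2 ≃ Fin 4 where
  toFun x := Sum.elim (fun i => ⟨i.val, by omega⟩) (fun j => ⟨2 + j.val, by omega⟩) x
  invFun i := if h : i.val < 2 then Sum.inl ⟨i.val, h⟩ else Sum.inr ⟨i.val - 2, by omega⟩
  left_inv := by decide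
  right_inv := by decide

/-- the matrix of a symplectic group element, indexed by `Fin 4` -/
def mat4 (s : S4) : Mat4 := (s.1).submatrix e4.symm e4.symm

/-- a `Fin 4` matrix reindexed by the sum type -/
def toSum (M : Mat4) : Matrix (Fin 2 ⊕ Fin 2) (Fin 2 ⊕ Fin 2) F4 := M.submatrix e4 e4

theorem mat4_mul (s t : S4) : mat4 (s * t) = mat4 s * mat4 t :=
  (Matrix.submatrix_mul_equiv s.1 t.1 e4.symm e4.symm e4.symm).symm

theorem mat4_one : mat4 1 = 1 := Matrix.submatrix_one_equiv e4.symm

theorem toSum_mat4 (s : S4) : toSum (mat4 s) = s.1 := by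
  ext i j
  simp [toSum, mat4]

theorem mat4_injective : Function.Injective mat4 := by
  intro s t h
  apply Subtype.ext
  rw [← toSum_mat4 s, ← toSum_mat4 t, h]

/-- the code of the form matrix -/
def cJ4 : ℕ := 67190800

theorem toSum_J : toSum (matOf 4 4 cJ4) = Matrix.J (Fin 2) F4 := by decide +kernel

theorem toSum_mul (M N : Mat4) : toSum (M * N) = toSum M * toSum N :=
  (Matrix.submatrix_mul_equiv M N e4 e4 e4).symm

theorem toSum_transpose (M : Mat4) : toSum Mᵀ = (toSum M)ᵀ := rfl

/-- the check that a coded matrix is symplectic -/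
def spOK (c : ℕ) : Bool :=
  decide (matOf 4 4 c * matOf 4 4 cJ4 * (matOf 4 4 c)ᵀ = matOf 4 4 cJ4)

theorem spOK_mem {c : ℕ} (h : spOK c = true) :
    toSum (matOf 4 4 c) ∈ Matrix.symplecticGroup (Fin 2) F4 := by
  rw [SymplecticGroup.mem_iff, ← toSum_J, ← toSum_transpose, ← toSum_mul, ← toSum_mul,
    of_decide_eq_true h]

open Classical in
/-- the symplectic group element with a given code (`1` for invalid codes) -/
noncomputable def spOf (c : ℕ) : S4 :=
  if h : spOK c = true then ⟨toSum (matOf 4 4 c), spOK_mem h⟩ else 1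

theorem mat4_spOf {c : ℕ} (h : spOK c = true) : mat4 (spOf c) = matOf 4 4 c := by
  rw [spOf, dif_pos h]
  ext i j
  simp [toSum, mat4]

theorem mat4_pow (s : S4) (k : ℕ) : mat4 (s ^ k) = mat4 s ^ k := by
  induction k with
  | zero => rw [pow_zero, pow_zero, mat4_one]
  | succ k ih => rw [pow_succ, pow_succ, mat4_mul, ih]

/-- a scalar symplectic matrix over `F4` is the identity -/
theorem eq_one_of_scalar {s : S4} {c : F4} (h : mat4 s = c • (1 : Mat4)) : s = 1 := by
  have h1 : s.1 = c • (1 : Matrix (Fin 2 ⊕ Fin 2) (Fin 2 ⊕ Fin 2) F4) := by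
    rw [← toSum_mat4 s, h]
    ext i j
    simp [toSum, Matrix.one_apply]
  have h2 := SymplecticGroup.mem_iff.mp s.2
  rw [h1] at h2
  have h2' : (c * c) • Matrix.J (Fin 2) F4 = Matrix.J (Fin 2) F4 := by
    rw [Matrix.transpose_smul, Matrix.transpose_one, Matrix.smul_mul, Matrix.one_mul,
      Matrix.mul_smul, Matrix.mul_one, smul_smul] at h2
    exact h2
  have h3 := congrFun (congrFun h2' (Sum.inl 0)) (Sum.inr 0)
  have hJ : Matrix.J (Fin 2) F4 (Sum.inl 0) (Sum.inr 0) = 1 := by decide
  rw [Matrix.smul_apply, hJ, smul_eq_mul, mul_one] at h3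
  have hc : ∀ x : F4, x * x = 1 → x = 1 := by decide
  have hc1 : c = 1 := hc c h3
  apply mat4_injective
  rw [h, hc1, one_smul, mat4_one]

/-! ### The flag table -/

/-- an entry of a vector in a table (eight bits per row) -/
def tE (tbl i r : ℕ) : F4 := F4.dec (fld 2 (fld 8 tbl i) r)

/-- the vector spanning the point of the flag at `i` -/
def vT (i : ℕ) : Fin 4 → F4 := fun r => tE tblV i r.val
/-- the second vector spanning the line of the flag at `i` -/
def uT (i : ℕ) : Fin 4 → F4 := fun r => tE tblU i r.val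
/-- the rows carrying a flag -/
def okT (i : ℕ) : Bool := !(Nat.beq (fld 8 tblV i) 0)

/-- compatibility of a matrix with a permutation -/
def Compat (M : Mat4) (σ : P58) : Prop :=
  ∀ i : Fin 2058, okT i.val = okT (σ i).val ∧
    (okT i.val = true → ∃ c a b : F4, c ≠ 0 ∧ b ≠ 0 ∧ M *ᵥ vT i.val = c • vT (σ i).val ∧
      M *ᵥ uT i.val = a • vT (σ i).val + b • uT (σ i).val)

theorem compat_one : Compat 1 1 := by
  intro i
  refine ⟨rfl, fun _ => ⟨1, 0, 1, one_ne_zero, one_ne_zero, ?_, ?_⟩⟩
  · simp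
  · simp

theorem compat_mul {M N : Mat4} {σ τ : P58} (h1 : Compat M σ) (h2 : Compat N τ) :
    Compat (M * N) (σ * τ) := by
  intro i
  obtain ⟨e2, f2⟩ := h2 i
  obtain ⟨e1, f1⟩ := h1 (τ i)
  refine ⟨e2.trans e1, fun hi => ?_⟩
  obtain ⟨c2, a2, b2, hc2, hb2, hv2, hu2⟩ := f2 hi
  obtain ⟨c1, a1, b1, hc1, hb1, hv1, hu1⟩ := f1 (e2 ▸ hi)
  refine ⟨c2 * c1, a2 * c1 + b2 * a1, b2 * b1, mul_ne_zero hc2 hc1, mul_ne_zero hb2 hb1, ?_, ?_⟩
  · show (M * N) *ᵥ vT i.val = (c2 * c1) • vT ((σ * τ) i).val
    rw [← Matrix.mulVec_mulVec, hv2, Matrix.mulVec_smul, hv1, smul_smul]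
    rfl
  · show (M * N) *ᵥ uT i.val = (a2 * c1 + b2 * a1) • vT ((σ * τ) i).val
      + (b2 * b1) • uT ((σ * τ) i).val
    rw [← Matrix.mulVec_mulVec, hu2, Matrix.mulVec_add, Matrix.mulVec_smul, Matrix.mulVec_smul,
      hv1, hu1, smul_add, smul_smul, smul_smul, smul_smul, add_smul, add_assoc]
    rfl

theorem compat_pow {M : Mat4} {σ : P58} (h : Compat M σ) (k : ℕ) : Compat (M ^ k) (σ ^ k) := by
  induction k with
  | zero => rw [pow_zero, pow_zero]; exact compat_one
  | succ k ih => rw [pow_succ, pow_succ]; exact compat_mul ih h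

/-- the group of compatible pairs -/
def Tbig : Subgroup (S4 × P58) where
  carrier := {g | Compat (mat4 g.1) g.2}
  mul_mem' := fun {a b} ha hb => by
    show Compat (mat4 (a.1 * b.1)) (a.2 * b.2)
    rw [mat4_mul]
    exact compat_mul ha hb
  one_mem' := by
    show Compat (mat4 1) 1
    rw [mat4_one]
    exact compat_one
  inv_mem' := fun {g} hg => by
    have hpos : 0 < orderOf g := orderOf_pos g
    have hinv : g⁻¹ = g ^ (orderOf g - 1) := by
      apply inv_eq_of_mul_eq_one_left
      rw [← pow_succ, Nat.sub_add_cancel hpos, pow_orderOf_eq_one]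
    rw [hinv]
    show Compat (mat4 ((g ^ (orderOf g - 1)).1)) ((g ^ (orderOf g - 1)).2)
    rw [Prod.pow_fst, Prod.pow_snd, mat4_pow]
    exact compat_pow hg _

/-! ### Row certificates -/

/-- an entry of a coded `4 × 4` matrix -/
def ent4 (c r j : ℕ) : F4 := F4.dec (fld 2 c (Nat.add (Nat.mul 4 r) j))

/-- equality test in `F4` -/
def beqF : F4 → F4 → Bool
  | F4.z, F4.z => true
  | F4.o, F4.o => true
  | F4.w, F4.w => true
  | F4.w2, F4.w2 => true
  | _, _ => false

theorem beqF_iff {a b : F4} : beqF a b = true ↔ a = b := by revert a b; decide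

/-- an entry of the product of a coded matrix with a table vector -/
def dot4 (cM tbl i r : ℕ) : F4 :=
  ent4 cM r 0 * tE tbl i 0 + ent4 cM r 1 * tE tbl i 1 + ent4 cM r 2 * tE tbl i 2
    + ent4 cM r 3 * tE tbl i 3

/-- the certificate for one row -/
noncomputable def rowF (cM cs cert i : ℕ) : Bool :=
  (fun j => Bool.rec (!(okT j))
    (okT j && (fun c a b => !(beqF c 0) && !(beqF b 0) &&
      loopAll 4 (fun r => beqF (dot4 cM tblV i r) (c * tE tblV j r) &&
        beqF (dot4 cM tblU i r) (a * tE tblV j r + b * tE tblU j r)))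
      (F4.dec (fld 2 (fld 6 cert i) 0)) (F4.dec (fld 2 (fld 6 cert i) 1))
      (F4.dec (fld 2 (fld 6 cert i) 2)))
    (okT i)) (lkf 12 2058 cs i)

theorem mulVec4 (M : Mat4) (x : Fin 4 → F4) (r : Fin 4) :
    (M *ᵥ x) r = M r 0 * x 0 + M r 1 * x 1 + M r 2 * x 2 + M r 3 * x 3 := by
  simp [Matrix.mulVec, dotProduct, Fin.sum_univ_four]

theorem compat_of_rows {cM cs : ℕ} (cert : ℕ) (hv : Valid 12 2058 cs)
    (h : loopAll 2058 (rowF cM cs cert) = true) :
    Compat (matOf 4 4 cM) (toPerm 12 2058 cs) := by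
  rw [loopAll_iff] at h
  intro i
  have hi := h i.val i.2
  have ej : ((toPerm 12 2058 cs i : Fin 2058) : ℕ) = lkf 12 2058 cs i.val := by
    rw [toPerm_val hv, lkf_eq]
  rw [ej]
  unfold rowF at hi
  generalize lkf 12 2058 cs i.val = j at hi ⊢
  cases hok : okT i.val with
  | false =>
    rw [hok] at hi
    have hj : okT j = false := by
      simpa using hi
    exact ⟨hj.symm, fun hh => Bool.noConfusion hh⟩
  | true =>
    rw [hok] at hi
    simp only [Bool.and_eq_true, Bool.not_eq_true'] at hi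
    obtain ⟨hj, ⟨hc, hb⟩, hrows⟩ := hi
    rw [loopAll_iff] at hrows
    refine ⟨hj.symm, fun _ => ⟨F4.dec (fld 2 (fld 6 cert i.val) 0),
      F4.dec (fld 2 (fld 6 cert i.val) 1), F4.dec (fld 2 (fld 6 cert i.val) 2), ?_, ?_, ?_, ?_⟩⟩
    · intro h0
      rw [h0] at hc
      exact Bool.noConfusion hc
    · intro h0
      rw [h0] at hb
      exact Bool.noConfusion hb
    · funext r
      have := (hrows r.val r.2)
      rw [Bool.and_eq_true, beqF_iff, beqF_iff] at this
      rw [mulVec4]
      exact this.1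
    · funext r
      have := (hrows r.val r.2)
      rw [Bool.and_eq_true, beqF_iff, beqF_iff] at this
      rw [mulVec4]
      exact this.2

/-! ### Normal forms of the table entries -/

/-- the position of the first nonzero coordinate -/
def piv (x : Fin 4 → F4) : Fin 4 :=
  if x 0 ≠ 0 then 0 else if x 1 ≠ 0 then 1 else if x 2 ≠ 0 then 2 else 3

theorem piv_smul {x y : Fin 4 → F4} {c : F4} (hc : c ≠ 0) (h : x = c • y) : piv x = piv y := by
  have e : ∀ r, x r ≠ 0 ↔ y r ≠ 0 := by
    intro r
    rw [h, Pi.smul_apply, smul_eq_mul]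
    constructor
    · intro hh h0
      rw [h0, mul_zero] at hh
      exact hh rfl
    · intro hh
      exact mul_ne_zero hc hh
  unfold piv
  simp only [e]

theorem eq_of_smul_norm {x y : Fin 4 → F4} {c : F4} (hc : c ≠ 0) (h : x = c • y)
    (hx : x (piv x) = 1) (hy : y (piv y) = 1) : x = y := by
  have hp := piv_smul hc h
  have h1 : x (piv y) = c * y (piv y) := by rw [h]; rfl
  rw [← hp, hx, hp, hy, mul_one] at h1
  rw [h, ← h1, one_smul]

/-- a matrix fixing the points of the standard frame is scalar -/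
theorem scalar_of_frame4 (M : Mat4) (lam : Fin 4 → F4) (l5 : F4)
    (hk : ∀ k, M *ᵥ (fun p => (1 : Mat4) p k) = lam k • (fun p => (1 : Mat4) p k))
    (h5 : M *ᵥ (fun _ => 1) = l5 • (fun _ => (1 : F4))) : M = l5 • (1 : Mat4) := by
  have hMd : ∀ p k, M p k = if p = k then lam k else 0 := by
    intro p k
    have := congrFun (hk k) p
    simp only [Matrix.mulVec, dotProduct, Pi.smul_apply, smul_eq_mul, Matrix.one_apply] at this
    rw [Finset.sum_eq_single k] at this
    · simpa [eq_comm] using this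
    · intro b _ hb
      simp [hb]
    · intro hk'
      exact absurd (Finset.mem_univ k) hk'
  have hl : ∀ k, lam k = l5 := by
    intro k
    have := congrFun h5 k
    simp only [Matrix.mulVec, dotProduct, Pi.smul_apply, smul_eq_mul, mul_one] at this
    rw [Finset.sum_eq_single k] at this
    · rw [hMd k k, if_pos rfl] at this
      exact this
    · intro b _ hb
      rw [hMd k b, if_neg (Ne.symm hb)]
    · intro hk'
      exact absurd (Finset.mem_univ k) hk'
  ext p k
  rw [hMd p k, Matrix.smul_apply, Matrix.one_apply, smul_eq_mul]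
  by_cases hpk : p = k
  · rw [if_pos hpk, if_pos hpk, mul_one, hl]
  · rw [if_neg hpk, if_neg hpk, mul_zero]

end Cfsg.Agent.Lib.Helper21.He
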