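import Mathlib
import Cfsg.Agent.Lib.Helper21.HeSp1
import Cfsg.Agent.Lib.Helper21.HeData1

/-! Kernel checks for the identification of the point stabiliser of the Held group with Sp4(4). -/

set_option Elab.async false

namespace Cfsg.Agent.Lib.Helper21.He
open Cfsg.Agent.Lib.Helper18.SS Matrix

/-- the checks for one entry -/
noncomputable def entOK (e : NEnt) : Bool :=
  Bool.rec (Nat.beq e.cs e.cg) (mulOKf 12 2058 e.cs e.cg cT) e.viaT &&
  mulOKf 12 2058 e.cx cT e.cs && mulOKf 12 2058 e.cs' e.cx cT &&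
  invOKf 12 2058 e.cs e.csi && invOKf 12 2058 e.cs' e.csi' &&
  spOK e.cM && spOK e.cM' &&
  loopAll 2058 (rowF e.cM e.cs e.cert) && loopAll 2058 (rowF e.cM' e.cs' e.cert') &&
  Nat.beq (lkf 12 2058 e.cs 0) 0 && Nat.beq (lkf 12 2058 e.cs' 0) 0

theorem chk_ent : entL.all entOK = true := by decide +kernel
theorem chk_cg : entL.map (fun e => e.cg) = lvl2.P.map (fun p => p.1) := by decide +kernel
theorem chk_T : invOKf 12 2058 cT cT = true := by decide +kernel
theorem chk_Tmem : cT = g4_1 := by decide +kernel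
theorem chk_T0 : lkf 12 2058 cT 0 = 0 := by decide +kernel

theorem chk_frame : (∀ k : Fin 4, okT (frI k.val) = true ∧
    vT (frI k.val) = fun p => (1 : Mat4) p k) ∧ okT (frI 4) = true ∧ vT (frI 4) = fun _ => 1 := by
  decide +kernel

/-- the normal form of a table row -/
noncomputable def nfQ (i : ℕ) : Bool :=
  Bool.rec true (beqF (vT i (piv (vT i))) 1 && beqF (uT i (piv (vT i))) 0 &&
    beqF (uT i (piv (uT i))) 1) (okT i)

theorem chk_nf : loopAll 2058 nfQ = true := by decide +kernel

/-- equality of two table rows -/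
def eq8 (i j : ℕ) : Bool :=
  beqF (tE tblV i 0) (tE tblV j 0) && beqF (tE tblV i 1) (tE tblV j 1) &&
  beqF (tE tblV i 2) (tE tblV j 2) && beqF (tE tblV i 3) (tE tblV j 3) &&
  beqF (tE tblU i 0) (tE tblU j 0) && beqF (tE tblU i 1) (tE tblU j 1) &&
  beqF (tE tblU i 2) (tE tblU j 2) && beqF (tE tblU i 3) (tE tblU j 3)

/-- distinct flags at distinct rows -/
noncomputable def sepQ (i : ℕ) : Bool :=
  Bool.rec true (loopAll 2058 (fun j => Nat.beq i j || !(okT j) || !(eq8 i j))) (okT i)

theorem chk_sep : loopAll 2058 sepQ = true := by decide +kernel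

theorem chk_base : okT 8 = true ∧ okT 10 = true ∧ okT 15 = true ∧ okT 0 = false := by
  decide +kernel

end Cfsg.Agent.Lib.Helper21.He
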