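import Mathlib
import Cfsg.Agent.Lib.Helper21.HeMain
import Cfsg.Agent.Lib.Helper21.HeSpChk
import Cfsg.Agent.Lib.Helper27.SympOrder

/-!
# The point stabiliser of the Held group on 2058 points contains `Sp4(4)` with index two
-/

namespace Cfsg.Agent.Lib.Helper21.He
open Cfsg.Agent.Lib.Helper18.SS Matrix
open Cfsg.Agent.Lib.Helper21.J3U (matOf)

/-- the permutation with a given code -/
noncomputable abbrev pm (c : ℕ) : P := toPerm 12 2058 c

/-! ### The involution `t` -/

theorem vT_valid : Valid 12 2058 cT := (valid_inv (invOKf_sound chk_T)).1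

theorem tau_inv : (pm cT)⁻¹ = pm cT := ((valid_inv (invOKf_sound chk_T)).2.2).symm

theorem tau_sq : pm cT * pm cT = 1 := by
  have := tau_inv
  calc pm cT * pm cT = (pm cT)⁻¹ * pm cT := by rw [this]
    _ = 1 := inv_mul_cancel _

theorem ofNat_zero_val (σ : P) (c : ℕ) (hv : Valid 12 2058 c) (h : σ = pm c)
    (h0 : lkf 12 2058 c 0 = 0) : σ 0 = 0 := by
  apply Fin.ext
  rw [h]
  show ((toPerm 12 2058 c (0 : Fin 2058) : Fin 2058) : ℕ) = 0
  rw [toPerm_val hv, ← lkf_eq]
  exact h0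

/-! ### Facts about the entries -/

theorem P2_mem_H {p : ℕ × ℕ} (hp : p ∈ lvl2.P) : pm p.1 ∈ H := by
  apply Subgroup.subset_closure
  show toPerm 12 2058 p.1 ∈ gensOf (absC2 12 2058 chainR)
  rw [gensOf_abs2 main.1.2]
  exact List.mem_map.mpr ⟨p, hp, rfl⟩

theorem cg_mem {e : NEnt} (he : e ∈ entL) : ∃ p ∈ lvl2.P, p.1 = e.cg := by
  have h1 : e.cg ∈ entL.map (fun e => e.cg) := List.mem_map.mpr ⟨e, he, rfl⟩
  rw [chk_cg, List.mem_map] at h1
  exact h1

theorem tau_mem_H : pm cT ∈ H := by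
  have h : (g4_1, g4_1i) ∈ lvl2.P := by decide +kernel
  have := P2_mem_H h
  rw [chk_Tmem]
  exact this

theorem H_fix0 {h : P} (hh : h ∈ H) : h 0 = 0 := by
  have := H_fix hh
  rw [b1_eq] at this
  exact this

structure EFacts (e : NEnt) : Prop where
  vs : Valid 12 2058 e.cs
  vs' : Valid 12 2058 e.cs'
  rel : pm e.cs = pm e.cg ∨ pm e.cs = pm e.cg * pm cT
  conj : pm e.cs' = pm cT * pm e.cs * pm cT
  sp : spOK e.cM = true
  sp' : spOK e.cM' = true
  cp : Compat (matOf 4 4 e.cM) (pm e.cs)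
  cp' : Compat (matOf 4 4 e.cM') (pm e.cs')

theorem efacts {e : NEnt} (he : e ∈ entL) : EFacts e := by
  have h := List.all_eq_true.mp chk_ent e he
  unfold entOK at h
  simp only [Bool.and_eq_true] at h
  obtain ⟨⟨⟨⟨⟨⟨⟨⟨⟨⟨h1, h2⟩, h3⟩, h4⟩, h5⟩, h6⟩, h7⟩, h8⟩, h9⟩, _⟩, _⟩ := h
  obtain ⟨p, hp, hpe⟩ := cg_mem he
  have vg : Valid 12 2058 e.cg := by
    rw [← hpe]
    exact (lf2.pairs p hp).1
  have vs := (valid_inv (invOKf_sound h4)).1
  have vs' := (valid_inv (invOKf_sound h5)).1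
  have hx := valid_mul vT_valid vs (mulOKf_sound h2)
  have hs' := valid_mul hx.1 vT_valid (mulOKf_sound h3)
  refine ⟨vs, vs', ?_, ?_, h6, h7, compat_of_rows e.cert vs h8, compat_of_rows e.cert' vs' h9⟩
  · cases hv : e.viaT with
    | false =>
      rw [hv] at h1
      left
      have : e.cs = e.cg := Nat.eq_of_beq_eq_true h1
      rw [this]
    | true =>
      rw [hv] at h1
      right
      exact (valid_mul vg vT_valid (mulOKf_sound h1)).2
  · have h := hs'.2
    rw [hx.2] at h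
    exact h

theorem efix {e : NEnt} (he : e ∈ entL) : pm e.cs 0 = 0 ∧ pm e.cs' 0 = 0 := by
  have h := List.all_eq_true.mp chk_ent e he
  unfold entOK at h
  simp only [Bool.and_eq_true] at h
  obtain ⟨⟨_, h10⟩, h11⟩ := h
  have f := efacts he
  exact ⟨ofNat_zero_val _ _ f.vs rfl (Nat.eq_of_beq_eq_true h10),
    ofNat_zero_val _ _ f.vs' rfl (Nat.eq_of_beq_eq_true h11)⟩

theorem cg_mem_H {e : NEnt} (he : e ∈ entL) : pm e.cg ∈ H := by
  obtain ⟨p, hp, hpe⟩ := cg_mem he
  rw [← hpe]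
  exact P2_mem_H hp

theorem cs_mem_H {e : NEnt} (he : e ∈ entL) : pm e.cs ∈ H ∧ pm e.cs' ∈ H := by
  have f := efacts he
  have h1 : pm e.cs ∈ H := by
    rcases f.rel with h | h
    · rw [h]; exact cg_mem_H he
    · rw [h]; exact H.mul_mem (cg_mem_H he) tau_mem_H
  refine ⟨h1, ?_⟩
  rw [f.conj]
  exact H.mul_mem (H.mul_mem tau_mem_H h1) tau_mem_H

/-! ### The groups `T0` and `N0` -/

/-- the generating pairs -/
def gensT : Set (S4 × P) :=
  {g | ∃ e ∈ entL, g = (spOf e.cM, pm e.cs) ∨ g = (spOf e.cM', pm e.cs')}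

/-- the generating permutations -/
def Nset : Set P := {σ | ∃ e ∈ entL, σ = pm e.cs ∨ σ = pm e.cs'}

noncomputable def T0 : Subgroup (S4 × P) := Subgroup.closure gensT
noncomputable def N0 : Subgroup P := Subgroup.closure Nset

theorem T0_le : T0 ≤ Tbig := by
  rw [T0, Subgroup.closure_le]
  rintro g ⟨e, he, rfl | rfl⟩
  · show Compat (mat4 (spOf e.cM)) (pm e.cs)
    rw [mat4_spOf (efacts he).sp]
    exact (efacts he).cp
  · show Compat (mat4 (spOf e.cM')) (pm e.cs')
    rw [mat4_spOf (efacts he).sp']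
    exact (efacts he).cp'

theorem T0_snd : T0.map (MonoidHom.snd S4 P) = N0 := by
  rw [T0, MonoidHom.map_closure, N0]
  congr 1
  ext σ
  constructor
  · rintro ⟨g, ⟨e, he, rfl | rfl⟩, rfl⟩
    · exact ⟨e, he, Or.inl rfl⟩
    · exact ⟨e, he, Or.inr rfl⟩
  · rintro ⟨e, he, rfl | rfl⟩
    · exact ⟨_, ⟨e, he, Or.inl rfl⟩, rfl⟩
    · exact ⟨_, ⟨e, he, Or.inr rfl⟩, rfl⟩

theorem N0_le_H : N0 ≤ H := by
  rw [N0, Subgroup.closure_le]
  rintro σ ⟨e, he, rfl | rfl⟩
  · exact (cs_mem_H he).1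
  · exact (cs_mem_H he).2

theorem N0_le_G : N0 ≤ G := N0_le_H.trans H_le

theorem N0_fix {σ : P} (h : σ ∈ N0) : σ 0 = 0 := H_fix0 (N0_le_H h)

theorem N0_conj {σ : P} (h : σ ∈ N0) : pm cT * σ * pm cT ∈ N0 := by
  have hle : N0 ≤ N0.comap ((MulAut.conj (pm cT)).toMonoidHom) := by
    rw [N0, Subgroup.closure_le]
    rintro σ ⟨e, he, rfl | rfl⟩
    · show (MulAut.conj (pm cT)) (pm e.cs) ∈ Subgroup.closure Nset
      rw [MulAut.conj_apply, tau_inv, ← (efacts he).conj]
      exact Subgroup.subset_closure ⟨e, he, Or.inr rfl⟩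
    · show (MulAut.conj (pm cT)) (pm e.cs') ∈ Subgroup.closure Nset
      rw [MulAut.conj_apply, tau_inv, (efacts he).conj]
      have : pm cT * (pm cT * pm e.cs * pm cT) * pm cT = pm e.cs := by
        calc pm cT * (pm cT * pm e.cs * pm cT) * pm cT
            = (pm cT * pm cT) * pm e.cs * (pm cT * pm cT) := by group
          _ = pm e.cs := by rw [tau_sq, one_mul, mul_one]
      rw [this]
      exact Subgroup.subset_closure ⟨e, he, Or.inl rfl⟩
  have := hle h
  rw [Subgroup.mem_comap] at this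
  have e : (MulAut.conj (pm cT)).toMonoidHom σ = pm cT * σ * pm cT := by
    show (MulAut.conj (pm cT)) σ = _
    rw [MulAut.conj_apply, tau_inv]
  rw [e] at this
  exact this

/-- the subgroup generated by `N0` and `t` -/
noncomputable def U : Subgroup P where
  carrier := {g | g ∈ N0 ∨ g * pm cT ∈ N0}
  mul_mem' := by
    rintro a b (ha | ha) (hb | hb)
    · exact Or.inl (N0.mul_mem ha hb)
    · right
      rw [mul_assoc]
      exact N0.mul_mem ha hb
    · right
      have : a * b * pm cT = (a * pm cT) * (pm cT * b * pm cT) := by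
        calc a * b * pm cT = a * (pm cT * pm cT) * b * pm cT := by rw [tau_sq, mul_one]
          _ = (a * pm cT) * (pm cT * b * pm cT) := by group
      rw [this]
      exact N0.mul_mem ha (N0_conj hb)
    · left
      have : a * b = (a * pm cT) * (pm cT * (b * pm cT) * pm cT) := by
        calc a * b = a * (pm cT * pm cT) * b * (pm cT * pm cT) := by
              rw [tau_sq, mul_one, mul_one]
          _ = (a * pm cT) * (pm cT * (b * pm cT) * pm cT) := by group
      rw [this]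
      exact N0.mul_mem ha (N0_conj hb)
  one_mem' := Or.inl N0.one_mem
  inv_mem' := by
    rintro a (ha | ha)
    · exact Or.inl (N0.inv_mem ha)
    · right
      have h1 : pm cT * a⁻¹ ∈ N0 := by
        have := N0.inv_mem ha
        rw [_root_.mul_inv_rev, tau_inv] at this
        exact this
      have h2 := N0_conj h1
      have : pm cT * (pm cT * a⁻¹) * pm cT = a⁻¹ * pm cT := by
        calc pm cT * (pm cT * a⁻¹) * pm cT = (pm cT * pm cT) * a⁻¹ * pm cT := by group
          _ = a⁻¹ * pm cT := by rw [tau_sq, one_mul]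
      rw [this] at h2
      exact h2

theorem H_le_U : H ≤ U := by
  show grp (absC2 12 2058 chainR) ≤ U
  rw [grp, Subgroup.closure_le]
  intro g hg
  have hg' : g ∈ gensOf (absC2 12 2058 chainR) := hg
  rw [gensOf_abs2 main.1.2, List.mem_map] at hg'
  obtain ⟨p, hp, rfl⟩ := hg'
  have h1 : p.1 ∈ lvl2.P.map (fun p => p.1) := List.mem_map.mpr ⟨p, hp, rfl⟩
  rw [← chk_cg, List.mem_map] at h1
  obtain ⟨e, he, hep⟩ := h1
  have hmem : pm e.cs ∈ N0 := Subgroup.subset_closure ⟨e, he, Or.inl rfl⟩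
  show pm p.1 ∈ N0 ∨ pm p.1 * pm cT ∈ N0
  rw [← hep]
  rcases (efacts he).rel with h | h
  · left; rw [← h]; exact hmem
  · right; rw [← h]; exact hmem

theorem card_U_le : Nat.card U ≤ 2 * Nat.card N0 := by
  classical
  have hsub : (U : Set P) ⊆ (N0 : Set P) ∪ (fun n => n * pm cT) '' (N0 : Set P) := by
    rintro g (hg | hg)
    · exact Or.inl hg
    · right
      refine ⟨g * pm cT, hg, ?_⟩
      show g * pm cT * pm cT = g
      rw [mul_assoc, tau_sq, mul_one]
  have h1 : Nat.card U = (U : Set P).ncard := Nat.card_coe_set_eq _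
  have h2 : Nat.card N0 = (N0 : Set P).ncard := Nat.card_coe_set_eq _
  have h3 := Set.ncard_le_ncard hsub (Set.toFinite _)
  have h4 := Set.ncard_union_le (N0 : Set P) ((fun n => n * pm cT) '' (N0 : Set P))
  have h5 := Set.ncard_image_le (f := fun n => n * pm cT) (Set.toFinite (N0 : Set P))
  rw [h1, h2]
  omega

theorem card_H : Nat.card H = 1958400 := by
  show Nat.card (grp (absC2 12 2058 chainR)) = 1958400
  rw [card_grp goodR, abs_lengths, chk_cardR]

/-! ### The two projections of `T0` are injective -/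

noncomputable def fstT : ↥T0 →* S4 := (MonoidHom.fst S4 P).comp T0.subtype
noncomputable def sndT : ↥T0 →* P := (MonoidHom.snd S4 P).comp T0.subtype

theorem sndT_range : sndT.range = N0 := by
  rw [← T0_snd]
  ext σ
  rw [MonoidHom.mem_range, Subgroup.mem_map]
  constructor
  · rintro ⟨t, rfl⟩
    exact ⟨t.1, t.2, rfl⟩
  · rintro ⟨t, ht, rfl⟩
    exact ⟨⟨t, ht⟩, rfl⟩

theorem frI_lt : ∀ k, frI k < 2058 := by
  intro k
  unfold frI
  split <;> omega

theorem scalar_of_compat {M : Mat4} (h : Compat M 1) : ∃ c : F4, M = c • (1 : Mat4) := by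
  have hk : ∀ k : Fin 4, ∃ c : F4, M *ᵥ (fun p => (1 : Mat4) p k)
      = c • (fun p => (1 : Mat4) p k) := by
    intro k
    obtain ⟨hok, hv⟩ := chk_frame.1 k
    obtain ⟨c, a, b, _, _, h1, _⟩ := (h ⟨frI k.val, frI_lt _⟩).2 hok
    refine ⟨c, ?_⟩
    have e : ((1 : P) ⟨frI k.val, frI_lt _⟩ : Fin 2058).val = frI k.val := rfl
    rw [e, hv] at h1
    exact h1
  choose lam hlam using hk
  obtain ⟨hok, hv⟩ := chk_frame.2
  obtain ⟨c, a, b, _, _, h1, _⟩ := (h ⟨frI 4, frI_lt _⟩).2 hok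
  have e : ((1 : P) ⟨frI 4, frI_lt _⟩ : Fin 2058).val = frI 4 := rfl
  rw [e, hv] at h1
  exact ⟨c, scalar_of_frame4 M lam c hlam h1⟩

theorem sndT_inj : Function.Injective sndT := by
  rw [injective_iff_map_eq_one]
  intro t ht
  have h2 : t.1.2 = 1 := ht
  have hc : Compat (mat4 t.1.1) t.1.2 := T0_le t.2
  rw [h2] at hc
  obtain ⟨c, hc'⟩ := scalar_of_compat hc
  apply Subtype.ext
  apply Prod.ext
  · exact eq_one_of_scalar hc'
  · exact h2

theorem nf_facts {i : ℕ} (hi : i < 2058) (hok : okT i = true) :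
    vT i (piv (vT i)) = 1 ∧ uT i (piv (vT i)) = 0 ∧ uT i (piv (uT i)) = 1 := by
  have h := (loopAll_iff.mp chk_nf) i hi
  rw [nfQ, hok] at h
  simp only [Bool.and_eq_true, beqF_iff] at h
  exact ⟨h.1.1, h.1.2, h.2⟩

theorem fix_of_compat {σ : P} (h : Compat 1 σ) (i : Fin 2058) (hok : okT i.val = true) :
    σ i = i := by
  obtain ⟨e1, f1⟩ := h i
  obtain ⟨c, a, b, hc, hb, hv, hu⟩ := f1 hok
  rw [Matrix.one_mulVec] at hv hu
  have hok' : okT (σ i).val = true := e1 ▸ hok
  obtain ⟨n1, n2, n3⟩ := nf_facts i.2 hok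
  obtain ⟨m1, m2, m3⟩ := nf_facts (σ i).2 hok'
  have ev : vT i.val = vT (σ i).val := eq_of_smul_norm hc hv n1 m1
  have ha : a = 0 := by
    have := congrFun hu (piv (vT i.val))
    rw [n2] at this
    simp only [Pi.add_apply, Pi.smul_apply, smul_eq_mul] at this
    rw [← ev, n1, ev, m2, mul_one, mul_zero, add_zero] at this
    exact this.symm
  rw [ha, zero_smul, zero_add] at hu
  have eu : uT i.val = uT (σ i).val := eq_of_smul_norm hb hu n3 m3
  have hs := (loopAll_iff.mp chk_sep) i.val i.2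
  rw [sepQ, hok] at hs
  have hs2 := (loopAll_iff.mp hs) (σ i).val (σ i).2
  have e8 : eq8 i.val (σ i).val = true := by
    unfold eq8
    simp only [Bool.and_eq_true, beqF_iff]
    have v := fun r : Fin 4 => congrFun ev r
    have u := fun r : Fin 4 => congrFun eu r
    exact ⟨⟨⟨⟨⟨⟨⟨v 0, v 1⟩, v 2⟩, v 3⟩, u 0⟩, u 1⟩, u 2⟩, u 3⟩
  rw [hok', e8] at hs2
  simp only [Bool.not_true, Bool.or_false] at hs2
  apply Fin.ext
  exact (Nat.eq_of_beq_eq_true hs2).symm

theorem fstT_inj : Function.Injective fstT := by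
  rw [injective_iff_map_eq_one]
  intro t ht
  have h1 : t.1.1 = 1 := ht
  have hc : Compat (mat4 t.1.1) t.1.2 := T0_le t.2
  rw [h1, mat4_one] at hc
  have hN : t.1.2 ∈ N0 := by
    rw [← T0_snd]
    exact Subgroup.mem_map_of_mem _ t.2
  have hK : t.1.2 ∈ K := G_le_K (N0_le_G hN)
  have hF : FixesL 2058 t.1.2 allB := by
    intro f hf hlt
    have hf' : f ∈ [0, 8, 10, 15] := hf
    simp only [List.mem_cons, List.not_mem_nil, or_false] at hf'
    rcases hf' with rfl | rfl | rfl | rfl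
    · exact N0_fix hN
    · exact fix_of_compat hc ⟨8, hlt⟩ chk_base.1
    · exact fix_of_compat hc ⟨10, hlt⟩ chk_base.2.1
    · exact fix_of_compat hc ⟨15, hlt⟩ chk_base.2.2.1
  apply Subtype.ext
  apply Prod.ext
  · exact h1
  · exact hdet _ hK hF

/-! ### Orders and the isomorphism -/

theorem card_S4 : Nat.card S4 = 979200 := by
  have := Cfsg.Agent.Lib.Helper27.SympTransv.card_symplecticGroup (F := F4) (q := 4) F4.card_eq 2
  rw [this]
  decide

theorem card_N0_T0 : Nat.card N0 = Nat.card ↥T0 := by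
  rw [← sndT_range]
  exact (Nat.card_congr (MonoidHom.ofInjective sndT_inj).toEquiv).symm

theorem card_T0_range : Nat.card ↥T0 = Nat.card ↥fstT.range :=
  Nat.card_congr (MonoidHom.ofInjective fstT_inj).toEquiv

theorem card_N0 : Nat.card N0 = 979200 := by
  have h1 : Nat.card ↥fstT.range ≤ Nat.card S4 := Subgroup.card_le_card_group _
  have h2 := Subgroup.card_le_of_le H_le_U
  have h3 := card_U_le
  rw [card_H] at h2
  rw [card_S4] at h1
  rw [← card_T0_range, ← card_N0_T0] at h1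
  omega

theorem fstT_top : fstT.range = ⊤ := by
  apply Subgroup.eq_top_of_card_eq
  rw [← card_T0_range, ← card_N0_T0, card_N0, card_S4]

/-- the index two subgroup of the stabiliser is isomorphic to `Sp4(4)` -/
noncomputable def isoN0 : ↥N0 ≃* S4 :=
  ((MulEquiv.subgroupCongr sndT_range).symm.trans (MonoidHom.ofInjective sndT_inj).symm).trans
    ((MonoidHom.ofInjective fstT_inj).trans
      ((MulEquiv.subgroupCongr fstT_top).trans Subgroup.topEquiv))

end Cfsg.Agent.Lib.Helper21.He
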