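import Mathlib
import Cfsg.Agent.Lib.Helper21.HeSp2

/-!
# The Held group on 2058 points: the index two subgroup of the point stabiliser
-/

namespace Cfsg.Agent.Lib.Helper21.He
open Cfsg.Agent.Lib.Helper18.SS Matrix

/-- `N0` as a subgroup of `G` -/
noncomputable def N1 : Subgroup ↥G := N0.subgroupOf G

theorem N1_le : N1 ≤ MulAction.stabilizer ↥G (0 : Fin 2058) := by
  intro g hg
  rw [MulAction.mem_stabilizer_iff]
  have h : (g : P) ∈ N0 := Subgroup.mem_subgroupOf.mp hg
  exact N0_fix h

/-- `N0` as a subgroup of the point stabiliser -/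
noncomputable def N2 : Subgroup ↥(MulAction.stabilizer ↥G (0 : Fin 2058)) :=
  N1.subgroupOf (MulAction.stabilizer ↥G (0 : Fin 2058))

noncomputable def isoN2 : ↥N2 ≃* S4 :=
  (Subgroup.subgroupOfEquivOfLe N1_le).trans ((Subgroup.subgroupOfEquivOfLe N0_le_G).trans isoN0)

theorem index_N2 : N2.index = 2 := by
  have h1 := Subgroup.card_mul_index N2
  rw [card_stab, Nat.card_congr isoN2.toEquiv, card_S4] at h1
  omega

end Cfsg.Agent.Lib.Helper21.He
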