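import Mathlib
import Cfsg.Agent.Lib.Helper21.J3Data1

/-! Kernel checks for the J3 certificate: levels 2 and 3. -/

set_option Elab.async false

namespace Cfsg.Agent.Lib.Helper21.J3
open Cfsg.Agent.Lib.Helper18.SS

theorem chk_l1a : lvlOK2a 13 6156 [] lvl1 chainR = true := by decide +kernel
theorem chk_l2a : lvlOK2a 13 6156 [0] lvl2 chainT = true := by decide +kernel
theorem s2_h1 : loopAll 6156 (schQ 13 6156 lvl2 chainT h1) = true := by decide +kernel
theorem s2_h2 : loopAll 6156 (schQ 13 6156 lvl2 chainT h2) = true := by decide +kernel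
theorem s2_h1i : loopAll 6156 (schQ 13 6156 lvl2 chainT h1i) = true := by decide +kernel
theorem s2_h2i : loopAll 6156 (schQ 13 6156 lvl2 chainT h2i) = true := by decide +kernel
theorem s2_k1 : loopAll 6156 (schQ 13 6156 lvl2 chainT k1) = true := by decide +kernel
theorem s2_k2 : loopAll 6156 (schQ 13 6156 lvl2 chainT k2) = true := by decide +kernel
theorem chk_chainT : chainOK2 13 6156 [0, 1] chainT = true := by decide +kernel

end Cfsg.Agent.Lib.Helper21.J3
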