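import Mathlib
import Cfsg.Agent.Lib.Helper21.J3Sch1_1
import Cfsg.Agent.Lib.Helper21.J3Sch1_2
import Cfsg.Agent.Lib.Helper21.J3Sch1_3
import Cfsg.Agent.Lib.Helper21.J3Sch1_4
import Cfsg.Agent.Lib.Helper21.J3Sch2

/-! The stabiliser chain check for J3 (assembly of the pieces). -/

set_option Elab.async false

namespace Cfsg.Agent.Lib.Helper21.J3
open Cfsg.Agent.Lib.Helper18.SS

theorem sch1_cA : loopAll 6156 (schQ 13 6156 lvl1 chainR cA) = true := by
  rw [loopAll_iff]
  intro y hy
  rcases Nat.lt_or_ge y 1539 with h0 | h0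
  · exact range_piece s1_cA_0 y (by omega) (by omega)
  rcases Nat.lt_or_ge y 3078 with h1 | h1
  · exact range_piece s1_cA_1 y (by omega) (by omega)
  rcases Nat.lt_or_ge y 4617 with h2 | h2
  · exact range_piece s1_cA_2 y (by omega) (by omega)
  exact range_piece s1_cA_3 y (by omega) (by omega)
theorem sch1_cB : loopAll 6156 (schQ 13 6156 lvl1 chainR cB) = true := by
  rw [loopAll_iff]
  intro y hy
  rcases Nat.lt_or_ge y 1539 with h0 | h0
  · exact range_piece s1_cB_0 y (by omega) (by omega)
  rcases Nat.lt_or_ge y 3078 with h1 | h1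
  · exact range_piece s1_cB_1 y (by omega) (by omega)
  rcases Nat.lt_or_ge y 4617 with h2 | h2
  · exact range_piece s1_cB_2 y (by omega) (by omega)
  exact range_piece s1_cB_3 y (by omega) (by omega)
theorem sch1_cAi : loopAll 6156 (schQ 13 6156 lvl1 chainR cAi) = true := by
  rw [loopAll_iff]
  intro y hy
  rcases Nat.lt_or_ge y 1539 with h0 | h0
  · exact range_piece s1_cAi_0 y (by omega) (by omega)
  rcases Nat.lt_or_ge y 3078 with h1 | h1
  · exact range_piece s1_cAi_1 y (by omega) (by omega)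
  rcases Nat.lt_or_ge y 4617 with h2 | h2
  · exact range_piece s1_cAi_2 y (by omega) (by omega)
  exact range_piece s1_cAi_3 y (by omega) (by omega)
theorem sch1_cBi : loopAll 6156 (schQ 13 6156 lvl1 chainR cBi) = true := by
  rw [loopAll_iff]
  intro y hy
  rcases Nat.lt_or_ge y 1539 with h0 | h0
  · exact range_piece s1_cBi_0 y (by omega) (by omega)
  rcases Nat.lt_or_ge y 3078 with h1 | h1
  · exact range_piece s1_cBi_1 y (by omega) (by omega)
  rcases Nat.lt_or_ge y 4617 with h2 | h2
  · exact range_piece s1_cBi_2 y (by omega) (by omega)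
  exact range_piece s1_cBi_3 y (by omega) (by omega)
theorem sch1_h1 : loopAll 6156 (schQ 13 6156 lvl1 chainR h1) = true := by
  rw [loopAll_iff]
  intro y hy
  rcases Nat.lt_or_ge y 1539 with h0 | h0
  · exact range_piece s1_h1_0 y (by omega) (by omega)
  rcases Nat.lt_or_ge y 3078 with h1 | h1
  · exact range_piece s1_h1_1 y (by omega) (by omega)
  rcases Nat.lt_or_ge y 4617 with h2 | h2
  · exact range_piece s1_h1_2 y (by omega) (by omega)
  exact range_piece s1_h1_3 y (by omega) (by omega)
theorem sch1_h2 : loopAll 6156 (schQ 13 6156 lvl1 chainR h2) = true := by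
  rw [loopAll_iff]
  intro y hy
  rcases Nat.lt_or_ge y 1539 with h0 | h0
  · exact range_piece s1_h2_0 y (by omega) (by omega)
  rcases Nat.lt_or_ge y 3078 with h1 | h1
  · exact range_piece s1_h2_1 y (by omega) (by omega)
  rcases Nat.lt_or_ge y 4617 with h2 | h2
  · exact range_piece s1_h2_2 y (by omega) (by omega)
  exact range_piece s1_h2_3 y (by omega) (by omega)
theorem sch1_h1i : loopAll 6156 (schQ 13 6156 lvl1 chainR h1i) = true := by
  rw [loopAll_iff]
  intro y hy
  rcases Nat.lt_or_ge y 1539 with h0 | h0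
  · exact range_piece s1_h1i_0 y (by omega) (by omega)
  rcases Nat.lt_or_ge y 3078 with h1 | h1
  · exact range_piece s1_h1i_1 y (by omega) (by omega)
  rcases Nat.lt_or_ge y 4617 with h2 | h2
  · exact range_piece s1_h1i_2 y (by omega) (by omega)
  exact range_piece s1_h1i_3 y (by omega) (by omega)
theorem sch1_h2i : loopAll 6156 (schQ 13 6156 lvl1 chainR h2i) = true := by
  rw [loopAll_iff]
  intro y hy
  rcases Nat.lt_or_ge y 1539 with h0 | h0
  · exact range_piece s1_h2i_0 y (by omega) (by omega)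
  rcases Nat.lt_or_ge y 3078 with h1 | h1
  · exact range_piece s1_h2i_1 y (by omega) (by omega)
  rcases Nat.lt_or_ge y 4617 with h2 | h2
  · exact range_piece s1_h2i_2 y (by omega) (by omega)
  exact range_piece s1_h2i_3 y (by omega) (by omega)
theorem sch1_k1 : loopAll 6156 (schQ 13 6156 lvl1 chainR k1) = true := by
  rw [loopAll_iff]
  intro y hy
  rcases Nat.lt_or_ge y 1539 with h0 | h0
  · exact range_piece s1_k1_0 y (by omega) (by omega)
  rcases Nat.lt_or_ge y 3078 with h1 | h1
  · exact range_piece s1_k1_1 y (by omega) (by omega)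
  rcases Nat.lt_or_ge y 4617 with h2 | h2
  · exact range_piece s1_k1_2 y (by omega) (by omega)
  exact range_piece s1_k1_3 y (by omega) (by omega)
theorem sch1_k2 : loopAll 6156 (schQ 13 6156 lvl1 chainR k2) = true := by
  rw [loopAll_iff]
  intro y hy
  rcases Nat.lt_or_ge y 1539 with h0 | h0
  · exact range_piece s1_k2_0 y (by omega) (by omega)
  rcases Nat.lt_or_ge y 3078 with h1 | h1
  · exact range_piece s1_k2_1 y (by omega) (by omega)
  rcases Nat.lt_or_ge y 4617 with h2 | h2
  · exact range_piece s1_k2_2 y (by omega) (by omega)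
  exact range_piece s1_k2_3 y (by omega) (by omega)
theorem chk_l1 : lvlOK2 13 6156 [] lvl1 chainR = true := by
  rw [lvlOK2, chk_l1a, Bool.true_and, List.all_eq_true]
  intro p hp
  have hp' : p ∈ [(cA, cAi), (cB, cBi), (cAi, cA), (cBi, cB), (h1, h1i), (h2, h2i), (h1i, h1), (h2i, h2), (k1, k1i), (k2, k2i)] := hp
  simp only [List.mem_cons, List.not_mem_nil, or_false] at hp'
  rcases hp' with rfl | rfl | rfl | rfl | rfl | rfl | rfl | rfl | rfl | rfl
  · exact sch1_cA
  · exact sch1_cB
  · exact sch1_cAi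
  · exact sch1_cBi
  · exact sch1_h1
  · exact sch1_h2
  · exact sch1_h1i
  · exact sch1_h2i
  · exact sch1_k1
  · exact sch1_k2
theorem chk_l2 : lvlOK2 13 6156 [0] lvl2 chainT = true := by
  rw [lvlOK2, chk_l2a, Bool.true_and, List.all_eq_true]
  intro p hp
  have hp' : p ∈ [(h1, h1i), (h2, h2i), (h1i, h1), (h2i, h2), (k1, k1i), (k2, k2i)] := hp
  simp only [List.mem_cons, List.not_mem_nil, or_false] at hp'
  rcases hp' with rfl | rfl | rfl | rfl | rfl | rfl
  · exact s2_h1
  · exact s2_h2
  · exact s2_h1i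
  · exact s2_h2i
  · exact s2_k1
  · exact s2_k2
theorem chk_chainR : chainOK2 13 6156 [0] chainR = true := by
  show (chainOK2 13 6156 [0, 1] chainT && lvlOK2 13 6156 [0] lvl2 chainT) = true
  rw [chk_chainT, chk_l2]
  rfl

theorem chk_chain : chainOK2 13 6156 [] chainS = true := by
  show (chainOK2 13 6156 [0] chainR && lvlOK2 13 6156 [] lvl1 chainR) = true
  rw [chk_chainR, chk_l1]
  rfl

end Cfsg.Agent.Lib.Helper21.J3
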