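import Mathlib
import Cfsg.Agent.Lib.Helper21.J3Data1
import Cfsg.Agent.Lib.Helper21.J3Data4

/-! Kernel checks for the J3 certificate: the suborbits and the order. -/

set_option Elab.async false

namespace Cfsg.Agent.Lib.Helper21.J3
open Cfsg.Agent.Lib.Helper18.SS

/-- the orbit check of a level -/
noncomputable def orbQ (l : CLvl2) (y : ℕ) : Bool :=
  Bool.rec true (Nat.beq (evalF 13 6156 (wordL 13 l y) l.b) y) (inOrb 6156 l y)

theorem chk_orb0 : loopAll 6156 (orbQ (orbL 0)) = true := by decide +kernel
theorem chk_orb1 : loopAll 6156 (orbQ (orbL 1)) = true := by decide +kernel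
theorem chk_orb2 : loopAll 6156 (orbQ (orbL 2)) = true := by decide +kernel
theorem chk_orb3 : loopAll 6156 (orbQ (orbL 3)) = true := by decide +kernel
theorem chk_orb4 : loopAll 6156 (orbQ (orbL 4)) = true := by decide +kernel
theorem chk_orb5 : loopAll 6156 (orbQ (orbL 5)) = true := by decide +kernel
theorem chk_orb6 : loopAll 6156 (orbQ (orbL 6)) = true := by decide +kernel
theorem chk_PO : ∀ i < 7, (orbL i).P = lvl2.P ∧ (orbL i).b < 6156 := by decide +kernel
theorem chk_card : (chainS.map (fun l => ((List.range 6156).filter (inOrb 6156 l)).length)).prod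
    = 50232960 := by decide +kernel
theorem chk_len1 : ((List.range 6156).filter (inOrb 6156 lvl1)).length = 6156 := by decide +kernel
theorem chk_cover : ∀ d ∈ allB, d ∈ ([] : List ℕ) ∨ d ∈ chainS.map (fun l => l.b) := by
  decide +kernel
theorem chk_cls : loopAll 6156 clsQ = true := by decide +kernel
theorem arith_0 : loopAll 16 (fun t => arithQ (Nat.add 0 t)) = true := by
  decide +kernel
theorem arith_1 : loopAll 16 (fun t => arithQ (Nat.add 16 t)) = true := by
  decide +kernel
theorem arith_2 : loopAll 16 (fun t => arithQ (Nat.add 32 t)) = true := by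
  decide +kernel
theorem arith_3 : loopAll 16 (fun t => arithQ (Nat.add 48 t)) = true := by
  decide +kernel
theorem arith_4 : loopAll 16 (fun t => arithQ (Nat.add 64 t)) = true := by
  decide +kernel
theorem arith_5 : loopAll 16 (fun t => arithQ (Nat.add 80 t)) = true := by
  decide +kernel
theorem arith_6 : loopAll 16 (fun t => arithQ (Nat.add 96 t)) = true := by
  decide +kernel
theorem arith_7 : loopAll 16 (fun t => arithQ (Nat.add 112 t)) = true := by
  decide +kernel
theorem chk_arith : loopAll 128 arithQ = true := by
  rw [loopAll_iff]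
  intro y hy
  rcases Nat.lt_or_ge y 16 with h0 | h0
  · exact range_piece arith_0 y (by omega) (by omega)
  rcases Nat.lt_or_ge y 32 with h1 | h1
  · exact range_piece arith_1 y (by omega) (by omega)
  rcases Nat.lt_or_ge y 48 with h2 | h2
  · exact range_piece arith_2 y (by omega) (by omega)
  rcases Nat.lt_or_ge y 64 with h3 | h3
  · exact range_piece arith_3 y (by omega) (by omega)
  rcases Nat.lt_or_ge y 80 with h4 | h4
  · exact range_piece arith_4 y (by omega) (by omega)
  rcases Nat.lt_or_ge y 96 with h5 | h5
  · exact range_piece arith_5 y (by omega) (by omega)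
  rcases Nat.lt_or_ge y 112 with h6 | h6
  · exact range_piece arith_6 y (by omega) (by omega)
  exact range_piece arith_7 y (by omega) (by omega)

end Cfsg.Agent.Lib.Helper21.J3
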