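import Mathlib
import Cfsg.Agent.Lib.Helper21.J3Data1
import Cfsg.Agent.Lib.Helper21.J3Data3

/-! Kernel checks for the J3 certificate: colour refinement, round 3. -/

set_option Elab.async false

namespace Cfsg.Agent.Lib.Helper21.J3
open Cfsg.Agent.Lib.Helper18.SS Cfsg.Agent.Lib.Helper21.RR

theorem step3_0 : loopAll 512 (fun t => stepQ gd cC2 cC3 (Nat.add 0 t)) = true := by
  decide +kernel
theorem step3_1 : loopAll 512 (fun t => stepQ gd cC2 cC3 (Nat.add 512 t)) = true := by
  decide +kernel
theorem step3_2 : loopAll 512 (fun t => stepQ gd cC2 cC3 (Nat.add 1024 t)) = true := by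
  decide +kernel
theorem step3_3 : loopAll 512 (fun t => stepQ gd cC2 cC3 (Nat.add 1536 t)) = true := by
  decide +kernel
theorem step3_4 : loopAll 512 (fun t => stepQ gd cC2 cC3 (Nat.add 2048 t)) = true := by
  decide +kernel
theorem step3_5 : loopAll 512 (fun t => stepQ gd cC2 cC3 (Nat.add 2560 t)) = true := by
  decide +kernel
theorem step3_6 : loopAll 512 (fun t => stepQ gd cC2 cC3 (Nat.add 3072 t)) = true := by
  decide +kernel
theorem step3_7 : loopAll 512 (fun t => stepQ gd cC2 cC3 (Nat.add 3584 t)) = true := by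
  decide +kernel
theorem step3_8 : loopAll 512 (fun t => stepQ gd cC2 cC3 (Nat.add 4096 t)) = true := by
  decide +kernel
theorem step3_9 : loopAll 512 (fun t => stepQ gd cC2 cC3 (Nat.add 4608 t)) = true := by
  decide +kernel
theorem step3_10 : loopAll 512 (fun t => stepQ gd cC2 cC3 (Nat.add 5120 t)) = true := by
  decide +kernel
theorem step3_11 : loopAll 512 (fun t => stepQ gd cC2 cC3 (Nat.add 5632 t)) = true := by
  decide +kernel
theorem step3_12 : loopAll 12 (fun t => stepQ gd cC2 cC3 (Nat.add 6144 t)) = true := by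
  decide +kernel

end Cfsg.Agent.Lib.Helper21.J3
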