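import Mathlib
import Cfsg.Agent.Lib.Helper21.J3CheckG1
import Cfsg.Agent.Lib.Helper21.J3CheckG2
import Cfsg.Agent.Lib.Helper21.J3CheckG3
import Cfsg.Agent.Lib.Helper21.J3CheckG4
import Cfsg.Agent.Lib.Helper21.J3CheckG5

/-! Assembly of the graph checks for the J3 certificate. -/

set_option Elab.async false

namespace Cfsg.Agent.Lib.Helper21.J3
open Cfsg.Agent.Lib.Helper18.SS Cfsg.Agent.Lib.Helper21.RR

theorem chk_autA : autOK gd cA = true := by
  show loopAll 6156 (autRow gd cA) = true
  rw [loopAll_iff]
  intro y hy
  rcases Nat.lt_or_ge y 512 with h0 | h0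
  · exact range_piece autA_0 y (by omega) (by omega)
  rcases Nat.lt_or_ge y 1024 with h1 | h1
  · exact range_piece autA_1 y (by omega) (by omega)
  rcases Nat.lt_or_ge y 1536 with h2 | h2
  · exact range_piece autA_2 y (by omega) (by omega)
  rcases Nat.lt_or_ge y 2048 with h3 | h3
  · exact range_piece autA_3 y (by omega) (by omega)
  rcases Nat.lt_or_ge y 2560 with h4 | h4
  · exact range_piece autA_4 y (by omega) (by omega)
  rcases Nat.lt_or_ge y 3072 with h5 | h5
  · exact range_piece autA_5 y (by omega) (by omega)
  rcases Nat.lt_or_ge y 3584 with h6 | h6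
  · exact range_piece autA_6 y (by omega) (by omega)
  rcases Nat.lt_or_ge y 4096 with h7 | h7
  · exact range_piece autA_7 y (by omega) (by omega)
  rcases Nat.lt_or_ge y 4608 with h8 | h8
  · exact range_piece autA_8 y (by omega) (by omega)
  rcases Nat.lt_or_ge y 5120 with h9 | h9
  · exact range_piece autA_9 y (by omega) (by omega)
  rcases Nat.lt_or_ge y 5632 with h10 | h10
  · exact range_piece autA_10 y (by omega) (by omega)
  rcases Nat.lt_or_ge y 6144 with h11 | h11
  · exact range_piece autA_11 y (by omega) (by omega)
  exact range_piece autA_12 y (by omega) (by omega)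
theorem chk_autB : autOK gd cB = true := by
  show loopAll 6156 (autRow gd cB) = true
  rw [loopAll_iff]
  intro y hy
  rcases Nat.lt_or_ge y 512 with h0 | h0
  · exact range_piece autB_0 y (by omega) (by omega)
  rcases Nat.lt_or_ge y 1024 with h1 | h1
  · exact range_piece autB_1 y (by omega) (by omega)
  rcases Nat.lt_or_ge y 1536 with h2 | h2
  · exact range_piece autB_2 y (by omega) (by omega)
  rcases Nat.lt_or_ge y 2048 with h3 | h3
  · exact range_piece autB_3 y (by omega) (by omega)
  rcases Nat.lt_or_ge y 2560 with h4 | h4
  · exact range_piece autB_4 y (by omega) (by omega)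
  rcases Nat.lt_or_ge y 3072 with h5 | h5
  · exact range_piece autB_5 y (by omega) (by omega)
  rcases Nat.lt_or_ge y 3584 with h6 | h6
  · exact range_piece autB_6 y (by omega) (by omega)
  rcases Nat.lt_or_ge y 4096 with h7 | h7
  · exact range_piece autB_7 y (by omega) (by omega)
  rcases Nat.lt_or_ge y 4608 with h8 | h8
  · exact range_piece autB_8 y (by omega) (by omega)
  rcases Nat.lt_or_ge y 5120 with h9 | h9
  · exact range_piece autB_9 y (by omega) (by omega)
  rcases Nat.lt_or_ge y 5632 with h10 | h10
  · exact range_piece autB_10 y (by omega) (by omega)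
  rcases Nat.lt_or_ge y 6144 with h11 | h11
  · exact range_piece autB_11 y (by omega) (by omega)
  exact range_piece autB_12 y (by omega) (by omega)
theorem chk_step1 : loopAll 6156 (stepQ gd cC0 cC1) = true := by
  rw [loopAll_iff]
  intro y hy
  rcases Nat.lt_or_ge y 512 with h0 | h0
  · exact range_piece step1_0 y (by omega) (by omega)
  rcases Nat.lt_or_ge y 1024 with h1 | h1
  · exact range_piece step1_1 y (by omega) (by omega)
  rcases Nat.lt_or_ge y 1536 with h2 | h2
  · exact range_piece step1_2 y (by omega) (by omega)
  rcases Nat.lt_or_ge y 2048 with h3 | h3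
  · exact range_piece step1_3 y (by omega) (by omega)
  rcases Nat.lt_or_ge y 2560 with h4 | h4
  · exact range_piece step1_4 y (by omega) (by omega)
  rcases Nat.lt_or_ge y 3072 with h5 | h5
  · exact range_piece step1_5 y (by omega) (by omega)
  rcases Nat.lt_or_ge y 3584 with h6 | h6
  · exact range_piece step1_6 y (by omega) (by omega)
  rcases Nat.lt_or_ge y 4096 with h7 | h7
  · exact range_piece step1_7 y (by omega) (by omega)
  rcases Nat.lt_or_ge y 4608 with h8 | h8
  · exact range_piece step1_8 y (by omega) (by omega)
  rcases Nat.lt_or_ge y 5120 with h9 | h9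
  · exact range_piece step1_9 y (by omega) (by omega)
  rcases Nat.lt_or_ge y 5632 with h10 | h10
  · exact range_piece step1_10 y (by omega) (by omega)
  rcases Nat.lt_or_ge y 6144 with h11 | h11
  · exact range_piece step1_11 y (by omega) (by omega)
  exact range_piece step1_12 y (by omega) (by omega)
theorem chk_step2 : loopAll 6156 (stepQ gd cC1 cC2) = true := by
  rw [loopAll_iff]
  intro y hy
  rcases Nat.lt_or_ge y 512 with h0 | h0
  · exact range_piece step2_0 y (by omega) (by omega)
  rcases Nat.lt_or_ge y 1024 with h1 | h1
  · exact range_piece step2_1 y (by omega) (by omega)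
  rcases Nat.lt_or_ge y 1536 with h2 | h2
  · exact range_piece step2_2 y (by omega) (by omega)
  rcases Nat.lt_or_ge y 2048 with h3 | h3
  · exact range_piece step2_3 y (by omega) (by omega)
  rcases Nat.lt_or_ge y 2560 with h4 | h4
  · exact range_piece step2_4 y (by omega) (by omega)
  rcases Nat.lt_or_ge y 3072 with h5 | h5
  · exact range_piece step2_5 y (by omega) (by omega)
  rcases Nat.lt_or_ge y 3584 with h6 | h6
  · exact range_piece step2_6 y (by omega) (by omega)
  rcases Nat.lt_or_ge y 4096 with h7 | h7
  · exact range_piece step2_7 y (by omega) (by omega)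
  rcases Nat.lt_or_ge y 4608 with h8 | h8
  · exact range_piece step2_8 y (by omega) (by omega)
  rcases Nat.lt_or_ge y 5120 with h9 | h9
  · exact range_piece step2_9 y (by omega) (by omega)
  rcases Nat.lt_or_ge y 5632 with h10 | h10
  · exact range_piece step2_10 y (by omega) (by omega)
  rcases Nat.lt_or_ge y 6144 with h11 | h11
  · exact range_piece step2_11 y (by omega) (by omega)
  exact range_piece step2_12 y (by omega) (by omega)
theorem chk_step3 : loopAll 6156 (stepQ gd cC2 cC3) = true := by
  rw [loopAll_iff]
  intro y hy
  rcases Nat.lt_or_ge y 512 with h0 | h0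
  · exact range_piece step3_0 y (by omega) (by omega)
  rcases Nat.lt_or_ge y 1024 with h1 | h1
  · exact range_piece step3_1 y (by omega) (by omega)
  rcases Nat.lt_or_ge y 1536 with h2 | h2
  · exact range_piece step3_2 y (by omega) (by omega)
  rcases Nat.lt_or_ge y 2048 with h3 | h3
  · exact range_piece step3_3 y (by omega) (by omega)
  rcases Nat.lt_or_ge y 2560 with h4 | h4
  · exact range_piece step3_4 y (by omega) (by omega)
  rcases Nat.lt_or_ge y 3072 with h5 | h5
  · exact range_piece step3_5 y (by omega) (by omega)
  rcases Nat.lt_or_ge y 3584 with h6 | h6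
  · exact range_piece step3_6 y (by omega) (by omega)
  rcases Nat.lt_or_ge y 4096 with h7 | h7
  · exact range_piece step3_7 y (by omega) (by omega)
  rcases Nat.lt_or_ge y 4608 with h8 | h8
  · exact range_piece step3_8 y (by omega) (by omega)
  rcases Nat.lt_or_ge y 5120 with h9 | h9
  · exact range_piece step3_9 y (by omega) (by omega)
  rcases Nat.lt_or_ge y 5632 with h10 | h10
  · exact range_piece step3_10 y (by omega) (by omega)
  rcases Nat.lt_or_ge y 6144 with h11 | h11
  · exact range_piece step3_11 y (by omega) (by omega)
  exact range_piece step3_12 y (by omega) (by omega)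
theorem chk_step4 : loopAll 6156 (stepQ gd cC3 cC4) = true := by
  rw [loopAll_iff]
  intro y hy
  rcases Nat.lt_or_ge y 512 with h0 | h0
  · exact range_piece step4_0 y (by omega) (by omega)
  rcases Nat.lt_or_ge y 1024 with h1 | h1
  · exact range_piece step4_1 y (by omega) (by omega)
  rcases Nat.lt_or_ge y 1536 with h2 | h2
  · exact range_piece step4_2 y (by omega) (by omega)
  rcases Nat.lt_or_ge y 2048 with h3 | h3
  · exact range_piece step4_3 y (by omega) (by omega)
  rcases Nat.lt_or_ge y 2560 with h4 | h4
  · exact range_piece step4_4 y (by omega) (by omega)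
  rcases Nat.lt_or_ge y 3072 with h5 | h5
  · exact range_piece step4_5 y (by omega) (by omega)
  rcases Nat.lt_or_ge y 3584 with h6 | h6
  · exact range_piece step4_6 y (by omega) (by omega)
  rcases Nat.lt_or_ge y 4096 with h7 | h7
  · exact range_piece step4_7 y (by omega) (by omega)
  rcases Nat.lt_or_ge y 4608 with h8 | h8
  · exact range_piece step4_8 y (by omega) (by omega)
  rcases Nat.lt_or_ge y 5120 with h9 | h9
  · exact range_piece step4_9 y (by omega) (by omega)
  rcases Nat.lt_or_ge y 5632 with h10 | h10
  · exact range_piece step4_10 y (by omega) (by omega)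
  rcases Nat.lt_or_ge y 6144 with h11 | h11
  · exact range_piece step4_11 y (by omega) (by omega)
  exact range_piece step4_12 y (by omega) (by omega)

end Cfsg.Agent.Lib.Helper21.J3
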