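import Mathlib
import Cfsg.Agent.Lib.Helper18.SimpleCert
import Cfsg.Agent.Lib.Helper21.SimpleRank
import Cfsg.Agent.Lib.Helper21.J3Check1
import Cfsg.Agent.Lib.Helper21.J3CheckG
import Cfsg.Agent.Lib.Helper21.J3Chain
import Cfsg.Agent.Lib.Helper21.J3Check5

/-! The Janko group J3 on 6156 points: order and simplicity from the verified certificate. -/

namespace Cfsg.Agent.Lib.Helper21.J3
open Cfsg.Agent.Lib.Helper18.SS Cfsg.Agent.Lib.Helper21.RR

abbrev P := Equiv.Perm (Fin 6156)

noncomputable def pA : P := toPerm 13 6156 cA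
noncomputable def pB : P := toPerm 13 6156 cB
noncomputable def G : Subgroup P := Subgroup.closure {pA, pB}

instance neZ : NeZero gd.n := by
  show NeZero 6156
  infer_instance

noncomputable def K : Subgroup P := Kg gd

theorem vA : Valid 13 6156 cA := (powOKf_sound chk_powA).1
theorem vB : Valid 13 6156 cB := (powOKf_sound chk_powB).1
theorem pA_pow : pA ^ 19 = 1 := (powOKf_sound chk_powA).2
theorem pB_pow : pB ^ 19 = 1 := (powOKf_sound chk_powB).2
theorem pA_mem : pA ∈ G := Subgroup.subset_closure (by simp)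
theorem pB_mem : pB ∈ G := Subgroup.subset_closure (by simp)

theorem G_le_K : G ≤ K := by
  rw [G, Subgroup.closure_le]
  intro g hg
  rcases hg with rfl | rfl
  · exact RR.autOK_sound (D := gd) vA chk_autA
  · exact RR.autOK_sound (D := gd) vB chk_autB

/-- one stage of the straight-line program -/
theorem prev_step (prev : List ℕ) (es : List (ℕ × ℕ × ℕ))
    (hprev : ∀ c ∈ prev, Valid 13 6156 c ∧ toPerm 13 6156 c ∈ G)
    (h : slpOKf 13 6156 prev es = true) :
    ∀ c ∈ prev ++ es.map (fun e => e.1), Valid 13 6156 c ∧ toPerm 13 6156 c ∈ G := by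
  intro c hc
  rw [List.mem_append, List.mem_map] at hc
  rcases hc with hc | ⟨e, he, rfl⟩
  · exact hprev c hc
  · exact slpOK_sound G es prev hprev (slpOKf_sound _ _ h) e he

theorem mem1 : ∀ c ∈ prev1, Valid 13 6156 c ∧ toPerm 13 6156 c ∈ G := by
  intro c hc
  have hc' : c ∈ [cA, cB] := hc
  simp only [List.mem_cons, List.not_mem_nil, or_false] at hc'
  rcases hc' with rfl | rfl
  · exact ⟨vA, pA_mem⟩
  · exact ⟨vB, pB_mem⟩

theorem mem2 : ∀ c ∈ prev2, Valid 13 6156 c ∧ toPerm 13 6156 c ∈ G :=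
  prev_step prev1 slpD1 mem1 chk_slp1
theorem mem3 : ∀ c ∈ prev3, Valid 13 6156 c ∧ toPerm 13 6156 c ∈ G :=
  prev_step prev2 slpD2 mem2 chk_slp2
theorem mem4 : ∀ c ∈ prev4, Valid 13 6156 c ∧ toPerm 13 6156 c ∈ G :=
  prev_step prev3 slpD3 mem3 chk_slp3
theorem mem5 : ∀ c ∈ prev5, Valid 13 6156 c ∧ toPerm 13 6156 c ∈ G :=
  prev_step prev4 slpD4 mem4 chk_slp4
theorem mem6 : ∀ c ∈ prev6, Valid 13 6156 c ∧ toPerm 13 6156 c ∈ G :=
  prev_step prev5 slpD5 mem5 chk_slp5
theorem mem7 : ∀ c ∈ prev7, Valid 13 6156 c ∧ toPerm 13 6156 c ∈ G :=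
  prev_step prev6 slpD6 mem6 chk_slp6
theorem mem8 : ∀ c ∈ prev8, Valid 13 6156 c ∧ toPerm 13 6156 c ∈ G :=
  prev_step prev7 slpD7 mem7 chk_slp7

theorem gens_mem : ∀ p ∈ cpairs chainS, toPerm 13 6156 p.1 ∈ G := by
  intro p hp
  have h := chk_strong
  rw [List.all_eq_true] at h
  have h := h p hp
  rw [List.any_eq_true] at h
  obtain ⟨c, hc, hcp⟩ := h
  have e : c = p.1 := by simpa using hcp
  rw [← e]
  exact (mem8 c hc).2

theorem hdet : ∀ g ∈ K, FixesL 6156 g allB → g = 1 := by
  intro g hg hF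
  have i0 : Inv g cC0 := inv_of_c0 (D := gd) (loopAll_iff.mp chk_c0) hF
  have i1 : Inv g cC1 := inv_step (D := gd) chk_nb hg (loopAll_iff.mp chk_step1) i0
  have i2 : Inv g cC2 := inv_step (D := gd) chk_nb hg (loopAll_iff.mp chk_step2) i1
  have i3 : Inv g cC3 := inv_step (D := gd) chk_nb hg (loopAll_iff.mp chk_step3) i2
  have i4 : Inv g cC4 := inv_step (D := gd) chk_nb hg (loopAll_iff.mp chk_step4) i3
  exact hdet_of_inv (valid_inv (invOKf_sound chk_piv)).1 chk_sorted i4

theorem main : ConsOK chainS ∧ CFacts 13 6156 K [] chainS ∧ Good (absC2 13 6156 chainS) :=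
  chainOK2_sound K allB hdet chainS [] chk_cover (fun p hp => G_le_K (gens_mem p hp)) chk_chain

theorem good : Good (absC2 13 6156 chainS) := main.2.2
theorem goodR : Good (absC2 13 6156 chainR) := good.1

theorem grp_eq : grp (absC2 13 6156 chainS) = G := by
  apply le_antisymm
  · rw [grp, Subgroup.closure_le]
    intro g hg
    have hg' : g ∈ gensOf (absC2 13 6156 chainS) := hg
    rw [gensOf_abs2 main.1, List.mem_map] at hg'
    obtain ⟨p, hp, rfl⟩ := hg'
    exact gens_mem p hp
  · rw [G, Subgroup.closure_le]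
    intro g hg
    apply Subgroup.subset_closure
    show g ∈ gensOf (absC2 13 6156 chainS)
    rw [gensOf_abs2 main.1, List.mem_map]
    rcases hg with rfl | rfl
    · refine ⟨(cA, cAi), ?_, rfl⟩
      show (cA, cAi) ∈ lvl1.P
      exact List.mem_cons_self
    · refine ⟨(cB, cBi), ?_, rfl⟩
      show (cB, cBi) ∈ lvl1.P
      exact List.mem_cons_of_mem _ List.mem_cons_self

theorem abs_lengths (ch : List CLvl2) :
    (absC2 13 6156 ch).map (fun l => l.U.length)
      = ch.map (fun l => ((List.range 6156).filter (inOrb 6156 l)).length) := by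
  simp [absC2, absL2, List.map_map, Function.comp_def]

theorem card_G : Nat.card G = 50232960 := by
  rw [← grp_eq, card_grp good, abs_lengths, chk_card]

/-- the subgroup fixing the first base point -/
noncomputable def H : Subgroup P := grp (absC2 13 6156 chainR)

theorem H_le : H ≤ G := by
  rw [← grp_eq]
  exact grp_mono _ _

def b1 : Fin 6156 := Fin.ofNat 6156 lvl1.b

theorem b1_eq : b1 = 0 := rfl

theorem H_fix {h : P} (hh : h ∈ H) : h • b1 = b1 :=
  grp_fixes (l := absL2 13 6156 lvl1) (r := absC2 13 6156 chainR) good hh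

theorem covers {α : Type*} [Fintype α] [DecidableEq α] (L : List α) (hnd : L.Nodup)
    (hlen : L.length = Fintype.card α) : ∀ x, x ∈ L := by
  intro x
  have : L.toFinset = Finset.univ :=
    Finset.eq_univ_of_card _ (by rw [List.toFinset_card_of_nodup hnd, hlen])
  have hx : x ∈ L.toFinset := this ▸ Finset.mem_univ x
  exact List.mem_toFinset.mp hx

theorem G_trans : ∀ x : Fin 6156, ∃ g ∈ G, g • b1 = x := by
  intro x
  have hnd := good.2.2.2.2.1
  have hx := covers _ hnd (by
    show (((absL2 13 6156 lvl1).U.map _).length = Fintype.card (Fin 6156))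
    simp [absL2, chk_len1]) x
  rw [List.mem_map] at hx
  obtain ⟨u, hu, rfl⟩ := hx
  refine ⟨u, ?_, rfl⟩
  rw [← grp_eq]
  exact good.2.2.1 u hu

theorem lf2 : LFacts 13 6156 K [lvl1.b] lvl2 := main.2.1.2.1

theorem chk_orb : ∀ i < 7, loopAll 6156 (orbQ (orbL i)) = true := by
  intro i hi
  interval_cases i
  · exact chk_orb0
  · exact chk_orb1
  · exact chk_orb2
  · exact chk_orb3
  · exact chk_orb4
  · exact chk_orb5
  · exact chk_orb6

theorem wordO_codes (i : ℕ) (hi : i < 7) (y : ℕ) :
    ∀ c ∈ wordL 13 (orbL i) y, ∃ p ∈ lvl2.P, c = p.1 := by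
  intro c hc
  obtain ⟨p, hp, rfl⟩ :=
    wordTo_mem (orbL i).P (orbL i).gt (orbL i).pt (orbL i).b (orbL i).fuel y c hc
  rw [(chk_PO i hi).1] at hp
  exact ⟨p, hp, rfl⟩

/-- the representative of the `i`-th suborbit -/
def rep (i : ℕ) : Fin 6156 := Fin.ofNat 6156 (orbL i).b

theorem orbI (i : ℕ) (hi : i < 7) :
    ∀ x : Fin 6156, inOrb 6156 (orbL i) x.val = true → ∃ h ∈ H, h • rep i = x := by
  intro x hx
  have hcons : ConsOK chainR := main.1.2
  have hmem : evalP 13 6156 (wordL 13 (orbL i) x.val) ∈ H := by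
    apply evalP_mem
    intro c hc
    obtain ⟨p, hp, rfl⟩ := wordO_codes i hi x.val c hc
    apply Subgroup.subset_closure
    show toPerm 13 6156 p.1 ∈ gensOf (absC2 13 6156 chainR)
    rw [gensOf_abs2 hcons]
    exact List.mem_map.mpr ⟨p, hp, rfl⟩
  refine ⟨_, hmem, ?_⟩
  apply Fin.ext
  show ((evalP 13 6156 (wordL 13 (orbL i) x.val) (Fin.ofNat 6156 (orbL i).b : Fin 6156) :
    Fin 6156) : ℕ) = x.val
  have hval : ∀ c ∈ wordL 13 (orbL i) x.val, Valid 13 6156 c := by
    intro c hc
    obtain ⟨p, hp, rfl⟩ := wordO_codes i hi x.val c hc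
    exact (lf2.pairs p hp).1
  rw [ofNat_eq (chk_PO i hi).2, evalP_val hval, ← evalF_eq]
  have h1 := chk_orb i hi
  rw [loopAll_iff] at h1
  have h2 := h1 x.val x.2
  rw [orbQ, hx] at h2
  exact Nat.eq_of_beq_eq_true h2

theorem qB_eq (m x : ℕ) : qB m x =
    if clsOf x = 0 then Nat.beq x 0 else Nat.beq (bitN m (clsOf x - 1)) 1 := by
  unfold qB
  generalize clsOf x = k
  cases k with
  | zero => rfl
  | succ k => rfl

theorem clsQ_eq (x : ℕ) : clsQ x =
    if clsOf x = 0 then Nat.beq x 0
    else (inOrb 6156 (orbL (clsOf x - 1)) x && Nat.ble (clsOf x) 7) := by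
  unfold clsQ
  generalize clsOf x = k
  cases k with
  | zero => rfl
  | succ k => rfl

theorem cls_zero {x : Fin 6156} (h : clsOf x.val = 0) : x = b1 := by
  have h1 := chk_cls
  rw [loopAll_iff] at h1
  have h2 := h1 x.val x.2
  rw [clsQ_eq, if_pos h] at h2
  apply Fin.ext
  rw [Nat.eq_of_beq_eq_true h2]
  rfl

theorem cls_pos {x : Fin 6156} (h : clsOf x.val ≠ 0) :
    inOrb 6156 (orbL (clsOf x.val - 1)) x.val = true ∧ clsOf x.val ≤ 7 := by
  have h1 := chk_cls
  rw [loopAll_iff] at h1
  have h2 := h1 x.val x.2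
  rw [clsQ_eq, if_neg h, Bool.and_eq_true] at h2
  exact ⟨h2.1, Nat.le_of_ble_eq_true h2.2⟩

theorem cls_b1 : clsOf 0 = 0 := by decide +kernel

theorem G_simple : IsSimpleGroup G := by
  refine SimpleRank.simple_of_rank_r G H pA pB 19 8160 rfl pA_pow pB_pow
    (by rw [card_G]) (by norm_num) (by norm_num) b1 G_trans H_le (fun h hh => H_fix hh)
    7 (fun i x => clsOf x.val = i + 1) rep ?_ ?_ ?_
  · intro i hi x hx
    have hne : clsOf x.val ≠ 0 := by rw [hx]; omega
    have h := (cls_pos hne).1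
    rw [hx, Nat.add_sub_cancel] at h
    exact orbI i hi x h
  · intro x
    by_cases h : clsOf x.val = 0
    · exact Or.inl (cls_zero h)
    · refine Or.inr ⟨clsOf x.val - 1, ?_, ?_⟩
      · have := (cls_pos h).2
        omega
      · omega
  · intro m hm h0 h1
    have hm' : m < 128 := by simpa using hm
    have h1' : m ≠ 127 := by simpa using h1
    have e : {x : Fin 6156 | x = b1 ∨ ∃ i < 7, m.testBit i = true ∧ clsOf x.val = i + 1}
        = {x : Fin 6156 | qB m x.val = true} := by
      ext x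
      simp only [Set.mem_ofPred_eq]
      rw [qB_eq]
      constructor
      · rintro (h | ⟨i, hi, hb, hc⟩)
        · rw [h]
          show (if clsOf 0 = 0 then Nat.beq 0 0 else _) = true
          rw [if_pos cls_b1]
          rfl
        · have hne : clsOf x.val ≠ 0 := by rw [hc]; omega
          rw [if_neg hne, hc, Nat.add_sub_cancel]
          have : bitN m i = 1 := (bitN_eq_one_iff m i).mpr hb
          rw [this]
          rfl
      · intro h
        by_cases hz : clsOf x.val = 0
        · exact Or.inl (cls_zero hz)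
        · rw [if_neg hz] at h
          have hb : bitN m (clsOf x.val - 1) = 1 := Nat.eq_of_beq_eq_true h
          refine Or.inr ⟨clsOf x.val - 1, ?_, (bitN_eq_one_iff m _).mp hb, ?_⟩
          · have := (cls_pos hz).2
            omega
          · omega
    rw [e, Cfsg.Agent.Lib.Helper18.SimpleCert.ncard_fin_pred]
    have ha := chk_arith
    rw [loopAll_iff] at ha
    have h2 := ha m hm'
    rw [arithQ] at h2
    have e0 : Nat.beq m 0 = false := by
      rw [← Bool.not_eq_true]
      intro hh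
      exact h0 (Nat.eq_of_beq_eq_true hh)
    have e1 : Nat.beq m 127 = false := by
      rw [← Bool.not_eq_true]
      intro hh
      exact h1' (Nat.eq_of_beq_eq_true hh)
    rw [e0, e1, Bool.false_or, Bool.false_or] at h2
    intro hdvd
    have hmod : 6156 % ((List.range 6156).filter (qB m)).length = 0 :=
      Nat.mod_eq_zero_of_dvd hdvd
    have : Nat.beq (Nat.mod 6156 ((List.range 6156).filter (qB m)).length) 0 = true := by
      show Nat.beq (6156 % ((List.range 6156).filter (qB m)).length) 0 = true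
      rw [hmod]
      rfl
    rw [this] at h2
    exact Bool.noConfusion h2

/-- the stabiliser of the base point has order 8160 -/
theorem card_stab : Nat.card (MulAction.stabilizer G (0 : Fin 6156)) = 8160 := by
  have htr : MulAction.orbit G (0 : Fin 6156) = Set.univ := by
    ext x
    simp only [Set.mem_univ, iff_true]
    obtain ⟨g, hg, hgx⟩ := G_trans x
    exact ⟨⟨g, hg⟩, hgx⟩
  have h1 : (MulAction.stabilizer G (0 : Fin 6156)).index = 6156 := by
    rw [MulAction.index_stabilizer, htr, Set.ncard_univ, Nat.card_fin]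
  have h2 := Subgroup.card_mul_index (MulAction.stabilizer G (0 : Fin 6156))
  rw [h1, card_G] at h2
  have h3 : Nat.card (MulAction.stabilizer G (0 : Fin 6156)) * 6156 = 8160 * 6156 :=
    h2.trans (by norm_num)
  exact Nat.eq_of_mul_eq_mul_right (by norm_num) h3

theorem G_pretrans : MulAction.IsPretransitive G (Fin 6156) := by
  constructor
  intro x y
  obtain ⟨g, hg, hgx⟩ := G_trans x
  obtain ⟨g', hg', hgy⟩ := G_trans y
  refine ⟨⟨g', hg'⟩ * ⟨g, hg⟩⁻¹, ?_⟩
  rw [mul_smul]
  have : (⟨g, hg⟩ : G)⁻¹ • x = b1 := by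
    rw [inv_smul_eq_iff]
    exact hgx.symm
  rw [this]
  exact hgy

end Cfsg.Agent.Lib.Helper21.J3
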