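import Mathlib
import Cfsg.Agent.Lib.Helper21.J3ULin
import Cfsg.Agent.Lib.Helper21.J3UData
import Cfsg.Agent.Lib.Helper21.J3Data1

/-! Decoded data and check functions for the triple cover of J3. -/

namespace Cfsg.Agent.Lib.Helper21.J3U
open Cfsg.Agent.Lib.Helper18.SS Matrix

abbrev MA : Mat9 := matOf 9 9 cMA
abbrev MAi : Mat9 := matOf 9 9 cMAi
abbrev MB : Mat9 := matOf 9 9 cMB
abbrev MBi : Mat9 := matOf 9 9 cMBi

/-- parity-check matrix of the `i`-th subspace -/
def Qn (i : ℕ) : Matrix (Fin 4) (Fin 9) F4 := matOf 4 9 (fld 72 tblQ i)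

/-- equality test in `F4` -/
def beq4 : F4 → F4 → Bool
  | F4.z, F4.z => true
  | F4.o, F4.o => true
  | F4.w, F4.w => true
  | F4.w2, F4.w2 => true
  | _, _ => false

theorem beq4_iff {a b : F4} : beq4 a b = true ↔ a = b := by revert a b; decide

/-- an entry of a coded matrix with `k` columns -/
def ent (k c r j : ℕ) : F4 := F4.dec (fld 2 c (Nat.add (Nat.mul k r) j))

theorem matOf_apply (r k c : ℕ) (i : Fin r) (j : Fin k) : matOf r k c i j = ent k c i.val j.val := rfl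

/-- an entry of the product of a coded `4 × 9` and a coded `9 × 9` matrix -/
def dotQM (cq cM r c : ℕ) : F4 :=
  ent 9 cq r 0 * ent 9 cM 0 c + ent 9 cq r 1 * ent 9 cM 1 c + ent 9 cq r 2 * ent 9 cM 2 c + ent 9 cq r 3 * ent 9 cM 3 c + ent 9 cq r 4 * ent 9 cM 4 c + ent 9 cq r 5 * ent 9 cM 5 c + ent 9 cq r 6 * ent 9 cM 6 c + ent 9 cq r 7 * ent 9 cM 7 c + ent 9 cq r 8 * ent 9 cM 8 c

/-- an entry of the product of a coded `4 × 4` and a coded `4 × 9` matrix -/
def dotCQ (cc cq r c : ℕ) : F4 :=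
  ent 4 cc r 0 * ent 9 cq 0 c + ent 4 cc r 1 * ent 9 cq 1 c + ent 4 cc r 2 * ent 9 cq 2 c + ent 4 cc r 3 * ent 9 cq 3 c

/-- the certificate that the matrix coded by `cM` maps the `i`-th subspace into the `σ i`-th -/
noncomputable def rowQ (cM tblC cσ i : ℕ) : Bool :=
  (fun cq1 cq0 cc => loopAll 4 (fun r => loopAll 9 (fun c =>
      beq4 (dotQM cq1 cM r c) (dotCQ cc cq0 r c))))
    (fld 72 tblQ (lkf 13 6156 cσ i)) (fld 72 tblQ i) (fld 32 tblC i)

theorem sum9 {α : Type*} [AddCommMonoid α] (f : Fin 9 → α) :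
    ∑ k, f k = f 0 + f 1 + f 2 + f 3 + f 4 + f 5 + f 6 + f 7 + f 8 := by
  rw [Fin.sum_univ_succ, Fin.sum_univ_eight]
  simp only [add_assoc]
  rfl

theorem rowQ_sound {cM tblC cσ i : ℕ} (h : rowQ cM tblC cσ i = true) :
    Qn (lkf 13 6156 cσ i) * matOf 9 9 cM = matOf 4 4 (fld 32 tblC i) * Qn i := by
  ext r c
  have h0 : loopAll 4 (fun r => loopAll 9 (fun c =>
      beq4 (dotQM (fld 72 tblQ (lkf 13 6156 cσ i)) cM r c)
        (dotCQ (fld 32 tblC i) (fld 72 tblQ i) r c))) = true := h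
  have h1 := (loopAll_iff.mp ((loopAll_iff.mp h0) r.val r.2)) c.val c.2
  rw [beq4_iff] at h1
  rw [Matrix.mul_apply, Matrix.mul_apply, sum9, Fin.sum_univ_four]
  exact h1

/-- the frame vectors -/
def frF (k : ℕ) : Fin 9 → F4 := vecOf (frFc k)

/-- the certificate that the intersection of two subspaces is the line of a frame vector -/
def frameQ (k : ℕ) : Bool :=
  decide (matOf 9 4 (frL1 k) * Qn (frI k) + matOf 9 4 (frL2 k) * Qn (frJ k)
    = 1 + Matrix.of (fun p q => frF k p * vecOf (frU k) q))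

end Cfsg.Agent.Lib.Helper21.J3U
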