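import Mathlib
import Cfsg.Agent.Lib.Helper21.J3UDefs
import Cfsg.Agent.Lib.Helper21.J3OData

/-! Check functions for the orbits of the triple cover of J3 on the lines of its 9-space. -/

namespace Cfsg.Agent.Lib.Helper21.J3O
open Cfsg.Agent.Lib.Helper18.SS Matrix Cfsg.Agent.Lib.Helper21.J3U

/-- evaluate the argument before passing it on -/
def force (x : ℕ) (f : ℕ → Bool) : Bool := Nat.rec (f 0) (fun k _ => f (Nat.succ k)) x

theorem force_eq (x : ℕ) (f : ℕ → Bool) : force x f = f x := by cases x <;> rfl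

/-- a coordinate of a coded vector -/
def ve (x p : ℕ) : F4 := F4.dec (fld 2 x p)

theorem vecOf_apply (x : ℕ) (p : Fin 9) : vecOf x p = ve x p.val := rfl

/-- an entry of the product of a coded `9 × 9` matrix and a coded vector -/
def dotMV (cM x p : ℕ) : F4 :=
  ent 9 cM p 0 * ve x 0 + ent 9 cM p 1 * ve x 1 + ent 9 cM p 2 * ve x 2 + ent 9 cM p 3 * ve x 3 + ent 9 cM p 4 * ve x 4 + ent 9 cM p 5 * ve x 5 + ent 9 cM p 6 * ve x 6 + ent 9 cM p 7 * ve x 7 + ent 9 cM p 8 * ve x 8

/-- the certificate of `M x = c y` -/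
noncomputable def mvQ (cM x c y : ℕ) : Bool :=
  loopAll 9 (fun p => beq4 (dotMV cM x p) (F4.dec c * ve y p))

theorem mvQ_sound {cM x c y : ℕ} (h : mvQ cM x c y = true) :
    matOf 9 9 cM *ᵥ vecOf x = F4.dec c • vecOf y := by
  ext p
  have h1 := (loopAll_iff.mp h) p.val p.2
  rw [beq4_iff] at h1
  simp only [Matrix.mulVec, dotProduct]
  rw [sum9]
  exact h1

theorem dec_ne_zero {c : ℕ} (h : 0 < c) : F4.dec c ≠ 0 := by
  rcases c with _ | _ | _ | c
  · omega
  · decide
  · decide
  · intro h0; cases h0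

/-- the code of a generator: `0` for `A`, otherwise `B` -/
def genC (g : ℕ) : ℕ := Nat.rec cMA (fun _ _ => cMB) g

theorem genC_cases (g : ℕ) : matOf 9 9 (genC g) = MA ∨ matOf 9 9 (genC g) = MB := by
  cases g
  · exact Or.inl rfl
  · exact Or.inr rfl

/-- closure certificate: the generator coded by `cM` maps the `i`-th line of the first orbit to the
line with the index given in the table -/
noncomputable def closQ (cM tS tC i : ℕ) : Bool :=
  force (fld 18 tT1 i) fun x => force (fld 16 tS i) fun j => force (fld 2 tC i) fun c =>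
    decide (j < n1) && decide (0 < c) && force (fld 18 tT1 j) fun y => mvQ cM x c y

theorem closQ_sound {cM tS tC i : ℕ} (h : closQ cM tS tC i = true) :
    fld 16 tS i < n1 ∧ 0 < fld 2 tC i ∧
      matOf 9 9 cM *ᵥ vecOf (fld 18 tT1 i) = F4.dec (fld 2 tC i) • vecOf (fld 18 tT1 (fld 16 tS i)) := by
  simp only [closQ, force_eq, Bool.and_eq_true, decide_eq_true_eq] at h
  obtain ⟨⟨h1, h2⟩, h3⟩ := h
  exact ⟨h1, h2, mvQ_sound h3⟩

/-- tree certificate: the `i`-th line is the root or the image of its parent under a generator -/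
noncomputable def treeQ (tT tP tG tD tC n root i : ℕ) : Bool :=
  decide (i = root) ||
  (force (fld 16 tP i) fun p => force (fld 2 tC i) fun c =>
    decide (p < n) && decide (fld 8 tD p + 1 = fld 8 tD i) && decide (0 < c) &&
    force (fld 18 tT p) fun x => force (fld 18 tT i) fun y => force (genC (fld 1 tG i)) fun cM =>
      mvQ cM x c y)

theorem treeQ_sound {tT tP tG tD tC n root i : ℕ} (h : treeQ tT tP tG tD tC n root i = true) :
    i = root ∨ (fld 16 tP i < n ∧ fld 8 tD (fld 16 tP i) + 1 = fld 8 tD i ∧ 0 < fld 2 tC i ∧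
      matOf 9 9 (genC (fld 1 tG i)) *ᵥ vecOf (fld 18 tT (fld 16 tP i)) =
        F4.dec (fld 2 tC i) • vecOf (fld 18 tT i)) := by
  simp only [treeQ, force_eq, Bool.or_eq_true, Bool.and_eq_true, decide_eq_true_eq] at h
  rcases h with h | ⟨⟨⟨h1, h2⟩, h3⟩, h4⟩
  · exact Or.inl h
  · exact Or.inr ⟨h1, h2, h3, mvQ_sound h4⟩

/-! ### Normalised vectors -/

/-- the first non-zero coordinate (the last one for the zero vector) -/
def piv9 (x : Fin 9 → F4) : Fin 9 :=
  if x 0 ≠ 0 then 0 else if x 1 ≠ 0 then 1 else if x 2 ≠ 0 then 2 else if x 3 ≠ 0 then 3 else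
  if x 4 ≠ 0 then 4 else if x 5 ≠ 0 then 5 else if x 6 ≠ 0 then 6 else if x 7 ≠ 0 then 7 else 8

/-- the first non-zero coordinate is `1` -/
def Nrm (x : Fin 9 → F4) : Prop := x (piv9 x) = 1

instance : DecidablePred Nrm := fun x => by unfold Nrm; infer_instance

theorem piv9_smul {x y : Fin 9 → F4} {c : F4} (hc : c ≠ 0) (h : x = c • y) : piv9 x = piv9 y := by
  have e : ∀ r, x r ≠ 0 ↔ y r ≠ 0 := by
    intro r
    rw [h, Pi.smul_apply, smul_eq_mul]
    constructor
    · intro hh h0
      rw [h0, mul_zero] at hh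
      exact hh rfl
    · intro hh
      exact mul_ne_zero hc hh
  unfold piv9
  simp only [e]

theorem eq_of_smul_nrm {x y : Fin 9 → F4} {c : F4} (hc : c ≠ 0) (h : x = c • y)
    (hx : Nrm x) (hy : Nrm y) : x = y := by
  have hp := piv9_smul hc h
  have h1 : x (piv9 y) = c * y (piv9 y) := by rw [h]; rfl
  unfold Nrm at hx hy
  rw [← hp, hx, hp, hy, mul_one] at h1
  rw [h, ← h1, one_smul]

theorem piv9_ne {x : Fin 9 → F4} (hx : x ≠ 0) : x (piv9 x) ≠ 0 := by
  unfold piv9
  split_ifs with h0 h1 h2 h3 h4 h5 h6 h7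
  · exact h0
  · exact h1
  · exact h2
  · exact h3
  · exact h4
  · exact h5
  · exact h6
  · exact h7
  · intro h8
    apply hx
    ext j
    push Not at h0 h1 h2 h3 h4 h5 h6 h7
    fin_cases j
    · exact h0
    · exact h1
    · exact h2
    · exact h3
    · exact h4
    · exact h5
    · exact h6
    · exact h7
    · exact h8

/-- every non-zero vector is a non-zero multiple of a normalised one -/
theorem exists_nrm {x : Fin 9 → F4} (hx : x ≠ 0) :
    ∃ c : F4, c ≠ 0 ∧ Nrm (c⁻¹ • x) := by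
  refine ⟨x (piv9 x), piv9_ne hx, ?_⟩
  have hc := piv9_ne hx
  have hp : piv9 ((x (piv9 x))⁻¹ • x) = piv9 x := piv9_smul (inv_ne_zero hc) rfl
  unfold Nrm
  rw [hp, Pi.smul_apply, smul_eq_mul, inv_mul_cancel₀ hc]

/-! ### Codes of vectors -/

/-- the code of a field element -/
def enc : F4 → ℕ
  | F4.z => 0
  | F4.o => 1
  | F4.w => 2
  | F4.w2 => 3

theorem dec_enc (a : F4) : F4.dec (enc a) = a := by cases a <;> rfl
theorem enc_lt (a : F4) : enc a < 4 := by cases a <;> decide
theorem enc_dec {m : ℕ} (h : m < 4) : enc (F4.dec m) = m := by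
  interval_cases m <;> rfl

/-- the code of a vector -/
def pack (x : Fin 9 → F4) : ℕ :=
  enc (x 0) + 4 * enc (x 1) + 16 * enc (x 2) + 64 * enc (x 3) + 256 * enc (x 4) +
    1024 * enc (x 5) + 4096 * enc (x 6) + 16384 * enc (x 7) + 65536 * enc (x 8)

theorem fld2_eq (c k : ℕ) : fld 2 c k = c / 4 ^ k % 4 := by
  show (c >>> (2 * k)) % 2 ^ 2 = _
  rw [Nat.shiftRight_eq_div_pow, pow_mul]
  norm_num

theorem pack_lt (x : Fin 9 → F4) : pack x < 262144 := by
  have h0 := enc_lt (x 0); have h1 := enc_lt (x 1); have h2 := enc_lt (x 2)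
  have h3 := enc_lt (x 3); have h4 := enc_lt (x 4); have h5 := enc_lt (x 5)
  have h6 := enc_lt (x 6); have h7 := enc_lt (x 7); have h8 := enc_lt (x 8)
  unfold pack
  omega

theorem fld2_pack (x : Fin 9 → F4) (k : Fin 9) : fld 2 (pack x) k.val = enc (x k) := by
  have h0 := enc_lt (x 0); have h1 := enc_lt (x 1); have h2 := enc_lt (x 2)
  have h3 := enc_lt (x 3); have h4 := enc_lt (x 4); have h5 := enc_lt (x 5)
  have h6 := enc_lt (x 6); have h7 := enc_lt (x 7); have h8 := enc_lt (x 8)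
  rw [fld2_eq]
  unfold pack
  fin_cases k <;> simp only [Fin.zero_eta, Fin.mk_one, Fin.reduceFinMk] <;> norm_num <;> omega

theorem vecOf_pack (x : Fin 9 → F4) : vecOf (pack x) = x := by
  ext k
  show F4.dec (fld 2 (pack x) k.val) = x k
  rw [fld2_pack, dec_enc]

theorem pack_vecOf {a : ℕ} (ha : a < 262144) : pack (vecOf a) = a := by
  have e : ∀ k : Fin 9, enc (vecOf a k) = a / 4 ^ k.val % 4 := by
    intro k
    show enc (F4.dec (fld 2 a k.val)) = _
    rw [enc_dec (show fld 2 a k.val < 4 from Nat.mod_lt _ (by norm_num)), fld2_eq]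
  unfold pack
  rw [e 0, e 1, e 2, e 3, e 4, e 5, e 6, e 7, e 8]
  norm_num
  omega

theorem vecOf_inj {a b : ℕ} (ha : a < 262144) (hb : b < 262144) (h : vecOf a = vecOf b) : a = b := by
  rw [← pack_vecOf ha, ← pack_vecOf hb, h]

theorem fld18_lt (t i : ℕ) : fld 18 t i < 262144 := Nat.mod_lt _ (by norm_num)

/-! ### Isotropic vectors -/

/-- the sum of the cubes of the coordinates -/
def isoV (x : Fin 9 → F4) : F4 :=
  x 0 ^ 3 + x 1 ^ 3 + x 2 ^ 3 + x 3 ^ 3 + x 4 ^ 3 + x 5 ^ 3 + x 6 ^ 3 + x 7 ^ 3 + x 8 ^ 3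

theorem isoV_eq (x : Fin 9 → F4) : ∑ j, x j ^ 3 = isoV x := sum9 _

/-- completeness certificate: a code of a normalised isotropic vector occurs in the second table -/
noncomputable def compQ (c0 : ℕ) : Bool :=
  force c0 fun c =>
  !(decide (Nrm (vecOf c)) && decide (isoV (vecOf c) = 0)) ||
  (force (fld 16 tPos c) fun k =>
    decide (0 < k) && decide (k ≤ n2) && decide (fld 18 tT2 (k - 1) = c))

theorem compQ_sound {c : ℕ} (h : compQ c = true) (h1 : Nrm (vecOf c)) (h2 : isoV (vecOf c) = 0) :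
    ∃ k < n2, fld 18 tT2 k = c := by
  simp only [compQ, force_eq, Bool.or_eq_true, Bool.not_eq_true', Bool.and_eq_false_iff,
    Bool.and_eq_true, decide_eq_true_eq, decide_eq_false_iff_not] at h
  rcases h with (h | h) | ⟨⟨h3, h4⟩, h5⟩
  · exact absurd h1 h
  · exact absurd h2 h
  · exact ⟨fld 16 tPos c - 1, by omega, h5⟩

/-- sortedness certificate for the first table -/
def sortQ (i : ℕ) : Bool := decide (fld 18 tT1 i < fld 18 tT1 (i + 1))

/-- the vectors of the first table are normalised -/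
noncomputable def nrmQ (i : ℕ) : Bool := force (fld 18 tT1 i) fun c => decide (Nrm (vecOf c))

theorem nrmQ_sound {i : ℕ} (h : nrmQ i = true) : Nrm (vecOf (fld 18 tT1 i)) := by
  simp only [nrmQ, force_eq, decide_eq_true_eq] at h
  exact h

theorem mono_of_succ (f : ℕ → ℕ) (n : ℕ) (h : ∀ i, i + 1 < n → f i < f (i + 1)) :
    ∀ j, j < n → ∀ i, i < j → f i < f j := by
  intro j
  induction j with
  | zero => intro _ i hi; omega
  | succ j ih =>
    intro hj i hi
    rcases Nat.lt_succ_iff_lt_or_eq.mp hi with h1 | rfl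
    · exact lt_trans (ih (by omega) i h1) (h j hj)
    · exact h i hj

end Cfsg.Agent.Lib.Helper21.J3O
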