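import Mathlib
import Cfsg.Agent.Lib.Helper21.J3ODefs

/-! Kernel checks for the orbits of the triple cover of J3 on lines (generated): C, part 1. -/

set_option Elab.async false

namespace Cfsg.Agent.Lib.Helper21.J3O
open Cfsg.Agent.Lib.Helper18.SS Matrix Cfsg.Agent.Lib.Helper21.J3U

theorem pcC_1_0 : loopAll 4096 (fun t => compQ (Nat.add 65536 t)) = true := by
  decide +kernel
theorem pcC_1_1 : loopAll 4096 (fun t => compQ (Nat.add 69632 t)) = true := by
  decide +kernel
theorem pcC_1_2 : loopAll 4096 (fun t => compQ (Nat.add 73728 t)) = true := by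
  decide +kernel
theorem pcC_1_3 : loopAll 4096 (fun t => compQ (Nat.add 77824 t)) = true := by
  decide +kernel
theorem pcC_1_4 : loopAll 4096 (fun t => compQ (Nat.add 81920 t)) = true := by
  decide +kernel
theorem pcC_1_5 : loopAll 4096 (fun t => compQ (Nat.add 86016 t)) = true := by
  decide +kernel
theorem pcC_1_6 : loopAll 4096 (fun t => compQ (Nat.add 90112 t)) = true := by
  decide +kernel
theorem pcC_1_7 : loopAll 4096 (fun t => compQ (Nat.add 94208 t)) = true := by
  decide +kernel
theorem pcC_1_8 : loopAll 4096 (fun t => compQ (Nat.add 98304 t)) = true := by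
  decide +kernel
theorem pcC_1_9 : loopAll 4096 (fun t => compQ (Nat.add 102400 t)) = true := by
  decide +kernel
theorem pcC_1_10 : loopAll 4096 (fun t => compQ (Nat.add 106496 t)) = true := by
  decide +kernel
theorem pcC_1_11 : loopAll 4096 (fun t => compQ (Nat.add 110592 t)) = true := by
  decide +kernel
theorem pcC_1_12 : loopAll 4096 (fun t => compQ (Nat.add 114688 t)) = true := by
  decide +kernel
theorem pcC_1_13 : loopAll 4096 (fun t => compQ (Nat.add 118784 t)) = true := by
  decide +kernel
theorem pcC_1_14 : loopAll 4096 (fun t => compQ (Nat.add 122880 t)) = true := by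
  decide +kernel
theorem pcC_1_15 : loopAll 4096 (fun t => compQ (Nat.add 126976 t)) = true := by
  decide +kernel

theorem rngC_1 : ∀ y, 65536 ≤ y → y < 131072 → compQ y = true := by
  intro y hlo hhi
  rcases Nat.lt_or_ge y 69632 with h0 | h0
  · exact range_piece pcC_1_0 y (by omega) (by omega)
  rcases Nat.lt_or_ge y 73728 with h1 | h1
  · exact range_piece pcC_1_1 y (by omega) (by omega)
  rcases Nat.lt_or_ge y 77824 with h2 | h2
  · exact range_piece pcC_1_2 y (by omega) (by omega)
  rcases Nat.lt_or_ge y 81920 with h3 | h3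
  · exact range_piece pcC_1_3 y (by omega) (by omega)
  rcases Nat.lt_or_ge y 86016 with h4 | h4
  · exact range_piece pcC_1_4 y (by omega) (by omega)
  rcases Nat.lt_or_ge y 90112 with h5 | h5
  · exact range_piece pcC_1_5 y (by omega) (by omega)
  rcases Nat.lt_or_ge y 94208 with h6 | h6
  · exact range_piece pcC_1_6 y (by omega) (by omega)
  rcases Nat.lt_or_ge y 98304 with h7 | h7
  · exact range_piece pcC_1_7 y (by omega) (by omega)
  rcases Nat.lt_or_ge y 102400 with h8 | h8
  · exact range_piece pcC_1_8 y (by omega) (by omega)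
  rcases Nat.lt_or_ge y 106496 with h9 | h9
  · exact range_piece pcC_1_9 y (by omega) (by omega)
  rcases Nat.lt_or_ge y 110592 with h10 | h10
  · exact range_piece pcC_1_10 y (by omega) (by omega)
  rcases Nat.lt_or_ge y 114688 with h11 | h11
  · exact range_piece pcC_1_11 y (by omega) (by omega)
  rcases Nat.lt_or_ge y 118784 with h12 | h12
  · exact range_piece pcC_1_12 y (by omega) (by omega)
  rcases Nat.lt_or_ge y 122880 with h13 | h13
  · exact range_piece pcC_1_13 y (by omega) (by omega)
  rcases Nat.lt_or_ge y 126976 with h14 | h14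
  · exact range_piece pcC_1_14 y (by omega) (by omega)
  exact range_piece pcC_1_15 y (by omega) (by omega)

end Cfsg.Agent.Lib.Helper21.J3O
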