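import Mathlib
import Cfsg.Agent.Lib.Helper21.J3ODefs

/-! Kernel checks for the orbits of the triple cover of J3 on lines (generated): C, part 2. -/

set_option Elab.async false

namespace Cfsg.Agent.Lib.Helper21.J3O
open Cfsg.Agent.Lib.Helper18.SS Matrix Cfsg.Agent.Lib.Helper21.J3U

theorem pcC_2_0 : loopAll 4096 (fun t => compQ (Nat.add 131072 t)) = true := by
  decide +kernel
theorem pcC_2_1 : loopAll 4096 (fun t => compQ (Nat.add 135168 t)) = true := by
  decide +kernel
theorem pcC_2_2 : loopAll 4096 (fun t => compQ (Nat.add 139264 t)) = true := by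
  decide +kernel
theorem pcC_2_3 : loopAll 4096 (fun t => compQ (Nat.add 143360 t)) = true := by
  decide +kernel
theorem pcC_2_4 : loopAll 4096 (fun t => compQ (Nat.add 147456 t)) = true := by
  decide +kernel
theorem pcC_2_5 : loopAll 4096 (fun t => compQ (Nat.add 151552 t)) = true := by
  decide +kernel
theorem pcC_2_6 : loopAll 4096 (fun t => compQ (Nat.add 155648 t)) = true := by
  decide +kernel
theorem pcC_2_7 : loopAll 4096 (fun t => compQ (Nat.add 159744 t)) = true := by
  decide +kernel
theorem pcC_2_8 : loopAll 4096 (fun t => compQ (Nat.add 163840 t)) = true := by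
  decide +kernel
theorem pcC_2_9 : loopAll 4096 (fun t => compQ (Nat.add 167936 t)) = true := by
  decide +kernel
theorem pcC_2_10 : loopAll 4096 (fun t => compQ (Nat.add 172032 t)) = true := by
  decide +kernel
theorem pcC_2_11 : loopAll 4096 (fun t => compQ (Nat.add 176128 t)) = true := by
  decide +kernel
theorem pcC_2_12 : loopAll 4096 (fun t => compQ (Nat.add 180224 t)) = true := by
  decide +kernel
theorem pcC_2_13 : loopAll 4096 (fun t => compQ (Nat.add 184320 t)) = true := by
  decide +kernel
theorem pcC_2_14 : loopAll 4096 (fun t => compQ (Nat.add 188416 t)) = true := by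
  decide +kernel
theorem pcC_2_15 : loopAll 4096 (fun t => compQ (Nat.add 192512 t)) = true := by
  decide +kernel

theorem rngC_2 : ∀ y, 131072 ≤ y → y < 196608 → compQ y = true := by
  intro y hlo hhi
  rcases Nat.lt_or_ge y 135168 with h0 | h0
  · exact range_piece pcC_2_0 y (by omega) (by omega)
  rcases Nat.lt_or_ge y 139264 with h1 | h1
  · exact range_piece pcC_2_1 y (by omega) (by omega)
  rcases Nat.lt_or_ge y 143360 with h2 | h2
  · exact range_piece pcC_2_2 y (by omega) (by omega)
  rcases Nat.lt_or_ge y 147456 with h3 | h3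
  · exact range_piece pcC_2_3 y (by omega) (by omega)
  rcases Nat.lt_or_ge y 151552 with h4 | h4
  · exact range_piece pcC_2_4 y (by omega) (by omega)
  rcases Nat.lt_or_ge y 155648 with h5 | h5
  · exact range_piece pcC_2_5 y (by omega) (by omega)
  rcases Nat.lt_or_ge y 159744 with h6 | h6
  · exact range_piece pcC_2_6 y (by omega) (by omega)
  rcases Nat.lt_or_ge y 163840 with h7 | h7
  · exact range_piece pcC_2_7 y (by omega) (by omega)
  rcases Nat.lt_or_ge y 167936 with h8 | h8
  · exact range_piece pcC_2_8 y (by omega) (by omega)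
  rcases Nat.lt_or_ge y 172032 with h9 | h9
  · exact range_piece pcC_2_9 y (by omega) (by omega)
  rcases Nat.lt_or_ge y 176128 with h10 | h10
  · exact range_piece pcC_2_10 y (by omega) (by omega)
  rcases Nat.lt_or_ge y 180224 with h11 | h11
  · exact range_piece pcC_2_11 y (by omega) (by omega)
  rcases Nat.lt_or_ge y 184320 with h12 | h12
  · exact range_piece pcC_2_12 y (by omega) (by omega)
  rcases Nat.lt_or_ge y 188416 with h13 | h13
  · exact range_piece pcC_2_13 y (by omega) (by omega)
  rcases Nat.lt_or_ge y 192512 with h14 | h14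
  · exact range_piece pcC_2_14 y (by omega) (by omega)
  exact range_piece pcC_2_15 y (by omega) (by omega)

end Cfsg.Agent.Lib.Helper21.J3O
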