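import Mathlib
import Cfsg.Agent.Lib.Helper21.J3ODefs

/-! Kernel checks for the orbits of the triple cover of J3 on lines (generated): C, part 3. -/

set_option Elab.async false

namespace Cfsg.Agent.Lib.Helper21.J3O
open Cfsg.Agent.Lib.Helper18.SS Matrix Cfsg.Agent.Lib.Helper21.J3U

theorem pcC_3_0 : loopAll 4096 (fun t => compQ (Nat.add 196608 t)) = true := by
  decide +kernel
theorem pcC_3_1 : loopAll 4096 (fun t => compQ (Nat.add 200704 t)) = true := by
  decide +kernel
theorem pcC_3_2 : loopAll 4096 (fun t => compQ (Nat.add 204800 t)) = true := by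
  decide +kernel
theorem pcC_3_3 : loopAll 4096 (fun t => compQ (Nat.add 208896 t)) = true := by
  decide +kernel
theorem pcC_3_4 : loopAll 4096 (fun t => compQ (Nat.add 212992 t)) = true := by
  decide +kernel
theorem pcC_3_5 : loopAll 4096 (fun t => compQ (Nat.add 217088 t)) = true := by
  decide +kernel
theorem pcC_3_6 : loopAll 4096 (fun t => compQ (Nat.add 221184 t)) = true := by
  decide +kernel
theorem pcC_3_7 : loopAll 4096 (fun t => compQ (Nat.add 225280 t)) = true := by
  decide +kernel
theorem pcC_3_8 : loopAll 4096 (fun t => compQ (Nat.add 229376 t)) = true := by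
  decide +kernel
theorem pcC_3_9 : loopAll 4096 (fun t => compQ (Nat.add 233472 t)) = true := by
  decide +kernel
theorem pcC_3_10 : loopAll 4096 (fun t => compQ (Nat.add 237568 t)) = true := by
  decide +kernel
theorem pcC_3_11 : loopAll 4096 (fun t => compQ (Nat.add 241664 t)) = true := by
  decide +kernel
theorem pcC_3_12 : loopAll 4096 (fun t => compQ (Nat.add 245760 t)) = true := by
  decide +kernel
theorem pcC_3_13 : loopAll 4096 (fun t => compQ (Nat.add 249856 t)) = true := by
  decide +kernel
theorem pcC_3_14 : loopAll 4096 (fun t => compQ (Nat.add 253952 t)) = true := by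
  decide +kernel
theorem pcC_3_15 : loopAll 4096 (fun t => compQ (Nat.add 258048 t)) = true := by
  decide +kernel

theorem rngC_3 : ∀ y, 196608 ≤ y → y < 262144 → compQ y = true := by
  intro y hlo hhi
  rcases Nat.lt_or_ge y 200704 with h0 | h0
  · exact range_piece pcC_3_0 y (by omega) (by omega)
  rcases Nat.lt_or_ge y 204800 with h1 | h1
  · exact range_piece pcC_3_1 y (by omega) (by omega)
  rcases Nat.lt_or_ge y 208896 with h2 | h2
  · exact range_piece pcC_3_2 y (by omega) (by omega)
  rcases Nat.lt_or_ge y 212992 with h3 | h3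
  · exact range_piece pcC_3_3 y (by omega) (by omega)
  rcases Nat.lt_or_ge y 217088 with h4 | h4
  · exact range_piece pcC_3_4 y (by omega) (by omega)
  rcases Nat.lt_or_ge y 221184 with h5 | h5
  · exact range_piece pcC_3_5 y (by omega) (by omega)
  rcases Nat.lt_or_ge y 225280 with h6 | h6
  · exact range_piece pcC_3_6 y (by omega) (by omega)
  rcases Nat.lt_or_ge y 229376 with h7 | h7
  · exact range_piece pcC_3_7 y (by omega) (by omega)
  rcases Nat.lt_or_ge y 233472 with h8 | h8
  · exact range_piece pcC_3_8 y (by omega) (by omega)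
  rcases Nat.lt_or_ge y 237568 with h9 | h9
  · exact range_piece pcC_3_9 y (by omega) (by omega)
  rcases Nat.lt_or_ge y 241664 with h10 | h10
  · exact range_piece pcC_3_10 y (by omega) (by omega)
  rcases Nat.lt_or_ge y 245760 with h11 | h11
  · exact range_piece pcC_3_11 y (by omega) (by omega)
  rcases Nat.lt_or_ge y 249856 with h12 | h12
  · exact range_piece pcC_3_12 y (by omega) (by omega)
  rcases Nat.lt_or_ge y 253952 with h13 | h13
  · exact range_piece pcC_3_13 y (by omega) (by omega)
  rcases Nat.lt_or_ge y 258048 with h14 | h14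
  · exact range_piece pcC_3_14 y (by omega) (by omega)
  exact range_piece pcC_3_15 y (by omega) (by omega)

end Cfsg.Agent.Lib.Helper21.J3O
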