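import Mathlib
import Cfsg.Agent.Lib.Helper21.J3ODefs

/-! Kernel checks for the orbits of the triple cover of J3 on lines (generated): N, part 0. -/

set_option Elab.async false

namespace Cfsg.Agent.Lib.Helper21.J3O
open Cfsg.Agent.Lib.Helper18.SS Matrix Cfsg.Agent.Lib.Helper21.J3U

theorem pcN_0_0 : loopAll 8000 (fun t => nrmQ (Nat.add 0 t)) = true := by
  decide +kernel
theorem pcN_0_1 : loopAll 8000 (fun t => nrmQ (Nat.add 8000 t)) = true := by
  decide +kernel
theorem pcN_0_2 : loopAll 7256 (fun t => nrmQ (Nat.add 16000 t)) = true := by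
  decide +kernel

theorem rngN_0 : ∀ y, 0 ≤ y → y < 23256 → nrmQ y = true := by
  intro y hlo hhi
  rcases Nat.lt_or_ge y 8000 with h0 | h0
  · exact range_piece pcN_0_0 y (by omega) (by omega)
  rcases Nat.lt_or_ge y 16000 with h1 | h1
  · exact range_piece pcN_0_1 y (by omega) (by omega)
  exact range_piece pcN_0_2 y (by omega) (by omega)

end Cfsg.Agent.Lib.Helper21.J3O
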