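import Mathlib
import Cfsg.Agent.Lib.Helper21.J3ODefs

/-! Kernel checks for the orbits of the triple cover of J3 on lines (generated): T2, part 0. -/

set_option Elab.async false

namespace Cfsg.Agent.Lib.Helper21.J3O
open Cfsg.Agent.Lib.Helper18.SS Matrix Cfsg.Agent.Lib.Helper21.J3U

theorem pcT2_0_0 : loopAll 1000 (fun t => treeQ tT2 tP2 tG2 tD2 tC2 n2 root2 (Nat.add 0 t)) = true := by
  decide +kernel
theorem pcT2_0_1 : loopAll 1000 (fun t => treeQ tT2 tP2 tG2 tD2 tC2 n2 root2 (Nat.add 1000 t)) = true := by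
  decide +kernel
theorem pcT2_0_2 : loopAll 1000 (fun t => treeQ tT2 tP2 tG2 tD2 tC2 n2 root2 (Nat.add 2000 t)) = true := by
  decide +kernel
theorem pcT2_0_3 : loopAll 1000 (fun t => treeQ tT2 tP2 tG2 tD2 tC2 n2 root2 (Nat.add 3000 t)) = true := by
  decide +kernel
theorem pcT2_0_4 : loopAll 1000 (fun t => treeQ tT2 tP2 tG2 tD2 tC2 n2 root2 (Nat.add 4000 t)) = true := by
  decide +kernel
theorem pcT2_0_5 : loopAll 1000 (fun t => treeQ tT2 tP2 tG2 tD2 tC2 n2 root2 (Nat.add 5000 t)) = true := by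
  decide +kernel
theorem pcT2_0_6 : loopAll 1000 (fun t => treeQ tT2 tP2 tG2 tD2 tC2 n2 root2 (Nat.add 6000 t)) = true := by
  decide +kernel
theorem pcT2_0_7 : loopAll 1000 (fun t => treeQ tT2 tP2 tG2 tD2 tC2 n2 root2 (Nat.add 7000 t)) = true := by
  decide +kernel
theorem pcT2_0_8 : loopAll 1000 (fun t => treeQ tT2 tP2 tG2 tD2 tC2 n2 root2 (Nat.add 8000 t)) = true := by
  decide +kernel
theorem pcT2_0_9 : loopAll 1000 (fun t => treeQ tT2 tP2 tG2 tD2 tC2 n2 root2 (Nat.add 9000 t)) = true := by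
  decide +kernel
theorem pcT2_0_10 : loopAll 1000 (fun t => treeQ tT2 tP2 tG2 tD2 tC2 n2 root2 (Nat.add 10000 t)) = true := by
  decide +kernel

theorem rngT2_0 : ∀ y, 0 ≤ y → y < 11000 → treeQ tT2 tP2 tG2 tD2 tC2 n2 root2 y = true := by
  intro y hlo hhi
  rcases Nat.lt_or_ge y 1000 with h0 | h0
  · exact range_piece pcT2_0_0 y (by omega) (by omega)
  rcases Nat.lt_or_ge y 2000 with h1 | h1
  · exact range_piece pcT2_0_1 y (by omega) (by omega)
  rcases Nat.lt_or_ge y 3000 with h2 | h2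
  · exact range_piece pcT2_0_2 y (by omega) (by omega)
  rcases Nat.lt_or_ge y 4000 with h3 | h3
  · exact range_piece pcT2_0_3 y (by omega) (by omega)
  rcases Nat.lt_or_ge y 5000 with h4 | h4
  · exact range_piece pcT2_0_4 y (by omega) (by omega)
  rcases Nat.lt_or_ge y 6000 with h5 | h5
  · exact range_piece pcT2_0_5 y (by omega) (by omega)
  rcases Nat.lt_or_ge y 7000 with h6 | h6
  · exact range_piece pcT2_0_6 y (by omega) (by omega)
  rcases Nat.lt_or_ge y 8000 with h7 | h7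
  · exact range_piece pcT2_0_7 y (by omega) (by omega)
  rcases Nat.lt_or_ge y 9000 with h8 | h8
  · exact range_piece pcT2_0_8 y (by omega) (by omega)
  rcases Nat.lt_or_ge y 10000 with h9 | h9
  · exact range_piece pcT2_0_9 y (by omega) (by omega)
  exact range_piece pcT2_0_10 y (by omega) (by omega)

end Cfsg.Agent.Lib.Helper21.J3O
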