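import Mathlib
import Cfsg.Agent.Lib.Helper21.J3ODefs

/-! Kernel checks for the orbits of the triple cover of J3 on lines (generated): T2, part 1. -/

set_option Elab.async false

namespace Cfsg.Agent.Lib.Helper21.J3O
open Cfsg.Agent.Lib.Helper18.SS Matrix Cfsg.Agent.Lib.Helper21.J3U

theorem pcT2_1_0 : loopAll 1000 (fun t => treeQ tT2 tP2 tG2 tD2 tC2 n2 root2 (Nat.add 11000 t)) = true := by
  decide +kernel
theorem pcT2_1_1 : loopAll 1000 (fun t => treeQ tT2 tP2 tG2 tD2 tC2 n2 root2 (Nat.add 12000 t)) = true := by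
  decide +kernel
theorem pcT2_1_2 : loopAll 1000 (fun t => treeQ tT2 tP2 tG2 tD2 tC2 n2 root2 (Nat.add 13000 t)) = true := by
  decide +kernel
theorem pcT2_1_3 : loopAll 1000 (fun t => treeQ tT2 tP2 tG2 tD2 tC2 n2 root2 (Nat.add 14000 t)) = true := by
  decide +kernel
theorem pcT2_1_4 : loopAll 1000 (fun t => treeQ tT2 tP2 tG2 tD2 tC2 n2 root2 (Nat.add 15000 t)) = true := by
  decide +kernel
theorem pcT2_1_5 : loopAll 1000 (fun t => treeQ tT2 tP2 tG2 tD2 tC2 n2 root2 (Nat.add 16000 t)) = true := by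
  decide +kernel
theorem pcT2_1_6 : loopAll 1000 (fun t => treeQ tT2 tP2 tG2 tD2 tC2 n2 root2 (Nat.add 17000 t)) = true := by
  decide +kernel
theorem pcT2_1_7 : loopAll 1000 (fun t => treeQ tT2 tP2 tG2 tD2 tC2 n2 root2 (Nat.add 18000 t)) = true := by
  decide +kernel
theorem pcT2_1_8 : loopAll 1000 (fun t => treeQ tT2 tP2 tG2 tD2 tC2 n2 root2 (Nat.add 19000 t)) = true := by
  decide +kernel
theorem pcT2_1_9 : loopAll 1000 (fun t => treeQ tT2 tP2 tG2 tD2 tC2 n2 root2 (Nat.add 20000 t)) = true := by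
  decide +kernel
theorem pcT2_1_10 : loopAll 1000 (fun t => treeQ tT2 tP2 tG2 tD2 tC2 n2 root2 (Nat.add 21000 t)) = true := by
  decide +kernel

theorem rngT2_1 : ∀ y, 11000 ≤ y → y < 22000 → treeQ tT2 tP2 tG2 tD2 tC2 n2 root2 y = true := by
  intro y hlo hhi
  rcases Nat.lt_or_ge y 12000 with h0 | h0
  · exact range_piece pcT2_1_0 y (by omega) (by omega)
  rcases Nat.lt_or_ge y 13000 with h1 | h1
  · exact range_piece pcT2_1_1 y (by omega) (by omega)
  rcases Nat.lt_or_ge y 14000 with h2 | h2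
  · exact range_piece pcT2_1_2 y (by omega) (by omega)
  rcases Nat.lt_or_ge y 15000 with h3 | h3
  · exact range_piece pcT2_1_3 y (by omega) (by omega)
  rcases Nat.lt_or_ge y 16000 with h4 | h4
  · exact range_piece pcT2_1_4 y (by omega) (by omega)
  rcases Nat.lt_or_ge y 17000 with h5 | h5
  · exact range_piece pcT2_1_5 y (by omega) (by omega)
  rcases Nat.lt_or_ge y 18000 with h6 | h6
  · exact range_piece pcT2_1_6 y (by omega) (by omega)
  rcases Nat.lt_or_ge y 19000 with h7 | h7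
  · exact range_piece pcT2_1_7 y (by omega) (by omega)
  rcases Nat.lt_or_ge y 20000 with h8 | h8
  · exact range_piece pcT2_1_8 y (by omega) (by omega)
  rcases Nat.lt_or_ge y 21000 with h9 | h9
  · exact range_piece pcT2_1_9 y (by omega) (by omega)
  exact range_piece pcT2_1_10 y (by omega) (by omega)

end Cfsg.Agent.Lib.Helper21.J3O
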