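import Mathlib
import Cfsg.Agent.Lib.Helper21.J3ODefs

/-! Kernel checks for the orbits of the triple cover of J3 on lines (generated): T2, part 2. -/

set_option Elab.async false

namespace Cfsg.Agent.Lib.Helper21.J3O
open Cfsg.Agent.Lib.Helper18.SS Matrix Cfsg.Agent.Lib.Helper21.J3U

theorem pcT2_2_0 : loopAll 1000 (fun t => treeQ tT2 tP2 tG2 tD2 tC2 n2 root2 (Nat.add 22000 t)) = true := by
  decide +kernel
theorem pcT2_2_1 : loopAll 1000 (fun t => treeQ tT2 tP2 tG2 tD2 tC2 n2 root2 (Nat.add 23000 t)) = true := by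
  decide +kernel
theorem pcT2_2_2 : loopAll 1000 (fun t => treeQ tT2 tP2 tG2 tD2 tC2 n2 root2 (Nat.add 24000 t)) = true := by
  decide +kernel
theorem pcT2_2_3 : loopAll 1000 (fun t => treeQ tT2 tP2 tG2 tD2 tC2 n2 root2 (Nat.add 25000 t)) = true := by
  decide +kernel
theorem pcT2_2_4 : loopAll 1000 (fun t => treeQ tT2 tP2 tG2 tD2 tC2 n2 root2 (Nat.add 26000 t)) = true := by
  decide +kernel
theorem pcT2_2_5 : loopAll 1000 (fun t => treeQ tT2 tP2 tG2 tD2 tC2 n2 root2 (Nat.add 27000 t)) = true := by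
  decide +kernel
theorem pcT2_2_6 : loopAll 1000 (fun t => treeQ tT2 tP2 tG2 tD2 tC2 n2 root2 (Nat.add 28000 t)) = true := by
  decide +kernel
theorem pcT2_2_7 : loopAll 1000 (fun t => treeQ tT2 tP2 tG2 tD2 tC2 n2 root2 (Nat.add 29000 t)) = true := by
  decide +kernel
theorem pcT2_2_8 : loopAll 1000 (fun t => treeQ tT2 tP2 tG2 tD2 tC2 n2 root2 (Nat.add 30000 t)) = true := by
  decide +kernel
theorem pcT2_2_9 : loopAll 1000 (fun t => treeQ tT2 tP2 tG2 tD2 tC2 n2 root2 (Nat.add 31000 t)) = true := by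
  decide +kernel
theorem pcT2_2_10 : loopAll 1000 (fun t => treeQ tT2 tP2 tG2 tD2 tC2 n2 root2 (Nat.add 32000 t)) = true := by
  decide +kernel

theorem rngT2_2 : ∀ y, 22000 ≤ y → y < 33000 → treeQ tT2 tP2 tG2 tD2 tC2 n2 root2 y = true := by
  intro y hlo hhi
  rcases Nat.lt_or_ge y 23000 with h0 | h0
  · exact range_piece pcT2_2_0 y (by omega) (by omega)
  rcases Nat.lt_or_ge y 24000 with h1 | h1
  · exact range_piece pcT2_2_1 y (by omega) (by omega)
  rcases Nat.lt_or_ge y 25000 with h2 | h2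
  · exact range_piece pcT2_2_2 y (by omega) (by omega)
  rcases Nat.lt_or_ge y 26000 with h3 | h3
  · exact range_piece pcT2_2_3 y (by omega) (by omega)
  rcases Nat.lt_or_ge y 27000 with h4 | h4
  · exact range_piece pcT2_2_4 y (by omega) (by omega)
  rcases Nat.lt_or_ge y 28000 with h5 | h5
  · exact range_piece pcT2_2_5 y (by omega) (by omega)
  rcases Nat.lt_or_ge y 29000 with h6 | h6
  · exact range_piece pcT2_2_6 y (by omega) (by omega)
  rcases Nat.lt_or_ge y 30000 with h7 | h7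
  · exact range_piece pcT2_2_7 y (by omega) (by omega)
  rcases Nat.lt_or_ge y 31000 with h8 | h8
  · exact range_piece pcT2_2_8 y (by omega) (by omega)
  rcases Nat.lt_or_ge y 32000 with h9 | h9
  · exact range_piece pcT2_2_9 y (by omega) (by omega)
  exact range_piece pcT2_2_10 y (by omega) (by omega)

end Cfsg.Agent.Lib.Helper21.J3O
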