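import Mathlib
import Cfsg.Agent.Lib.Helper21.J3ODefs

/-! Kernel checks for the orbits of the triple cover of J3 on lines (generated): T2, part 3. -/

set_option Elab.async false

namespace Cfsg.Agent.Lib.Helper21.J3O
open Cfsg.Agent.Lib.Helper18.SS Matrix Cfsg.Agent.Lib.Helper21.J3U

theorem pcT2_3_0 : loopAll 1000 (fun t => treeQ tT2 tP2 tG2 tD2 tC2 n2 root2 (Nat.add 33000 t)) = true := by
  decide +kernel
theorem pcT2_3_1 : loopAll 1000 (fun t => treeQ tT2 tP2 tG2 tD2 tC2 n2 root2 (Nat.add 34000 t)) = true := by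
  decide +kernel
theorem pcT2_3_2 : loopAll 1000 (fun t => treeQ tT2 tP2 tG2 tD2 tC2 n2 root2 (Nat.add 35000 t)) = true := by
  decide +kernel
theorem pcT2_3_3 : loopAll 1000 (fun t => treeQ tT2 tP2 tG2 tD2 tC2 n2 root2 (Nat.add 36000 t)) = true := by
  decide +kernel
theorem pcT2_3_4 : loopAll 1000 (fun t => treeQ tT2 tP2 tG2 tD2 tC2 n2 root2 (Nat.add 37000 t)) = true := by
  decide +kernel
theorem pcT2_3_5 : loopAll 1000 (fun t => treeQ tT2 tP2 tG2 tD2 tC2 n2 root2 (Nat.add 38000 t)) = true := by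
  decide +kernel
theorem pcT2_3_6 : loopAll 1000 (fun t => treeQ tT2 tP2 tG2 tD2 tC2 n2 root2 (Nat.add 39000 t)) = true := by
  decide +kernel
theorem pcT2_3_7 : loopAll 1000 (fun t => treeQ tT2 tP2 tG2 tD2 tC2 n2 root2 (Nat.add 40000 t)) = true := by
  decide +kernel
theorem pcT2_3_8 : loopAll 1000 (fun t => treeQ tT2 tP2 tG2 tD2 tC2 n2 root2 (Nat.add 41000 t)) = true := by
  decide +kernel
theorem pcT2_3_9 : loopAll 1000 (fun t => treeQ tT2 tP2 tG2 tD2 tC2 n2 root2 (Nat.add 42000 t)) = true := by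
  decide +kernel
theorem pcT2_3_10 : loopAll 605 (fun t => treeQ tT2 tP2 tG2 tD2 tC2 n2 root2 (Nat.add 43000 t)) = true := by
  decide +kernel

theorem rngT2_3 : ∀ y, 33000 ≤ y → y < 43605 → treeQ tT2 tP2 tG2 tD2 tC2 n2 root2 y = true := by
  intro y hlo hhi
  rcases Nat.lt_or_ge y 34000 with h0 | h0
  · exact range_piece pcT2_3_0 y (by omega) (by omega)
  rcases Nat.lt_or_ge y 35000 with h1 | h1
  · exact range_piece pcT2_3_1 y (by omega) (by omega)
  rcases Nat.lt_or_ge y 36000 with h2 | h2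
  · exact range_piece pcT2_3_2 y (by omega) (by omega)
  rcases Nat.lt_or_ge y 37000 with h3 | h3
  · exact range_piece pcT2_3_3 y (by omega) (by omega)
  rcases Nat.lt_or_ge y 38000 with h4 | h4
  · exact range_piece pcT2_3_4 y (by omega) (by omega)
  rcases Nat.lt_or_ge y 39000 with h5 | h5
  · exact range_piece pcT2_3_5 y (by omega) (by omega)
  rcases Nat.lt_or_ge y 40000 with h6 | h6
  · exact range_piece pcT2_3_6 y (by omega) (by omega)
  rcases Nat.lt_or_ge y 41000 with h7 | h7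
  · exact range_piece pcT2_3_7 y (by omega) (by omega)
  rcases Nat.lt_or_ge y 42000 with h8 | h8
  · exact range_piece pcT2_3_8 y (by omega) (by omega)
  rcases Nat.lt_or_ge y 43000 with h9 | h9
  · exact range_piece pcT2_3_9 y (by omega) (by omega)
  exact range_piece pcT2_3_10 y (by omega) (by omega)

end Cfsg.Agent.Lib.Helper21.J3O
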