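import Mathlib
import Cfsg.Agent.Lib.Helper21.J3ODefs
import Cfsg.Agent.Lib.Helper21.J3OChkA0
import Cfsg.Agent.Lib.Helper21.J3OChkA1
import Cfsg.Agent.Lib.Helper21.J3OChkB0
import Cfsg.Agent.Lib.Helper21.J3OChkB1
import Cfsg.Agent.Lib.Helper21.J3OChkT10
import Cfsg.Agent.Lib.Helper21.J3OChkT11
import Cfsg.Agent.Lib.Helper21.J3OChkT20
import Cfsg.Agent.Lib.Helper21.J3OChkT21
import Cfsg.Agent.Lib.Helper21.J3OChkT22
import Cfsg.Agent.Lib.Helper21.J3OChkT23
import Cfsg.Agent.Lib.Helper21.J3OChkC0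
import Cfsg.Agent.Lib.Helper21.J3OChkC1
import Cfsg.Agent.Lib.Helper21.J3OChkC2
import Cfsg.Agent.Lib.Helper21.J3OChkC3
import Cfsg.Agent.Lib.Helper21.J3OChkS0
import Cfsg.Agent.Lib.Helper21.J3OChkN0

/-! Kernel checks for the orbits of the triple cover of J3 on lines: summary (generated). -/

namespace Cfsg.Agent.Lib.Helper21.J3O
open Cfsg.Agent.Lib.Helper18.SS Matrix Cfsg.Agent.Lib.Helper21.J3U

theorem chkA : ∀ y, y < 23256 → closQ cMA tSA tCA y = true := by
  intro y hy
  rcases Nat.lt_or_ge y 12000 with h0 | h0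
  · exact rngA_0 y (by omega) (by omega)
  exact rngA_1 y (by omega) (by omega)

theorem chkB : ∀ y, y < 23256 → closQ cMB tSB tCB y = true := by
  intro y hy
  rcases Nat.lt_or_ge y 12000 with h0 | h0
  · exact rngB_0 y (by omega) (by omega)
  exact rngB_1 y (by omega) (by omega)

theorem chkT1 : ∀ y, y < 23256 → treeQ tT1 tP1 tG1 tD1 tC1 n1 root1 y = true := by
  intro y hy
  rcases Nat.lt_or_ge y 12000 with h0 | h0
  · exact rngT1_0 y (by omega) (by omega)
  exact rngT1_1 y (by omega) (by omega)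

theorem chkT2 : ∀ y, y < 43605 → treeQ tT2 tP2 tG2 tD2 tC2 n2 root2 y = true := by
  intro y hy
  rcases Nat.lt_or_ge y 11000 with h0 | h0
  · exact rngT2_0 y (by omega) (by omega)
  rcases Nat.lt_or_ge y 22000 with h1 | h1
  · exact rngT2_1 y (by omega) (by omega)
  rcases Nat.lt_or_ge y 33000 with h2 | h2
  · exact rngT2_2 y (by omega) (by omega)
  exact rngT2_3 y (by omega) (by omega)

theorem chkC : ∀ y, y < 262144 → compQ y = true := by
  intro y hy
  rcases Nat.lt_or_ge y 65536 with h0 | h0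
  · exact rngC_0 y (by omega) (by omega)
  rcases Nat.lt_or_ge y 131072 with h1 | h1
  · exact rngC_1 y (by omega) (by omega)
  rcases Nat.lt_or_ge y 196608 with h2 | h2
  · exact rngC_2 y (by omega) (by omega)
  exact rngC_3 y (by omega) (by omega)

theorem chkS : ∀ y, y < 23255 → sortQ y = true := by
  intro y hy
  exact rngS_0 y (by omega) (by omega)

theorem chkN : ∀ y, y < 23256 → nrmQ y = true := by
  intro y hy
  exact rngN_0 y (by omega) (by omega)

theorem chk_root1 : fld 18 tT1 root1 = 1 := by decide +kernel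

end Cfsg.Agent.Lib.Helper21.J3O
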