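import Mathlib
import Cfsg.Agent.Lib.Helper21.J3ODefs

/-! Kernel checks for the orbits of the triple cover of J3 on lines (generated): C, part 0. -/

set_option Elab.async false

namespace Cfsg.Agent.Lib.Helper21.J3O
open Cfsg.Agent.Lib.Helper18.SS Matrix Cfsg.Agent.Lib.Helper21.J3U

theorem pcC_0_0 : loopAll 4096 (fun t => compQ (Nat.add 0 t)) = true := by
  decide +kernel
theorem pcC_0_1 : loopAll 4096 (fun t => compQ (Nat.add 4096 t)) = true := by
  decide +kernel
theorem pcC_0_2 : loopAll 4096 (fun t => compQ (Nat.add 8192 t)) = true := by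
  decide +kernel
theorem pcC_0_3 : loopAll 4096 (fun t => compQ (Nat.add 12288 t)) = true := by
  decide +kernel
theorem pcC_0_4 : loopAll 4096 (fun t => compQ (Nat.add 16384 t)) = true := by
  decide +kernel
theorem pcC_0_5 : loopAll 4096 (fun t => compQ (Nat.add 20480 t)) = true := by
  decide +kernel
theorem pcC_0_6 : loopAll 4096 (fun t => compQ (Nat.add 24576 t)) = true := by
  decide +kernel
theorem pcC_0_7 : loopAll 4096 (fun t => compQ (Nat.add 28672 t)) = true := by
  decide +kernel
theorem pcC_0_8 : loopAll 4096 (fun t => compQ (Nat.add 32768 t)) = true := by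
  decide +kernel
theorem pcC_0_9 : loopAll 4096 (fun t => compQ (Nat.add 36864 t)) = true := by
  decide +kernel
theorem pcC_0_10 : loopAll 4096 (fun t => compQ (Nat.add 40960 t)) = true := by
  decide +kernel
theorem pcC_0_11 : loopAll 4096 (fun t => compQ (Nat.add 45056 t)) = true := by
  decide +kernel
theorem pcC_0_12 : loopAll 4096 (fun t => compQ (Nat.add 49152 t)) = true := by
  decide +kernel
theorem pcC_0_13 : loopAll 4096 (fun t => compQ (Nat.add 53248 t)) = true := by
  decide +kernel
theorem pcC_0_14 : loopAll 4096 (fun t => compQ (Nat.add 57344 t)) = true := by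
  decide +kernel
theorem pcC_0_15 : loopAll 4096 (fun t => compQ (Nat.add 61440 t)) = true := by
  decide +kernel

theorem rngC_0 : ∀ y, 0 ≤ y → y < 65536 → compQ y = true := by
  intro y hlo hhi
  rcases Nat.lt_or_ge y 4096 with h0 | h0
  · exact range_piece pcC_0_0 y (by omega) (by omega)
  rcases Nat.lt_or_ge y 8192 with h1 | h1
  · exact range_piece pcC_0_1 y (by omega) (by omega)
  rcases Nat.lt_or_ge y 12288 with h2 | h2
  · exact range_piece pcC_0_2 y (by omega) (by omega)
  rcases Nat.lt_or_ge y 16384 with h3 | h3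
  · exact range_piece pcC_0_3 y (by omega) (by omega)
  rcases Nat.lt_or_ge y 20480 with h4 | h4
  · exact range_piece pcC_0_4 y (by omega) (by omega)
  rcases Nat.lt_or_ge y 24576 with h5 | h5
  · exact range_piece pcC_0_5 y (by omega) (by omega)
  rcases Nat.lt_or_ge y 28672 with h6 | h6
  · exact range_piece pcC_0_6 y (by omega) (by omega)
  rcases Nat.lt_or_ge y 32768 with h7 | h7
  · exact range_piece pcC_0_7 y (by omega) (by omega)
  rcases Nat.lt_or_ge y 36864 with h8 | h8
  · exact range_piece pcC_0_8 y (by omega) (by omega)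
  rcases Nat.lt_or_ge y 40960 with h9 | h9
  · exact range_piece pcC_0_9 y (by omega) (by omega)
  rcases Nat.lt_or_ge y 45056 with h10 | h10
  · exact range_piece pcC_0_10 y (by omega) (by omega)
  rcases Nat.lt_or_ge y 49152 with h11 | h11
  · exact range_piece pcC_0_11 y (by omega) (by omega)
  rcases Nat.lt_or_ge y 53248 with h12 | h12
  · exact range_piece pcC_0_12 y (by omega) (by omega)
  rcases Nat.lt_or_ge y 57344 with h13 | h13
  · exact range_piece pcC_0_13 y (by omega) (by omega)
  rcases Nat.lt_or_ge y 61440 with h14 | h14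
  · exact range_piece pcC_0_14 y (by omega) (by omega)
  exact range_piece pcC_0_15 y (by omega) (by omega)

end Cfsg.Agent.Lib.Helper21.J3O
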