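import Mathlib
import Cfsg.Prelude.Def_Spor_J3
import Cfsg.Agent.Lib.Helper21.J3UDefs
import Cfsg.Agent.Lib.Helper21.J3PData

/-!
# Certificates comparing the two models of the triple cover of `J3`

Straight-line programs of matrix products, checked entry by entry, and the tables of the
generating matrices of the definitions over the concrete field with four elements.
-/

namespace Cfsg.Agent.Lib.Helper21.J3P
open Cfsg.Agent.Lib.Helper18.SS Matrix Cfsg.Spor
open Cfsg.Agent.Lib.Helper21.J3U (Mat9 matOf ent dotQM beq4 beq4_iff sum9 cMA cMB cMAi cMBi)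

/-- entrywise check of a product of coded `9 × 9` matrices -/
noncomputable def prodOK (a b c : ℕ) : Bool :=
  loopAll 9 (fun r => loopAll 9 (fun j => beq4 (dotQM a b r j) (ent 9 c r j)))

theorem prodOK_sound {a b c : ℕ} (h : prodOK a b c = true) :
    matOf 9 9 a * matOf 9 9 b = matOf 9 9 c := by
  ext r j
  have h1 := (loopAll_iff.mp ((loopAll_iff.mp h) r.val r.2)) j.val j.2
  rw [beq4_iff] at h1
  rw [Matrix.mul_apply, sum9]
  exact h1

/-- membership test in a list of numbers -/
def memN (a : ℕ) : List ℕ → Bool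
  | [] => false
  | x :: l => Nat.beq a x || memN a l

theorem memN_iff {a : ℕ} {l : List ℕ} : memN a l = true ↔ a ∈ l := by
  induction l with
  | nil => simp [memN]
  | cons x l ih =>
    rw [memN, Bool.or_eq_true, ih, List.mem_cons]
    constructor
    · rintro (h | h)
      · exact Or.inl (Nat.eq_of_beq_eq_true h)
      · exact Or.inr h
    · rintro (h | h)
      · left; rw [h]; exact Nat.beq_refl x
      · exact Or.inr h

/-- check of a straight-line program of products, starting from the known codes `kn` -/
noncomputable def slpOK : List ℕ → List (ℕ × ℕ × ℕ) → Bool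
  | _, [] => true
  | kn, (a, b, c) :: l => memN a kn && memN b kn && prodOK a b c && slpOK (c :: kn) l

/-- the codes known after a straight-line program -/
def slpOut : List ℕ → List (ℕ × ℕ × ℕ) → List ℕ
  | kn, [] => kn
  | kn, (_, _, c) :: l => slpOut (c :: kn) l

theorem slp_sound (P : ℕ → Prop)
    (hmul : ∀ a b c, P a → P b → matOf 9 9 a * matOf 9 9 b = matOf 9 9 c → P c) :
    ∀ (l : List (ℕ × ℕ × ℕ)) (kn : List ℕ), (∀ x ∈ kn, P x) → slpOK kn l = true →
      ∀ x ∈ slpOut kn l, P x := by
  intro l
  induction l with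
  | nil => intro kn hk _ x hx; exact hk x hx
  | cons t l ih =>
    obtain ⟨a, b, c⟩ := t
    intro kn hk h x hx
    simp only [slpOK, Bool.and_eq_true] at h
    obtain ⟨⟨⟨ha, hb⟩, hp⟩, hl⟩ := h
    rw [memN_iff] at ha hb
    apply ih (c :: kn) _ hl x hx
    intro y hy
    rcases List.mem_cons.mp hy with rfl | hy
    · exact hmul a b _ (hk a ha) (hk b hb) (prodOK_sound hp)
    · exact hk y hy

/-- the position of an element of the index set -/
def ix (z : F9) : ℕ := 3 * z.1.val + z.2.val

theorem ix_lt (z : F9) : ix z < 9 := by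
  have h1 := ZMod.val_lt z.1
  have h2 := ZMod.val_lt z.2
  unfold ix
  omega

/-- the index set is in bijection with `Fin 9` -/
def idx : F9 ≃ Fin 9 where
  toFun z := ⟨ix z, ix_lt z⟩
  invFun i := (((i.val / 3 : ℕ) : ZMod 3), ((i.val % 3 : ℕ) : ZMod 3))
  left_inv := by decide
  right_inv := by decide

theorem idx_val (z : F9) : (idx z).val = ix z := rfl

/-- the codes of the 43 generating matrices -/
def genCodes : List ℕ :=
  (List.range 9).flatMap (fun n => [gA_ n, gE_ n, gD_ n]) ++
    (List.range 8).flatMap (fun n => [gB_ (n + 1), gC_ (n + 1)])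

/-- the codes of the generators of the verified model -/
def base1 : List ℕ := [cMA, cMB, cMAi, cMBi, cOne, cZ]

/-- an entry of a matrix indexed by the index set of the definitions -/
def entF (M : Matrix F9 F9 F4) (a b : F9) : F4 := M a b

theorem tblA : ∀ Z a b : F9, entF (j3A F4 F4.w Z) a b = ent 9 (gA_ (ix Z)) (ix a) (ix b) := by
  decide +kernel
theorem tblE : ∀ Z a b : F9, entF (j3E F4 F4.w Z) a b = ent 9 (gE_ (ix Z)) (ix a) (ix b) := by
  decide +kernel
theorem tblD : ∀ Z a b : F9, entF (j3D F4 F4.w Z) a b = ent 9 (gD_ (ix Z)) (ix a) (ix b) := by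
  decide +kernel
theorem tblB : ∀ Z a b : F9, entF (j3B F4 Z) a b = ent 9 (gB_ (ix Z)) (ix a) (ix b) := by
  decide +kernel
theorem tblC : ∀ Z a b : F9, entF (j3C F4 Z) a b = ent 9 (gC_ (ix Z)) (ix a) (ix b) := by
  decide +kernel

theorem chk_one : matOf 9 9 cOne = (1 : Mat9) := by decide +kernel
theorem chk_z : matOf 9 9 cZ = F4.w • (1 : Mat9) := by decide +kernel

theorem chk_slp1 : slpOK base1 slp1 = true := by decide +kernel
theorem chk_gens1 : genCodes.all (fun x => memN x (slpOut base1 slp1)) = true := by decide +kernel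
theorem chk_slp2 : slpOK genCodes slp2 = true := by decide +kernel
theorem chk_out2 : (memN cMA (slpOut genCodes slp2) && memN cMB (slpOut genCodes slp2)) = true := by
  decide +kernel

end Cfsg.Agent.Lib.Helper21.J3P
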