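import Mathlib
import Cfsg.Prelude.Def_Spor_J3
import Cfsg.Agent.Lib.Helper21.F4

/-!
# Transport of the matrix group `threeJ3` along a field isomorphism
-/

namespace Cfsg.Agent.Lib.Helper21.J3P
open Cfsg.Spor Matrix
open scoped MatrixGroups

section
variable {K F : Type*} [Field K] [Field F]

theorem map_omegaPow (φ : K →+* F) (w : K) (n : ZMod 3) :
    φ (omegaPow K w n) = omegaPow F (φ w) n := by
  simp [omegaPow]

theorem map_j3A (φ : K →+* F) (w : K) (Z : F9) : (j3A K w Z).map φ = j3A F (φ w) Z := by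
  ext a b
  simp only [j3A, Matrix.map_apply, Matrix.diagonal_apply]
  split_ifs
  · exact map_omegaPow φ w _
  · exact map_zero φ

theorem map_j3E (φ : K →+* F) (w : K) (Z : F9) : (j3E K w Z).map φ = j3E F (φ w) Z := by
  ext a b
  simp only [j3E, Matrix.map_apply, Matrix.diagonal_apply]
  split_ifs
  · exact map_omegaPow φ w _
  · exact map_zero φ

theorem map_j3Lam (φ : K →+* F) (w : K) (Z z : F9) : φ (j3Lam K w Z z) = j3Lam F (φ w) Z z := by
  simp only [j3Lam]
  split_ifs <;> simp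

theorem map_j3D (φ : K →+* F) (w : K) (Z : F9) : (j3D K w Z).map φ = j3D F (φ w) Z := by
  ext a b
  simp only [j3D, Matrix.map_apply, Matrix.of_apply]
  split_ifs
  · exact map_j3Lam φ w Z b
  · exact map_zero φ

theorem map_j3B (φ : K →+* F) (Z : F9) : (j3B K Z).map φ = j3B F Z := by
  ext a b
  simp only [j3B, Matrix.map_apply, Matrix.of_apply]
  split_ifs <;> simp

theorem map_j3C (φ : K →+* F) (Z : F9) : (j3C K Z).map φ = j3C F Z := by
  ext a b
  simp only [j3C, Matrix.map_apply, Matrix.of_apply]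
  split_ifs <;> simp

theorem map_gens (φ : K →+* F) (w : K) {M : Matrix F9 F9 K} (h : M ∈ j3Gens K w) :
    M.map φ ∈ j3Gens F (φ w) := by
  rcases h with (((⟨Z, rfl⟩ | ⟨Z, rfl⟩) | ⟨Z, rfl⟩) | ⟨Z, hZ, rfl⟩) | ⟨Z, hZ, rfl⟩
  · exact Or.inl (Or.inl (Or.inl (Or.inl ⟨Z, (map_j3A φ w Z).symm⟩)))
  · exact Or.inl (Or.inl (Or.inl (Or.inr ⟨Z, (map_j3E φ w Z).symm⟩)))
  · exact Or.inl (Or.inl (Or.inr ⟨Z, (map_j3D φ w Z).symm⟩))
  · exact Or.inl (Or.inr ⟨Z, hZ, map_j3B φ Z⟩)
  · exact Or.inr ⟨Z, hZ, map_j3C φ Z⟩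

/-- the isomorphism of general linear groups induced by a field isomorphism -/
def glEquiv (ρ : K ≃+* F) : GL F9 K ≃* GL F9 F := Units.mapEquiv (RingEquiv.mapMatrix ρ).toMulEquiv

theorem glEquiv_coe (ρ : K ≃+* F) (g : GL F9 K) :
    ((glEquiv ρ g : GL F9 F) : Matrix F9 F9 F) = (g : Matrix F9 F9 K).map ρ := rfl

theorem glEquiv_symm_coe (ρ : K ≃+* F) (g : GL F9 F) :
    (((glEquiv ρ).symm g : GL F9 K) : Matrix F9 F9 K) = (g : Matrix F9 F9 F).map ρ.symm := rfl

theorem threeJ3_map (ρ : K ≃+* F) (w : K) :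
    (threeJ3 K w).map ((glEquiv ρ : GL F9 K ≃* GL F9 F) : GL F9 K →* GL F9 F) = threeJ3 F (ρ w) := by
  unfold threeJ3
  rw [MonoidHom.map_closure]
  congr 1
  ext g
  constructor
  · rintro ⟨g0, hg0, rfl⟩
    exact map_gens (ρ : K →+* F) w hg0
  · intro hg
    refine ⟨(glEquiv ρ).symm g, ?_, (glEquiv ρ).apply_symm_apply g⟩
    have := map_gens (ρ.symm : F →+* K) (ρ w) hg
    simp only [RingEquiv.coe_toRingHom, RingEquiv.symm_apply_apply] at this
    exact this

/-- the induced isomorphism of the groups `threeJ3` -/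
noncomputable def fieldIso (ρ : K ≃+* F) (w : K) : ↥(threeJ3 K w) ≃* ↥(threeJ3 F (ρ w)) :=
  ((glEquiv ρ).subgroupMap (threeJ3 K w)).trans (MulEquiv.subgroupCongr (threeJ3_map ρ w))

end

/-- the Frobenius automorphism of the concrete field with four elements -/
def frobEquiv : F4 ≃+* F4 where
  toFun x := x * x
  invFun x := x * x
  left_inv := by decide
  right_inv := by decide
  map_mul' := by decide
  map_add' := by decide

theorem exists_ringEquiv (F : Type) [Field F] [Fintype F] (hF : Fintype.card F = 4) (ω : F)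
    (hω : ω ^ 2 + ω + 1 = 0) : ∃ ρ : F4 ≃+* F, ρ F4.w = ω := by
  have hc : Fintype.card F4 = Fintype.card F := by rw [hF]; rfl
  let ρ0 : F4 ≃+* F := FiniteField.ringEquivOfCardEq hc
  have h1 : (ρ0.symm ω) ^ 2 + ρ0.symm ω + 1 = 0 := by
    have := congrArg ρ0.symm hω
    simpa using this
  have h2 : ∀ x : F4, x ^ 2 + x + 1 = 0 → x = F4.w ∨ x = F4.w2 := by decide
  rcases h2 _ h1 with h | h
  · refine ⟨ρ0, ?_⟩
    rw [← h, RingEquiv.apply_symm_apply]
  · refine ⟨frobEquiv.trans ρ0, ?_⟩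
    have e : frobEquiv F4.w = F4.w2 := by decide
    rw [RingEquiv.trans_apply, e, ← h, RingEquiv.apply_symm_apply]

/-- transfer of the relevant invariants along a group isomorphism -/
theorem transfer {G G' : Type*} [Group G] [Group G'] (e : G ≃* G') (a b c : ℕ)
    (h1 : Nat.card ↥(Subgroup.center G) = a) (h2 : Nat.card G = b)
    (h3 : Nat.card (G ⧸ Subgroup.center G) = c) (h4 : IsSimpleGroup (G ⧸ Subgroup.center G)) :
    Nat.card ↥(Subgroup.center G') = a ∧ Nat.card G' = b ∧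
      Nat.card (G' ⧸ Subgroup.center G') = c ∧ IsSimpleGroup (G' ⧸ Subgroup.center G') := by
  have hm : (Subgroup.center G).map (e : G →* G') = Subgroup.center G' := by
    ext x
    rw [Subgroup.mem_map, Subgroup.mem_center_iff]
    constructor
    · rintro ⟨z, hz, rfl⟩ g
      rw [Subgroup.mem_center_iff] at hz
      obtain ⟨g0, rfl⟩ := e.surjective g
      show e g0 * e z = e z * e g0
      rw [← map_mul, ← map_mul, hz g0]
    · intro hx
      refine ⟨e.symm x, ?_, e.apply_symm_apply x⟩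
      rw [Subgroup.mem_center_iff]
      intro g
      apply e.injective
      rw [map_mul, map_mul, e.apply_symm_apply]
      exact hx (e g)
  let q : G ⧸ Subgroup.center G ≃* G' ⧸ Subgroup.center G' :=
    QuotientGroup.congr (Subgroup.center G) (Subgroup.center G') e hm
  refine ⟨?_, ?_, ?_, ?_⟩
  · rw [← hm, Subgroup.card_map_of_injective (f := (e : G →* G')) e.injective, h1]
  · rw [← Nat.card_congr e.toEquiv, h2]
  · rw [← Nat.card_congr q.toEquiv, h3]
  · exact q.symm.isSimpleGroup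

end Cfsg.Agent.Lib.Helper21.J3P
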