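import Mathlib
import Cfsg.Agent.Lib.Helper21.J3UDefs

/-! Kernel checks for the triple cover of J3: subspace certificates for generator Ai. -/

set_option Elab.async false

namespace Cfsg.Agent.Lib.Helper21.J3U
open Cfsg.Agent.Lib.Helper18.SS Matrix Cfsg.Agent.Lib.Helper21.J3

theorem rowAi_0 : loopAll 342 (fun t => rowQ cMAi tblCAi cAi (Nat.add 0 t)) = true := by
  decide +kernel
theorem rowAi_1 : loopAll 342 (fun t => rowQ cMAi tblCAi cAi (Nat.add 342 t)) = true := by
  decide +kernel
theorem rowAi_2 : loopAll 342 (fun t => rowQ cMAi tblCAi cAi (Nat.add 684 t)) = true := by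
  decide +kernel
theorem rowAi_3 : loopAll 342 (fun t => rowQ cMAi tblCAi cAi (Nat.add 1026 t)) = true := by
  decide +kernel
theorem rowAi_4 : loopAll 342 (fun t => rowQ cMAi tblCAi cAi (Nat.add 1368 t)) = true := by
  decide +kernel
theorem rowAi_5 : loopAll 342 (fun t => rowQ cMAi tblCAi cAi (Nat.add 1710 t)) = true := by
  decide +kernel
theorem rowAi_6 : loopAll 342 (fun t => rowQ cMAi tblCAi cAi (Nat.add 2052 t)) = true := by
  decide +kernel
theorem rowAi_7 : loopAll 342 (fun t => rowQ cMAi tblCAi cAi (Nat.add 2394 t)) = true := by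
  decide +kernel
theorem rowAi_8 : loopAll 342 (fun t => rowQ cMAi tblCAi cAi (Nat.add 2736 t)) = true := by
  decide +kernel
theorem rowAi_9 : loopAll 342 (fun t => rowQ cMAi tblCAi cAi (Nat.add 3078 t)) = true := by
  decide +kernel
theorem rowAi_10 : loopAll 342 (fun t => rowQ cMAi tblCAi cAi (Nat.add 3420 t)) = true := by
  decide +kernel
theorem rowAi_11 : loopAll 342 (fun t => rowQ cMAi tblCAi cAi (Nat.add 3762 t)) = true := by
  decide +kernel
theorem rowAi_12 : loopAll 342 (fun t => rowQ cMAi tblCAi cAi (Nat.add 4104 t)) = true := by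
  decide +kernel
theorem rowAi_13 : loopAll 342 (fun t => rowQ cMAi tblCAi cAi (Nat.add 4446 t)) = true := by
  decide +kernel
theorem rowAi_14 : loopAll 342 (fun t => rowQ cMAi tblCAi cAi (Nat.add 4788 t)) = true := by
  decide +kernel
theorem rowAi_15 : loopAll 342 (fun t => rowQ cMAi tblCAi cAi (Nat.add 5130 t)) = true := by
  decide +kernel
theorem rowAi_16 : loopAll 342 (fun t => rowQ cMAi tblCAi cAi (Nat.add 5472 t)) = true := by
  decide +kernel
theorem rowAi_17 : loopAll 342 (fun t => rowQ cMAi tblCAi cAi (Nat.add 5814 t)) = true := by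
  decide +kernel
theorem chk_rowAi : loopAll 6156 (rowQ cMAi tblCAi cAi) = true := by
  rw [loopAll_iff]
  intro y hy
  rcases Nat.lt_or_ge y 342 with h0 | h0
  · exact range_piece rowAi_0 y (by omega) (by omega)
  rcases Nat.lt_or_ge y 684 with h1 | h1
  · exact range_piece rowAi_1 y (by omega) (by omega)
  rcases Nat.lt_or_ge y 1026 with h2 | h2
  · exact range_piece rowAi_2 y (by omega) (by omega)
  rcases Nat.lt_or_ge y 1368 with h3 | h3
  · exact range_piece rowAi_3 y (by omega) (by omega)
  rcases Nat.lt_or_ge y 1710 with h4 | h4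
  · exact range_piece rowAi_4 y (by omega) (by omega)
  rcases Nat.lt_or_ge y 2052 with h5 | h5
  · exact range_piece rowAi_5 y (by omega) (by omega)
  rcases Nat.lt_or_ge y 2394 with h6 | h6
  · exact range_piece rowAi_6 y (by omega) (by omega)
  rcases Nat.lt_or_ge y 2736 with h7 | h7
  · exact range_piece rowAi_7 y (by omega) (by omega)
  rcases Nat.lt_or_ge y 3078 with h8 | h8
  · exact range_piece rowAi_8 y (by omega) (by omega)
  rcases Nat.lt_or_ge y 3420 with h9 | h9
  · exact range_piece rowAi_9 y (by omega) (by omega)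
  rcases Nat.lt_or_ge y 3762 with h10 | h10
  · exact range_piece rowAi_10 y (by omega) (by omega)
  rcases Nat.lt_or_ge y 4104 with h11 | h11
  · exact range_piece rowAi_11 y (by omega) (by omega)
  rcases Nat.lt_or_ge y 4446 with h12 | h12
  · exact range_piece rowAi_12 y (by omega) (by omega)
  rcases Nat.lt_or_ge y 4788 with h13 | h13
  · exact range_piece rowAi_13 y (by omega) (by omega)
  rcases Nat.lt_or_ge y 5130 with h14 | h14
  · exact range_piece rowAi_14 y (by omega) (by omega)
  rcases Nat.lt_or_ge y 5472 with h15 | h15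
  · exact range_piece rowAi_15 y (by omega) (by omega)
  rcases Nat.lt_or_ge y 5814 with h16 | h16
  · exact range_piece rowAi_16 y (by omega) (by omega)
  exact range_piece rowAi_17 y (by omega) (by omega)

end Cfsg.Agent.Lib.Helper21.J3U
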