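import Mathlib
import Cfsg.Agent.Lib.Helper21.J3UDefs

/-! Kernel checks for the triple cover of J3: matrix identities, frame, witness, scalar word. -/

set_option Elab.async false

namespace Cfsg.Agent.Lib.Helper21.J3U
open Cfsg.Agent.Lib.Helper18.SS Matrix Cfsg.Agent.Lib.Helper21.J3

theorem chk_A2 : MA * MA = matOf 9 9 cA2 := by decide +kernel
theorem chk_A4 : matOf 9 9 cA2 * matOf 9 9 cA2 = matOf 9 9 cA4 := by decide +kernel
theorem chk_A8 : matOf 9 9 cA4 * matOf 9 9 cA4 = matOf 9 9 cA8 := by decide +kernel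
theorem chk_A16 : matOf 9 9 cA8 * matOf 9 9 cA8 = matOf 9 9 cA16 := by decide +kernel
theorem chk_A18 : matOf 9 9 cA16 * matOf 9 9 cA2 = MAi := by decide +kernel
theorem chk_AiA : MAi * MA = 1 := by decide +kernel
theorem chk_B2 : MB * MB = matOf 9 9 cB2m := by decide +kernel
theorem chk_B4 : matOf 9 9 cB2m * matOf 9 9 cB2m = matOf 9 9 cB4 := by decide +kernel
theorem chk_B8 : matOf 9 9 cB4 * matOf 9 9 cB4 = matOf 9 9 cB8 := by decide +kernel
theorem chk_B16 : matOf 9 9 cB8 * matOf 9 9 cB8 = matOf 9 9 cB16 := by decide +kernel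
theorem chk_B18 : matOf 9 9 cB16 * matOf 9 9 cB2m = MBi := by decide +kernel
theorem chk_BiB : MBi * MB = 1 := by decide +kernel
theorem chk_uA : MAᵀ * MA.map (fun x => x ^ 2) = 1 := by decide +kernel
theorem chk_uB : MBᵀ * MB.map (fun x => x ^ 2) = 1 := by decide +kernel
theorem chk_AB2 : MA * matOf 9 9 cB2m = matOf 9 9 cAB2m := by decide +kernel
theorem chk_W2 : matOf 9 9 cAB2m * matOf 9 9 cAB2m = matOf 9 9 cW2 := by decide +kernel
theorem chk_W4 : matOf 9 9 cW2 * matOf 9 9 cW2 = F4.w • (1 : Mat9) := by decide +kernel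
theorem chk_FmFi : matOf 9 9 cFm * matOf 9 9 cFi = 1 := by decide +kernel
theorem chk_FiFm : matOf 9 9 cFi * matOf 9 9 cFm = 1 := by decide +kernel
theorem chk_co : ∀ k : Fin 9, vecOf cCo k ≠ 0 := by decide +kernel
theorem chk_frame : loopAll 10 frameQ = true := by decide +kernel
theorem chk_frF : ∀ k : Fin 9, ∀ p : Fin 9, frF k.val p = matOf 9 9 cFm p k := by decide +kernel
theorem chk_fr9 : frF 9 = matOf 9 9 cFm *ᵥ vecOf cCo := by decide +kernel
theorem chk_frIJ : ∀ k : Fin 10, frI k.val < 6156 ∧ frJ k.val < 6156 := by decide +kernel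
theorem chk_wit : lkf 13 6156 cA 0 = 2683 ∧ Qn 0 *ᵥ vecOf cX0 = 0 ∧ Qn 2683 *ᵥ vecOf cX0 ≠ 0 := by
  decide +kernel
theorem chk_pb2 : mulOKf 13 6156 cPB2 cB cB = true := by decide +kernel
theorem chk_pab2 : mulOKf 13 6156 cPAB2 cA cPB2 = true := by decide +kernel
theorem chk_pow4 : powOKf 13 6156 cPAB2 3 = true := by decide +kernel
theorem chk_frmem : ∀ k : Fin 10, Qn (frI k.val) *ᵥ frF k.val = 0 ∧ Qn (frJ k.val) *ᵥ frF k.val = 0 := by
  decide +kernel
theorem chk_nc : lkf 13 6156 cA (lkf 13 6156 cB 0) ≠ lkf 13 6156 cB (lkf 13 6156 cA 0) := by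
  decide +kernel

end Cfsg.Agent.Lib.Helper21.J3U
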