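import Mathlib
import Cfsg.Agent.Lib.Helper21.J3Main
import Cfsg.Agent.Lib.Helper21.J3UChk3
import Cfsg.Agent.Lib.Helper21.J3UChk2_1
import Cfsg.Agent.Lib.Helper21.J3UChk2_2
import Cfsg.Agent.Lib.Helper21.J3UChk2_3
import Cfsg.Agent.Lib.Helper21.J3UChk2_4

/-!
# The triple cover of `J3` inside `SU(9, 4)`

Two unitary matrices of order 19 act on 6156 five-dimensional subspaces as the generators of the
verified permutation group `J3.G`.  The group of compatible pairs projects injectively to the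
matrices and onto `J3.G` with kernel the scalars of order 3.
-/

namespace Cfsg.Agent.Lib.Helper21.J3U
open Cfsg.Agent.Lib.Helper18.SS Matrix

abbrev S := ↥(Cfsg.SU 9 F4 2)
abbrev P := Equiv.Perm (Fin 6156)

/-- parity-check matrices indexed by `Fin 6156` -/
def Qf (i : Fin 6156) : Matrix (Fin 4) (Fin 9) F4 := Qn i.val

/-- compatibility of a matrix with a permutation of the subspaces -/
def Compat (M : Mat9) (σ : P) : Prop :=
  ∀ (i : Fin 6156) (x : Fin 9 → F4), Qf i *ᵥ x = 0 ↔ Qf (σ i) *ᵥ (M *ᵥ x) = 0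

theorem compat_mul {M N : Mat9} {σ τ : P} (h1 : Compat M σ) (h2 : Compat N τ) :
    Compat (M * N) (σ * τ) := by
  intro i x
  have e : M *ᵥ (N *ᵥ x) = (M * N) *ᵥ x := Matrix.mulVec_mulVec x M N
  rw [← e]
  exact (h2 i x).trans (h1 (τ i) (N *ᵥ x))

theorem compat_one : Compat 1 1 := by
  intro i x
  simp

theorem compat_inv {M Mi : Mat9} {σ : P} (h : Compat M σ) (hM : M * Mi = 1) : Compat Mi σ⁻¹ := by
  intro j x
  have h0 := h (σ⁻¹ j) (Mi *ᵥ x)
  have e1 : M *ᵥ (Mi *ᵥ x) = x := by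
    rw [Matrix.mulVec_mulVec x M Mi, hM, Matrix.one_mulVec]
  have e2 : σ (σ⁻¹ j) = j := by simp
  rw [e1, e2] at h0
  exact h0.symm

/-- the group of compatible pairs -/
def Tbig : Subgroup (S × P) where
  carrier := {g | Compat (mat g.1) g.2}
  mul_mem' := fun ha hb => compat_mul ha hb
  one_mem' := compat_one
  inv_mem' := fun h => compat_inv h (mat_mul_inv _)

theorem MA_pow : MA ^ 19 = 1 := by
  have h2 : MA ^ 2 = matOf 9 9 cA2 := by rw [pow_two]; exact chk_A2
  have h4 : MA ^ 4 = matOf 9 9 cA4 := by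
    rw [show 4 = 2 * 2 from rfl, pow_mul, h2, pow_two]; exact chk_A4
  have h8 : MA ^ 8 = matOf 9 9 cA8 := by
    rw [show 8 = 4 * 2 from rfl, pow_mul, h4, pow_two]; exact chk_A8
  have h16 : MA ^ 16 = matOf 9 9 cA16 := by
    rw [show 16 = 8 * 2 from rfl, pow_mul, h8, pow_two]; exact chk_A16
  have h18 : MA ^ 18 = MAi := by
    rw [show 18 = 16 + 2 from rfl, pow_add, h16, h2]; exact chk_A18
  rw [show 19 = 18 + 1 from rfl, pow_succ, h18]
  exact chk_AiA

theorem MB_pow : MB ^ 19 = 1 := by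
  have h2 : MB ^ 2 = matOf 9 9 cB2m := by rw [pow_two]; exact chk_B2
  have h4 : MB ^ 4 = matOf 9 9 cB4 := by
    rw [show 4 = 2 * 2 from rfl, pow_mul, h2, pow_two]; exact chk_B4
  have h8 : MB ^ 8 = matOf 9 9 cB8 := by
    rw [show 8 = 4 * 2 from rfl, pow_mul, h4, pow_two]; exact chk_B8
  have h16 : MB ^ 16 = matOf 9 9 cB16 := by
    rw [show 16 = 8 * 2 from rfl, pow_mul, h8, pow_two]; exact chk_B16
  have h18 : MB ^ 18 = MBi := by
    rw [show 18 = 16 + 2 from rfl, pow_add, h16, h2]; exact chk_B18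
  rw [show 19 = 18 + 1 from rfl, pow_succ, h18]
  exact chk_BiB

/-- the two generators in `SU(9, 4)` -/
def sA : S := mkSU MA (det_of_pow19 MA MA_pow) chk_uA
def sB : S := mkSU MB (det_of_pow19 MB MB_pow) chk_uB

theorem pairA : PairOK 13 6156 (J3.cA, J3.cAi) :=
  J3.main.2.1.1.pairs _ (by
    show (J3.cA, J3.cAi) ∈ J3.lvl1.P
    exact List.mem_cons_self)

theorem pairB : PairOK 13 6156 (J3.cB, J3.cBi) :=
  J3.main.2.1.1.pairs _ (by
    show (J3.cB, J3.cBi) ∈ J3.lvl1.P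
    exact List.mem_cons_of_mem _ List.mem_cons_self)

theorem compat_of_rows {cM cMi tblC tblCi cσ cσi : ℕ} (hp : PairOK 13 6156 (cσ, cσi))
    (hMi : matOf 9 9 cMi * matOf 9 9 cM = 1)
    (h1 : loopAll 6156 (rowQ cM tblC cσ) = true)
    (h2 : loopAll 6156 (rowQ cMi tblCi cσi) = true) :
    Compat (matOf 9 9 cM) (toPerm 13 6156 cσ) := by
  obtain ⟨hv, hvi, hinv⟩ := hp
  rw [loopAll_iff] at h1 h2
  intro i x
  have e1 : Qf (toPerm 13 6156 cσ i) = Qn (lkf 13 6156 cσ i.val) := by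
    show Qn ((toPerm 13 6156 cσ i : Fin 6156) : ℕ) = _
    rw [toPerm_val hv, lkf_eq]
  constructor
  · intro hx
    have hr := rowQ_sound (h1 i.val i.2)
    rw [e1, Matrix.mulVec_mulVec, hr, ← Matrix.mulVec_mulVec]
    show matOf 4 4 (fld 32 tblC i.val) *ᵥ (Qf i *ᵥ x) = 0
    rw [hx, Matrix.mulVec_zero]
  · intro hx
    have hr := rowQ_sound (h2 (toPerm 13 6156 cσ i).val (toPerm 13 6156 cσ i).2)
    have e2 : lkf 13 6156 cσi (toPerm 13 6156 cσ i).val = i.val := by
      rw [lkf_eq, ← toPerm_val hvi, hinv]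
      simp
    rw [e2] at hr
    have e3 : x = matOf 9 9 cMi *ᵥ (matOf 9 9 cM *ᵥ x) := by
      rw [Matrix.mulVec_mulVec, hMi, Matrix.one_mulVec]
    rw [e3, Matrix.mulVec_mulVec]
    show (Qn i.val * matOf 9 9 cMi) *ᵥ (matOf 9 9 cM *ᵥ x) = 0
    rw [hr, ← Matrix.mulVec_mulVec]
    show matOf 4 4 _ *ᵥ (Qf (toPerm 13 6156 cσ i) *ᵥ (matOf 9 9 cM *ᵥ x)) = 0
    rw [hx, Matrix.mulVec_zero]

theorem compatA : Compat MA J3.pA := compat_of_rows pairA chk_AiA chk_rowA chk_rowAi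
theorem compatB : Compat MB J3.pB := compat_of_rows pairB chk_BiB chk_rowB chk_rowBi

/-- the generating pairs -/
noncomputable def gA : S × P := (sA, J3.pA)
noncomputable def gB : S × P := (sB, J3.pB)

/-- the group generated by the two pairs -/
noncomputable def T0 : Subgroup (S × P) := Subgroup.closure {gA, gB}

theorem gA_mem : gA ∈ T0 := Subgroup.subset_closure (by simp)
theorem gB_mem : gB ∈ T0 := Subgroup.subset_closure (by simp)

theorem T0_le : T0 ≤ Tbig := by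
  rw [T0, Subgroup.closure_le]
  rintro g (rfl | rfl)
  · exact compatA
  · exact compatB

theorem T0_compat {t : S × P} (ht : t ∈ T0) : Compat (mat t.1) t.2 := T0_le ht

theorem T0_snd : T0.map (MonoidHom.snd S P) = J3.G := by
  rw [T0, MonoidHom.map_closure, Set.image_pair]
  rfl

theorem snd_mem {t : S × P} (ht : t ∈ T0) : t.2 ∈ J3.G := by
  rw [← T0_snd]
  exact Subgroup.mem_map_of_mem _ ht

theorem exists_lift {τ : P} (hτ : τ ∈ J3.G) : ∃ s : S, (s, τ) ∈ T0 := by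
  rw [← T0_snd, Subgroup.mem_map] at hτ
  obtain ⟨t, ht, rfl⟩ := hτ
  exact ⟨t.1, ht⟩

/-! ### Matrices fixing all subspaces are scalar -/

theorem scalar_of_frame {K : Type*} [Field K] {n : ℕ} (M Fm Fi : Matrix (Fin n) (Fin n) K)
    (co lam : Fin n → K) (l9 : K)
    (hFi : Fm * Fi = 1) (hFi' : Fi * Fm = 1) (hco : ∀ k, co k ≠ 0)
    (hk : ∀ k, M *ᵥ (fun p => Fm p k) = lam k • (fun p => Fm p k))
    (h9 : M *ᵥ (Fm *ᵥ co) = l9 • (Fm *ᵥ co)) : M = l9 • (1 : Matrix (Fin n) (Fin n) K) := by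
  have h1 : M * Fm = Fm * Matrix.diagonal lam := by
    ext p k
    have := congrFun (hk k) p
    rw [Matrix.mul_diagonal, Matrix.mul_apply]
    simp only [Matrix.mulVec, dotProduct, Pi.smul_apply, smul_eq_mul] at this
    rw [this, mul_comm]
  have h2 : Matrix.diagonal lam *ᵥ co = l9 • co := by
    have e1 : Fm *ᵥ (Matrix.diagonal lam *ᵥ co) = Fm *ᵥ (l9 • co) := by
      rw [Matrix.mulVec_mulVec, ← h1, ← Matrix.mulVec_mulVec, h9, Matrix.mulVec_smul]
    have e2 : Fi *ᵥ (Fm *ᵥ (Matrix.diagonal lam *ᵥ co)) = Fi *ᵥ (Fm *ᵥ (l9 • co)) := by rw [e1]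
    rw [Matrix.mulVec_mulVec (Matrix.diagonal lam *ᵥ co) Fi Fm,
      Matrix.mulVec_mulVec (l9 • co) Fi Fm, hFi', Matrix.one_mulVec, Matrix.one_mulVec] at e2
    exact e2
  have h3 : ∀ k, lam k = l9 := by
    intro k
    have := congrFun h2 k
    rw [Matrix.mulVec_diagonal] at this
    simp only [Pi.smul_apply, smul_eq_mul] at this
    exact mul_right_cancel₀ (hco k) this
  have h4 : Matrix.diagonal lam = l9 • (1 : Matrix (Fin n) (Fin n) K) := by
    have : lam = fun _ => l9 := funext h3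
    rw [this]
    ext p q
    by_cases h : p = q
    · subst h; simp
    · simp [h]
  calc M = M * (Fm * Fi) := by rw [hFi, mul_one]
    _ = (M * Fm) * Fi := by rw [mul_assoc]
    _ = Fm * (l9 • (1 : Matrix (Fin n) (Fin n) K)) * Fi := by rw [h1, h4]
    _ = l9 • (1 : Matrix (Fin n) (Fin n) K) := by
        rw [Matrix.mul_smul, mul_one, Matrix.smul_mul, hFi]

/-- a matrix preserving the two subspaces of a frame pair has the frame vector as eigenvector -/
theorem frame_eigen {M : Mat9} (hM : Compat M 1) (k : Fin 10) :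
    M *ᵥ frF k.val = (vecOf (frU k.val) ⬝ᵥ (M *ᵥ frF k.val)) • frF k.val := by
  obtain ⟨hi, hj⟩ := chk_frIJ k
  obtain ⟨mi, mj⟩ := chk_frmem k
  have hc : frameQ k.val = true := (loopAll_iff.mp chk_frame) k.val k.2
  have hc' : matOf 9 4 (frL1 k.val) * Qn (frI k.val) + matOf 9 4 (frL2 k.val) * Qn (frJ k.val)
      = 1 + Matrix.of (fun p q => frF k.val p * vecOf (frU k.val) q) := of_decide_eq_true hc
  set y := M *ᵥ frF k.val with hy
  have yi : Qn (frI k.val) *ᵥ y = 0 := by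
    have := (hM ⟨frI k.val, hi⟩ (frF k.val)).1 mi
    exact this
  have yj : Qn (frJ k.val) *ᵥ y = 0 := by
    have := (hM ⟨frJ k.val, hj⟩ (frF k.val)).1 mj
    exact this
  have h0 : (matOf 9 4 (frL1 k.val) * Qn (frI k.val)
      + matOf 9 4 (frL2 k.val) * Qn (frJ k.val)) *ᵥ y = 0 := by
    rw [Matrix.add_mulVec, ← Matrix.mulVec_mulVec, ← Matrix.mulVec_mulVec, yi, yj,
      Matrix.mulVec_zero, Matrix.mulVec_zero, add_zero]
  rw [hc', Matrix.add_mulVec, Matrix.one_mulVec] at h0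
  funext p
  have hp := congrFun h0 p
  simp only [Pi.add_apply, Pi.zero_apply, Matrix.mulVec, dotProduct, Matrix.of_apply] at hp
  have e : ∑ q, frF k.val p * vecOf (frU k.val) q * y q
      = frF k.val p * (vecOf (frU k.val) ⬝ᵥ y) := by
    rw [dotProduct, Finset.mul_sum]
    exact Finset.sum_congr rfl (fun q _ => mul_assoc _ _ _)
  rw [e] at hp
  have hp2 : y p = frF k.val p * (vecOf (frU k.val) ⬝ᵥ y) := by
    have h3 := congrArg (fun t => t + frF k.val p * (vecOf (frU k.val) ⬝ᵥ y)) hp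
    simp only [add_assoc, F4.add_self, add_zero, zero_add] at h3
    exact h3
  rw [hp2, Pi.smul_apply, smul_eq_mul, mul_comm]

theorem scalar_of_compat {M : Mat9} (hM : Compat M 1) : ∃ c : F4, M = c • (1 : Mat9) := by
  refine ⟨vecOf (frU 9) ⬝ᵥ (M *ᵥ frF 9), ?_⟩
  refine scalar_of_frame M (matOf 9 9 cFm) (matOf 9 9 cFi) (vecOf cCo)
    (fun k => vecOf (frU k.val) ⬝ᵥ (M *ᵥ frF k.val)) _ chk_FmFi chk_FiFm chk_co ?_ ?_
  · intro k
    have e : (fun p => matOf 9 9 cFm p k) = frF k.val := by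
      funext p
      exact (chk_frF k p).symm
    rw [e]
    exact frame_eigen hM ⟨k.val, by omega⟩
  · rw [← chk_fr9]
    exact frame_eigen hM ⟨9, by omega⟩

end Cfsg.Agent.Lib.Helper21.J3U
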