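import Mathlib
import Cfsg.Agent.Lib.Helper21.J3UMain

/-!
# The triple cover of `J3` inside `SU(9, 4)`: centre and central quotient
-/

namespace Cfsg.Agent.Lib.Helper21.J3U
open Cfsg.Agent.Lib.Helper18.SS Matrix

/-! ### The first projection is injective on `T0` -/

/-- the permutations paired with the identity matrix -/
noncomputable def R : Subgroup P where
  carrier := {σ | ((1 : S), σ) ∈ T0}
  mul_mem' := fun {a b} ha hb => by
    have := T0.mul_mem ha hb
    simpa using this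
  one_mem' := T0.one_mem
  inv_mem' := fun {a} ha => by
    have := T0.inv_mem ha
    simpa using this

theorem mem_R {σ : P} : σ ∈ R ↔ ((1 : S), σ) ∈ T0 := Iff.rfl

instance R_normal : (R.subgroupOf J3.G).Normal := by
  constructor
  intro n hn g
  rw [Subgroup.mem_subgroupOf] at hn ⊢
  obtain ⟨s, hs⟩ := exists_lift g.2
  have h1 : (s, (g : P)) * ((1 : S), (n : P)) * (s, (g : P))⁻¹ ∈ T0 :=
    T0.mul_mem (T0.mul_mem hs hn) (T0.inv_mem hs)
  have e : (s, (g : P)) * ((1 : S), (n : P)) * (s, (g : P))⁻¹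
      = ((1 : S), (g : P) * n * (g : P)⁻¹) := by
    simp
  rw [e] at h1
  exact h1

theorem pA_zero : ((J3.pA (0 : Fin 6156) : Fin 6156) : ℕ) = 2683 := by
  show ((toPerm 13 6156 J3.cA (0 : Fin 6156) : Fin 6156) : ℕ) = 2683
  rw [toPerm_val J3.vA, ← lkf_eq]
  exact chk_wit.1

theorem R_ne_top : R.subgroupOf J3.G ≠ ⊤ := by
  intro h
  have h1 : (⟨J3.pA, J3.pA_mem⟩ : ↥J3.G) ∈ R.subgroupOf J3.G := by rw [h]; exact Subgroup.mem_top _
  rw [Subgroup.mem_subgroupOf] at h1
  have h2 : Compat (mat (1 : S)) J3.pA := T0_compat h1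
  have h3 := (h2 0 (vecOf cX0)).1 chk_wit.2.1
  rw [mat_one, Matrix.one_mulVec] at h3
  have e : Qf (J3.pA 0) = Qn 2683 := by
    show Qn ((J3.pA (0 : Fin 6156) : Fin 6156) : ℕ) = _
    rw [pA_zero]
  rw [e] at h3
  exact chk_wit.2.2 h3

theorem R_trivial {σ : P} (h : ((1 : S), σ) ∈ T0) : σ = 1 := by
  haveI := J3.G_simple
  have hb : R.subgroupOf J3.G = ⊥ :=
    (Subgroup.Normal.eq_bot_or_eq_top R_normal).resolve_right R_ne_top
  have h1 : (⟨σ, snd_mem h⟩ : ↥J3.G) ∈ R.subgroupOf J3.G := by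
    rw [Subgroup.mem_subgroupOf]
    exact h
  rw [hb, Subgroup.mem_bot] at h1
  exact congrArg Subtype.val h1

/-- the two projections of `T0` -/
noncomputable def fstH : ↥T0 →* S := (MonoidHom.fst S P).comp T0.subtype
noncomputable def sndH : ↥T0 →* P := (MonoidHom.snd S P).comp T0.subtype

theorem fstH_apply (t : ↥T0) : fstH t = t.1.1 := rfl
theorem sndH_apply (t : ↥T0) : sndH t = t.1.2 := rfl

theorem fstH_inj : Function.Injective fstH := by
  rw [injective_iff_map_eq_one]
  intro t ht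
  have h1 : t.1.1 = 1 := ht
  have h2 : ((1 : S), t.1.2) ∈ T0 := by
    have := t.2
    rw [← h1]
    exact this
  apply Subtype.ext
  apply Prod.ext
  · exact h1
  · exact R_trivial h2

theorem sndH_range : sndH.range = J3.G := by
  rw [← T0_snd]
  ext σ
  rw [MonoidHom.mem_range, Subgroup.mem_map]
  constructor
  · rintro ⟨t, rfl⟩
    exact ⟨t.1, t.2, rfl⟩
  · rintro ⟨t, ht, rfl⟩
    exact ⟨⟨t, ht⟩, rfl⟩

/-! ### The kernel of the second projection -/

theorem ker_scalar {t : ↥T0} (ht : t ∈ sndH.ker) : ∃ c : F4, mat t.1.1 = c • (1 : Mat9) := by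
  rw [MonoidHom.mem_ker, sndH_apply] at ht
  have hc := T0_compat t.2
  rw [ht] at hc
  exact scalar_of_compat hc

theorem G_centerless {σ : P} (hσ : σ ∈ J3.G) (h : ∀ τ ∈ J3.G, τ * σ = σ * τ) : σ = 1 := by
  haveI := J3.G_simple
  have hne : Subgroup.center ↥J3.G ≠ ⊤ := by
    intro ht
    have h1 : (⟨J3.pA, J3.pA_mem⟩ : ↥J3.G) ∈ Subgroup.center ↥J3.G := by
      rw [ht]; exact Subgroup.mem_top _
    rw [Subgroup.mem_center_iff] at h1
    have h2 := congrArg Subtype.val (h1 ⟨J3.pB, J3.pB_mem⟩)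
    have h3 : J3.pB * J3.pA = J3.pA * J3.pB := h2
    have h4 := congrArg (fun f : P => ((f (0 : Fin 6156) : Fin 6156) : ℕ)) h3
    simp only [Equiv.Perm.mul_apply] at h4
    have e1 : ((J3.pB (J3.pA (0 : Fin 6156)) : Fin 6156) : ℕ)
        = lkf 13 6156 J3.cB (lkf 13 6156 J3.cA 0) := by
      show ((toPerm 13 6156 J3.cB (toPerm 13 6156 J3.cA (0 : Fin 6156)) : Fin 6156) : ℕ) = _
      rw [toPerm_val J3.vB, toPerm_val J3.vA]
      rfl
    have e2 : ((J3.pA (J3.pB (0 : Fin 6156)) : Fin 6156) : ℕ)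
        = lkf 13 6156 J3.cA (lkf 13 6156 J3.cB 0) := by
      show ((toPerm 13 6156 J3.cA (toPerm 13 6156 J3.cB (0 : Fin 6156)) : Fin 6156) : ℕ) = _
      rw [toPerm_val J3.vA, toPerm_val J3.vB]
      rfl
    rw [e1, e2] at h4
    exact chk_nc h4.symm
  have hb : Subgroup.center ↥J3.G = ⊥ :=
    (Subgroup.Normal.eq_bot_or_eq_top (inferInstance : (Subgroup.center ↥J3.G).Normal)).resolve_right
      hne
  have h1 : (⟨σ, hσ⟩ : ↥J3.G) ∈ Subgroup.center ↥J3.G := by
    rw [Subgroup.mem_center_iff]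
    intro g
    apply Subtype.ext
    exact h g.1 g.2
  rw [hb, Subgroup.mem_bot] at h1
  exact congrArg Subtype.val h1

theorem center_T0 : Subgroup.center ↥T0 = sndH.ker := by
  ext z
  rw [Subgroup.mem_center_iff, MonoidHom.mem_ker]
  constructor
  · intro hz
    apply G_centerless (snd_mem z.2)
    intro τ hτ
    obtain ⟨s, hs⟩ := exists_lift hτ
    have := congrArg (fun t : ↥T0 => t.1.2) (hz ⟨(s, τ), hs⟩)
    exact this
  · intro hz g
    obtain ⟨c, hc⟩ := ker_scalar (show z ∈ sndH.ker from hz)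
    have hz2 : z.1.2 = 1 := hz
    apply Subtype.ext
    apply Prod.ext
    · apply mat_injective
      show mat (g.1.1 * z.1.1) = mat (z.1.1 * g.1.1)
      rw [mat_mul, mat_mul, hc, Matrix.mul_smul, Matrix.smul_mul, mul_one, one_mul]
    · show g.1.2 * z.1.2 = z.1.2 * g.1.2
      rw [hz2, mul_one, one_mul]

/-- the central element of order 3 -/
noncomputable def z0 : ↥T0 :=
  ⟨(gA * gB * gB) ^ 4, T0.pow_mem (T0.mul_mem (T0.mul_mem gA_mem gB_mem) gB_mem) 4⟩

theorem perm_word : (J3.pA * J3.pB * J3.pB) ^ 4 = 1 := by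
  have h1 := valid_mul J3.vB J3.vB (mulOKf_sound chk_pb2)
  have h2 := valid_mul J3.vA h1.1 (mulOKf_sound chk_pab2)
  have h3 := (powOKf_sound chk_pow4).2
  rw [h2.2, h1.2] at h3
  rw [mul_assoc]
  exact h3

theorem mat_word : (MA * MB * MB) ^ 4 = F4.w • (1 : Mat9) := by
  rw [mul_assoc, chk_B2, chk_AB2]
  have h2 : matOf 9 9 cAB2m ^ 2 = matOf 9 9 cW2 := by rw [pow_two]; exact chk_W2
  rw [show 4 = 2 * 2 from rfl, pow_mul, h2, pow_two]
  exact chk_W4

theorem z0_snd : z0.1.2 = 1 := perm_word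
theorem z0_mat : mat z0.1.1 = F4.w • (1 : Mat9) := by
  show mat ((sA * sB * sB) ^ 4) = _
  rw [mat_pow, mat_mul, mat_mul]
  exact mat_word

theorem z0_mem : z0 ∈ sndH.ker := by
  rw [MonoidHom.mem_ker]
  exact z0_snd

theorem eq_of_mat_snd {t u : ↥T0} (h1 : mat t.1.1 = mat u.1.1) (h2 : t.1.2 = u.1.2) : t = u := by
  apply Subtype.ext
  apply Prod.ext
  · exact mat_injective h1
  · exact h2

theorem z0_pow_mat (k : ℕ) : mat (z0 ^ k).1.1 = (F4.w ^ k) • (1 : Mat9) := by
  show mat (z0.1.1 ^ k) = _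
  rw [mat_pow, z0_mat, smul_pow, one_pow]

theorem z0_pow_snd (k : ℕ) : (z0 ^ k).1.2 = 1 := by
  show z0.1.2 ^ k = 1
  rw [z0_snd, one_pow]

theorem one_smul_ne : (1 : Mat9) ≠ F4.w • (1 : Mat9) := by
  intro h
  have := congrFun (congrFun h 0) 0
  rw [Matrix.smul_apply, Matrix.one_apply_eq, smul_eq_mul, mul_one] at this
  exact F4.w_ne_one this.symm

theorem z0_order : orderOf z0 = 3 := by
  haveI : Fact (Nat.Prime 3) := ⟨by norm_num⟩
  apply orderOf_eq_prime
  · apply eq_of_mat_snd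
    · have := z0_pow_mat 3
      rw [F4.w_cube, one_smul] at this
      exact this
    · exact z0_pow_snd 3
  · intro h
    have := congrArg (fun t : ↥T0 => mat t.1.1) h
    simp only [z0_mat] at this
    exact one_smul_ne this.symm

theorem ker_eq : sndH.ker = Subgroup.zpowers z0 := by
  apply le_antisymm
  · intro t ht
    obtain ⟨c, hc⟩ := ker_scalar ht
    have ht2 : t.1.2 = 1 := ht
    have hdet : (mat t.1.1).det = 1 := t.1.1.1.2
    rcases F4.cases4 c with rfl | rfl | rfl | rfl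
    · exfalso
      rw [hc, zero_smul, Matrix.det_zero] at hdet
      exact zero_ne_one hdet
    · have : t = z0 ^ 0 := by
        apply eq_of_mat_snd
        · rw [hc, z0_pow_mat, pow_zero]
        · rw [ht2, z0_pow_snd]
      rw [this]
      exact Subgroup.pow_mem _ (Subgroup.mem_zpowers z0) 0
    · have : t = z0 ^ 1 := by
        apply eq_of_mat_snd
        · rw [hc, z0_pow_mat, pow_one]
        · rw [ht2, z0_pow_snd]
      rw [this]
      exact Subgroup.pow_mem _ (Subgroup.mem_zpowers z0) 1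
    · have : t = z0 ^ 2 := by
        apply eq_of_mat_snd
        · rw [hc, z0_pow_mat, F4.w_sq]
        · rw [ht2, z0_pow_snd]
      rw [this]
      exact Subgroup.pow_mem _ (Subgroup.mem_zpowers z0) 2
  · rw [Subgroup.zpowers_le]
    exact z0_mem

theorem card_ker : Nat.card ↥sndH.ker = 3 := by
  rw [ker_eq, Nat.card_zpowers, z0_order]

/-! ### The subgroup of `SU(9, 4)` -/

/-- the triple cover of `J3` as a subgroup of `SU(9, 4)` -/
noncomputable def H : Subgroup S := fstH.range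

/-- `T0` is isomorphic to `H` -/
noncomputable def eH : ↥T0 ≃* ↥H := MonoidHom.ofInjective fstH_inj

theorem map_center {G G' : Type*} [Group G] [Group G'] (e : G ≃* G') :
    (Subgroup.center G).map (e : G →* G') = Subgroup.center G' := by
  ext x
  rw [Subgroup.mem_map, Subgroup.mem_center_iff]
  constructor
  · rintro ⟨z, hz, rfl⟩ g
    rw [Subgroup.mem_center_iff] at hz
    obtain ⟨g0, rfl⟩ := e.surjective g
    show e g0 * e z = e z * e g0
    rw [← map_mul, ← map_mul, hz g0]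
  · intro hx
    refine ⟨e.symm x, ?_, e.apply_symm_apply x⟩
    rw [Subgroup.mem_center_iff]
    intro g
    apply e.injective
    rw [map_mul, map_mul, e.apply_symm_apply]
    exact hx (e g)

theorem card_center_H : Nat.card ↥(Subgroup.center ↥H) = 3 := by
  rw [← map_center eH]
  rw [Subgroup.card_map_of_injective (f := (eH : ↥T0 →* ↥H)) eH.injective, center_T0, card_ker]

/-- the central quotient of `H` is isomorphic to `J3.G` -/
noncomputable def quotIso : ↥H ⧸ Subgroup.center ↥H ≃* ↥J3.G :=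
  ((QuotientGroup.congr (Subgroup.center ↥T0) (Subgroup.center ↥H) eH (map_center eH)).symm).trans
    ((QuotientGroup.quotientMulEquivOfEq center_T0).trans
      ((QuotientGroup.quotientKerEquivRange sndH).trans (MulEquiv.subgroupCongr sndH_range)))

theorem quot_simple : IsSimpleGroup (↥H ⧸ Subgroup.center ↥H) := by
  haveI := J3.G_simple
  exact quotIso.isSimpleGroup

theorem quot_card : Nat.card (↥H ⧸ Subgroup.center ↥H) = 50232960 := by
  rw [Nat.card_congr quotIso.toEquiv]
  exact J3.card_G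

end Cfsg.Agent.Lib.Helper21.J3U
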