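import Mathlib
import Cfsg.Agent.Lib.Helper21.J3UFinal
import Cfsg.Agent.Lib.Helper21.J3PChk
import Cfsg.Agent.Lib.Helper21.J3PField

/-!
# The matrix group `threeJ3` of the definitions is the verified triple cover of `J3`
-/

namespace Cfsg.Agent.Lib.Helper21.J3P
open Cfsg.Agent.Lib.Helper18.SS Matrix Cfsg.Spor Cfsg.Agent.Lib.Helper21.J3U
open scoped MatrixGroups

abbrev MF9 := Matrix F9 F9 F4

/-- reindexing of a `9 × 9` matrix by the index set of the definitions -/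
def toF9 (M : Mat9) : MF9 := M.submatrix idx idx

theorem toF9_mul (M N : Mat9) : toF9 (M * N) = toF9 M * toF9 N :=
  (Matrix.submatrix_mul_equiv M N idx idx idx).symm

theorem toF9_one : toF9 1 = 1 := Matrix.submatrix_one_equiv idx

theorem toF9_inj : Function.Injective toF9 := by
  intro M N h
  ext i j
  have := congrFun (congrFun h (idx.symm i)) (idx.symm j)
  simpa [toF9] using this

theorem j3A_eq (Z : F9) : j3A F4 F4.w Z = toF9 (matOf 9 9 (gA_ (ix Z))) := by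
  ext a b; exact tblA Z a b
theorem j3E_eq (Z : F9) : j3E F4 F4.w Z = toF9 (matOf 9 9 (gE_ (ix Z))) := by
  ext a b; exact tblE Z a b
theorem j3D_eq (Z : F9) : j3D F4 F4.w Z = toF9 (matOf 9 9 (gD_ (ix Z))) := by
  ext a b; exact tblD Z a b
theorem j3B_eq (Z : F9) : j3B F4 Z = toF9 (matOf 9 9 (gB_ (ix Z))) := by
  ext a b; exact tblB Z a b
theorem j3C_eq (Z : F9) : j3C F4 Z = toF9 (matOf 9 9 (gC_ (ix Z))) := by
  ext a b; exact tblC Z a b

/-! ### Matrices of elements of `H` -/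

/-- the matrices of the elements of `H` -/
def MHs (M : Mat9) : Prop := ∃ h ∈ H, mat h = M

theorem MHs_mul {M N : Mat9} (hM : MHs M) (hN : MHs N) : MHs (M * N) := by
  obtain ⟨h, hh, rfl⟩ := hM
  obtain ⟨k, hk, rfl⟩ := hN
  exact ⟨h * k, H.mul_mem hh hk, mat_mul h k⟩

theorem MHs_one : MHs 1 := ⟨1, H.one_mem, mat_one⟩

theorem MHs_inv {M Mi : Mat9} (hM : MHs M) (h : Mi * M = 1) : MHs Mi := by
  obtain ⟨k, hk, rfl⟩ := hM
  refine ⟨k⁻¹, H.inv_mem hk, ?_⟩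
  calc mat k⁻¹ = (Mi * mat k) * mat k⁻¹ := by rw [h, one_mul]
    _ = Mi * (mat k * mat k⁻¹) := by rw [mul_assoc]
    _ = Mi := by rw [mat_mul_inv, mul_one]

theorem sA_mem : sA ∈ H := ⟨⟨gA, gA_mem⟩, rfl⟩
theorem sB_mem : sB ∈ H := ⟨⟨gB, gB_mem⟩, rfl⟩
theorem MHs_A : MHs MA := ⟨sA, sA_mem, rfl⟩
theorem MHs_B : MHs MB := ⟨sB, sB_mem, rfl⟩
theorem MHs_Ai : MHs MAi := MHs_inv MHs_A chk_AiA
theorem MHs_Bi : MHs MBi := MHs_inv MHs_B chk_BiB
theorem MHs_z : MHs (F4.w • (1 : Mat9)) := ⟨z0.1.1, ⟨z0, rfl⟩, z0_mat⟩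

theorem MHs_base : ∀ x ∈ base1, MHs (matOf 9 9 x) := by
  intro x hx
  simp only [base1, List.mem_cons, List.not_mem_nil, or_false] at hx
  rcases hx with rfl | rfl | rfl | rfl | rfl | rfl
  · exact MHs_A
  · exact MHs_B
  · exact MHs_Ai
  · exact MHs_Bi
  · rw [chk_one]; exact MHs_one
  · rw [chk_z]; exact MHs_z

theorem MHs_out : ∀ x ∈ slpOut base1 slp1, MHs (matOf 9 9 x) :=
  slp_sound (fun c => MHs (matOf 9 9 c))
    (fun a b c ha hb h => by rw [← h]; exact MHs_mul ha hb) slp1 base1 MHs_base chk_slp1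

theorem MHs_gen : ∀ x ∈ genCodes, MHs (matOf 9 9 x) := by
  intro x hx
  have := List.all_eq_true.mp chk_gens1 x hx
  exact MHs_out x (memN_iff.mp this)

/-! ### The list of generator codes -/

theorem gA_mem_gen {n : ℕ} (hn : n < 9) :
    gA_ n ∈ genCodes ∧ gE_ n ∈ genCodes ∧ gD_ n ∈ genCodes := by
  refine ⟨?_, ?_, ?_⟩ <;>
  · rw [genCodes, List.mem_append]
    left
    rw [List.mem_flatMap]
    exact ⟨n, List.mem_range.mpr hn, by simp⟩

theorem gB_mem_gen {n : ℕ} (hn : n < 9) (h0 : n ≠ 0) : gB_ n ∈ genCodes ∧ gC_ n ∈ genCodes := by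
  obtain ⟨m, rfl⟩ := Nat.exists_eq_succ_of_ne_zero h0
  refine ⟨?_, ?_⟩ <;>
  · rw [genCodes, List.mem_append]
    right
    rw [List.mem_flatMap]
    exact ⟨m, List.mem_range.mpr (by omega), by simp⟩

theorem ix_ne_zero : ∀ Z : F9, Z ≠ 0 → ix Z ≠ 0 := by decide

theorem ix_symm {n : ℕ} (hn : n < 9) : ix (idx.symm ⟨n, hn⟩) = n :=
  congrArg Fin.val (idx.apply_symm_apply ⟨n, hn⟩)

theorem gen_in_gens : ∀ x ∈ genCodes, toF9 (matOf 9 9 x) ∈ j3Gens F4 F4.w := by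
  intro x hx
  rw [genCodes, List.mem_append, List.mem_flatMap, List.mem_flatMap] at hx
  rcases hx with ⟨n, hn, hx⟩ | ⟨n, hn, hx⟩
  · rw [List.mem_range] at hn
    have hZ := ix_symm hn
    simp only [List.mem_cons, List.not_mem_nil, or_false] at hx
    rcases hx with rfl | rfl | rfl
    · refine Or.inl (Or.inl (Or.inl (Or.inl ⟨idx.symm ⟨n, hn⟩, ?_⟩)))
      rw [j3A_eq, hZ]
    · refine Or.inl (Or.inl (Or.inl (Or.inr ⟨idx.symm ⟨n, hn⟩, ?_⟩)))
      rw [j3E_eq, hZ]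
    · refine Or.inl (Or.inl (Or.inr ⟨idx.symm ⟨n, hn⟩, ?_⟩))
      rw [j3D_eq, hZ]
  · rw [List.mem_range] at hn
    have hn' : n + 1 < 9 := by omega
    have hZ := ix_symm hn'
    have hne : idx.symm ⟨n + 1, hn'⟩ ≠ 0 := by
      intro h0
      rw [h0] at hZ
      have : ix 0 = 0 := rfl
      omega
    simp only [List.mem_cons, List.not_mem_nil, or_false] at hx
    rcases hx with rfl | rfl
    · refine Or.inl (Or.inr ⟨idx.symm ⟨n + 1, hn'⟩, hne, ?_⟩)
      rw [j3B_eq, hZ]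
    · refine Or.inr ⟨idx.symm ⟨n + 1, hn'⟩, hne, ?_⟩
      rw [j3C_eq, hZ]

/-! ### Matrices of elements of `threeJ3` -/

/-- the matrices (reindexed) of the elements of `threeJ3` -/
def InT (M : Mat9) : Prop := ∃ g ∈ threeJ3 F4 F4.w, (g : MF9) = toF9 M

theorem InT_mul {M N : Mat9} (hM : InT M) (hN : InT N) : InT (M * N) := by
  obtain ⟨g, hg, e1⟩ := hM
  obtain ⟨k, hk, e2⟩ := hN
  exact ⟨g * k, Subgroup.mul_mem _ hg hk, by rw [Units.val_mul, e1, e2, toF9_mul]⟩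

theorem InT_gen : ∀ x ∈ genCodes, InT (matOf 9 9 x) := by
  intro x hx
  obtain ⟨h, _, hh⟩ := MHs_gen x hx
  let g : GL F9 F4 := ⟨toF9 (matOf 9 9 x), toF9 (mat h⁻¹),
    by rw [← toF9_mul, ← hh, mat_mul_inv, toF9_one],
    by rw [← toF9_mul, ← hh, mat_inv_mul, toF9_one]⟩
  refine ⟨g, Subgroup.subset_closure ?_, rfl⟩
  show (g : MF9) ∈ j3Gens F4 F4.w
  exact gen_in_gens x hx

theorem InT_out : ∀ x ∈ slpOut genCodes slp2, InT (matOf 9 9 x) :=
  slp_sound (fun c => InT (matOf 9 9 c))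
    (fun a b c ha hb h => by rw [← h]; exact InT_mul ha hb) slp2 genCodes InT_gen chk_slp2

theorem InT_A : InT MA :=
  InT_out cMA (memN_iff.mp (Bool.and_eq_true _ _ ▸ chk_out2).1)

theorem InT_B : InT MB :=
  InT_out cMB (memN_iff.mp (Bool.and_eq_true _ _ ▸ chk_out2).2)

/-! ### The comparison -/

/-- the reindexing map into the general linear group of the definitions -/
noncomputable def Phi : S →* GL F9 F4 where
  toFun s := ⟨toF9 (mat s), toF9 (mat s⁻¹),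
    by rw [← toF9_mul, mat_mul_inv, toF9_one], by rw [← toF9_mul, mat_inv_mul, toF9_one]⟩
  map_one' := Units.ext toF9_one
  map_mul' := fun s t => Units.ext (toF9_mul (mat s) (mat t))

theorem Phi_coe (s : S) : ((Phi s : GL F9 F4) : MF9) = toF9 (mat s) := rfl

theorem Phi_inj : Function.Injective Phi := by
  intro s t h
  apply mat_injective
  apply toF9_inj
  have := congrArg (fun g : GL F9 F4 => (g : MF9)) h
  exact this

theorem Phi_mem_of_InT {s : S} (h : InT (mat s)) : Phi s ∈ threeJ3 F4 F4.w := by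
  obtain ⟨g, hg, e⟩ := h
  have : g = Phi s := Units.ext e
  rw [← this]
  exact hg

theorem map_eq : H.map Phi = threeJ3 F4 F4.w := by
  apply le_antisymm
  · rw [Subgroup.map_le_iff_le_comap]
    rintro s ⟨t, rfl⟩
    rw [Subgroup.mem_comap]
    have hle : T0 ≤ ((threeJ3 F4 F4.w).comap Phi).comap (MonoidHom.fst S P) := by
      rw [T0, Subgroup.closure_le]
      rintro g (rfl | rfl)
      · exact Phi_mem_of_InT InT_A
      · exact Phi_mem_of_InT InT_B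
    exact hle t.2
  · unfold threeJ3
    rw [Subgroup.closure_le]
    intro g hg
    have hg' : (g : MF9) ∈ j3Gens F4 F4.w := hg
    obtain ⟨x, hx, e⟩ : ∃ x ∈ genCodes, (g : MF9) = toF9 (matOf 9 9 x) := by
      rcases hg' with (((⟨Z, hZ⟩ | ⟨Z, hZ⟩) | ⟨Z, hZ⟩) | ⟨Z, hZ0, hZ⟩) | ⟨Z, hZ0, hZ⟩
      · exact ⟨gA_ (ix Z), (gA_mem_gen (ix_lt Z)).1, by rw [← hZ, j3A_eq]⟩
      · exact ⟨gE_ (ix Z), (gA_mem_gen (ix_lt Z)).2.1, by rw [← hZ, j3E_eq]⟩
      · exact ⟨gD_ (ix Z), (gA_mem_gen (ix_lt Z)).2.2, by rw [← hZ, j3D_eq]⟩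
      · exact ⟨gB_ (ix Z), (gB_mem_gen (ix_lt Z) (ix_ne_zero Z hZ0)).1, by rw [hZ, j3B_eq]⟩
      · exact ⟨gC_ (ix Z), (gB_mem_gen (ix_lt Z) (ix_ne_zero Z hZ0)).2, by rw [hZ, j3C_eq]⟩
    obtain ⟨h, hh, hm⟩ := MHs_gen x hx
    refine ⟨h, hh, Units.ext ?_⟩
    rw [Phi_coe, hm, e]

/-- `H` is isomorphic to the matrix group of the definitions over the concrete field -/
noncomputable def isoH : ↥H ≃* ↥(threeJ3 F4 F4.w) :=
  (H.equivMapOfInjective Phi Phi_inj).trans (MulEquiv.subgroupCongr map_eq)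

theorem card_H : Nat.card ↥H = 150698880 := by
  rw [Subgroup.card_eq_card_quotient_mul_card_subgroup (Subgroup.center ↥H), quot_card,
    card_center_H]

theorem main (F : Type) [Field F] [Fintype F] (hF : Fintype.card F = 4) (ω : F)
    (hω : ω ^ 2 + ω + 1 = 0) :
    Nat.card ↥(Subgroup.center ↥(threeJ3 F ω)) = 3 ∧ Nat.card ↥(threeJ3 F ω) = 150698880 ∧
      Nat.card (J3 F ω) = 50232960 ∧ IsSimpleGroup (J3 F ω) := by
  obtain ⟨ρ, rfl⟩ := exists_ringEquiv F hF ω hω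
  exact transfer (isoH.trans (fieldIso ρ F4.w)) 3 150698880 50232960 card_center_H card_H
    quot_card quot_simple

end Cfsg.Agent.Lib.Helper21.J3P
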