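import Mathlib
import Cfsg.Agent.Lib.Helper21.J3PMain
import Cfsg.Agent.Lib.Helper21.J3OChk

/-!
# The orbits of the triple cover of `J3` on the lines of its 9-space
-/

namespace Cfsg.Agent.Lib.Helper21.J3O
open Cfsg.Agent.Lib.Helper18.SS Matrix Cfsg.Spor Cfsg.Agent.Lib.Helper21.J3U
open Cfsg.Agent.Lib.Helper21.J3P
open scoped MatrixGroups

abbrev V9 := Fin 9 → F4

/-- `M x` is a non-zero multiple of `y` -/
def Rel (M : Mat9) (x y : V9) : Prop := ∃ c : F4, c ≠ 0 ∧ M *ᵥ x = c • y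

theorem Rel_comp {M N : Mat9} {x y z : V9} (h1 : Rel M x y) (h2 : Rel N y z) :
    Rel (N * M) x z := by
  obtain ⟨c, hc, e1⟩ := h1
  obtain ⟨d, hd, e2⟩ := h2
  refine ⟨c * d, mul_ne_zero hc hd, ?_⟩
  rw [← Matrix.mulVec_mulVec, e1, Matrix.mulVec_smul, e2, smul_smul]

theorem Rel_one (x : V9) : Rel 1 x x := ⟨1, one_ne_zero, by rw [Matrix.one_mulVec, one_smul]⟩

/-- related by an element of `H`, up to a scalar -/
def Eqv (x y : V9) : Prop := ∃ M, MHs M ∧ Rel M x y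

theorem Eqv_refl (x : V9) : Eqv x x := ⟨1, MHs_one, Rel_one x⟩

theorem Eqv_trans {x y z : V9} (h1 : Eqv x y) (h2 : Eqv y z) : Eqv x z := by
  obtain ⟨M, hM, r1⟩ := h1
  obtain ⟨N, hN, r2⟩ := h2
  exact ⟨N * M, MHs_mul hN hM, Rel_comp r1 r2⟩

theorem Eqv_symm {x y : V9} (h : Eqv x y) : Eqv y x := by
  obtain ⟨M, ⟨k, hk, rfl⟩, c, hc, e⟩ := h
  refine ⟨mat k⁻¹, ⟨k⁻¹, H.inv_mem hk, rfl⟩, c⁻¹, inv_ne_zero hc, ?_⟩
  have h1 : mat k⁻¹ *ᵥ (mat k *ᵥ x) = x := by
    rw [Matrix.mulVec_mulVec, mat_inv_mul, Matrix.one_mulVec]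
  rw [e, Matrix.mulVec_smul] at h1
  rw [← h1, smul_smul, inv_mul_cancel₀ hc, one_smul]

theorem Eqv_smul {x : V9} {c : F4} (hc : c ≠ 0) : Eqv (c • x) x :=
  ⟨1, MHs_one, c, hc, by rw [Matrix.one_mulVec]⟩

/-- the vectors of the first table -/
def t1 (i : ℕ) : V9 := vecOf (fld 18 tT1 i)
/-- the vectors of the second table -/
def t2 (i : ℕ) : V9 := vecOf (fld 18 tT2 i)

theorem reach_of_tree {tT tP tG tD tC n root : ℕ}
    (h : ∀ i, i < n → treeQ tT tP tG tD tC n root i = true) :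
    ∀ d i, i < n → fld 8 tD i = d → Eqv (vecOf (fld 18 tT root)) (vecOf (fld 18 tT i)) := by
  intro d
  induction d with
  | zero =>
    intro i hi hd
    rcases treeQ_sound (h i hi) with rfl | ⟨_, h2, _⟩
    · exact Eqv_refl _
    · omega
  | succ d ih =>
    intro i hi hd
    rcases treeQ_sound (h i hi) with rfl | ⟨h1, h2, h3, h4⟩
    · exact Eqv_refl _
    · have hp := ih (fld 16 tP i) h1 (by omega)
      refine Eqv_trans hp ⟨_, ?_, F4.dec (fld 2 tC i), dec_ne_zero h3, h4⟩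
      rcases genC_cases (fld 1 tG i) with e | e <;> rw [e]
      · exact MHs_A
      · exact MHs_B

theorem reach1 (i : ℕ) (hi : i < n1) : Eqv (t1 root1) (t1 i) :=
  reach_of_tree chkT1 (fld 8 tD1 i) i hi rfl

theorem reach2 (i : ℕ) (hi : i < n2) : Eqv (t2 root2) (t2 i) :=
  reach_of_tree chkT2 (fld 8 tD2 i) i hi rfl

/-! ### The first orbit is closed -/

/-- the matrix maps the lines of the first table to lines of the first table -/
def Pres (M : Mat9) : Prop := ∀ i, i < n1 → ∃ j, j < n1 ∧ Rel M (t1 i) (t1 j)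

theorem Pres_one : Pres 1 := fun i hi => ⟨i, hi, Rel_one _⟩

theorem Pres_mul {M N : Mat9} (hM : Pres M) (hN : Pres N) : Pres (N * M) := by
  intro i hi
  obtain ⟨j, hj, r1⟩ := hM i hi
  obtain ⟨k, hk, r2⟩ := hN j hj
  exact ⟨k, hk, Rel_comp r1 r2⟩

theorem Pres_A : Pres MA := by
  intro i hi
  obtain ⟨h1, h2, h3⟩ := closQ_sound (chkA i hi)
  exact ⟨_, h1, _, dec_ne_zero h2, h3⟩

theorem Pres_B : Pres MB := by
  intro i hi
  obtain ⟨h1, h2, h3⟩ := closQ_sound (chkB i hi)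
  exact ⟨_, h1, _, dec_ne_zero h2, h3⟩

theorem Pres_pow {s : S} (h : Pres (mat s)) : ∀ k : ℕ, Pres (mat (s ^ k)) := by
  intro k
  induction k with
  | zero => rw [pow_zero, mat_one]; exact Pres_one
  | succ k ih => rw [pow_succ, mat_mul]; exact Pres_mul h ih

theorem Pres_inv {s : S} (h : Pres (mat s)) : Pres (mat s⁻¹) := by
  have hpos := orderOf_pos s
  have e : s⁻¹ = s ^ (orderOf s - 1) := by
    apply inv_eq_of_mul_eq_one_left
    rw [← pow_succ, Nat.sub_add_cancel hpos, pow_orderOf_eq_one]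
  rw [e]
  exact Pres_pow h _

theorem Pres_H : ∀ h ∈ H, Pres (mat h) := by
  have key : ∀ g ∈ T0, Pres (mat g.1) := by
    intro g hg
    have hg' : g ∈ Subgroup.closure ({gA, gB} : Set (S × P)) := hg
    refine Subgroup.closure_induction (p := fun g _ => Pres (mat g.1)) ?_ ?_ ?_ ?_ hg'
    · intro x hx
      rcases hx with rfl | rfl
      · exact Pres_A
      · exact Pres_B
    · exact Pres_one
    · intro x y _ _ hx hy
      show Pres (mat (x.1 * y.1))
      rw [mat_mul]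
      exact Pres_mul hy hx
    · intro x _ hx
      exact Pres_inv hx
  rintro _ ⟨t, rfl⟩
  exact key t.1 t.2

/-! ### The lines of the first table are distinct -/

theorem T1_inj {i j : ℕ} (hi : i < n1) (hj : j < n1) (h : fld 18 tT1 i = fld 18 tT1 j) : i = j := by
  have hs : ∀ k, k + 1 < n1 → fld 18 tT1 k < fld 18 tT1 (k + 1) := by
    intro k hk
    have := chkS k (by unfold n1 at hk; omega)
    simpa [sortQ] using this
  have hm := mono_of_succ (fun k => fld 18 tT1 k) n1 hs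
  rcases Nat.lt_trichotomy i j with h1 | h1 | h1
  · exact absurd h (ne_of_lt (hm j hj i h1))
  · exact h1
  · exact absurd h.symm (ne_of_lt (hm i hi j h1))

theorem t1_nrm {i : ℕ} (hi : i < n1) : Nrm (t1 i) := nrmQ_sound (chkN i hi)

theorem t1_line_inj {i j : ℕ} (hi : i < n1) (hj : j < n1) {c : F4} (hc : c ≠ 0)
    (h : t1 i = c • t1 j) : i = j := by
  have e := eq_of_smul_nrm hc h (t1_nrm hi) (t1_nrm hj)
  exact T1_inj hi hj (vecOf_inj (fld18_lt _ _) (fld18_lt _ _) e)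

theorem t1_root : t1 root1 = Pi.single 0 1 := by
  show vecOf (fld 18 tT1 root1) = _
  rw [chk_root1]
  ext j
  fin_cases j <;> rfl

/-! ### The isotropic lines -/

theorem iso_mem {x : V9} (hx : x ≠ 0) (hiso : ∑ j, x j ^ 3 = 0) : ∃ k, k < n2 ∧ Eqv x (t2 k) := by
  obtain ⟨c, hc, hn⟩ := exists_nrm hx
  have e1 : vecOf (pack (c⁻¹ • x)) = c⁻¹ • x := vecOf_pack _
  have hiso' : isoV (c⁻¹ • x) = 0 := by
    rw [← isoV_eq]
    simp only [Pi.smul_apply, smul_eq_mul, mul_pow]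
    rw [← Finset.mul_sum, hiso, mul_zero]
  obtain ⟨k, hk, ek⟩ := compQ_sound (chkC (pack (c⁻¹ • x)) (pack_lt _))
    (by rw [e1]; exact hn) (by rw [e1]; exact hiso')
  refine ⟨k, hk, ?_⟩
  have e2 : t2 k = c⁻¹ • x := by
    show vecOf (fld 18 tT2 k) = _
    rw [ek, e1]
  rw [e2]
  exact Eqv_symm (Eqv_smul (inv_ne_zero hc))

theorem trans_iso {x y : V9} (hx : x ≠ 0) (hy : y ≠ 0) (h1 : ∑ j, x j ^ 3 = 0)
    (h2 : ∑ j, y j ^ 3 = 0) : Eqv x y := by
  obtain ⟨k, hk, ek⟩ := iso_mem hx h1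
  obtain ⟨l, hl, el⟩ := iso_mem hy h2
  exact Eqv_trans ek (Eqv_trans (Eqv_symm (reach2 k hk)) (Eqv_trans (reach2 l hl) (Eqv_symm el)))

/-! ### Transport to an arbitrary field with four elements -/

section transport
variable {F : Type} [Field F] (ρ : F4 ≃+* F)

/-- transport of vectors -/
def Psi (x : V9) : F9 → F := fun z => ρ (x (idx z))

theorem Psi_smul (c : F4) (x : V9) : Psi ρ (c • x) = ρ c • Psi ρ x := by
  ext z
  simp [Psi]

theorem Psi_inj : Function.Injective (Psi ρ) := by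
  intro x y h
  ext j
  have := congrFun h (idx.symm j)
  simpa [Psi] using this

theorem Psi_surj (v : F9 → F) : ∃ x, Psi ρ x = v :=
  ⟨fun j => ρ.symm (v (idx.symm j)), by ext z; simp [Psi]⟩

theorem Psi_mulVec (h : S) (x : V9) :
    ((glEquiv ρ (Phi h) : GL F9 F) : Matrix F9 F9 F) *ᵥ Psi ρ x = Psi ρ (mat h *ᵥ x) := by
  ext z
  rw [glEquiv_coe, Phi_coe]
  simp only [Matrix.mulVec, dotProduct, Psi, Matrix.map_apply, toF9, Matrix.submatrix_apply,
    map_sum, map_mul]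
  exact Equiv.sum_comp idx (fun j => ρ (mat h (idx z) j) * ρ (x j))

theorem idx_zero : idx 0 = 0 := by decide

theorem Psi_single : Psi ρ (Pi.single 0 1) = Pi.single 0 1 := by
  ext z
  simp only [Psi, Pi.single_apply]
  have e : idx z = 0 ↔ z = 0 := by
    constructor
    · intro h
      apply idx.injective
      rw [h, idx_zero]
    · rintro rfl
      exact idx_zero
  by_cases hz : z = 0
  · rw [if_pos hz, if_pos (e.mpr hz), map_one]
  · rw [if_neg hz, if_neg (fun h => hz (e.mp h)), map_zero]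

theorem Psi_iso (x : V9) : ∑ z, (Psi ρ x z) ^ 3 = ρ (∑ j, x j ^ 3) := by
  simp only [Psi, map_sum, map_pow]
  exact Equiv.sum_comp idx (fun j => ρ (x j) ^ 3)

theorem mem_iff (g : GL F9 F) :
    g ∈ threeJ3 F (ρ F4.w) ↔ ∃ h ∈ H, g = glEquiv ρ (Phi h) := by
  rw [← threeJ3_map ρ F4.w, ← map_eq]
  constructor
  · rintro ⟨g0, ⟨h, hh, rfl⟩, rfl⟩
    exact ⟨h, hh, rfl⟩
  · rintro ⟨h, hh, rfl⟩
    exact ⟨Phi h, ⟨h, hh, rfl⟩, rfl⟩

theorem span_eq {h : S} {c : F4} (hc : c ≠ 0) {j : ℕ}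
    (e : mat h *ᵥ t1 root1 = c • t1 j) :
    F ∙ Psi ρ (t1 j) =
      F ∙ (((glEquiv ρ (Phi h) : GL F9 F) : Matrix F9 F9 F) *ᵥ (Pi.single (0 : F9) (1 : F) : F9 → F)) := by
  rw [← Psi_single ρ, ← t1_root, Psi_mulVec, e, Psi_smul]
  have hu : IsUnit (ρ c) := IsUnit.mk0 _ (by simpa using hc)
  exact (Submodule.span_singleton_smul_eq hu _).symm

end transport

theorem main (F : Type) [Field F] [Fintype F] (hF : Fintype.card F = 4) (ω : F)
    (hω : ω ^ 2 + ω + 1 = 0) :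
    {L : Submodule F (F9 → F) | ∃ g ∈ threeJ3 F ω, L = F ∙ ((g : Matrix F9 F9 F) *ᵥ
      (Pi.single (0 : F9) (1 : F) : F9 → F))}.ncard = 23256 ∧
    ∀ v w : F9 → F, v ≠ 0 → w ≠ 0 → ∑ z, (v z) ^ 3 = 0 → ∑ z, (w z) ^ 3 = 0 →
      ∃ g ∈ threeJ3 F ω, ∃ c : F, c ≠ 0 ∧ (g : Matrix F9 F9 F) *ᵥ v = c • w := by
  obtain ⟨ρ, rfl⟩ := exists_ringEquiv F hF ω hω
  refine ⟨?_, ?_⟩
  · have hset : {L : Submodule F (F9 → F) | ∃ g ∈ threeJ3 F (ρ F4.w),
        L = F ∙ ((g : Matrix F9 F9 F) *ᵥ (Pi.single (0 : F9) (1 : F) : F9 → F))} =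
        Set.range (fun j : Fin 23256 => F ∙ Psi ρ (t1 j.val)) := by
      ext L
      simp only [Set.mem_ofPred_eq, Set.mem_range]
      constructor
      · rintro ⟨g, hg, rfl⟩
        obtain ⟨h, hh, rfl⟩ := (mem_iff ρ g).mp hg
        obtain ⟨j, hj, c, hc, e⟩ := Pres_H h hh root1 (by decide)
        exact ⟨⟨j, hj⟩, span_eq ρ hc e⟩
      · rintro ⟨j, rfl⟩
        obtain ⟨M, ⟨h, hh, rfl⟩, c, hc, e⟩ := reach1 j.val j.2
        exact ⟨glEquiv ρ (Phi h), (mem_iff ρ _).mpr ⟨h, hh, rfl⟩, span_eq ρ hc e⟩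
    have hinj : Function.Injective (fun j : Fin 23256 => F ∙ Psi ρ (t1 j.val)) := by
      intro i j hij
      have hmem : Psi ρ (t1 i.val) ∈ F ∙ Psi ρ (t1 j.val) := by
        have : F ∙ Psi ρ (t1 i.val) = F ∙ Psi ρ (t1 j.val) := hij
        rw [← this]
        exact Submodule.mem_span_singleton_self _
      obtain ⟨c, hc⟩ := Submodule.mem_span_singleton.mp hmem
      obtain ⟨c0, rfl⟩ := ρ.surjective c
      rw [← Psi_smul] at hc
      have e := Psi_inj ρ hc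
      have hc0 : c0 ≠ 0 := by
        rintro rfl
        rw [zero_smul] at e
        have hn := t1_nrm i.2
        rw [← e] at hn
        unfold Nrm at hn
        rw [Pi.zero_apply] at hn
        exact zero_ne_one hn
      exact Fin.ext (t1_line_inj i.2 j.2 hc0 e.symm)
    rw [hset, ← Set.image_univ, Set.ncard_image_of_injective _ hinj, Set.ncard_univ,
      Nat.card_eq_fintype_card, Fintype.card_fin]
  · intro v w hv hw hiv hiw
    obtain ⟨x, rfl⟩ := Psi_surj ρ v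
    obtain ⟨y, rfl⟩ := Psi_surj ρ w
    have hx : x ≠ 0 := by
      rintro rfl
      apply hv
      ext z
      simp [Psi]
    have hy : y ≠ 0 := by
      rintro rfl
      apply hw
      ext z
      simp [Psi]
    rw [Psi_iso] at hiv hiw
    have hix : ∑ j, x j ^ 3 = 0 := (map_eq_zero_iff ρ ρ.injective).mp hiv
    have hiy : ∑ j, y j ^ 3 = 0 := (map_eq_zero_iff ρ ρ.injective).mp hiw
    obtain ⟨M, ⟨h, hh, rfl⟩, c, hc, e⟩ := trans_iso hx hy hix hiy
    refine ⟨glEquiv ρ (Phi h), (mem_iff ρ _).mpr ⟨h, hh, rfl⟩, ρ c, by simpa using hc, ?_⟩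
    rw [Psi_mulVec, e, Psi_smul]

end Cfsg.Agent.Lib.Helper21.J3O
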