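import Cfsg.Agent.Lib.Helper21.M23AutB

/-!
A subgroup of `M22` of the order of a point stabiliser fixes a third point.
-/

set_option autoImplicit false

namespace Cfsg.Agent.Lib.Helper21.M24Aut

open Cfsg
open Cfsg.Agent.Lib.Helper21
open scoped Pointwise

theorem mem_M22 {g : Equiv.Perm GolayPt} :
    g ∈ Spor.M22 ↔ g ∈ M24 ∧ g none = none ∧ g (some 0) = some 0 := by
  unfold Spor.M22
  rw [Subgroup.mem_inf, mem_M23, MulAction.mem_stabilizer_iff, and_assoc]
  rfl

theorem some0_ne_none : (some 0 : GolayPt) ≠ none := by decide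

/-- A subgroup of `M22` of the order of a point stabiliser fixes a third point. -/
theorem fixes_point_M22 (H : Subgroup ↥Spor.M22) (hH : Nat.card H = 20160) :
    ∃ y : GolayPt, y ≠ none ∧ y ≠ some 0 ∧
      ∀ h ∈ H, ((h : ↥Spor.M22) : Equiv.Perm GolayPt) y = y := by
  classical
  haveI h7 : Fact (Nat.Prime 7) := ⟨by norm_num⟩
  haveI h5 : Fact (Nat.Prime 5) := ⟨by norm_num⟩
  obtain ⟨g, hg⟩ := exists_prime_orderOf_dvd_card' (G := ↥H) 7 (by rw [hH]; norm_num)
  obtain ⟨g', hg'⟩ := exists_prime_orderOf_dvd_card' (G := ↥H) 5 (by rw [hH]; norm_num)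
  have hzo : orderOf (((g : ↥Spor.M22) : Equiv.Perm GolayPt)) = 7 := by
    rw [Subgroup.orderOf_coe, Subgroup.orderOf_coe, hg]
  have hzo' : orderOf (((g' : ↥Spor.M22) : Equiv.Perm GolayPt)) = 5 := by
    rw [Subgroup.orderOf_coe, Subgroup.orderOf_coe, hg']
  have hzM := (mem_M22.1 (g : ↥Spor.M22).2)
  have hzM' := (mem_M22.1 (g' : ↥Spor.M22).2)
  generalize hz : ((g : ↥Spor.M22) : Equiv.Perm GolayPt) = z at hzo hzM
  generalize hz' : ((g' : ↥Spor.M22) : Equiv.Perm GolayPt) = z' at hzo' hzM'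
  obtain ⟨m1, m2⟩ := card_fixed_prime hzM.1 hzo
  obtain ⟨m1', m2'⟩ := card_fixed_prime hzM'.1 hzo'
  unfold Nat.ModEq at m1 m1'
  have hc3 : (Finset.univ.filter (fun p => z p = p)).card = 3 := by omega
  have hc4 : (Finset.univ.filter (fun p => z' p = p)).card = 4 := by omega
  -- the fixed points other than the two base points
  have hn : (none : GolayPt) ∈ Finset.univ.filter (fun p => z p = p) :=
    Finset.mem_filter.2 ⟨Finset.mem_univ _, hzM.2.1⟩
  have hs : (some 0 : GolayPt) ∈ (Finset.univ.filter (fun p => z p = p)).erase none :=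
    Finset.mem_erase.2 ⟨some0_ne_none, Finset.mem_filter.2 ⟨Finset.mem_univ _, hzM.2.2⟩⟩
  have hn' : (none : GolayPt) ∈ Finset.univ.filter (fun p => z' p = p) :=
    Finset.mem_filter.2 ⟨Finset.mem_univ _, hzM'.2.1⟩
  have hs' : (some 0 : GolayPt) ∈ (Finset.univ.filter (fun p => z' p = p)).erase none :=
    Finset.mem_erase.2 ⟨some0_ne_none, Finset.mem_filter.2 ⟨Finset.mem_univ _, hzM'.2.2⟩⟩
  have he1 : (((Finset.univ.filter (fun p => z p = p)).erase none).erase (some 0)).card = 1 := by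
    rw [Finset.card_erase_of_mem hs, Finset.card_erase_of_mem hn, hc3]
  have he2 : (((Finset.univ.filter (fun p => z' p = p)).erase none).erase (some 0)).card = 2 := by
    rw [Finset.card_erase_of_mem hs', Finset.card_erase_of_mem hn', hc4]
  obtain ⟨f, hf⟩ := Finset.card_eq_one.1 he1
  have hf1 : f ∈ ((Finset.univ.filter (fun p => z p = p)).erase none).erase (some 0) := by
    rw [hf]; exact Finset.mem_singleton_self f
  have hfs : f ≠ some 0 := (Finset.mem_erase.1 hf1).1
  have hfn : f ≠ none := (Finset.mem_erase.1 (Finset.mem_erase.1 hf1).2).1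
  have hzf : z f = f :=
    (Finset.mem_filter.1 (Finset.mem_erase.1 (Finset.mem_erase.1 hf1).2).2).2
  have hzfix : ∀ p, z p = p → p ≠ none → p ≠ some 0 → p = f := by
    intro p hp hpn hps
    have : p ∈ ((Finset.univ.filter (fun p => z p = p)).erase none).erase (some 0) :=
      Finset.mem_erase.2 ⟨hps, Finset.mem_erase.2 ⟨hpn,
        Finset.mem_filter.2 ⟨Finset.mem_univ _, hp⟩⟩⟩
    rw [hf, Finset.mem_singleton] at this
    exact this
  -- the orbit of that point
  set Θ : Finset GolayPt := Finset.univ.filter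
    (fun p => ∃ h ∈ H, ((h : ↥Spor.M22) : Equiv.Perm GolayPt) f = p) with hΘdef
  have hmemΘ : ∀ p, p ∈ Θ ↔ ∃ h ∈ H, ((h : ↥Spor.M22) : Equiv.Perm GolayPt) f = p := by
    intro p
    rw [hΘdef, Finset.mem_filter]
    exact ⟨fun h => h.2, fun h => ⟨Finset.mem_univ _, h⟩⟩
  have hfΘ : f ∈ Θ := (hmemΘ f).2 ⟨1, H.one_mem, rfl⟩
  have hnΘ : (none : GolayPt) ∉ Θ := by
    intro h
    obtain ⟨k, _, e⟩ := (hmemΘ _).1 h
    have : ((k : ↥Spor.M22) : Equiv.Perm GolayPt) none = none := (mem_M22.1 k.2).2.1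
    rw [← this] at e
    exact hfn ((k : Equiv.Perm GolayPt).injective e)
  have hsΘ : (some 0 : GolayPt) ∉ Θ := by
    intro h
    obtain ⟨k, _, e⟩ := (hmemΘ _).1 h
    have : ((k : ↥Spor.M22) : Equiv.Perm GolayPt) (some 0) = some 0 := (mem_M22.1 k.2).2.2
    rw [← this] at e
    exact hfs ((k : Equiv.Perm GolayPt).injective e)
  have hinv : ∀ k ∈ H, ∀ p, ((k : ↥Spor.M22) : Equiv.Perm GolayPt) p ∈ Θ ↔ p ∈ Θ := by
    intro k hk p
    rw [hmemΘ, hmemΘ]
    constructor
    · rintro ⟨h, hh, e⟩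
      refine ⟨k⁻¹ * h, H.mul_mem (H.inv_mem hk) hh, ?_⟩
      rw [Subgroup.coe_mul, Subgroup.coe_inv, Equiv.Perm.mul_apply, e, perm_inv_apply]
    · rintro ⟨h, hh, e⟩
      refine ⟨k * h, H.mul_mem hk hh, ?_⟩
      rw [Subgroup.coe_mul, Equiv.Perm.mul_apply, e]
  have hcoe : (Θ : Set GolayPt) = MulAction.orbit H f := by
    ext p
    rw [Finset.mem_coe, hmemΘ, mem_orbit_subgroup_iff']
    rfl
  have hdvd : Θ.card ∣ 20160 := by
    have := card_eq_orbit_mul_card_inf_stabilizer H f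
    rw [← hcoe, Set.ncard_coe_finset, hH] at this
    exact Dvd.intro _ this.symm
  -- the complement of the orbit among the twenty-two points
  set Ξ : Finset GolayPt := ((Finset.univ.erase none).erase (some 0)) \ Θ with hΞdef
  have hΘsub : Θ ⊆ (Finset.univ.erase none).erase (some 0) := fun p hp =>
    Finset.mem_erase.2 ⟨fun e => hsΘ (e ▸ hp),
      Finset.mem_erase.2 ⟨fun e => hnΘ (e ▸ hp), Finset.mem_univ _⟩⟩
  have hc22 : ((Finset.univ.erase (none : GolayPt)).erase (some 0)).card = 22 := by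
    rw [Finset.card_erase_of_mem (Finset.mem_erase.2 ⟨some0_ne_none, Finset.mem_univ _⟩),
      Finset.card_erase_of_mem (Finset.mem_univ _), Finset.card_univ, card_golayPt]
  have hle : Θ.card ≤ 22 := by
    rw [← hc22]
    exact Finset.card_le_card hΘsub
  have hΞcard : Ξ.card = 22 - Θ.card := by
    rw [hΞdef, Finset.card_sdiff_of_subset hΘsub, hc22]
  have hmemΞ : ∀ p, p ∈ Ξ ↔ p ≠ none ∧ p ≠ some 0 ∧ p ∉ Θ := by
    intro p
    rw [hΞdef, Finset.mem_sdiff, Finset.mem_erase, Finset.mem_erase]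
    exact ⟨fun h => ⟨h.1.2.1, h.1.1, h.2⟩, fun h => ⟨⟨h.2.1, h.1, Finset.mem_univ _⟩, h.2.2⟩⟩
  have hΞinv : ∀ k ∈ H, ∀ p, ((k : ↥Spor.M22) : Equiv.Perm GolayPt) p ∈ Ξ ↔ p ∈ Ξ := by
    intro k hk p
    have ka : ((k : ↥Spor.M22) : Equiv.Perm GolayPt) none = none := (mem_M22.1 k.2).2.1
    have kb : ((k : ↥Spor.M22) : Equiv.Perm GolayPt) (some 0) = some 0 := (mem_M22.1 k.2).2.2
    rw [hmemΞ, hmemΞ, hinv k hk]
    constructor
    · rintro ⟨h1, h2, h3⟩
      exact ⟨fun e => h1 (e ▸ ka), fun e => h2 (e ▸ kb), h3⟩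
    · rintro ⟨h1, h2, h3⟩
      refine ⟨fun e => h1 ?_, fun e => h2 ?_, h3⟩
      · rw [← ka] at e
        exact (k : Equiv.Perm GolayPt).injective e
      · rw [← kb] at e
        exact (k : Equiv.Perm GolayPt).injective e
  -- the orbit does not have fifteen points
  have hne15 : Θ.card ≠ 15 := by
    intro h15
    have hΞ7 : Ξ.card = 7 := by rw [hΞcard, h15]
    let φ : ↥H → Equiv.Perm {p // p ∈ Ξ} := fun h =>
      ((h : ↥Spor.M22) : Equiv.Perm GolayPt).subtypePerm (hΞinv h h.2)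
    have hφ : Function.Injective φ := by
      intro h1 h2 e
      have hag : ∀ p ∈ Ξ, ((h1 : ↥Spor.M22) : Equiv.Perm GolayPt) p =
          ((h2 : ↥Spor.M22) : Equiv.Perm GolayPt) p := by
        intro p hp
        have := congrArg (fun s : Equiv.Perm {p // p ∈ Ξ} => ((s ⟨p, hp⟩ : {p // p ∈ Ξ}) : GolayPt)) e
        exact this
      have hk : (((h1 : ↥Spor.M22) : Equiv.Perm GolayPt))⁻¹ *
          ((h2 : ↥Spor.M22) : Equiv.Perm GolayPt) = 1 := by
        apply eq_one_of_fix_nine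
          (M24.mul_mem (M24.inv_mem (mem_M22.1 (h1 : ↥Spor.M22).2).1) (mem_M22.1 (h2 : ↥Spor.M22).2).1)
          (insert none (insert (some 0) Ξ))
        · intro p hp
          rw [Finset.mem_insert, Finset.mem_insert] at hp
          rw [Equiv.Perm.mul_apply, Equiv.Perm.inv_eq_iff_eq]
          rcases hp with rfl | rfl | hp
          · rw [(mem_M22.1 (h1 : ↥Spor.M22).2).2.1, (mem_M22.1 (h2 : ↥Spor.M22).2).2.1]
          · rw [(mem_M22.1 (h1 : ↥Spor.M22).2).2.2, (mem_M22.1 (h2 : ↥Spor.M22).2).2.2]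
          · exact (hag p hp).symm
        · rw [Finset.card_insert_of_notMem, Finset.card_insert_of_notMem, hΞ7]
          · intro h
            exact ((hmemΞ _).1 h).2.1 rfl
          · intro h
            rw [Finset.mem_insert] at h
            rcases h with h | h
            · exact some0_ne_none h.symm
            · exact ((hmemΞ _).1 h).1 rfl
      have : ((h1 : ↥Spor.M22) : Equiv.Perm GolayPt) = ((h2 : ↥Spor.M22) : Equiv.Perm GolayPt) :=
        inv_mul_eq_one.1 hk
      exact Subtype.ext (Subtype.ext this)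
    have hcard := Nat.card_le_card_of_injective φ hφ
    rw [hH, Nat.card_eq_fintype_card, Fintype.card_perm, Fintype.card_coe, hΞ7] at hcard
    exact absurd hcard (by decide)
  -- congruences
  have hq7 := card_invariant_modEq (q := 7)
    (by rw [← hzo]; exact pow_orderOf_eq_one z) Θ (by rw [← hz]; exact hinv g g.2)
  have hq5 := card_invariant_modEq (q := 5)
    (by rw [← hzo']; exact pow_orderOf_eq_one z') Θ (by rw [← hz']; exact hinv g' g'.2)
  have hfix7 : Θ.filter (fun p => z p = p) = {f} := by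
    ext p
    rw [Finset.mem_filter, Finset.mem_singleton]
    constructor
    · rintro ⟨hp, hzp⟩
      exact hzfix p hzp (fun e => hnΘ (e ▸ hp)) (fun e => hsΘ (e ▸ hp))
    · rintro rfl
      exact ⟨hfΘ, hzf⟩
  have hfix5 : (Θ.filter (fun p => z' p = p)).card ≤ 2 := by
    rw [← he2]
    apply Finset.card_le_card
    intro p hp
    rw [Finset.mem_filter] at hp
    exact Finset.mem_erase.2 ⟨fun e => hsΘ (e ▸ hp.1), Finset.mem_erase.2
      ⟨fun e => hnΘ (e ▸ hp.1), Finset.mem_filter.2 ⟨Finset.mem_univ _, hp.2⟩⟩⟩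
  rw [hfix7, Finset.card_singleton] at hq7
  unfold Nat.ModEq at hq7 hq5
  have hpos : 0 < Θ.card := Finset.card_pos.2 ⟨f, hfΘ⟩
  have hone : Θ.card = 1 := by
    generalize (Θ.filter (fun p => z' p = p)).card = c at hq5 hfix5
    generalize Θ.card = n at hdvd hle hq7 hq5 hpos hne15
    interval_cases n <;> omega
  obtain ⟨a, ha⟩ := Finset.card_eq_one.1 hone
  have haf : a = f := by
    rw [ha, Finset.mem_singleton] at hfΘ
    exact hfΘ.symm
  refine ⟨f, hfn, hfs, fun h hh => ?_⟩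
  have : ((h : ↥Spor.M22) : Equiv.Perm GolayPt) f ∈ Θ := (hmemΘ _).2 ⟨h, hh, rfl⟩
  rw [ha, Finset.mem_singleton, haf] at this
  exact this

end Cfsg.Agent.Lib.Helper21.M24Aut
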