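import Cfsg.Agent.Lib.Helper21.GolayMem
import Cfsg.Agent.Lib.Helper21.GolayCount

/-!
Data for the automorphisms of `M22`: eleven octads through the positions `0` and `23` and an
octad through the position `0` only, forming a basis of the code, and the words orthogonal to the
eleven octads.
-/

set_option autoImplicit false

namespace Cfsg.Agent.Lib.Helper21.M24Aut

open Cfsg
open Cfsg.Agent.Lib.Helper21

/-- Information bits of eleven octads through the positions `0` and `23`. -/
def sL : List ℕ := [1, 3, 9, 21, 37, 77, 129, 259, 513, 1029, 2053]

/-- Information bits of an octad through the position `0` and not through `23`. -/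
def cW0 : ℕ := 5

/-- The twelve masks. -/
def newBasis : List ℕ := (sL ++ [cW0]).map encMask

/-- Selectors expressing the systematic rows in the twelve masks. -/
def selL : List ℕ := [1, 3, 2049, 5, 2056, 2064, 2085, 65, 130, 257, 2560, 3072]

theorem sL_ok : ∀ c ∈ sL, c < 4096 ∧ popc 24 (encMask c) = 8 ∧ (encMask c).testBit 0 = true ∧
    (encMask c).testBit 23 = true := by decide +kernel

theorem cW0_ok : cW0 < 4096 ∧ popc 24 (encMask cW0) = 8 ∧ (encMask cW0).testBit 0 = true ∧
    (encMask cW0).testBit 23 = false := by decide +kernel

theorem sel_ok : ∀ j < 12, encAux newBasis (selL.getD j 0) = basisMasks.getD j 0 := by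
  decide +kernel

/-- The check part of the word of weight two on the positions `0` and `23`. -/
def kstar : ℕ := 1141

theorem kstar_ok : kstar <<< 12 = encMask 1 ^^^ (1 ||| 1 <<< 23) := by decide +kernel

theorem dual_ok : ∀ k < 4096, k = 0 ∨ k = kstar ∨
    ∃ c ∈ sL, popc 24 ((k <<< 12) &&& encMask c) % 2 = 1 := by
  apply forall_lt_4096
  decide +kernel

end Cfsg.Agent.Lib.Helper21.M24Aut
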