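import Cfsg.Agent.Lib.Helper21.M22AutB
import Cfsg.Agent.Lib.Helper21.M22AutData
import Cfsg.Agent.Lib.Helper21.GolayAutOctads
import Cfsg.Agent.Lib.Helper21.GolayInvSub
import Cfsg.Prelude.Def_KGroupFacts

/-!
Every automorphism of `M22` is induced by an element of `M24` fixing or interchanging the two base
points.
-/

set_option autoImplicit false

namespace Cfsg.Agent.Lib.Helper21.M24Aut

open Cfsg
open Cfsg.Agent.Lib.Helper21
open scoped Pointwise

/-! ### Inner products of masks -/

theorem ofMask_and (x y : ℕ) (p : GolayPt) : ofMask x p * ofMask y p = ofMask (x &&& y) p := by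
  unfold ofMask
  rw [Nat.testBit_and]
  cases x.testBit (gEquiv p) <;> cases y.testBit (gEquiv p) <;> simp

theorem sum_ofMask (m : ℕ) (hm : m < 2 ^ 24) : ∑ p, ofMask m p = ((popc 24 m : ℕ) : ZMod 2) := by
  rw [sum_eq_card_support₂, card_support₂, hammingNorm_eq_popc, toMask_ofMask m hm]

theorem dot_ofMask (x y : ℕ) (hx : x < 2 ^ 24) :
    ofMask x ⬝ᵥ ofMask y = ((popc 24 (x &&& y) : ℕ) : ZMod 2) := by
  unfold dotProduct
  rw [Finset.sum_congr rfl (fun p _ => ofMask_and x y p)]
  exact sum_ofMask _ (lt_of_le_of_lt Nat.and_le_left hx)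

/-- The word of weight two on the two base points. -/
def eMask : ℕ := 1 ||| 1 <<< 23

theorem zmod2_swap_add : ∀ a b c d : ZMod 2, a + b = c + d → a + d = c + b := by decide

/-- A word orthogonal to the eleven octads lies in the code, or does so after adding the word of
weight two on the base points. -/
theorem dual_code (v : GolayPt → ZMod 2) (hv : ∀ c ∈ sL, v ⬝ᵥ ofMask (encMask c) = 0) :
    v ∈ golayCode ∨ v + ofMask eMask ∈ golayCode := by
  set m := toMask v with hm
  have hm24 : m < 2 ^ 24 := toMask_lt v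
  have hvm : v = ofMask m := (ofMask_toMask v).symm
  set u := m % 4096 with hu
  have hu4 : u < 4096 := Nat.mod_lt _ (by norm_num)
  set r := m ^^^ encMask u with hr
  have hr24 : r < 2 ^ 24 := Nat.xor_lt_two_pow hm24 (encMask_lt u hu4)
  have hrmod : r % 4096 = 0 := by
    rw [hr, show (4096 : ℕ) = 2 ^ 12 by norm_num, Nat.xor_mod_two_pow,
      show (2 : ℕ) ^ 12 = 4096 by norm_num, encMask_mod u hu4, ← hu, Nat.xor_self]
  have hrk : r = (r / 4096) <<< 12 := by
    rw [Nat.shiftLeft_eq]
    omega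
  have hk : r / 4096 < 4096 := by
    have : r < 4096 * 4096 := by
      rw [show (4096 : ℕ) * 4096 = 2 ^ 24 by norm_num]
      exact hr24
    omega
  have hor : ofMask r = v + ofMask (encMask u) := by
    rw [hr, ofMask_xor, ← hvm]
  have horth : ∀ c ∈ sL, popc 24 (r &&& encMask c) % 2 = 0 := by
    intro c hc
    have h1 : ofMask r ⬝ᵥ ofMask (encMask c) = 0 := by
      rw [hor, add_dotProduct, hv c hc, golay_selfOrth _ (word_mem u) _ (word_mem c), add_zero]
    rw [dot_ofMask _ _ hr24] at h1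
    have := (ZMod.natCast_eq_zero_iff _ 2).1 h1
    omega
  rcases dual_ok (r / 4096) hk with h0 | hs | ⟨c, hc, hodd⟩
  · left
    have hr0 : r = 0 := by
      rw [hrk, h0]
      rfl
    have : v + ofMask (encMask u) = 0 := by
      rw [← hor, hr0, ofMask_zero]
    have hve : v = ofMask (encMask u) := by
      funext p
      have hp := congrFun this p
      rw [Pi.add_apply, Pi.zero_apply] at hp
      rcases zmod2_cases (v p) with h | h <;>
        rcases zmod2_cases (ofMask (encMask u) p) with h' | h' <;>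
        rw [h, h'] at hp ⊢ <;> revert hp <;> decide
    rw [hve]
    exact word_mem u
  · right
    have hr1 : r = encMask 1 ^^^ eMask := by
      rw [hrk, hs]
      exact kstar_ok
    have h2 : v + ofMask (encMask u) = ofMask (encMask 1) + ofMask eMask := by
      rw [← hor, hr1, ofMask_xor]
    have h3 : v + ofMask eMask = ofMask (encMask 1) + ofMask (encMask u) := by
      funext p
      exact zmod2_swap_add _ _ _ _ (congrFun h2 p)
    rw [h3]
    exact golayCode.add_mem (word_mem 1) (word_mem u)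
  · exfalso
    have := horth c hc
    rw [← hrk] at hodd
    omega

/-! ### Values at the base points -/

theorem ofMask_none (m : ℕ) : ofMask m none = if m.testBit 23 then 1 else 0 := rfl

theorem ofMask_some0 (m : ℕ) : ofMask m (some 0) = if m.testBit 0 then 1 else 0 := rfl

theorem ofMask_eMask : ∀ p : GolayPt,
    ofMask eMask p = if p = none ∨ p = some 0 then 1 else 0 := by decide +kernel

/-- The transposition of the two base points. -/
def tau : Equiv.Perm GolayPt := Equiv.swap none (some 0)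

theorem tau_inv : tau⁻¹ = tau := Equiv.swap_inv _ _

theorem precomp_tau_eq (x : GolayPt → ZMod 2) (h : x none = x (some 0)) : precomp tau x = x := by
  funext p
  rw [precomp_apply, tau]
  by_cases h0 : p = none
  · rw [h0, Equiv.swap_apply_left, h]
  by_cases h1 : p = some 0
  · rw [h1, Equiv.swap_apply_right, h]
  rw [Equiv.swap_apply_of_ne_of_ne h0 h1]

theorem zmod2_ne_add : ∀ a b : ZMod 2, a ≠ b → b = a + 1 := by decide

theorem precomp_tau_ne (x : GolayPt → ZMod 2) (h : x none ≠ x (some 0)) :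
    precomp tau x = x + ofMask eMask := by
  funext p
  rw [precomp_apply, tau, Pi.add_apply, ofMask_eMask]
  by_cases h0 : p = none
  · rw [h0, Equiv.swap_apply_left, if_pos (Or.inl rfl)]
    exact zmod2_ne_add _ _ h
  by_cases h1 : p = some 0
  · rw [h1, Equiv.swap_apply_right, if_pos (Or.inr rfl)]
    exact zmod2_ne_add _ _ (Ne.symm h)
  rw [Equiv.swap_apply_of_ne_of_ne h0 h1, if_neg (by tauto), add_zero]

/-! ### Membership in `M24` through the twelve masks -/

theorem mem_code_of_octad (v : GolayPt → ZMod 2) (h : support₂ v ∈ octads) : v ∈ golayCode := by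
  obtain ⟨v', hv', e, -⟩ := (mem_octads_iff _).1 h
  rw [← support₂_injective e]
  exact hv'

theorem word_octad (c : ℕ) (hc : c < 4096) (h8 : popc 24 (encMask c) = 8) :
    support₂ (ofMask (encMask c)) ∈ octads := by
  rw [mem_octads_iff]
  refine ⟨_, word_mem c, rfl, ?_⟩
  rw [card_support₂, hammingNorm_eq_popc, toMask_word c hc, h8]

theorem mem_M24_of_newBasis (s : Equiv.Perm GolayPt)
    (h : ∀ b ∈ newBasis, precomp s⁻¹ (ofMask b) ∈ golayCode) : s ∈ M24 := by
  have h1 : ∀ b ∈ newBasis, ofMask b ∈ golayCode.comap (precomp s⁻¹) := fun b hb => h b hb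
  have h2 : ∀ b ∈ basisMasks, ofMask b ∈ golayCode.comap (precomp s⁻¹) := by
    intro b hb
    obtain ⟨j, hj, rfl⟩ := List.mem_iff_getElem.1 hb
    have hj12 : j < 12 := hj
    have := ofMask_encAux_mem _ newBasis h1 (selL.getD j 0)
    rw [sel_ok j hj12, List.getD_eq_getElem _ _ hj] at this
    exact this
  have hle := golayCode_le_of_basis _ h2
  have := inv_mem_M24_of_gens s⁻¹ (fun t => hle (qrWord_mem t))
  rwa [inv_inv] at this

theorem dot_precomp_inv (s : Equiv.Perm GolayPt) (a b : GolayPt → ZMod 2) :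
    precomp s⁻¹ a ⬝ᵥ b = a ⬝ᵥ precomp s b := by
  unfold dotProduct
  rw [← Equiv.sum_comp s]
  apply Finset.sum_congr rfl
  intro q _
  rw [precomp_apply, precomp_apply, perm_inv_apply]

theorem swap_comm_of_fix {k : Equiv.Perm GolayPt} (h0 : k none = none) (h1 : k (some 0) = some 0) :
    tau * k * tau⁻¹ = k := by
  have i0 : k⁻¹ none = none := by
    rw [Equiv.Perm.inv_eq_iff_eq]
    exact h0.symm
  have i1 : k⁻¹ (some 0) = some 0 := by
    rw [Equiv.Perm.inv_eq_iff_eq]
    exact h1.symm
  have : tau * k = k * tau := by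
    unfold tau
    rw [Equiv.swap_mul_eq_mul_swap, i0, i1]
  rw [this, mul_assoc, mul_inv_cancel, mul_one]

/-- Every automorphism of `M22` is induced by an element of `M24` that fixes or interchanges the
two base points. -/
theorem aut_induced (α : MulAut ↥Spor.M22) :
    ∃ n ∈ M24, ((n none = none ∧ n (some 0) = some 0) ∨ (n none = some 0 ∧ n (some 0) = none)) ∧
      ∀ g : ↥Spor.M22, ((α g : ↥Spor.M22) : Equiv.Perm GolayPt) = n * g * n⁻¹ := by
  set σ := sigP22 α with hσ
  have σ0 : σ none = none := sigP22_none α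
  have σ1 : σ (some 0) = some 0 := sigP22_some0 α
  have σi0 : σ⁻¹ none = none := by
    rw [Equiv.Perm.inv_eq_iff_eq]
    exact σ0.symm
  have σi1 : σ⁻¹ (some 0) = some 0 := by
    rw [Equiv.Perm.inv_eq_iff_eq]
    exact σ1.symm
  have hL : ∀ c ∈ sL, precomp σ⁻¹ (ofMask (encMask c)) ∈ golayCode ∧
      precomp σ (ofMask (encMask c)) ∈ golayCode ∧ ofMask (encMask c) none = 1 ∧
      ofMask (encMask c) (some 0) = 1 := by
    intro c hc
    obtain ⟨c4, c8, b0, b23⟩ := sL_ok c hc
    have ho := word_octad c c4 c8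
    have v0 : ofMask (encMask c) none = 1 := by
      rw [ofMask_none, b23]
      rfl
    have v1 : ofMask (encMask c) (some 0) = 1 := by
      rw [ofMask_some0, b0]
      rfl
    have hn : (none : GolayPt) ∈ support₂ (ofMask (encMask c)) := by
      rw [mem_support₂, v0]
      exact one_ne_zero
    have hs : (some 0 : GolayPt) ∈ support₂ (ofMask (encMask c)) := by
      rw [mem_support₂, v1]
      exact one_ne_zero
    refine ⟨mem_code_of_octad _ ?_, mem_code_of_octad _ ?_, v0, v1⟩
    · rw [support₂_precomp, inv_inv]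
      exact sigP22_octads_of_mem α _ ho hn hs
    · rw [support₂_precomp]
      exact sigP22_inv_octads α _ ho hn hs
  obtain ⟨w4, w8, wb0, wb23⟩ := cW0_ok
  have hw0n : ofMask (encMask cW0) none = 0 := by
    rw [ofMask_none, wb23]
    rfl
  have hw0s : ofMask (encMask cW0) (some 0) = 1 := by
    rw [ofMask_some0, wb0]
    rfl
  have horth : ∀ c ∈ sL, precomp σ⁻¹ (ofMask (encMask cW0)) ⬝ᵥ ofMask (encMask c) = 0 := by
    intro c hc
    rw [dot_precomp_inv]
    exact golay_selfOrth _ (word_mem cW0) _ (hL c hc).2.1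
  have hmem : ∀ b ∈ newBasis, b = encMask cW0 ∨ ∃ c ∈ sL, b = encMask c := by
    intro b hb
    unfold newBasis at hb
    rw [List.mem_map] at hb
    obtain ⟨c, hc, rfl⟩ := hb
    rw [List.mem_append, List.mem_singleton] at hc
    rcases hc with hc | rfl
    · exact Or.inr ⟨c, hc, rfl⟩
    · exact Or.inl rfl
  rcases dual_code _ horth with hcase | hcase
  · -- the induced permutation lies in `M24`
    have hM : σ ∈ M24 := by
      apply mem_M24_of_newBasis
      intro b hb
      rcases hmem b hb with rfl | ⟨c, hc, rfl⟩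
      · exact hcase
      · exact (hL c hc).1
    exact ⟨σ, hM, Or.inl ⟨σ0, σ1⟩, alpha22_eq α⟩
  · -- the induced permutation times the transposition lies in `M24`
    have hpre : ∀ w : GolayPt → ZMod 2, precomp (tau * σ)⁻¹ w = precomp tau (precomp σ⁻¹ w) := by
      intro w
      funext p
      rw [precomp_apply, precomp_apply, precomp_apply, mul_inv_rev, Equiv.Perm.mul_apply, tau_inv]
    have hM : tau * σ ∈ M24 := by
      apply mem_M24_of_newBasis
      intro b hb
      rw [hpre]
      rcases hmem b hb with rfl | ⟨c, hc, rfl⟩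
      · rw [precomp_tau_ne]
        · exact hcase
        · rw [precomp_apply, precomp_apply, σi0, σi1, hw0n, hw0s]
          exact zero_ne_one
      · rw [precomp_tau_eq]
        · exact (hL c hc).1
        · rw [precomp_apply, precomp_apply, σi0, σi1, (hL c hc).2.2.1, (hL c hc).2.2.2]
    refine ⟨tau * σ, hM, Or.inr ⟨?_, ?_⟩, ?_⟩
    · rw [Equiv.Perm.mul_apply, σ0, tau, Equiv.swap_apply_left]
    · rw [Equiv.Perm.mul_apply, σ1, tau, Equiv.swap_apply_right]
    · intro g
      obtain ⟨-, a0, a1⟩ := mem_M22.1 (α g).2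
      rw [mul_inv_rev, ← swap_comm_of_fix a0 a1, alpha22_eq α g, ← hσ]
      group

/-! ### Inner and outer automorphisms -/

/-- The permutation `n` of `M24` induces the automorphism `α` by conjugation. -/
def Induces (α : MulAut ↥Spor.M22) (n : Equiv.Perm GolayPt) : Prop :=
  n ∈ M24 ∧ ∀ g : ↥Spor.M22, ((α g : ↥Spor.M22) : Equiv.Perm GolayPt) = n * g * n⁻¹

theorem induces_mul {α β : MulAut ↥Spor.M22} {n k : Equiv.Perm GolayPt} (h : Induces α n)
    (h' : Induces β k) : Induces (α * β) (n * k) := by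
  refine ⟨M24.mul_mem h.1 h'.1, fun g => ?_⟩
  rw [MulAut.mul_apply, h.2, h'.2]
  group

theorem inner_of_induces_fix {α : MulAut ↥Spor.M22} {n : Equiv.Perm GolayPt} (h : Induces α n)
    (h0 : n none = none) (h1 : n (some 0) = some 0) : α ∈ Cfsg.Inn ↥Spor.M22 := by
  refine ⟨⟨n, mem_M22.2 ⟨h.1, h0, h1⟩⟩, ?_⟩
  apply MulEquiv.ext
  intro g
  apply Subtype.ext
  rw [h.2 g]
  rfl

theorem exists_move {y : GolayPt} (hy : Out2 y) :
    ∃ k : ↥Spor.M22, (k : Equiv.Perm GolayPt) y ≠ y := by
  obtain ⟨w, w1, w2, w3, -⟩ := exists_fifth y y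
  obtain ⟨k, -, hk⟩ := exists_fix_move (y := w) (y' := y) ⟨w1, w2⟩ hy w3
  exact ⟨k, hk⟩

/-- The centraliser of `M22` in `M24` is trivial. -/
theorem centralizer_M22_trivial (z : Equiv.Perm GolayPt) (hzM : z ∈ M24)
    (hz : ∀ g : ↥Spor.M22, z * (g : Equiv.Perm GolayPt) = g * z) : z = 1 := by
  classical
  have hcomm : ∀ (k : ↥Spor.M22) (y : GolayPt), z ((k : Equiv.Perm GolayPt) y) =
      (k : Equiv.Perm GolayPt) (z y) := by
    intro k y
    have := congrArg (fun f : Equiv.Perm GolayPt => f y) (hz k)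
    simpa only [Equiv.Perm.mul_apply] using this
  have hout : ∀ y, Out2 y → Out2 (z y) := by
    intro y hy
    by_contra hno
    obtain ⟨k, hk⟩ := exists_move hy
    apply hk
    obtain ⟨-, k0, k1⟩ := mem_M22.1 k.2
    have hfix : (k : Equiv.Perm GolayPt) (z y) = z y := by
      by_cases e : z y = none
      · rw [e, k0]
      · have e' : z y = some 0 := by
          by_contra e'
          exact hno ⟨e, e'⟩
        rw [e', k1]
    have := hcomm k y
    rw [hfix] at this
    exact z.injective this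
  have hfix : ∀ y, Out2 y → z y = y := by
    intro y hy
    symm
    apply eq_of_stab_eq22 hy (hout y hy)
    intro k
    have := hcomm k y
    constructor
    · intro e
      rw [← this, e]
    · intro e
      rw [e] at this
      exact z.injective this
  have hc22 : ((Finset.univ.erase (none : GolayPt)).erase (some 0)).card = 22 := by
    rw [Finset.card_erase_of_mem (Finset.mem_erase.2 ⟨some0_ne_none, Finset.mem_univ _⟩),
      Finset.card_erase_of_mem (Finset.mem_univ _), Finset.card_univ, card_golayPt]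
  refine eq_one_of_fix_nine hzM ((Finset.univ.erase (none : GolayPt)).erase (some 0)) ?_ (by omega)
  intro p hp
  rw [Finset.mem_erase, Finset.mem_erase] at hp
  exact hfix p ⟨hp.2.1, hp.1⟩

theorem fix_of_induces_inner {α : MulAut ↥Spor.M22} {n : Equiv.Perm GolayPt} (h : Induces α n)
    (hα : α ∈ Cfsg.Inn ↥Spor.M22) : n none = none := by
  obtain ⟨m, rfl⟩ := hα
  obtain ⟨hmM, m0, -⟩ := mem_M22.1 m.2
  have hz : ∀ g : ↥Spor.M22, ((m : Equiv.Perm GolayPt)⁻¹ * n) * (g : Equiv.Perm GolayPt) =
      g * ((m : Equiv.Perm GolayPt)⁻¹ * n) := by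
    intro g
    have h1 := h.2 g
    have h2 : ((MulAut.conj m g : ↥Spor.M22) : Equiv.Perm GolayPt) =
        (m : Equiv.Perm GolayPt) * g * (m : Equiv.Perm GolayPt)⁻¹ := rfl
    rw [h2] at h1
    have h3 : (g : Equiv.Perm GolayPt) =
        (m : Equiv.Perm GolayPt)⁻¹ * (n * g * n⁻¹) * (m : Equiv.Perm GolayPt) := by
      rw [← h1]
      group
    calc ((m : Equiv.Perm GolayPt)⁻¹ * n) * (g : Equiv.Perm GolayPt)
        = ((m : Equiv.Perm GolayPt)⁻¹ * (n * g * n⁻¹) * (m : Equiv.Perm GolayPt)) *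
            ((m : Equiv.Perm GolayPt)⁻¹ * n) := by group
      _ = g * ((m : Equiv.Perm GolayPt)⁻¹ * n) := by rw [← h3]
  have h1 := centralizer_M22_trivial _ (M24.mul_mem (M24.inv_mem hmM) h.1) hz
  have h2 : n = m := by
    have : n = (m : Equiv.Perm GolayPt) * ((m : Equiv.Perm GolayPt)⁻¹ * n) := by group
    rw [this, h1, mul_one]
  rw [h2, m0]

/-- Conjugation by a permutation normalising `M22`. -/
def conjAut (n : Equiv.Perm GolayPt) (h : ∀ g ∈ Spor.M22, n * g * n⁻¹ ∈ Spor.M22)
    (h' : ∀ g ∈ Spor.M22, n⁻¹ * g * n ∈ Spor.M22) : MulAut ↥Spor.M22 where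
  toFun g := ⟨n * g * n⁻¹, h g g.2⟩
  invFun g := ⟨n⁻¹ * g * n, h' g g.2⟩
  left_inv g := by
    apply Subtype.ext
    show n⁻¹ * (n * (g : Equiv.Perm GolayPt) * n⁻¹) * n = g
    group
  right_inv g := by
    apply Subtype.ext
    show n * (n⁻¹ * (g : Equiv.Perm GolayPt) * n) * n⁻¹ = g
    group
  map_mul' a b := by
    apply Subtype.ext
    show n * ((a : Equiv.Perm GolayPt) * b) * n⁻¹ = (n * a * n⁻¹) * (n * b * n⁻¹)
    group

/-- The inner automorphisms of `M22` have index two in the automorphism group. -/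
theorem index_inn_M22 : (Cfsg.Inn ↥Spor.M22).index = 2 := by
  obtain ⟨t, htM, t0, t1⟩ := exists_map_two none (some 0) (some 0) none some0_ne_none.symm
    some0_ne_none
  have ti0 : t⁻¹ none = some 0 := by
    rw [Equiv.Perm.inv_eq_iff_eq]
    exact t1.symm
  have ti1 : t⁻¹ (some 0) = none := by
    rw [Equiv.Perm.inv_eq_iff_eq]
    exact t0.symm
  have hn : ∀ g ∈ Spor.M22, t * g * t⁻¹ ∈ Spor.M22 := by
    intro g hg
    obtain ⟨gM, g0, g1⟩ := mem_M22.1 hg
    refine mem_M22.2 ⟨M24.mul_mem (M24.mul_mem htM gM) (M24.inv_mem htM), ?_, ?_⟩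
    · rw [Equiv.Perm.mul_apply, Equiv.Perm.mul_apply, ti0, g1, t1]
    · rw [Equiv.Perm.mul_apply, Equiv.Perm.mul_apply, ti1, g0, t0]
  have hn' : ∀ g ∈ Spor.M22, t⁻¹ * g * t ∈ Spor.M22 := by
    intro g hg
    obtain ⟨gM, g0, g1⟩ := mem_M22.1 hg
    refine mem_M22.2 ⟨M24.mul_mem (M24.mul_mem (M24.inv_mem htM) gM) htM, ?_, ?_⟩
    · rw [Equiv.Perm.mul_apply, Equiv.Perm.mul_apply, t0, g1, ti1]
    · rw [Equiv.Perm.mul_apply, Equiv.Perm.mul_apply, t1, g0, ti0]
  have hθ : Induces (conjAut t hn hn') t := ⟨htM, fun g => rfl⟩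
  rw [Subgroup.index_eq_two_iff]
  refine ⟨conjAut t hn hn', fun b => ?_⟩
  obtain ⟨n, hnM, hcases, hb⟩ := aut_induced b
  have hbI : Induces b n := ⟨hnM, hb⟩
  have hbt := induces_mul hbI hθ
  rcases hcases with ⟨n0, n1⟩ | ⟨n0, n1⟩
  · right
    refine ⟨inner_of_induces_fix hbI n0 n1, fun hin => ?_⟩
    have := fix_of_induces_inner hbt hin
    rw [Equiv.Perm.mul_apply, t0, n1] at this
    exact some0_ne_none this
  · left
    refine ⟨inner_of_induces_fix hbt ?_ ?_, fun hin => ?_⟩
    · rw [Equiv.Perm.mul_apply, t0, n1]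
    · rw [Equiv.Perm.mul_apply, t1, n0]
    · have := fix_of_induces_inner hbI hin
      rw [n0] at this
      exact some0_ne_none this

end Cfsg.Agent.Lib.Helper21.M24Aut
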