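import Cfsg.Agent.Lib.Helper21.GolayRigid

/-!
Rigidity certificates for the positions `0..5` together with a seventh position, and a
decomposition of the base octad as the symmetric difference of two octads through a point outside
it.
-/

set_option autoImplicit false

namespace Cfsg.Agent.Lib.Helper21.M24Aut

open Cfsg
open Cfsg.Agent.Lib.Helper21

/-- Rigidity certificate for the positions `0..5` and `j`. -/
def cert6 : ℕ → List (List (ℕ × Bool) × ℕ)
  | 6 => [([(246, true), (47, false), (61, false), (93, false)], 7),
    ([(343, true), (47, false), (61, false), (93, false)], 8),
    ([(567, true), (47, false), (2639, true)], 9),
    ([(1134, true), (47, false), (1183, true)], 10),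
    ([(2366, true), (47, false), (2639, true)], 11),
    ([(103, true), (47, false), (1183, true)], 12),
    ([(93, true), (47, false), (94, false), (103, true)], 13),
    ([(47, true), (61, false), (636, true)], 14),
    ([(61, true), (47, false), (103, true)], 15),
    ([(47, true), (61, false), (93, true)], 17),
    ([(94, true), (47, false), (61, false), (93, false)], 18),
    ([(93, true), (47, false), (94, false), (103, false)], 19),
    ([(61, true), (47, false), (1134, true)], 20),
    ([(61, true), (47, false), (2639, true)], 22),
    ([(47, true), (61, false), (3189, true)], 23),
    ([(1, true), (28, true), (4, false)], 16),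
    ([(8, true), (35, true), (2, false)], 21)]
  | 7 => [([(123, true), (47, false), (493, true)], 6),
    ([(435, true), (47, false), (61, false), (171, false)], 8),
    ([(567, true), (47, false), (686, true)], 9),
    ([(2215, true), (47, false), (2366, true)], 11),
    ([(171, true), (47, false), (2366, true)], 13),
    ([(47, true), (61, false), (181, true)], 14),
    ([(61, true), (47, false), (686, true)], 15),
    ([(123, true), (47, false), (2215, true)], 16),
    ([(47, true), (61, false), (2745, true)], 17),
    ([(186, true), (47, false), (61, false), (171, false)], 18),
    ([(171, true), (47, false), (567, true)], 19),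
    ([(61, true), (47, false), (2215, true)], 20),
    ([(123, true), (47, false), (686, true)], 21),
    ([(61, true), (47, false), (171, true)], 22),
    ([(47, true), (61, false), (188, true)], 23),
    ([(1024, true), (1037, true), (1, false)], 10),
    ([(1, true), (28, true), (4, true)], 12)]
  | 8 => [([(123, true), (47, false), (493, true)], 6),
    ([(435, true), (47, false), (61, false), (271, false)], 7),
    ([(567, true), (47, false), (811, true)], 9),
    ([(1183, true), (47, false), (1319, true)], 10),
    ([(309, true), (47, false), (123, false), (271, false)], 12),
    ([(47, true), (61, false), (1337, true)], 14),
    ([(61, true), (47, false), (271, true)], 15),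
    ([(123, true), (47, false), (271, true)], 16),
    ([(47, true), (61, false), (309, true)], 17),
    ([(283, true), (47, false), (61, false), (271, false)], 18),
    ([(271, true), (47, false), (567, true)], 19),
    ([(61, true), (47, false), (811, true)], 20),
    ([(123, true), (47, false), (1319, true)], 21),
    ([(61, true), (47, false), (1319, true)], 22),
    ([(47, true), (61, false), (797, true)], 23),
    ([(2048, true), (2062, true), (2, false)], 11),
    ([(2, true), (15, true), (4, true)], 13)]
  | 9 => [([(123, true), (47, false), (2639, true)], 6),
    ([(686, true), (47, false), (1183, true)], 7),
    ([(797, true), (47, false), (123, false), (539, false)], 8),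
    ([(1183, true), (47, false), (1581, true)], 10),
    ([(2366, true), (47, false), (2639, true)], 11),
    ([(636, true), (47, false), (123, false), (539, false)], 12),
    ([(539, true), (47, false), (61, false), (542, false)], 13),
    ([(47, true), (61, false), (636, true)], 14),
    ([(61, true), (47, false), (686, true)], 15),
    ([(123, true), (47, false), (1581, true)], 16),
    ([(47, true), (61, false), (2745, true)], 17),
    ([(61, true), (47, false), (811, true)], 20),
    ([(123, true), (47, false), (686, true)], 21),
    ([(61, true), (47, false), (2639, true)], 22),
    ([(47, true), (61, false), (797, true)], 23),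
    ([(1, true), (15, true), (4, true)], 18),
    ([(2, true), (12, true), (4, false)], 19)]
  | 10 => [([(123, true), (47, false), (1134, true)], 6),
    ([(1319, true), (47, false), (2366, true)], 8),
    ([(567, true), (47, false), (1581, true)], 9),
    ([(2366, true), (47, false), (3115, true)], 11),
    ([(1075, true), (47, false), (61, false), (1078, false)], 13),
    ([(47, true), (61, false), (1337, true)], 14),
    ([(61, true), (47, false), (3115, true)], 15),
    ([(123, true), (47, false), (1581, true)], 16),
    ([(47, true), (61, false), (1084, true)], 17),
    ([(567, true), (47, false), (3115, true)], 18),
    ([(567, true), (47, false), (1134, true)], 19),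
    ([(61, true), (47, false), (1134, true)], 20),
    ([(123, true), (47, false), (1319, true)], 21),
    ([(61, true), (47, false), (1319, true)], 22),
    ([(47, true), (61, false), (3189, true)], 23),
    ([(128, true), (141, true), (1, false)], 7),
    ([(1, true), (28, true), (4, true)], 12)]
  | 11 => [([(123, true), (47, false), (2639, true)], 6),
    ([(1183, true), (47, false), (2215, true)], 7),
    ([(567, true), (47, false), (2639, true)], 9),
    ([(1183, true), (47, false), (3115, true)], 10),
    ([(1183, true), (47, false), (2093, true)], 12),
    ([(47, true), (61, false), (2077, true)], 14),
    ([(61, true), (47, false), (3115, true)], 15),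
    ([(123, true), (47, false), (2215, true)], 16),
    ([(47, true), (61, false), (2745, true)], 17),
    ([(567, true), (47, false), (3115, true)], 18),
    ([(567, true), (47, false), (2093, true)], 19),
    ([(61, true), (47, false), (2215, true)], 20),
    ([(123, true), (47, false), (2093, true)], 21),
    ([(61, true), (47, false), (2639, true)], 22),
    ([(47, true), (61, false), (3189, true)], 23),
    ([(256, true), (269, true), (2, false)], 8),
    ([(2, true), (15, true), (4, true)], 13)]
  | 12 => [([(103, true), (46, false), (636, true)], 6),
    ([(309, true), (46, false), (47, false), (54, false)], 8),
    ([(567, true), (46, false), (57, false), (58, false)], 9),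
    ([(2093, true), (46, false), (2366, true)], 11),
    ([(57, true), (46, false), (47, false), (54, false)], 13),
    ([(47, true), (46, false), (636, true)], 14),
    ([(58, true), (46, false), (103, true)], 15),
    ([(46, true), (47, false), (123, true)], 16),
    ([(47, true), (46, false), (58, true)], 17),
    ([(46, true), (47, false), (567, true)], 18),
    ([(58, true), (46, false), (2093, true)], 19),
    ([(54, true), (46, false), (811, true)], 20),
    ([(54, true), (46, false), (2093, true)], 21),
    ([(46, true), (47, false), (61, true)], 22),
    ([(47, true), (46, false), (54, true)], 23),
    ([(128, true), (141, true), (1, false)], 7),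
    ([(1024, true), (1037, true), (1, false)], 10)]
  | 13 => [([(93, true), (15, false), (103, true)], 6),
    ([(171, true), (15, false), (1183, true)], 7),
    ([(539, true), (15, false), (1581, true)], 9),
    ([(1075, true), (15, false), (47, false), (23, false)], 10),
    ([(57, true), (15, false), (23, false), (47, false)], 12),
    ([(47, true), (15, false), (539, true)], 14),
    ([(61, true), (15, false), (23, false), (47, false)], 15),
    ([(23, true), (15, false), (1581, true)], 16),
    ([(47, true), (15, false), (93, true)], 17),
    ([(15, true), (23, false), (567, true)], 18),
    ([(93, true), (15, false), (171, true)], 19),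
    ([(15, true), (23, false), (1075, true)], 20),
    ([(15, true), (23, false), (181, true)], 21),
    ([(23, true), (15, false), (171, true)], 22),
    ([(23, true), (15, false), (47, true)], 23),
    ([(256, true), (269, true), (2, false)], 8),
    ([(2048, true), (2062, true), (2, false)], 11)]
  | 14 => [([(123, true), (30, false), (47, false), (343, true)], 6),
    ([(181, true), (30, false), (47, false), (186, true)], 7),
    ([(343, true), (30, false), (2366, true)], 8),
    ([(539, true), (30, false), (636, true)], 9),
    ([(1078, true), (30, false), (1183, true)], 10),
    ([(2077, true), (30, false), (2366, true)], 11),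
    ([(636, true), (30, false), (1183, true)], 12),
    ([(181, true), (30, false), (47, false), (186, false)], 13),
    ([(61, true), (30, false), (47, false), (186, false)], 15),
    ([(123, true), (30, false), (47, false), (343, false)], 16),
    ([(186, true), (30, false), (2077, true)], 18),
    ([(30, true), (47, false), (61, false), (123, false)], 19),
    ([(61, true), (30, false), (47, false), (186, true)], 20),
    ([(30, true), (47, false), (61, false), (123, true)], 21),
    ([(30, true), (47, false), (61, true), (123, false)], 22),
    ([(1, true), (12, true), (4, false)], 17),
    ([(1, true), (12, true), (4, true)], 23)]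
  | 15 => [([(94, true), (47, false), (58, false), (103, true)], 6),
    ([(435, true), (47, false), (58, false), (271, false)], 7),
    ([(271, true), (47, false), (2366, true)], 8),
    ([(539, true), (47, false), (58, false), (103, false)], 9),
    ([(1078, true), (47, false), (58, false), (123, false)], 10),
    ([(2071, true), (47, false), (58, false), (123, false)], 11),
    ([(58, true), (47, false), (61, false), (103, true)], 12),
    ([(103, true), (47, false), (2366, true)], 13),
    ([(47, true), (58, false), (61, false), (94, false)], 14),
    ([(123, true), (47, false), (271, true)], 16),
    ([(47, true), (58, true), (123, false)], 17),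
    ([(94, true), (47, false), (58, false), (103, false)], 18),
    ([(58, true), (47, false), (61, false), (103, false)], 19),
    ([(123, true), (47, false), (686, true)], 21),
    ([(47, true), (58, false), (61, false), (94, true)], 23),
    ([(4, true), (25, true), (1, false)], 20),
    ([(1, true), (30, true), (4, true)], 22)]
  | 16 => [([(188, true), (23, false), (46, false), (271, false)], 7),
    ([(271, true), (23, false), (309, true)], 8),
    ([(542, true), (23, false), (567, true)], 9),
    ([(1078, true), (23, false), (1183, true)], 10),
    ([(2077, true), (23, false), (2215, true)], 11),
    ([(46, true), (23, false), (47, false), (309, true)], 12),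
    ([(23, true), (46, false), (47, false), (61, false)], 13),
    ([(47, true), (23, false), (46, false), (309, false)], 14),
    ([(61, true), (23, false), (46, false), (271, true)], 15),
    ([(47, true), (23, false), (46, false), (309, true)], 17),
    ([(46, true), (23, false), (47, false), (309, false)], 18),
    ([(188, true), (23, false), (46, false), (271, true)], 19),
    ([(61, true), (23, false), (46, false), (271, false)], 20),
    ([(23, true), (46, true), (271, false)], 22),
    ([(23, true), (46, false), (47, true), (61, false)], 23),
    ([(64, true), (77, true), (1, false)], 6),
    ([(8, true), (35, true), (2, false)], 21)]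
  | 17 => [([(93, true), (47, false), (58, false), (123, true)], 6),
    ([(246, true), (47, false), (61, false), (93, false)], 7),
    ([(283, true), (47, false), (61, false), (309, true)], 8),
    ([(542, true), (47, false), (61, false), (123, false)], 9),
    ([(1075, true), (47, false), (61, false), (93, false)], 10),
    ([(2071, true), (47, false), (58, false), (123, false)], 11),
    ([(58, true), (47, false), (61, false), (93, false)], 12),
    ([(93, true), (47, false), (58, false), (123, false)], 13),
    ([(58, true), (47, false), (61, true), (93, false)], 15),
    ([(123, true), (47, false), (93, false), (309, true)], 16),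
    ([(283, true), (47, false), (61, false), (309, false)], 18),
    ([(58, true), (47, false), (61, false), (93, true)], 19),
    ([(61, true), (47, false), (58, false), (246, false)], 20),
    ([(123, true), (47, false), (93, false), (309, false)], 21),
    ([(61, true), (47, false), (58, false), (246, true)], 22),
    ([(1, true), (30, true), (4, false)], 14),
    ([(1, true), (12, true), (4, true)], 23)]
  | 18 => [([(94, true), (15, false), (493, true)], 6),
    ([(186, true), (15, false), (47, false), (57, false)], 7),
    ([(283, true), (15, false), (493, true)], 8),
    ([(1084, true), (15, false), (47, false), (57, false)], 10),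
    ([(2077, true), (15, false), (3115, true)], 11),
    ([(46, true), (15, false), (1183, true)], 12),
    ([(15, true), (46, false), (2366, true)], 13),
    ([(47, true), (15, false), (2077, true)], 14),
    ([(61, true), (15, false), (46, false), (57, false)], 15),
    ([(46, true), (15, false), (2077, true)], 16),
    ([(47, true), (15, false), (283, true)], 17),
    ([(15, true), (46, false), (186, true)], 20),
    ([(15, true), (46, false), (1084, true)], 21),
    ([(46, true), (15, false), (283, true)], 22),
    ([(47, true), (15, false), (94, true)], 23),
    ([(512, true), (525, true), (1, false)], 9),
    ([(2, true), (12, true), (4, false)], 19)]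
  | 19 => [([(93, true), (30, false), (1134, true)], 6),
    ([(171, true), (30, false), (47, false), (93, false)], 7),
    ([(271, true), (30, false), (2366, true)], 8),
    ([(1134, true), (30, false), (1183, true)], 10),
    ([(2075, true), (30, false), (2366, true)], 11),
    ([(58, true), (30, false), (1183, true)], 12),
    ([(93, true), (30, false), (2366, true)], 13),
    ([(30, true), (47, true), (271, false)], 14),
    ([(58, true), (30, false), (271, true)], 15),
    ([(123, true), (30, false), (47, false), (93, false)], 16),
    ([(47, true), (30, false), (58, true), (61, false)], 17),
    ([(61, true), (30, false), (47, false), (58, false)], 20),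
    ([(30, true), (47, false), (58, false), (61, false)], 21),
    ([(30, true), (47, false), (58, false), (61, true)], 22),
    ([(47, true), (30, false), (58, false), (61, false)], 23),
    ([(512, true), (525, true), (1, false)], 9),
    ([(1, true), (15, true), (4, true)], 18)]
  | 20 => [([(123, true), (15, false), (54, false), (343, true)], 6),
    ([(186, true), (15, false), (47, false), (54, false)], 7),
    ([(343, true), (15, false), (811, true)], 8),
    ([(542, true), (15, false), (811, true)], 9),
    ([(1075, true), (15, false), (47, false), (54, false)], 10),
    ([(2075, true), (15, false), (2215, true)], 11),
    ([(54, true), (15, false), (47, false), (61, false)], 12),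
    ([(15, true), (47, false), (2366, true)], 13),
    ([(47, true), (15, false), (343, true)], 14),
    ([(123, true), (15, false), (54, false), (343, false)], 16),
    ([(47, true), (15, false), (542, true)], 17),
    ([(15, true), (47, false), (567, true)], 18),
    ([(567, true), (15, false), (54, false), (542, false)], 19),
    ([(15, true), (47, false), (123, true)], 21),
    ([(47, true), (15, false), (2075, true)], 23),
    ([(2, true), (12, true), (4, true)], 15),
    ([(1, true), (30, true), (4, true)], 22)]
  | 21 => [([(181, true), (15, false), (30, false), (47, false)], 7),
    ([(797, true), (15, false), (1319, true)], 8),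
    ([(567, true), (15, false), (30, false), (47, false)], 9),
    ([(1084, true), (15, false), (47, false), (30, false)], 10),
    ([(2071, true), (15, false), (2093, true)], 11),
    ([(54, true), (15, false), (47, false), (30, false)], 12),
    ([(15, true), (30, false), (2366, true)], 13),
    ([(30, true), (15, false), (47, true)], 14),
    ([(61, true), (15, false), (30, false), (47, false)], 15),
    ([(47, true), (15, false), (2071, true)], 17),
    ([(15, true), (30, false), (1084, true)], 18),
    ([(30, true), (15, false), (2093, true)], 19),
    ([(15, true), (30, false), (54, true)], 20),
    ([(30, true), (15, false), (1319, true)], 22),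
    ([(47, true), (15, false), (797, true)], 23),
    ([(64, true), (77, true), (1, false)], 6),
    ([(1, true), (28, true), (4, false)], 16)]
  | 22 => [([(123, true), (23, false), (30, false), (46, false)], 6),
    ([(171, true), (23, false), (30, false), (46, false)], 7),
    ([(283, true), (23, false), (1319, true)], 8),
    ([(567, true), (23, false), (2639, true)], 9),
    ([(1183, true), (23, false), (1319, true)], 10),
    ([(2099, true), (23, false), (2639, true)], 11),
    ([(46, true), (23, false), (47, false), (283, false)], 12),
    ([(23, true), (30, false), (2366, true)], 13),
    ([(30, true), (23, false), (2099, true)], 14),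
    ([(23, true), (30, false), (46, true)], 16),
    ([(47, true), (23, false), (30, false), (46, false)], 17),
    ([(46, true), (23, false), (47, false), (283, true)], 18),
    ([(30, true), (23, false), (567, true)], 19),
    ([(30, true), (23, false), (1319, true)], 21),
    ([(23, true), (30, false), (1594, true)], 23),
    ([(2, true), (12, true), (4, true)], 15),
    ([(4, true), (25, true), (1, false)], 20)]
  | 23 => [([(94, true), (23, false), (3189, true)], 6),
    ([(188, true), (23, false), (47, false), (435, true)], 7),
    ([(435, true), (23, false), (797, true)], 8),
    ([(567, true), (23, false), (797, true)], 9),
    ([(1183, true), (23, false), (3189, true)], 10),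
    ([(2075, true), (23, false), (3189, true)], 11),
    ([(54, true), (23, false), (1183, true)], 12),
    ([(23, true), (47, false), (57, true), (54, false)], 13),
    ([(61, true), (23, false), (47, false), (54, false)], 15),
    ([(23, true), (47, false), (57, false), (61, false)], 16),
    ([(57, true), (23, false), (47, false), (54, false)], 18),
    ([(188, true), (23, false), (47, false), (435, false)], 19),
    ([(54, true), (23, false), (2075, true)], 20),
    ([(54, true), (23, false), (797, true)], 21),
    ([(23, true), (47, false), (57, false), (61, true)], 22),
    ([(1, true), (30, true), (4, false)], 14),
    ([(1, true), (12, true), (4, false)], 17)]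
  | _ => []

theorem cert6_ok : ∀ j < 24, j < 6 ∨ runCert (cert6 j) (0x3F ||| 1 <<< j) = some 0xFFFFFF := by
  decide +kernel

/-- Information bits of two octads through the position `5` with symmetric difference the base
octad. -/
def cD1 : ℕ := 46
def cD2 : ℕ := 1201

theorem dec_ok : cD1 < 4096 ∧ cD2 < 4096 ∧ popc 24 (encMask cD1) = 8 ∧ popc 24 (encMask cD2) = 8 ∧
    (encMask cD1).testBit 5 = true ∧ (encMask cD2).testBit 5 = true ∧
    encMask cD1 ^^^ encMask cD2 = 0x149F ∧ popc 24 (encMask cD1 &&& encMask cD2) = 4 ∧
    encMask cD1 < 2 ^ 24 ∧ encMask cD2 < 2 ^ 24 := by decide +kernel

end Cfsg.Agent.Lib.Helper21.M24Aut
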