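import Cfsg.Agent.Lib.Helper21.M24AutB
import Cfsg.Agent.Lib.Helper21.M23AutData
import Cfsg.Prelude.Def_Spor_Mathieu

/-!
Nonidentity elements of `M24` fix at most eight points; elements of order eleven and seven fix
two and three points; a subgroup of `M23` of the order of `M22` fixes a second point.
-/

set_option autoImplicit false

namespace Cfsg.Agent.Lib.Helper21.M24Aut

open Cfsg
open Cfsg.Agent.Lib.Helper21
open scoped Pointwise

/-! ### Rigidity -/

/-- An element of `M24` fixing five points of an octad and a point outside it is conjugate to an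
element fixing the positions `0..5`. -/
theorem conj_to_six {t : Equiv.Perm GolayPt} (ht : t ∈ M24) (T : Finset GolayPt)
    (hT : T.card = 5) (hfix : ∀ p ∈ T, t p = p) (O : Finset GolayPt) (hO : O ∈ octads)
    (hTO : T ⊆ O) (b : GolayPt) (hb : t b = b) (hbO : b ∉ O) :
    ∃ v ∈ M24, v⁻¹ * t * v ∈ chainSub 6 ∧ (∀ i, i < 5 → v (ptN i) ∈ T) ∧ v (ptN 5) = b := by
  have hL : T.toList.Nodup := T.nodup_toList
  have hlen : T.toList.length = 5 := by rw [Finset.length_toList, hT]
  obtain ⟨k, hk, hkL⟩ := exists_map_prefix 5 le_rfl (fun i => T.toList.getD i (ptN 0)) (by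
    intro i j hi hj h
    rw [List.getD_eq_getElem _ _ (by omega), List.getD_eq_getElem _ _ (by omega)] at h
    exact (hL.getElem_inj_iff).1 h)
  have hkT : ∀ i, i < 5 → k (ptN i) ∈ T := by
    intro i hi
    rw [hkL i hi, List.getD_eq_getElem _ _ (by omega), ← Finset.mem_toList]
    exact List.getElem_mem _
  have hkO : k • oct0 = O := by
    apply octad_unique _ _ (smul_mem_octads hk oct0_mem) hO
    have hsub : T ⊆ k • oct0 ∩ O := by
      intro p hp
      rw [Finset.mem_inter]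
      refine ⟨?_, hTO hp⟩
      rw [← Finset.mem_toList] at hp
      obtain ⟨i, hi, e⟩ := List.getElem_of_mem hp
      have hi5 : i < 5 := by omega
      have := hkL i hi5
      rw [List.getD_eq_getElem _ _ hi, e] at this
      rw [← this, ← smul_perm_point]
      exact Finset.smul_mem_smul_finset (ptN_mem_oct0 i hi5)
    rw [← hT]
    exact Finset.card_le_card hsub
  have hs : k⁻¹ * t * k ∈ chainSub 5 := by
    refine ⟨M24.mul_mem (M24.mul_mem (M24.inv_mem hk) ht) hk, fun i hi => ?_⟩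
    rw [Equiv.Perm.mul_apply, Equiv.Perm.mul_apply, hfix _ (hkT i hi), perm_inv_apply]
  have hb' : (k⁻¹ * t * k) (k⁻¹ b) = k⁻¹ b := by
    rw [Equiv.Perm.mul_apply, Equiv.Perm.mul_apply, perm_apply_inv, hb]
  have hbo : k⁻¹ b ∈ maskFS (chainE 5) := by
    rw [chainE_five, maskFS_compl, Finset.mem_compl]
    intro hmem
    apply hbO
    rw [← hkO]
    have : k (k⁻¹ b) ∈ k • oct0 := by
      rw [← smul_perm_point]
      exact Finset.smul_mem_smul_finset hmem
    rwa [perm_apply_inv] at this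
  have horb : k⁻¹ b ∈ MulAction.orbit (chainSub 5) (ptN 5) := by
    rw [chain_orbit 5 (by norm_num)]
    exact hbo
  rw [mem_orbit_subgroup_iff'] at horb
  obtain ⟨u, hu, hub⟩ := horb
  rw [smul_perm_point] at hub
  refine ⟨k * u, M24.mul_mem hk hu.1, ?_, fun i hi => ?_, ?_⟩
  · have e : (k * u)⁻¹ * t * (k * u) = u⁻¹ * (k⁻¹ * t * k) * u := by group
    rw [e]
    refine ⟨M24.mul_mem (M24.mul_mem (M24.inv_mem hu.1) hs.1) hu.1, fun i hi => ?_⟩
    rw [Equiv.Perm.mul_apply, Equiv.Perm.mul_apply]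
    rcases Nat.lt_succ_iff_lt_or_eq.1 hi with hi | rfl
    · rw [hu.2 i hi, hs.2 i hi, Equiv.Perm.inv_eq_iff_eq, hu.2 i hi]
    · rw [hub, hb', ← hub, perm_inv_apply]
  · rw [Equiv.Perm.mul_apply, hu.2 i hi]
    exact hkT i hi
  · rw [Equiv.Perm.mul_apply, hub, perm_apply_inv]

/-- A nonidentity element of `M24` fixes at most eight points. -/
theorem eq_one_of_fix_nine {t : Equiv.Perm GolayPt} (ht : t ∈ M24) (F : Finset GolayPt)
    (hF : ∀ p ∈ F, t p = p) (h9 : 9 ≤ F.card) : t = 1 := by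
  classical
  obtain ⟨T, hTF, hT5⟩ := Finset.exists_subset_card_eq (show 5 ≤ F.card by omega)
  obtain ⟨O, ⟨hO, hTO⟩, -⟩ := octads_steiner.2 T hT5
  have hO8 : O.card = 8 := hO.2
  obtain ⟨b, hbF, hbO⟩ := Finset.exists_mem_notMem_of_card_lt_card (show O.card < F.card by omega)
  have h6 : (insert b T).card < F.card := by
    have := Finset.card_insert_le b T
    omega
  obtain ⟨c, hcF, hc⟩ := Finset.exists_mem_notMem_of_card_lt_card h6
  rw [Finset.mem_insert, not_or] at hc
  obtain ⟨v, hv, hx6, hvT, hvb⟩ := conj_to_six ht T hT5 (fun p hp => hF p (hTF hp)) O hO hTO b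
    (hF b hbF) hbO
  have hxc : (v⁻¹ * t * v) (v⁻¹ c) = v⁻¹ c := by
    rw [Equiv.Perm.mul_apply, Equiv.Perm.mul_apply, perm_apply_inv, hF c hcF]
  -- the position of the seventh fixed point
  have hj6 : 6 ≤ ((gEquiv (v⁻¹ c) : Fin 24) : ℕ) := by
    by_contra hlt
    rw [not_le] at hlt
    have e : v (ptN ((gEquiv (v⁻¹ c) : Fin 24) : ℕ)) = c := by rw [ptN_gEquiv, perm_apply_inv]
    rcases Nat.lt_succ_iff_lt_or_eq.1 hlt with h5 | h5
    · exact hc.2 (e ▸ hvT _ h5)
    · rw [h5, hvb] at e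
      exact hc.1 e.symm
  have hj24 := (gEquiv (v⁻¹ c) : Fin 24).isLt
  have hFx : FixedM (v⁻¹ * t * v) (0x3F ||| 1 <<< ((gEquiv (v⁻¹ c) : Fin 24) : ℕ)) := by
    intro p hp
    rw [maskFS_or, Finset.mem_union, maskFS_bit _ hj24, Finset.mem_singleton] at hp
    rcases hp with hp | rfl
    · exact fixedM_of_lt 6 hx6.2 p hp
    · rw [ptN_gEquiv]
      exact hxc
  have h1 : v⁻¹ * t * v = 1 := by
    rcases cert6_ok _ hj24 with h | h
    · omega
    · exact eq_one_of_cert hx6.1 _ _ hFx h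
  have : t = v * (v⁻¹ * t * v) * v⁻¹ := by group
  rw [this, h1]
  group

/-! ### Fixed points of elements of prime order -/

theorem card_fixed_prime {z : Equiv.Perm GolayPt} (hz : z ∈ M24) {q : ℕ} [hq : Fact q.Prime]
    (ho : orderOf z = q) :
    (Finset.univ.filter (fun p => z p = p)).card ≡ 24 [MOD q] ∧
      (Finset.univ.filter (fun p => z p = p)).card ≤ 8 := by
  classical
  constructor
  · have h1 : z ^ q ^ 1 = 1 := by rw [pow_one, ← ho]; exact pow_orderOf_eq_one z
    have h2 := Equiv.Perm.card_compl_support_modEq h1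
    rw [card_golayPt] at h2
    have h3 : z.supportᶜ = Finset.univ.filter (fun p => z p = p) := by
      ext p
      rw [Finset.mem_compl, Equiv.Perm.mem_support, not_not, Finset.mem_filter]
      exact ⟨fun h => ⟨Finset.mem_univ _, h⟩, fun h => h.2⟩
    rw [← h3]
    exact h2
  · by_contra h
    rw [not_le] at h
    have h1 := eq_one_of_fix_nine hz _ (fun p hp => (Finset.mem_filter.1 hp).2) h
    rw [h1, orderOf_one] at ho
    exact hq.out.one_lt.ne ho

theorem card_invariant_modEq {z : Equiv.Perm GolayPt} {q : ℕ} [hq : Fact q.Prime]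
    (hz : z ^ q = 1) (Θ : Finset GolayPt) (hΘ : ∀ p, z p ∈ Θ ↔ p ∈ Θ) :
    (Θ.filter (fun p => z p = p)).card ≡ Θ.card [MOD q] := by
  classical
  have h1 : (z.subtypePerm hΘ) ^ q ^ 1 = 1 := by
    rw [pow_one, Equiv.Perm.subtypePerm_pow]
    refine Equiv.ext fun x => Subtype.ext ?_
    show (z ^ q) x.1 = x.1
    rw [hz]
    rfl
  have h2 := Equiv.Perm.card_compl_support_modEq h1
  rw [Fintype.card_coe] at h2
  have h3 : ((z.subtypePerm hΘ).supportᶜ).card = (Θ.filter (fun p => z p = p)).card := by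
    rw [← Finset.card_map (Function.Embedding.subtype _)]
    congr 1
    ext p
    rw [Finset.mem_map, Finset.mem_filter]
    constructor
    · rintro ⟨x, hx, rfl⟩
      rw [Finset.mem_compl, Equiv.Perm.mem_support, not_not, Subtype.ext_iff,
        Equiv.Perm.subtypePerm_apply] at hx
      exact ⟨x.2, hx⟩
    · rintro ⟨hp, hfix⟩
      refine ⟨⟨p, hp⟩, ?_, rfl⟩
      rw [Finset.mem_compl, Equiv.Perm.mem_support, not_not, Subtype.ext_iff,
        Equiv.Perm.subtypePerm_apply]
      exact hfix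
  rw [← h3]
  exact h2

/-! ### Subgroups of `M23` of the order of `M22` -/

theorem mem_M23 {g : Equiv.Perm GolayPt} : g ∈ Spor.M23 ↔ g ∈ M24 ∧ g none = none := by
  unfold Spor.M23
  rw [Subgroup.mem_inf, MulAction.mem_stabilizer_iff]
  rfl

/-- A subgroup of `M23` of the order of `M22` fixes a second point. -/
theorem fixes_point_M23 (H : Subgroup ↥Spor.M23) (hH : Nat.card H = 443520) :
    ∃ y : GolayPt, y ≠ none ∧ ∀ h ∈ H, ((h : ↥Spor.M23) : Equiv.Perm GolayPt) y = y := by
  classical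
  haveI h11 : Fact (Nat.Prime 11) := ⟨by norm_num⟩
  haveI h7 : Fact (Nat.Prime 7) := ⟨by norm_num⟩
  obtain ⟨g, hg⟩ := exists_prime_orderOf_dvd_card' (G := ↥H) 11 (by rw [hH]; norm_num)
  obtain ⟨g', hg'⟩ := exists_prime_orderOf_dvd_card' (G := ↥H) 7 (by rw [hH]; norm_num)
  have hzo : orderOf (((g : ↥Spor.M23) : Equiv.Perm GolayPt)) = 11 := by
    rw [Subgroup.orderOf_coe, Subgroup.orderOf_coe, hg]
  have hzo' : orderOf (((g' : ↥Spor.M23) : Equiv.Perm GolayPt)) = 7 := by
    rw [Subgroup.orderOf_coe, Subgroup.orderOf_coe, hg']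
  have hzM := (mem_M23.1 (g : ↥Spor.M23).2)
  have hzM' := (mem_M23.1 (g' : ↥Spor.M23).2)
  generalize hz : ((g : ↥Spor.M23) : Equiv.Perm GolayPt) = z at hzo hzM
  generalize hz' : ((g' : ↥Spor.M23) : Equiv.Perm GolayPt) = z' at hzo' hzM'
  obtain ⟨m1, m2⟩ := card_fixed_prime hzM.1 hzo
  obtain ⟨m1', m2'⟩ := card_fixed_prime hzM'.1 hzo'
  unfold Nat.ModEq at m1 m1'
  have hc2 : (Finset.univ.filter (fun p => z p = p)).card = 2 := by omega
  have hc3 : (Finset.univ.filter (fun p => z' p = p)).card = 3 := by omega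
  -- the second fixed point of the element of order eleven
  have hn : (none : GolayPt) ∈ Finset.univ.filter (fun p => z p = p) :=
    Finset.mem_filter.2 ⟨Finset.mem_univ _, hzM.2⟩
  have hn' : (none : GolayPt) ∈ Finset.univ.filter (fun p => z' p = p) :=
    Finset.mem_filter.2 ⟨Finset.mem_univ _, hzM'.2⟩
  have he1 : ((Finset.univ.filter (fun p => z p = p)).erase none).card = 1 := by
    rw [Finset.card_erase_of_mem hn, hc2]
  have he2 : ((Finset.univ.filter (fun p => z' p = p)).erase none).card = 2 := by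
    rw [Finset.card_erase_of_mem hn', hc3]
  obtain ⟨f, hf⟩ := Finset.card_eq_one.1 he1
  have hf1 : f ∈ (Finset.univ.filter (fun p => z p = p)).erase none := by
    rw [hf]; exact Finset.mem_singleton_self f
  have hfn : f ≠ none := (Finset.mem_erase.1 hf1).1
  have hzf : z f = f := (Finset.mem_filter.1 (Finset.mem_erase.1 hf1).2).2
  have hzfix : ∀ p, z p = p → p ≠ none → p = f := by
    intro p hp hpn
    have : p ∈ (Finset.univ.filter (fun p => z p = p)).erase none :=
      Finset.mem_erase.2 ⟨hpn, Finset.mem_filter.2 ⟨Finset.mem_univ _, hp⟩⟩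
    rw [hf, Finset.mem_singleton] at this
    exact this
  -- the orbit of that point
  set Θ : Finset GolayPt := Finset.univ.filter
    (fun p => ∃ h ∈ H, ((h : ↥Spor.M23) : Equiv.Perm GolayPt) f = p) with hΘdef
  have hmemΘ : ∀ p, p ∈ Θ ↔ ∃ h ∈ H, ((h : ↥Spor.M23) : Equiv.Perm GolayPt) f = p := by
    intro p
    rw [hΘdef, Finset.mem_filter]
    exact ⟨fun h => h.2, fun h => ⟨Finset.mem_univ _, h⟩⟩
  have hfΘ : f ∈ Θ := (hmemΘ f).2 ⟨1, H.one_mem, rfl⟩
  have hnΘ : (none : GolayPt) ∉ Θ := by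
    intro h
    obtain ⟨k, _, e⟩ := (hmemΘ _).1 h
    have : ((k : ↥Spor.M23) : Equiv.Perm GolayPt) none = none := (mem_M23.1 k.2).2
    rw [← this] at e
    exact hfn ((k : Equiv.Perm GolayPt).injective e)
  have hinv : ∀ k ∈ H, ∀ p, ((k : ↥Spor.M23) : Equiv.Perm GolayPt) p ∈ Θ ↔ p ∈ Θ := by
    intro k hk p
    rw [hmemΘ, hmemΘ]
    constructor
    · rintro ⟨h, hh, e⟩
      refine ⟨k⁻¹ * h, H.mul_mem (H.inv_mem hk) hh, ?_⟩
      rw [Subgroup.coe_mul, Subgroup.coe_inv, Equiv.Perm.mul_apply, e, perm_inv_apply]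
    · rintro ⟨h, hh, e⟩
      refine ⟨k * h, H.mul_mem hk hh, ?_⟩
      rw [Subgroup.coe_mul, Equiv.Perm.mul_apply, e]
  -- its cardinality divides the order
  have hcoe : (Θ : Set GolayPt) = MulAction.orbit H f := by
    ext p
    rw [Finset.mem_coe, hmemΘ, mem_orbit_subgroup_iff']
    rfl
  have hdvd : Θ.card ∣ 443520 := by
    have := card_eq_orbit_mul_card_inf_stabilizer H f
    rw [← hcoe, Set.ncard_coe_finset, hH] at this
    exact Dvd.intro _ this.symm
  have hle : Θ.card ≤ 23 := by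
    have h1 : Θ ⊆ Finset.univ.erase none := fun p hp =>
      Finset.mem_erase.2 ⟨fun e => hnΘ (e ▸ hp), Finset.mem_univ _⟩
    have h2 := Finset.card_le_card h1
    rwa [Finset.card_erase_of_mem (Finset.mem_univ _), Finset.card_univ, card_golayPt] at h2
  -- congruences
  have hq11 := card_invariant_modEq (q := 11)
    (by rw [← hzo]; exact pow_orderOf_eq_one z) Θ (by rw [← hz]; exact hinv g g.2)
  have hq7 := card_invariant_modEq (q := 7)
    (by rw [← hzo']; exact pow_orderOf_eq_one z') Θ (by rw [← hz']; exact hinv g' g'.2)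
  have hfix11 : Θ.filter (fun p => z p = p) = {f} := by
    ext p
    rw [Finset.mem_filter, Finset.mem_singleton]
    constructor
    · rintro ⟨hp, hzp⟩
      exact hzfix p hzp (fun e => hnΘ (e ▸ hp))
    · rintro rfl
      exact ⟨hfΘ, hzf⟩
  have hfix7 : (Θ.filter (fun p => z' p = p)).card ≤ 2 := by
    rw [← he2]
    apply Finset.card_le_card
    intro p hp
    rw [Finset.mem_filter] at hp
    exact Finset.mem_erase.2 ⟨fun e => hnΘ (e ▸ hp.1),
      Finset.mem_filter.2 ⟨Finset.mem_univ _, hp.2⟩⟩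
  rw [hfix11, Finset.card_singleton] at hq11
  unfold Nat.ModEq at hq11 hq7
  have hpos : 0 < Θ.card := Finset.card_pos.2 ⟨f, hfΘ⟩
  have hone : Θ.card = 1 := by
    generalize (Θ.filter (fun p => z' p = p)).card = c at hq7 hfix7
    generalize Θ.card = n at hdvd hle hq11 hq7 hpos
    interval_cases n <;> omega
  obtain ⟨a, ha⟩ := Finset.card_eq_one.1 hone
  have haf : a = f := by
    rw [ha, Finset.mem_singleton] at hfΘ
    exact hfΘ.symm
  refine ⟨f, hfn, fun h hh => ?_⟩
  have : ((h : ↥Spor.M23) : Equiv.Perm GolayPt) f ∈ Θ := (hmemΘ _).2 ⟨h, hh, rfl⟩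
  rw [ha, Finset.mem_singleton, haf] at this
  exact this

end Cfsg.Agent.Lib.Helper21.M24Aut
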