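import Cfsg.Agent.Lib.Helper21.M24Eleven
import Cfsg.Agent.Lib.Helper21.GolayChain
import Cfsg.Agent.Lib.Helper21.GolaySteiner
import Mathlib.GroupTheory.Sylow
import Mathlib.GroupTheory.SpecificGroups.Cyclic
import Mathlib.GroupTheory.Perm.Cycle.Type
import Mathlib.GroupTheory.Subgroup.Centralizer

/-!
Subgroups of `M24` of the order of a point stabiliser fix a point: the normaliser of a subgroup of
order eleven has order dividing `110`, so `M24` has no subgroup of order `425040`, and a subgroup
of order `10200960` containing an element of order `23` is either transitive or fixes a point.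
-/

set_option autoImplicit false

namespace Cfsg.Agent.Lib.Helper21.M24Aut

open Cfsg
open Cfsg.Agent.Lib.Helper21
open scoped Pointwise

/-- `|N(H)| = |C(H)| * m` for some `m` dividing `|Aut H|`. -/
theorem card_normalizer_eq_mul' {G : Type*} [Group G] [Finite G] (H : Subgroup G) :
    ∃ m : ℕ, m ∣ Nat.card (MulAut H) ∧
      Nat.card (Subgroup.normalizer (H : Set G)) =
        Nat.card (Subgroup.centralizer (H : Set G)) * m := by
  refine ⟨Nat.card H.normalizerMonoidHom.range, Subgroup.card_subgroup_dvd_card _, ?_⟩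
  have h1 := Subgroup.card_eq_card_quotient_mul_card_subgroup H.normalizerMonoidHom.ker
  have h2 : Nat.card (Subgroup.normalizer (H : Set G) ⧸ H.normalizerMonoidHom.ker) =
      Nat.card H.normalizerMonoidHom.range :=
    Nat.card_congr (QuotientGroup.quotientKerEquivRange H.normalizerMonoidHom).toEquiv
  have h3 : Nat.card H.normalizerMonoidHom.ker = Nat.card (Subgroup.centralizer (H : Set G)) := by
    rw [Subgroup.normalizerMonoidHom_ker]
    exact Nat.card_congr
      (Subgroup.subgroupOfEquivOfLe (Subgroup.centralizer_le_normalizer (H : Set G))).toEquiv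
  rw [h1, h2, h3, mul_comm]

/-- The element of order eleven, as an element of the subgroup. -/
noncomputable def g11 : ↥M24 := ⟨g0, g0_mem⟩

theorem orderOf_g11 : orderOf g11 = 11 := by
  rw [← orderOf_g0]
  exact Subgroup.orderOf_mk _ _

theorem centralizer_g11 :
    Subgroup.centralizer ((Subgroup.zpowers g11 : Subgroup ↥M24) : Set ↥M24) =
      Subgroup.zpowers g11 := by
  ext x
  constructor
  · intro hx
    have h1 : g11 * x = x * g11 :=
      (Subgroup.mem_centralizer_iff.1 hx) g11 (Subgroup.mem_zpowers g11)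
    have h2 : (x : Equiv.Perm GolayPt) * g0 = g0 * (x : Equiv.Perm GolayPt) :=
      (congrArg Subtype.val h1).symm
    obtain ⟨j, _, e⟩ := cent_eleven x.2 h2
    have h3 : x = g11 ^ j := Subtype.ext (by rw [e]; rfl)
    rw [h3]
    exact Subgroup.npow_mem_zpowers g11 j
  · intro hx
    rw [Subgroup.mem_centralizer_iff]
    intro y hy
    obtain ⟨k, rfl⟩ := Subgroup.mem_zpowers_iff.1 hx
    obtain ⟨l, rfl⟩ := Subgroup.mem_zpowers_iff.1 hy
    exact (Commute.zpow_zpow_self g11 l k).eq

theorem card_zpowers_g11 : Nat.card (Subgroup.zpowers g11) = 11 := by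
  rw [Nat.card_zpowers, orderOf_g11]

theorem card_normalizer_g11_dvd :
    Nat.card (Subgroup.normalizer ((Subgroup.zpowers g11 : Subgroup ↥M24) : Set ↥M24)) ∣ 110 := by
  obtain ⟨m, hm, hN⟩ := card_normalizer_eq_mul' (Subgroup.zpowers g11)
  rw [IsCyclic.card_mulAut, card_zpowers_g11, Nat.totient_prime (by norm_num)] at hm
  rw [centralizer_g11, card_zpowers_g11] at hN
  rw [hN]
  exact Nat.mul_dvd_mul_left 11 hm

theorem fact11 : (Nat.card ↥M24).factorization 11 = 1 := by
  rw [card_M24]
  have h : (244823040 : ℕ) = 11 * 22256640 := by norm_num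
  rw [h, Nat.factorization_mul (by norm_num) (by norm_num), Finsupp.add_apply,
    Nat.Prime.factorization_self (by norm_num),
    Nat.factorization_eq_zero_of_not_dvd (by norm_num)]

/-- The normaliser of a subgroup of order eleven has order dividing `110`. -/
theorem card_normalizer_dvd (Q : Subgroup ↥M24) (hQ : Nat.card Q = 11) :
    Nat.card (Subgroup.normalizer (Q : Set ↥M24)) ∣ 110 := by
  haveI : Fact (Nat.Prime 11) := ⟨by norm_num⟩
  let P : Sylow 11 ↥M24 := Sylow.ofCard Q (by rw [hQ, fact11, pow_one])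
  let P0 : Sylow 11 ↥M24 := Sylow.ofCard (Subgroup.zpowers g11)
    (by rw [card_zpowers_g11, fact11, pow_one])
  have hP : (P : Subgroup ↥M24) = Q := Sylow.coe_ofCard Q _
  have hP0 : (P0 : Subgroup ↥M24) = Subgroup.zpowers g11 := Sylow.coe_ofCard _ _
  have h1 := Sylow.card_eq_index_normalizer P
  have h2 := Sylow.card_eq_index_normalizer P0
  change Nat.card (Sylow 11 ↥M24) =
    (Subgroup.normalizer ((P : Subgroup ↥M24) : Set ↥M24)).index at h1
  change Nat.card (Sylow 11 ↥M24) =
    (Subgroup.normalizer ((P0 : Subgroup ↥M24) : Set ↥M24)).index at h2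
  rw [hP] at h1
  rw [hP0] at h2
  have h3 := Subgroup.card_mul_index (Subgroup.normalizer (Q : Set ↥M24))
  have h4 := Subgroup.card_mul_index
    (Subgroup.normalizer ((Subgroup.zpowers g11 : Subgroup ↥M24) : Set ↥M24))
  rw [← h1] at h3
  rw [← h2] at h4
  have hpos : 0 < Nat.card (Sylow 11 ↥M24) := Nat.card_pos
  have h5 : Nat.card (Subgroup.normalizer (Q : Set ↥M24)) =
      Nat.card (Subgroup.normalizer ((Subgroup.zpowers g11 : Subgroup ↥M24) : Set ↥M24)) :=
    Nat.eq_of_mul_eq_mul_right hpos (h3.trans h4.symm)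
  rw [h5]
  exact card_normalizer_g11_dvd

/-- `M24` has no subgroup of order `425040`. -/
theorem no_subgroup_425040 (K : Subgroup ↥M24) (hK : Nat.card K = 425040) : False := by
  haveI : Fact (Nat.Prime 11) := ⟨by norm_num⟩
  have hfac : (Nat.card ↥K).factorization 11 = 1 := by
    rw [hK]
    have h : (425040 : ℕ) = 11 * 38640 := by norm_num
    rw [h, Nat.factorization_mul (by norm_num) (by norm_num), Finsupp.add_apply,
      Nat.Prime.factorization_self (by norm_num),
      Nat.factorization_eq_zero_of_not_dvd (by norm_num)]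
  obtain ⟨P'⟩ : Nonempty (Sylow 11 ↥K) := inferInstance
  have hP' : Nat.card (P' : Subgroup ↥K) = 11 := by
    rw [Sylow.card_eq_multiplicity, hfac, pow_one]
  have hQ : Nat.card ((P' : Subgroup ↥K).map K.subtype) = 11 := by
    rw [Subgroup.card_map_of_injective K.subtype_injective]
    exact hP'
  have hle : (Subgroup.normalizer ((P' : Subgroup ↥K) : Set ↥K)).map K.subtype ≤
      Subgroup.normalizer (((P' : Subgroup ↥K).map K.subtype : Subgroup ↥M24) : Set ↥M24) :=
    Subgroup.le_normalizer_map K.subtype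
  have hdvd1 : Nat.card (Subgroup.normalizer ((P' : Subgroup ↥K) : Set ↥K)) ∣
      Nat.card (Subgroup.normalizer
        (((P' : Subgroup ↥K).map K.subtype : Subgroup ↥M24) : Set ↥M24)) := by
    rw [← Subgroup.card_map_of_injective K.subtype_injective]
    exact Subgroup.card_dvd_of_le hle
  have hdvd := hdvd1.trans (card_normalizer_dvd _ hQ)
  have h1 : Nat.card (Sylow 11 ↥K) ≡ 1 [MOD 11] := card_sylow_modEq_one 11 ↥K
  have h2 := Sylow.card_eq_index_normalizer P'
  change Nat.card (Sylow 11 ↥K) =
    (Subgroup.normalizer ((P' : Subgroup ↥K) : Set ↥K)).index at h2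
  have h3 := Subgroup.card_mul_index (Subgroup.normalizer ((P' : Subgroup ↥K) : Set ↥K))
  rw [hK] at h3
  rw [h2] at h1
  unfold Nat.ModEq at h1
  generalize (Subgroup.normalizer ((P' : Subgroup ↥K) : Set ↥K)).index = idx at h1 h3
  generalize Nat.card (Subgroup.normalizer ((P' : Subgroup ↥K) : Set ↥K)) = d at hdvd h3
  have hd : d ≤ 110 := Nat.le_of_dvd (by norm_num) hdvd
  have hd0 : 0 < d := Nat.pos_of_dvd_of_pos hdvd (by norm_num)
  interval_cases d <;> omega

/-- A subgroup of `M24` of the order of a point stabiliser fixes a point. -/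
theorem fixes_point_of_card (H : Subgroup ↥M24) (hH : Nat.card H = 10200960) :
    ∃ y : GolayPt, ∀ h ∈ H, ((h : ↥M24) : Equiv.Perm GolayPt) y = y := by
  classical
  haveI : Fact (Nat.Prime 23) := ⟨by norm_num⟩
  obtain ⟨g, hg⟩ := exists_prime_orderOf_dvd_card' (G := ↥H) 23 (by rw [hH]; norm_num)
  have hzo : orderOf (((g : ↥M24) : Equiv.Perm GolayPt)) = 23 := by
    rw [Subgroup.orderOf_coe, Subgroup.orderOf_coe, hg]
  generalize hz : ((g : ↥M24) : Equiv.Perm GolayPt) = z at hzo
  obtain ⟨n, hn⟩ := Equiv.Perm.cycleType_prime_order (σ := z) (by rw [hzo]; norm_num)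
  have hsum := Equiv.Perm.sum_cycleType z
  rw [hn, Multiset.sum_replicate, hzo, smul_eq_mul] at hsum
  have hle : z.support.card ≤ 24 := by
    have := z.support.card_le_univ
    rwa [card_golayPt] at this
  have hn0 : n = 0 := by omega
  subst hn0
  have hcyc : z.IsCycle := Equiv.Perm.card_cycleType_eq_one.1 (by rw [hn]; simp)
  have hsupp : z.support.card = 23 := by omega
  have hcompl : (z.supportᶜ).card = 1 := by
    rw [Finset.card_compl, card_golayPt, hsupp]
  obtain ⟨f, hf⟩ := Finset.card_eq_one.1 hcompl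
  have hfix : ∀ y, z y = y ↔ y = f := by
    intro y
    rw [← Equiv.Perm.notMem_support, ← Finset.mem_compl, hf, Finset.mem_singleton]
  by_cases hall : ∀ h ∈ H, ((h : ↥M24) : Equiv.Perm GolayPt) f = f
  · exact ⟨f, hall⟩
  · exfalso
    push Not at hall
    obtain ⟨h0, hh0, hne⟩ := hall
    have htrans : ∀ y : GolayPt, ∃ h ∈ H, ((h : ↥M24) : Equiv.Perm GolayPt) f = y := by
      intro y
      by_cases hy : y = f
      · exact ⟨1, H.one_mem, by rw [hy]; rfl⟩
      · have h1 : z ((h0 : Equiv.Perm GolayPt) f) ≠ (h0 : Equiv.Perm GolayPt) f :=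
          fun e => hne ((hfix _).1 e)
        have h2 : z y ≠ y := fun e => hy ((hfix _).1 e)
        obtain ⟨i, hi⟩ := hcyc.sameCycle h1 h2
        refine ⟨(g : ↥M24) ^ i * h0, H.mul_mem (H.zpow_mem g.2 i) hh0, ?_⟩
        rw [Subgroup.coe_mul, Subgroup.coe_zpow, Equiv.Perm.mul_apply, hz]
        exact hi
    have horb : MulAction.orbit H f = Set.univ := by
      ext y
      simp only [Set.mem_univ, iff_true]
      obtain ⟨h, hh, e⟩ := htrans y
      exact ⟨⟨h, hh⟩, e⟩
    have hcard := card_eq_orbit_mul_card_inf_stabilizer H f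
    rw [horb, Set.ncard_univ, Nat.card_eq_fintype_card (α := GolayPt), card_golayPt, hH] at hcard
    exact no_subgroup_425040 (H ⊓ MulAction.stabilizer ↥M24 f) (by omega)

end Cfsg.Agent.Lib.Helper21.M24Aut
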