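import Cfsg.Agent.Lib.Helper21.M24AutA
import Cfsg.Agent.Lib.Helper21.GolayTrans5
import Cfsg.Agent.Lib.Helper21.GolayOctFix
import Cfsg.Agent.Lib.Helper21.GolaySix
import Cfsg.Agent.Lib.Helper21.GolayAutOctads

/-!
Every automorphism of `M24` is inner: it permutes the point stabilisers, the induced permutation
of the points normalises `M24`, maps octads to octads, and hence lies in `M24`.
-/

set_option autoImplicit false

namespace Cfsg.Agent.Lib.Helper21.M24Aut

open Cfsg
open Cfsg.Agent.Lib.Helper21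
open scoped Pointwise

/-! ### Transitivity on pairs -/

theorem exists_map_two (x x' y y' : GolayPt) (hx : x ≠ x') (hy : y ≠ y') :
    ∃ g ∈ M24, g x = y ∧ g x' = y' := by
  obtain ⟨a, ha, ha'⟩ := exists_map_prefix 2 (by norm_num) (fun i => if i = 0 then x else x') (by
    intro i j hi hj h
    interval_cases i <;> interval_cases j <;> simp_all)
  obtain ⟨b, hb, hb'⟩ := exists_map_prefix 2 (by norm_num) (fun i => if i = 0 then y else y') (by
    intro i j hi hj h
    interval_cases i <;> interval_cases j <;> simp_all)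
  have a0 : a (ptN 0) = x := ha' 0 (by norm_num)
  have a1 : a (ptN 1) = x' := ha' 1 (by norm_num)
  have b0 : b (ptN 0) = y := hb' 0 (by norm_num)
  have b1 : b (ptN 1) = y' := hb' 1 (by norm_num)
  refine ⟨b * a⁻¹, M24.mul_mem hb (M24.inv_mem ha), ?_, ?_⟩
  · rw [Equiv.Perm.mul_apply, ← a0, perm_inv_apply, b0]
  · rw [Equiv.Perm.mul_apply, ← a1, perm_inv_apply, b1]

theorem exists_third (y y' : GolayPt) : ∃ y'' : GolayPt, y'' ≠ y ∧ y'' ≠ y' := by
  classical
  have h : ({y, y'} : Finset GolayPt).card < (Finset.univ : Finset GolayPt).card := by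
    rw [Finset.card_univ, card_golayPt]
    exact lt_of_le_of_lt (Finset.card_insert_le _ _) (by simp)
  obtain ⟨e, _, he⟩ := Finset.exists_mem_notMem_of_card_lt_card h
  rw [Finset.mem_insert, Finset.mem_singleton, not_or] at he
  exact ⟨e, he.1, he.2⟩

theorem exists_map_pt (x y : GolayPt) : ∃ g ∈ M24, g x = y := by
  obtain ⟨x', hx', -⟩ := exists_third x x
  obtain ⟨y', hy', -⟩ := exists_third y y
  obtain ⟨g, hg, h, -⟩ := exists_map_two x x' y y' hx'.symm hy'.symm
  exact ⟨g, hg, h⟩

/-- Points with the same stabiliser coincide. -/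
theorem eq_of_stab_eq {y y' : GolayPt}
    (h : ∀ k : ↥M24, (k : Equiv.Perm GolayPt) y = y ↔ (k : Equiv.Perm GolayPt) y' = y') :
    y = y' := by
  by_contra hne
  obtain ⟨y'', h1, h2⟩ := exists_third y y'
  obtain ⟨k, hk, e1, e2⟩ := exists_map_two y y' y y'' hne h1.symm
  have := (h ⟨k, hk⟩).1 e1
  rw [Subgroup.coe_mk, e2] at this
  exact h2 this

theorem card_stabilizer_pt (x : GolayPt) :
    Nat.card (MulAction.stabilizer ↥M24 x) = 10200960 := by
  have h1 := Subgroup.card_mul_index (MulAction.stabilizer ↥M24 x)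
  rw [MulAction.index_stabilizer, card_M24] at h1
  have h2 : MulAction.orbit ↥M24 x = Set.univ := by
    ext y
    simp only [Set.mem_univ, iff_true]
    obtain ⟨g, hg, e⟩ := exists_map_pt x y
    exact ⟨⟨g, hg⟩, e⟩
  have h3 : Nat.card GolayPt = 24 := by rw [Nat.card_eq_fintype_card, card_golayPt]
  rw [h2, Set.ncard_univ, h3] at h1
  omega

/-! ### The permutation induced by an automorphism -/

/-- The automorphism carries the stabiliser of `x` onto that of `y`. -/
def Rel (α : MulAut ↥M24) (x y : GolayPt) : Prop :=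
  ∀ h : ↥M24, (h : Equiv.Perm GolayPt) x = x ↔ ((α h : ↥M24) : Equiv.Perm GolayPt) y = y

theorem exists_rel (α : MulAut ↥M24) (x : GolayPt) : ∃ y, Rel α x y := by
  have hH : Nat.card ((MulAction.stabilizer ↥M24 x).map α.toMonoidHom) = 10200960 := by
    rw [Subgroup.card_map_of_injective α.injective, card_stabilizer_pt]
  obtain ⟨y, hy⟩ := fixes_point_of_card _ hH
  have hle : (MulAction.stabilizer ↥M24 x).map α.toMonoidHom ≤ MulAction.stabilizer ↥M24 y :=
    fun h hh => MulAction.mem_stabilizer_iff.2 (hy h hh)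
  have heq : (MulAction.stabilizer ↥M24 x).map α.toMonoidHom = MulAction.stabilizer ↥M24 y :=
    Subgroup.eq_of_le_of_card_ge hle (by rw [hH, card_stabilizer_pt])
  refine ⟨y, fun h => ⟨fun hx => ?_, fun hy' => ?_⟩⟩
  · exact hy _ (Subgroup.mem_map_of_mem _ (MulAction.mem_stabilizer_iff.2 hx))
  · have h1 : α h ∈ (MulAction.stabilizer ↥M24 x).map α.toMonoidHom := by
      rw [heq]
      exact MulAction.mem_stabilizer_iff.2 hy'
    obtain ⟨h', hh', e⟩ := Subgroup.mem_map.1 h1
    have h2 : h' = h := α.injective e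
    rw [← h2]
    exact MulAction.mem_stabilizer_iff.1 hh'

theorem rel_unique (α : MulAut ↥M24) {x y y' : GolayPt} (h : Rel α x y) (h' : Rel α x y') :
    y = y' := by
  apply eq_of_stab_eq
  intro k
  have e : α (α.symm k) = k := α.apply_symm_apply k
  rw [← e, ← h (α.symm k), ← h' (α.symm k)]

theorem rel_inj (α : MulAut ↥M24) {x x' y : GolayPt} (h : Rel α x y) (h' : Rel α x' y) :
    x = x' := by
  apply eq_of_stab_eq
  intro k
  rw [h k, h' k]

theorem rel_smul (α : MulAut ↥M24) {x y : GolayPt} (h : Rel α x y) (g : ↥M24) :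
    Rel α ((g : Equiv.Perm GolayPt) x) ((α g : Equiv.Perm GolayPt) y) := by
  intro k
  have e1 : (k : Equiv.Perm GolayPt) ((g : Equiv.Perm GolayPt) x) = (g : Equiv.Perm GolayPt) x ↔
      ((g⁻¹ * k * g : ↥M24) : Equiv.Perm GolayPt) x = x := by
    rw [Subgroup.coe_mul, Subgroup.coe_mul, Subgroup.coe_inv, Equiv.Perm.mul_apply,
      Equiv.Perm.mul_apply, Equiv.Perm.inv_eq_iff_eq]
  have e2 : ((α k : ↥M24) : Equiv.Perm GolayPt) ((α g : Equiv.Perm GolayPt) y) =
      (α g : Equiv.Perm GolayPt) y ↔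
      ((α (g⁻¹ * k * g) : ↥M24) : Equiv.Perm GolayPt) y = y := by
    rw [map_mul, map_mul, map_inv, Subgroup.coe_mul, Subgroup.coe_mul, Subgroup.coe_inv,
      Equiv.Perm.mul_apply, Equiv.Perm.mul_apply, Equiv.Perm.inv_eq_iff_eq]
  rw [e1, e2]
  exact h _

/-- The image of a point under the permutation induced by the automorphism. -/
noncomputable def sig (α : MulAut ↥M24) (x : GolayPt) : GolayPt :=
  Classical.choose (exists_rel α x)

theorem sig_spec (α : MulAut ↥M24) (x : GolayPt) : Rel α x (sig α x) :=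
  Classical.choose_spec (exists_rel α x)

theorem sig_inj (α : MulAut ↥M24) : Function.Injective (sig α) := by
  intro x x' e
  have h' := sig_spec α x'
  rw [← e] at h'
  exact rel_inj α (sig_spec α x) h'

/-- The permutation of the points induced by the automorphism. -/
noncomputable def sigP (α : MulAut ↥M24) : Equiv.Perm GolayPt :=
  Equiv.ofBijective (sig α) ⟨sig_inj α, Finite.surjective_of_injective (sig_inj α)⟩

theorem sigP_apply (α : MulAut ↥M24) (x : GolayPt) : sigP α x = sig α x := rfl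

theorem sigP_smul (α : MulAut ↥M24) (g : ↥M24) (x : GolayPt) :
    sigP α ((g : Equiv.Perm GolayPt) x) = (α g : Equiv.Perm GolayPt) (sigP α x) :=
  rel_unique α (sig_spec α _) (rel_smul α (sig_spec α x) g)

theorem alpha_eq (α : MulAut ↥M24) (g : ↥M24) :
    ((α g : ↥M24) : Equiv.Perm GolayPt) = sigP α * g * (sigP α)⁻¹ := by
  refine Equiv.ext fun p => ?_
  rw [Equiv.Perm.mul_apply, Equiv.Perm.mul_apply, sigP_smul, perm_apply_inv]

/-! ### The induced permutation preserves octads -/

theorem mem_M24_of_octads (s : Equiv.Perm GolayPt) (h : ∀ o ∈ octads, s • o ∈ octads) :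
    s ∈ M24 := by
  rw [M24_eq_aut_octads, MulAction.mem_stabilizer_iff]
  apply Set.eq_of_subset_of_ncard_le _ _ (Set.toFinite _)
  · rintro b ⟨b', hb', rfl⟩
    exact h b' hb'
  · rw [Set.ncard_smul_set]

/-- A nontrivial involution of `M24` fixing five points of an octad fixes no point outside it. -/
theorem no_fixed_outside {t : Equiv.Perm GolayPt} (ht : t ∈ M24) (ht2 : t * t = 1)
    (hne : t ≠ 1) (T : Finset GolayPt) (hT : T.card = 5) (hfix : ∀ p ∈ T, t p = p)
    (O : Finset GolayPt) (hO : O ∈ octads) (hTO : T ⊆ O) (b : GolayPt) (hb : t b = b) :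
    b ∈ O := by
  by_contra hbO
  -- move the five points to the first positions
  have hL : T.toList.Nodup := T.nodup_toList
  have hlen : T.toList.length = 5 := by rw [Finset.length_toList, hT]
  obtain ⟨k, hk, hkL⟩ := exists_map_prefix 5 le_rfl (fun i => T.toList.getD i (ptN 0)) (by
    intro i j hi hj h
    rw [List.getD_eq_getElem _ _ (by omega), List.getD_eq_getElem _ _ (by omega)] at h
    exact (hL.getElem_inj_iff).1 h)
  have hkT : ∀ i, i < 5 → k (ptN i) ∈ T := by
    intro i hi
    rw [hkL i hi, List.getD_eq_getElem _ _ (by omega), ← Finset.mem_toList]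
    exact List.getElem_mem _
  have hkinj : ∀ i j, i < 5 → j < 5 → k (ptN i) = k (ptN j) → i = j := by
    intro i j hi hj h
    exact ptN_injOn (by omega) (by omega) (k.injective h)
  -- the octad `k • oct0` contains the five points, hence equals `O`
  have hkO : k • oct0 = O := by
    apply octad_unique _ _ (smul_mem_octads hk oct0_mem) hO
    have hsub : T ⊆ k • oct0 ∩ O := by
      intro p hp
      rw [Finset.mem_inter]
      refine ⟨?_, hTO hp⟩
      rw [← Finset.mem_toList] at hp
      obtain ⟨i, hi, e⟩ := List.getElem_of_mem hp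
      have hi5 : i < 5 := by omega
      have := hkL i hi5
      rw [List.getD_eq_getElem _ _ hi, e] at this
      rw [← this, ← smul_perm_point]
      exact Finset.smul_mem_smul_finset (ptN_mem_oct0 i hi5)
    rw [← hT]
    exact Finset.card_le_card hsub
  -- conjugate
  have hs : k⁻¹ * t * k ∈ chainSub 5 := by
    refine ⟨M24.mul_mem (M24.mul_mem (M24.inv_mem hk) ht) hk, fun i hi => ?_⟩
    rw [Equiv.Perm.mul_apply, Equiv.Perm.mul_apply, hfix _ (hkT i hi), perm_inv_apply]
  have hb' : (k⁻¹ * t * k) (k⁻¹ b) = k⁻¹ b := by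
    rw [Equiv.Perm.mul_apply, Equiv.Perm.mul_apply, perm_apply_inv, hb]
  have hbo : k⁻¹ b ∈ maskFS (chainE 5) := by
    rw [chainE_five, maskFS_compl, Finset.mem_compl]
    intro hmem
    apply hbO
    rw [← hkO]
    have : k (k⁻¹ b) ∈ k • oct0 := by
      rw [← smul_perm_point]
      exact Finset.smul_mem_smul_finset hmem
    rwa [perm_apply_inv] at this
  have horb : k⁻¹ b ∈ MulAction.orbit (chainSub 5) (ptN 5) := by
    rw [chain_orbit 5 (by norm_num)]
    exact hbo
  rw [mem_orbit_subgroup_iff'] at horb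
  obtain ⟨u, hu, hub⟩ := horb
  rw [smul_perm_point] at hub
  have h6 : u⁻¹ * (k⁻¹ * t * k) * u ∈ chainSub 6 := by
    refine ⟨M24.mul_mem (M24.mul_mem (M24.inv_mem hu.1) hs.1) hu.1, fun i hi => ?_⟩
    rw [Equiv.Perm.mul_apply, Equiv.Perm.mul_apply]
    rcases Nat.lt_succ_iff_lt_or_eq.1 hi with hi | rfl
    · rw [hu.2 i hi, hs.2 i hi, Equiv.Perm.inv_eq_iff_eq, hu.2 i hi]
    · rw [hub, hb', ← hub, perm_inv_apply]
  have h3 : (u⁻¹ * (k⁻¹ * t * k) * u) ^ 3 = 1 := by
    have := pow_card_eq_one' (G := ↥(chainSub 6)) (x := ⟨_, h6⟩)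
    rw [card_chainSub_six] at this
    exact congrArg Subtype.val this
  have h2 : (u⁻¹ * (k⁻¹ * t * k) * u) * (u⁻¹ * (k⁻¹ * t * k) * u) = 1 := by
    have : (u⁻¹ * (k⁻¹ * t * k) * u) * (u⁻¹ * (k⁻¹ * t * k) * u) =
        u⁻¹ * (k⁻¹ * (t * t) * k) * u := by group
    rw [this, ht2]
    group
  have h1 : u⁻¹ * (k⁻¹ * t * k) * u = 1 := by
    generalize u⁻¹ * (k⁻¹ * t * k) * u = x at h2 h3
    have : x = x ^ 3 * (x * x)⁻¹ := by group
    rw [this, h3, h2]
    group
  apply hne
  have : t = k * (u * (u⁻¹ * (k⁻¹ * t * k) * u) * u⁻¹) * k⁻¹ := by group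
  rw [this, h1]
  group

theorem sigP_octads (α : MulAut ↥M24) (o : Finset GolayPt) (ho : o ∈ octads) :
    sigP α • o ∈ octads := by
  classical
  obtain ⟨hcard, hsq⟩ := octad_fixing o ho
  -- a nontrivial element fixing the octad pointwise
  obtain ⟨t, htE, hne⟩ : ∃ t ∈ M24 ⊓ fixingSubgroup (Equiv.Perm GolayPt) (o : Set GolayPt),
      t ≠ 1 := by
    by_contra h
    push Not at h
    have : M24 ⊓ fixingSubgroup (Equiv.Perm GolayPt) (o : Set GolayPt) = ⊥ :=
      (Subgroup.eq_bot_iff_forall _).2 h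
    rw [this, Subgroup.card_bot] at hcard
    exact absurd hcard (by norm_num)
  have htM := (Subgroup.mem_inf.1 htE).1
  have htfix : ∀ y ∈ o, t y = y := fun y hy =>
    (mem_fixingSubgroup_iff _).1 (Subgroup.mem_inf.1 htE).2 y hy
  have ht2 := hsq t htE
  -- its image under the automorphism
  set s := sigP α with hs
  have ht' : s * t * s⁻¹ ∈ M24 := by
    rw [← alpha_eq α ⟨t, htM⟩]
    exact (α ⟨t, htM⟩).2
  have ht'2 : (s * t * s⁻¹) * (s * t * s⁻¹) = 1 := by
    have : (s * t * s⁻¹) * (s * t * s⁻¹) = s * (t * t) * s⁻¹ := by group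
    rw [this, ht2]
    group
  have ht'ne : s * t * s⁻¹ ≠ 1 := by
    intro e
    apply hne
    have : t = s⁻¹ * (s * t * s⁻¹) * s := by group
    rw [this, e]
    group
  have ht'fix : ∀ p ∈ s • o, (s * t * s⁻¹) p = p := by
    intro p hp
    obtain ⟨q, hq, rfl⟩ := Finset.mem_smul_finset.1 hp
    rw [smul_perm_point, Equiv.Perm.mul_apply, Equiv.Perm.mul_apply, perm_inv_apply, htfix q hq]
  -- five points and the octad through them
  have hc8 : (s • o).card = 8 := by
    rw [Finset.card_smul_finset]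
    exact ho.2
  obtain ⟨T, hTsub, hT5⟩ := Finset.exists_subset_card_eq (show 5 ≤ (s • o).card by omega)
  obtain ⟨O, ⟨hO, hTO⟩, -⟩ := octads_steiner.2 T hT5
  have hsub : s • o ⊆ O := fun b hb =>
    no_fixed_outside ht' ht'2 ht'ne T hT5 (fun p hp => ht'fix p (hTsub hp)) O hO hTO b
      (ht'fix b hb)
  have hO8 : O.card = 8 := hO.2
  have : s • o = O := Finset.eq_of_subset_of_card_le hsub (by omega)
  rw [this]
  exact hO

theorem sigP_mem (α : MulAut ↥M24) : sigP α ∈ M24 :=
  mem_M24_of_octads _ (sigP_octads α)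

/-- Every automorphism of `M24` is inner. -/
theorem aut_inner (α : MulAut ↥M24) : ∃ s : ↥M24, α = MulAut.conj s := by
  refine ⟨⟨sigP α, sigP_mem α⟩, ?_⟩
  ext g : 1
  apply Subtype.ext
  rw [alpha_eq, MulAut.conj_apply]
  rfl

end Cfsg.Agent.Lib.Helper21.M24Aut
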