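import Cfsg.Agent.Lib.Helper21.M24ElevenData
import Cfsg.Agent.Lib.Helper21.GolayFlag

/-!
An element of order eleven of `M24` and its centraliser, which consists of its powers.
-/

set_option autoImplicit false

namespace Cfsg.Agent.Lib.Helper21.M24Aut

open Cfsg
open Cfsg.Agent.Lib.Helper21
open scoped Pointwise

/-- The element of order eleven. -/
noncomputable def g0 : Equiv.Perm GolayPt := wordPerm 32 w11

theorem g0_mem : g0 ∈ M24 := wordPerm_mem_M24 32 w11

theorem run11_lt (p : ℕ) (hp : p < 24) : run11 p < 24 := runWordP_lt _ _ _ hp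

theorem g0_ptN (p : ℕ) (hp : p < 24) : g0 (ptN p) = ptN (run11 p) := wordPerm_ptN _ _ _ hp

theorem it11_lt (j : ℕ) : ∀ p, p < 24 → it11 j p < 24 := by
  induction j with
  | zero => intro p hp; exact hp
  | succ j ih =>
    intro p hp
    unfold it11
    rw [Function.iterate_succ_apply]
    exact ih _ (run11_lt p hp)

theorem g0_pow_ptN (j : ℕ) : ∀ p, p < 24 → (g0 ^ j) (ptN p) = ptN (it11 j p) := by
  induction j with
  | zero => intro p _; rfl
  | succ j ih =>
    intro p hp
    rw [pow_succ, Equiv.Perm.mul_apply, g0_ptN p hp, ih _ (run11_lt p hp)]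
    unfold it11
    rw [Function.iterate_succ_apply]

theorem g0_pow_eleven : g0 ^ 11 = 1 := by
  ext p
  have hp := (gEquiv p).isLt
  rw [← ptN_gEquiv p, g0_pow_ptN 11 _ hp, it11_eleven _ hp]
  rfl

theorem ptN_ne' {i j : ℕ} (hi : i < 24) (hj : j < 24) (h : i ≠ j) : ptN i ≠ ptN j :=
  fun e => h (ptN_injOn hi hj e)

theorem g0_ne_one : g0 ≠ 1 := by
  intro h
  have h1 := g0_ptN 0 (by norm_num)
  rw [h, run11_zero] at h1
  have h2 : ptN 0 = ptN 1 := h1
  exact ptN_ne' (by norm_num) (by norm_num) (by norm_num) h2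

theorem orderOf_g0 : orderOf g0 = 11 :=
  haveI : Fact (Nat.Prime 11) := ⟨by norm_num⟩
  orderOf_eq_prime g0_pow_eleven g0_ne_one

/-- The centraliser of the element of order eleven consists of its powers. -/
theorem cent_eleven {c : Equiv.Perm GolayPt} (hc : c ∈ M24) (hcomm : c * g0 = g0 * c) :
    ∃ j, j < 11 ∧ c = g0 ^ j := by
  have hcm : Commute c g0 := hcomm
  have hpow : ∀ j : ℕ, ∀ p, c ((g0 ^ j) p) = (g0 ^ j) (c p) := fun j p =>
    congrArg (fun f : Equiv.Perm GolayPt => f p) (hcm.pow_right j).eq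
  obtain ⟨q, hq24, hq⟩ : ∃ q, q < 24 ∧ c (ptN 0) = ptN q :=
    ⟨_, (gEquiv (c (ptN 0))).isLt, (ptN_gEquiv _).symm⟩
  have hmoved : run11 q ≠ q := by
    intro e
    have h1 : g0 (c (ptN 0)) = c (ptN 0) := by rw [hq, g0_ptN q hq24, e]
    have h2 := hpow 1 (ptN 0)
    rw [pow_one, h1] at h2
    have h3 := c.injective h2
    rw [g0_ptN 0 (by norm_num), run11_zero] at h3
    exact ptN_ne' (by norm_num) (by norm_num) (by norm_num) h3
  -- the element `d = g0 ^ (-j) * c` commutes with `g0`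
  have hd : ∀ j : ℕ, (g0 ^ j)⁻¹ * c ∈ M24 := fun j =>
    M24.mul_mem (M24.inv_mem (M24.pow_mem g0_mem j)) hc
  have hdpow : ∀ j i : ℕ, ∀ p, ((g0 ^ j)⁻¹ * c) ((g0 ^ i) p) = (g0 ^ i) (((g0 ^ j)⁻¹ * c) p) := by
    intro j i p
    have h1 : Commute ((g0 ^ j)⁻¹ * c) (g0 ^ i) :=
      (((Commute.refl g0).pow_pow i j).symm.inv_left).mul_left (hcm.pow_right i)
    exact congrArg (fun f : Equiv.Perm GolayPt => f p) h1.eq
  rcases class11 q hq24 with h | ⟨j, hj, e⟩ | ⟨j, hj, e⟩
  · exact absurd h hmoved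
  · refine ⟨j, hj, ?_⟩
    have hd0 : ((g0 ^ j)⁻¹ * c) (ptN 0) = ptN 0 := by
      rw [Equiv.Perm.mul_apply, hq, ← e, ← g0_pow_ptN j 0 (by norm_num), perm_inv_apply]
    have hdfix : ∀ i, ((g0 ^ j)⁻¹ * c) (ptN (it11 i 0)) = ptN (it11 i 0) := by
      intro i
      rw [← g0_pow_ptN i 0 (by norm_num), hdpow, hd0]
    have hF : FixedM ((g0 ^ j)⁻¹ * c) mX1 := by
      intro p hp
      rw [mem_maskFS] at hp
      rcases mX1_ok _ (gEquiv p).isLt with h | ⟨i, _, e'⟩
      · rw [h] at hp
        exact absurd hp (by decide)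
      · have := hdfix i
        rw [e', ptN_gEquiv] at this
        exact this
    have hd1 := eq_one_of_cert (hd j) cert11 mX1 hF cert11_ok
    exact (inv_mul_eq_one.1 hd1).symm
  · exfalso
    have hdx : ((g0 ^ j)⁻¹ * c) (ptN 0) = ptN 5 := by
      rw [Equiv.Perm.mul_apply, hq, ← e, ← g0_pow_ptN j 5 (by norm_num), perm_inv_apply]
    have hdimg : ∀ i, ((g0 ^ j)⁻¹ * c) (ptN (it11 i 0)) = ptN (it11 i 5) := by
      intro i
      rw [← g0_pow_ptN i 0 (by norm_num), hdpow, hdx, g0_pow_ptN i 5 (by norm_num)]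
    set d := (g0 ^ j)⁻¹ * c with hddef
    obtain ⟨w1, w2, w3, w4⟩ := wit_oct
    have hO : maskFS (encMask cO) ∈ octads := maskFS_encMask_mem_octads cO w1 w3
    have hO2 : maskFS (encMask cO2) ∈ octads := maskFS_encMask_mem_octads cO2 w2 w4
    have hdO : d • maskFS (encMask cO) ∈ octads := smul_mem_octads (hd j) hO
    have himg : ∀ i, (encMask cO).testBit (it11 i 0) = true →
        ptN (it11 i 5) ∈ d • maskFS (encMask cO) := by
      intro i hb
      rw [← hdimg i, ← smul_perm_point]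
      apply Finset.smul_mem_smul_finset
      rw [mem_maskFS, gEquiv_ptN_val _ (it11_lt i 0 (by norm_num))]
      exact hb
    have hsub : maskFS m5 ⊆ d • maskFS (encMask cO) ∩ maskFS (encMask cO2) := by
      intro p hp
      rw [Finset.mem_inter]
      constructor
      · rw [mem_maskFS] at hp
        rcases wit_five _ (gEquiv p).isLt with h | ⟨i, _, hb, e'⟩
        · rw [h] at hp
          exact absurd hp (by decide)
        · have := himg i hb
          rw [e', ptN_gEquiv] at this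
          exact this
      · rw [← wit_sub.1, maskFS_and] at hp
        exact (Finset.mem_inter.1 hp).2
    have h5 : 5 ≤ (d • maskFS (encMask cO) ∩ maskFS (encMask cO2)).card := by
      have h1 : (maskFS m5).card = 5 := by rw [card_maskFS _ wit_sub.2.2, wit_sub.2.1]
      rw [← h1]
      exact Finset.card_le_card hsub
    have heq := octad_unique _ _ hdO hO2 h5
    have h6 := himg 0 wit_six.1
    rw [heq, mem_maskFS, gEquiv_ptN_val _ (it11_lt 0 5 (by norm_num)), wit_six.2] at h6
    exact absurd h6 (by decide)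

end Cfsg.Agent.Lib.Helper21.M24Aut
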