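import Cfsg.Agent.Lib.Helper21.GolayRigid
import Cfsg.Agent.Lib.Helper21.GolayWords

/-!
Data for an element of order eleven of `M24`: its word, the rigidity certificate of one of its
cycles, and a witness that no element of `M24` commuting with it interchanges its two cycles.
-/

set_option autoImplicit false

namespace Cfsg.Agent.Lib.Helper21.M24Aut

open Cfsg
open Cfsg.Agent.Lib.Helper21

/-- The word of the element of order eleven. -/
def w11 : ℕ := 1150209606489

/-- The image of a position under the element. -/
def run11 (p : ℕ) : ℕ := runWordP 32 w11 p

/-- The image of a position under a power of the element. -/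
def it11 (j p : ℕ) : ℕ := run11^[j] p

/-- Mask of the cycle through the position `0`. -/
def mX1 : ℕ := 4444191

/-- Rigidity certificate of the cycle through the position `0`. -/
def cert11 : List (List (ℕ × Bool) × ℕ) :=
  [([(36, true), (123, true), (10, false)], 5),
  ([(65, true), (76, true), (1, false)], 6),
  ([(134, true), (217, true), (1, false)], 7),
  ([(264, true), (343, true), (5, false)], 8),
  ([(519, true), (600, true), (10, false)], 9),
  ([(1035, true), (1108, true), (5, false)], 10),
  ([(2057, true), (2134, true), (2, false)], 11),
  ([(2, true), (93, true), (5, true)], 13),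
  ([(1, true), (94, true), (10, true)], 18),
  ([(2, true), (93, true), (5, false)], 19),
  ([(5, true), (90, true), (2, false)], 20),
  ([(10, true), (85, true), (1, false)], 21),
  ([(1, true), (94, true), (10, false)], 23)]

theorem cert11_ok : runCert cert11 mX1 = some 0xFFFFFF := by decide +kernel

theorem it11_eleven : ∀ p < 24, it11 11 p = p := by decide +kernel

theorem run11_zero : run11 0 = 1 := by decide +kernel

theorem class11 : ∀ q < 24, run11 q = q ∨ (∃ j, j < 11 ∧ it11 j 0 = q) ∨
    (∃ j, j < 11 ∧ it11 j 5 = q) := by decide +kernel

theorem mX1_ok : ∀ k < 24, mX1.testBit k = false ∨ ∃ j, j < 11 ∧ it11 j 0 = k := by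
  decide +kernel

/-- Information bits of an octad meeting the first cycle in six points. -/
def cO : ℕ := 1

/-- Information bits of the octad through five of the images. -/
def cO2 : ℕ := 1544

/-- Mask of five of the images. -/
def m5 : ℕ := 10749440

theorem wit_oct : cO < 4096 ∧ cO2 < 4096 ∧ popc 24 (encMask cO) = 8 ∧
    popc 24 (encMask cO2) = 8 := by decide +kernel

theorem wit_five : ∀ k < 24, m5.testBit k = false ∨
    ∃ j, j < 11 ∧ (encMask cO).testBit (it11 j 0) = true ∧ it11 j 5 = k := by decide +kernel

theorem wit_sub : m5 &&& encMask cO2 = m5 ∧ popc 24 m5 = 5 ∧ m5 < 2 ^ 24 := by decide +kernel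

theorem wit_six : (encMask cO).testBit (it11 0 0) = true ∧
    (encMask cO2).testBit (it11 0 5) = false := by decide +kernel

end Cfsg.Agent.Lib.Helper21.M24Aut
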