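import Mathlib
import Cfsg.Agent.Lib.Helper18.SS4

/-!
# Rigidity of a base by colour refinement

A graph on `Fin n` is given by packed neighbour lists.  A permutation preserving the graph and
fixing a list of points preserves every colouring obtained from the indicator colouring of those
points by colour refinement; when such a colouring is injective the permutation is the identity.
All checks are boolean functions that the kernel evaluates.
-/

namespace Cfsg.Agent.Lib.Helper21.RR
open Cfsg.Agent.Lib.Helper18.SS

/-! ### Automorphism group of a relation -/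

section aut
variable {n : ℕ}

/-- the permutations preserving a relation -/
def autGrp (R : Fin n → Fin n → Prop) : Subgroup (Equiv.Perm (Fin n)) where
  carrier := {g | ∀ v u : Fin n, R v u → R (g v) (g u)}
  mul_mem' := by
    intro a b ha hb v u h
    exact ha _ _ (hb _ _ h)
  one_mem' := by
    intro v u h
    exact h
  inv_mem' := by
    intro g hg
    have hpow : ∀ k : ℕ, ∀ v u : Fin n, R v u → R ((g ^ k) v) ((g ^ k) u) := by
      intro k
      induction k with
      | zero => intro v u h; simpa using h
      | succ k ih =>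
        intro v u h
        rw [pow_succ]
        exact ih _ _ (hg _ _ h)
    have hinv : g⁻¹ = g ^ (orderOf g - 1) := by
      have hpos : 0 < orderOf g := orderOf_pos g
      apply inv_eq_of_mul_eq_one_left
      rw [← pow_succ, Nat.sub_add_cancel hpos, pow_orderOf_eq_one]
    intro v u h
    rw [hinv]
    exact hpow _ v u h

theorem autGrp_iff {R : Fin n → Fin n → Prop} {g : Equiv.Perm (Fin n)} (hg : g ∈ autGrp R)
    (v u : Fin n) : R (g v) (g u) ↔ R v u := by
  constructor
  · intro h
    have := (autGrp R).inv_mem hg (g v) (g u) h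
    simpa using this
  · exact hg v u

end aut

/-! ### Packed neighbour lists -/

/-- `i`-th entry of a list of naturals (`0` by default) -/
noncomputable def getC (l : List ℕ) : ℕ → ℕ :=
  List.rec (fun _ => 0) (fun c _ ih i => Nat.rec c (fun j _ => ih j) i) l

/-- the fields `k-1, …, 0` of width `w` of a word -/
noncomputable def fields (w word : ℕ) : ℕ → List ℕ :=
  Nat.rec [] (fun j ih => Nat.land (Nat.shiftRight word (Nat.mul w j)) (Nat.pred (Nat.pow 2 w)) :: ih)

/-- the strictly decreasing check, starting below `prev` -/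
noncomputable def descB (l : List ℕ) : ℕ → Bool :=
  List.rec (fun _ => true) (fun x _ ih prev => Bool.rec false (ih x) (Nat.blt x prev)) l

theorem descB_cons (x : ℕ) (l : List ℕ) (prev : ℕ) :
    descB (x :: l) prev = Bool.rec false (descB l x) (Nat.blt x prev) := rfl

theorem descB_sound : ∀ (l : List ℕ) (prev : ℕ), descB l prev = true →
    (∀ x ∈ l, x < prev) ∧ l.Nodup
  | [], _, _ => ⟨by simp, List.nodup_nil⟩
  | x :: l, prev, h => by
    rw [descB_cons] at h
    cases hb : Nat.blt x prev with
    | false => rw [hb] at h; exact absurd h (by simp)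
    | true =>
      rw [hb] at h
      have hx : x < prev := by simpa using hb
      obtain ⟨h1, h2⟩ := descB_sound l x h
      refine ⟨?_, ?_⟩
      · intro y hy
        rw [List.mem_cons] at hy
        rcases hy with rfl | hy
        · exact hx
        · exact lt_trans (h1 y hy) hx
      · rw [List.nodup_cons]
        exact ⟨fun hm => lt_irrefl _ (h1 x hm), h2⟩

/-- list version of a bounded universal quantifier -/
noncomputable def allL (l : List ℕ) (p : ℕ → Bool) : Bool :=
  List.rec true (fun x _ ih => Bool.rec false ih (p x)) l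

theorem allL_iff {l : List ℕ} {p : ℕ → Bool} : allL l p = true ↔ ∀ x ∈ l, p x = true := by
  induction l with
  | nil => simp [allL]
  | cons x l ih =>
    have e : allL (x :: l) p = Bool.rec false (allL l p) (p x) := rfl
    rw [e]
    cases hp : p x with
    | false => simp [hp]
    | true =>
      show allL l p = true ↔ _
      rw [ih]
      simp [hp]

/-- the graph data: chunks of packed neighbour words -/
structure GData where
  nbC : List ℕ
  cs : ℕ
  deg : ℕ
  w : ℕ
  n : ℕ

/-- the neighbours of `v` (in decreasing order when the data are sorted) -/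
noncomputable def nbrs (D : GData) (v : ℕ) : List ℕ :=
  fields D.w (Nat.shiftRight (getC D.nbC (Nat.div v D.cs))
    (Nat.mul (Nat.mod v D.cs) (Nat.mul D.deg D.w))) D.deg

/-- all neighbour lists are strictly decreasing and below `n` -/
noncomputable def nbOK (D : GData) : Bool := loopAll D.n (fun v => descB (nbrs D v) D.n)

theorem nbOK_sound {D : GData} (h : nbOK D = true) {v : ℕ} (hv : v < D.n) :
    (∀ x ∈ nbrs D v, x < D.n) ∧ (nbrs D v).Nodup := by
  rw [nbOK, loopAll_iff] at h
  exact descB_sound _ _ (h v hv)

/-- adjacency as a relation on `Fin n` -/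
def Adj (D : GData) (v u : Fin D.n) : Prop := u.val ∈ nbrs D v.val

/-- the automorphism group of the graph -/
def Kg (D : GData) : Subgroup (Equiv.Perm (Fin D.n)) := autGrp (Adj D)

/-- the check for one vertex that a coded permutation preserves adjacency -/
noncomputable def autRow (D : GData) (c v : ℕ) : Bool :=
  (fun T => allL (nbrs D v) (fun u => Nat.beq (bitN T (lkf D.w D.n c u)) 1))
    (maskOf (nbrs D (lkf D.w D.n c v)))

noncomputable def autOK (D : GData) (c : ℕ) : Bool := loopAll D.n (autRow D c)

theorem autOK_sound {D : GData} [NeZero D.n] {c : ℕ} (hv : Valid D.w D.n c)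
    (h : autOK D c = true) : toPerm D.w D.n c ∈ Kg D := by
  rw [autOK, loopAll_iff] at h
  intro v u hadj
  have h1 := h v.1 v.2
  rw [autRow, allL_iff] at h1
  have h2 := h1 u.1 hadj
  have h3 : bitN (maskOf (nbrs D (lkf D.w D.n c v.1))) (lkf D.w D.n c u.1) = 1 :=
    Nat.eq_of_beq_eq_true h2
  rw [bitN_eq_one_iff, testBit_maskOf] at h3
  show ((toPerm D.w D.n c u : Fin D.n) : ℕ) ∈ nbrs D ((toPerm D.w D.n c v : Fin D.n) : ℕ)
  rw [toPerm_val hv, toPerm_val hv, ← lkf_eq, ← lkf_eq]
  simpa using h3

/-! ### Packed colourings -/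

/-- the colour of `v` in a packed colouring (fields of 64 bits) -/
def colOf (C v : ℕ) : ℕ := Nat.land (Nat.shiftRight C (Nat.mul 64 v)) 18446744073709551615

/-- pack the values `f 0, …, f (k-1)` -/
noncomputable def pack (f : ℕ → ℕ) : ℕ → ℕ :=
  Nat.rec 0 (fun i acc => Nat.lor acc (Nat.shiftLeft (f i) (Nat.mul 64 i)))

theorem pack_succ (f : ℕ → ℕ) (k : ℕ) :
    pack f (k + 1) = pack f k ||| f k <<< (64 * k) := rfl

theorem testBit_pack (f : ℕ → ℕ) (hf : ∀ i, f i < 2 ^ 64) (k m : ℕ) :
    (pack f k).testBit m = (decide (m / 64 < k) && (f (m / 64)).testBit (m % 64)) := by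
  induction k with
  | zero => simp [pack]
  | succ k ih =>
    rw [pack_succ, Nat.testBit_or, ih, Nat.testBit_shiftLeft]
    rcases lt_trichotomy (m / 64) k with h | h | h
    · have h1 : ¬ (64 * k ≤ m) := by
        intro hc
        have : k ≤ m / 64 := (Nat.le_div_iff_mul_le (by norm_num)).2 (by omega)
        omega
      simp [h, h1, Nat.lt_succ_of_lt h]
    · have h1 : 64 * k ≤ m := by
        have := Nat.div_mul_le_self m 64
        omega
      have h2 : m - 64 * k = m % 64 := by
        have := Nat.div_add_mod m 64
        omega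
      simp [h, h1, h2]
    · have h1 : 64 * k ≤ m := by
        have := Nat.div_mul_le_self m 64
        omega
      have h2 : 64 ≤ m - 64 * k := by
        have := Nat.div_mul_le_self m 64
        have : k + 1 ≤ m / 64 := h
        omega
      have h3 : (f k).testBit (m - 64 * k) = false :=
        Nat.testBit_lt_two_pow (lt_of_lt_of_le (hf k) (Nat.pow_le_pow_right (by norm_num) h2))
      have h4 : ¬ (m / 64 < k) := by omega
      have h5 : ¬ (m / 64 < k + 1) := by omega
      simp [h1, h3, h4, h5]

theorem colOf_pack (f : ℕ → ℕ) (hf : ∀ i, f i < 2 ^ 64) {k v : ℕ} (hv : v < k) :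
    colOf (pack f k) v = f v := by
  apply Nat.eq_of_testBit_eq
  intro j
  have e : colOf (pack f k) v = (pack f k >>> (64 * v)) &&& (2 ^ 64 - 1) := rfl
  rw [e, Nat.testBit_and, Nat.testBit_shiftRight, Nat.testBit_two_pow_sub_one, testBit_pack f hf]
  by_cases hj : j < 64
  · have h1 : (64 * v + j) / 64 = v := by omega
    have h2 : (64 * v + j) % 64 = j := by omega
    simp [h1, h2, hv, hj]
  · have h3 : (f v).testBit j = false :=
      Nat.testBit_lt_two_pow (lt_of_lt_of_le (hf v)
        (Nat.pow_le_pow_right (by norm_num) (Nat.le_of_not_lt hj)))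
    simp [hj, h3]

/-! ### Colour refinement -/

/-- the symmetric function of the neighbour colours -/
noncomputable def nsum (C : ℕ) (l : List ℕ) : ℕ :=
  List.rec 0 (fun u _ ih => Nat.add (Nat.pow (Nat.add (colOf C u) 12345) 2) ih) l

theorem nsum_eq (C : ℕ) (l : List ℕ) :
    nsum C l = (l.map (fun u => (colOf C u + 12345) ^ 2)).sum := by
  induction l with
  | nil => rfl
  | cons u l ih =>
    have e : nsum C (u :: l) = (colOf C u + 12345) ^ 2 + nsum C l := rfl
    rw [e, ih, List.map_cons, List.sum_cons]

/-- the refined colour of `v` -/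
noncomputable def rv (D : GData) (C v : ℕ) : ℕ :=
  Nat.land (Nat.add (Nat.mul (colOf C v) 1000003) (nsum C (nbrs D v))) 18446744073709551615

theorem rv_lt (D : GData) (C v : ℕ) : rv D C v < 2 ^ 64 := by
  have : rv D C v ≤ 18446744073709551615 := Nat.and_le_right
  omega

/-- one round of colour refinement on packed colourings -/
noncomputable def refineC (D : GData) (C : ℕ) : ℕ := pack (rv D C) D.n

/-- iterated refinement -/
noncomputable def iterC (D : GData) (C : ℕ) : ℕ → ℕ := Nat.rec C (fun _ c => refineC D c)

/-- membership test in a list of naturals -/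
noncomputable def memB (l : List ℕ) (v : ℕ) : Bool :=
  List.rec false (fun x _ ih => Bool.rec ih true (Nat.beq x v)) l

theorem memB_iff {l : List ℕ} {v : ℕ} : memB l v = true ↔ v ∈ l := by
  induction l with
  | nil => simp [memB]
  | cons x l ih =>
    have e : memB (x :: l) v = Bool.rec (memB l v) true (Nat.beq x v) := rfl
    rw [e]
    cases hb : Nat.beq x v with
    | true =>
      have : x = v := Nat.eq_of_beq_eq_true hb
      simp [this]
    | false =>
      have : x ≠ v := Nat.ne_of_beq_eq_false hb
      show memB l v = true ↔ _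
      rw [ih, List.mem_cons]
      constructor
      · exact Or.inr
      · rintro (h | h)
        · exact absurd h.symm this
        · exact h

/-- the initial colour: base points get their own colours -/
noncomputable def c0 (allB : List ℕ) (v : ℕ) : ℕ :=
  Bool.rec 0 (Nat.land (Nat.succ v) 18446744073709551615) (memB allB v)

theorem c0_lt (allB : List ℕ) (v : ℕ) : c0 allB v < 2 ^ 64 := by
  rw [c0]
  cases memB allB v with
  | false => show 0 < 2 ^ 64; norm_num
  | true =>
    show Nat.land (Nat.succ v) 18446744073709551615 < 2 ^ 64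
    have : Nat.land (Nat.succ v) 18446744073709551615 ≤ 18446744073709551615 := Nat.and_le_right
    omega

/-- the packed initial colouring -/
noncomputable def C0 (D : GData) (allB : List ℕ) : ℕ := pack (c0 allB) D.n

/-- the colouring is invariant under the permutation -/
def Inv {n : ℕ} (g : Equiv.Perm (Fin n)) (C : ℕ) : Prop :=
  ∀ v : Fin n, colOf C (g v).val = colOf C v.val

theorem inv_C0 {D : GData} [NeZero D.n] {allB : List ℕ} {g : Equiv.Perm (Fin D.n)}
    (hfix : FixesL D.n g allB) : Inv g (C0 D allB) := by
  intro v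
  rw [C0, colOf_pack _ (c0_lt allB) (g v).2, colOf_pack _ (c0_lt allB) v.2]
  by_cases hv : v.val ∈ allB
  · have := hfix v.val hv v.2
    have e : g v = v := this
    rw [e]
  · have hgv : (g v).val ∉ allB := by
      intro hc
      have h1 := hfix (g v).val hc (g v).2
      have h2 : g (g v) = g v := h1
      have h3 : g v = v := g.injective h2
      rw [h3] at hc
      exact hv hc
    have e1 : memB allB v.val = false := by
      rw [Bool.eq_false_iff]
      intro hc
      exact hv (memB_iff.1 hc)
    have e2 : memB allB (g v).val = false := by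
      rw [Bool.eq_false_iff]
      intro hc
      exact hgv (memB_iff.1 hc)
    rw [c0, c0, e1, e2]

/-- the neighbour sum as a sum over all vertices -/
theorem nsum_fin {D : GData} (hD : nbOK D = true) (C : ℕ) (v : Fin D.n) :
    nsum C (nbrs D v.val) =
      ∑ u : Fin D.n, if u.val ∈ nbrs D v.val then (colOf C u.val + 12345) ^ 2 else 0 := by
  classical
  obtain ⟨hlt, hnd⟩ := nbOK_sound hD v.2
  rw [nsum_eq, ← List.sum_toFinset _ hnd, ← Finset.sum_filter]
  symm
  apply Finset.sum_bij (fun (u : Fin D.n) _ => u.val)
  · intro u hu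
    rw [Finset.mem_filter] at hu
    exact List.mem_toFinset.2 hu.2
  · intro u _ u' _ h
    exact Fin.ext h
  · intro x hx
    rw [List.mem_toFinset] at hx
    exact ⟨⟨x, hlt x hx⟩, by simp [hx], rfl⟩
  · intro u _
    rfl

theorem inv_refine {D : GData} [NeZero D.n] (hD : nbOK D = true) {g : Equiv.Perm (Fin D.n)}
    (hg : g ∈ Kg D) {C : ℕ} (hC : Inv g C) : Inv g (refineC D C) := by
  intro v
  rw [refineC, colOf_pack _ (rv_lt D C) (g v).2, colOf_pack _ (rv_lt D C) v.2]
  have hs : nsum C (nbrs D (g v).val) = nsum C (nbrs D v.val) := by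
    rw [nsum_fin hD C (g v), nsum_fin hD C v, ← Equiv.sum_comp g]
    apply Finset.sum_congr rfl
    intro u _
    have h1 : (g u).val ∈ nbrs D (g v).val ↔ u.val ∈ nbrs D v.val := autGrp_iff hg v u
    rw [hC u]
    by_cases h : u.val ∈ nbrs D v.val
    · rw [if_pos h, if_pos (h1.2 h)]
    · rw [if_neg h, if_neg (fun hc => h (h1.1 hc))]
  rw [rv, rv, hs, hC v]

theorem inv_iter {D : GData} [NeZero D.n] (hD : nbOK D = true) {g : Equiv.Perm (Fin D.n)}
    (hg : g ∈ Kg D) {C : ℕ} (hC : Inv g C) : ∀ R : ℕ, Inv g (iterC D C R)
  | 0 => hC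
  | R + 1 => inv_refine hD hg (inv_iter hD hg hC R)

/-! ### Injectivity of the final colouring -/

/-- the colours along the coded sequence are strictly increasing -/
noncomputable def sortedOK (w n C piC : ℕ) : Bool :=
  loopAll (Nat.pred n) (fun i => Nat.blt (colOf C (lkf w n piC i))
    (colOf C (lkf w n piC (Nat.succ i))))

theorem sorted_inj {w n : ℕ} [NeZero n] {C piC : ℕ} (hv : Valid w n piC)
    (h : sortedOK w n C piC = true) (x y : Fin n) (hxy : colOf C x.val = colOf C y.val) :
    x = y := by
  rw [sortedOK, loopAll_iff] at h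
  have hstep : ∀ i, i + 1 < n → colOf C (lk w n piC i) < colOf C (lk w n piC (i + 1)) := by
    intro i hi
    have := h i (by
      show i < n - 1
      omega)
    rw [lkf_eq, lkf_eq] at this
    simpa using this
  have hmono : ∀ j i, i < j → j < n → colOf C (lk w n piC i) < colOf C (lk w n piC j) := by
    intro j
    induction j with
    | zero => intro i hi; omega
    | succ j ih =>
      intro i hi hj
      rcases Nat.lt_succ_iff_lt_or_eq.mp hi with hi' | rfl
      · exact lt_trans (ih i hi' (by omega)) (hstep j hj)
      · exact hstep i hj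
  obtain ⟨i, rfl⟩ := (Equiv.surjective (toPerm w n piC)) x
  obtain ⟨j, rfl⟩ := (Equiv.surjective (toPerm w n piC)) y
  rw [toPerm_val hv, toPerm_val hv] at hxy
  rcases lt_trichotomy i.val j.val with hij | hij | hij
  · exact absurd hxy (ne_of_lt (hmono j.val i.val hij j.2))
  · rw [Fin.ext hij]
  · exact absurd hxy.symm (ne_of_lt (hmono i.val j.val hij i.2))

/-- the rigidity statement -/
theorem hdet_of_checks {D : GData} [NeZero D.n] (allB : List ℕ) (R CR piC : ℕ)
    (hD : nbOK D = true) (hCR : iterC D (C0 D allB) R = CR) (hv : Valid D.w D.n piC)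
    (hs : sortedOK D.w D.n CR piC = true) :
    ∀ g ∈ Kg D, FixesL D.n g allB → g = 1 := by
  intro g hg hfix
  have hinv : Inv g CR := hCR ▸ inv_iter hD hg (inv_C0 hfix) R
  apply Equiv.ext
  intro v
  exact sorted_inj hv hs (g v) v (hinv v)

/-! ### Pointwise versions, for checks split into pieces -/

/-- pointwise check of the initial colouring -/
noncomputable def c0Q (allB : List ℕ) (C v : ℕ) : Bool := Nat.beq (colOf C v) (c0 allB v)

/-- pointwise check of a refinement step -/
noncomputable def stepQ (D : GData) (C C' v : ℕ) : Bool := Nat.beq (colOf C' v) (rv D C v)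

theorem inv_of_c0 {D : GData} [NeZero D.n] {allB : List ℕ} {g : Equiv.Perm (Fin D.n)} {C : ℕ}
    (h : ∀ v < D.n, c0Q allB C v = true) (hfix : FixesL D.n g allB) : Inv g C := by
  have h0 := inv_C0 (D := D) hfix
  intro v
  have e1 : colOf C (g v).val = c0 allB (g v).val := Nat.eq_of_beq_eq_true (h _ (g v).2)
  have e2 : colOf C v.val = c0 allB v.val := Nat.eq_of_beq_eq_true (h _ v.2)
  have := h0 v
  rw [C0, colOf_pack _ (c0_lt allB) (g v).2, colOf_pack _ (c0_lt allB) v.2] at this
  rw [e1, e2, this]

theorem inv_step {D : GData} [NeZero D.n] (hD : nbOK D = true) {g : Equiv.Perm (Fin D.n)}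
    (hg : g ∈ Kg D) {C C' : ℕ} (h : ∀ v < D.n, stepQ D C C' v = true) (hC : Inv g C) :
    Inv g C' := by
  have h0 := inv_refine hD hg hC
  intro v
  have e1 : colOf C' (g v).val = rv D C (g v).val := Nat.eq_of_beq_eq_true (h _ (g v).2)
  have e2 : colOf C' v.val = rv D C v.val := Nat.eq_of_beq_eq_true (h _ v.2)
  have := h0 v
  rw [refineC, colOf_pack _ (rv_lt D C) (g v).2, colOf_pack _ (rv_lt D C) v.2] at this
  rw [e1, e2, this]

/-- the rigidity statement from an invariant injective colouring -/
theorem hdet_of_inv {n w : ℕ} [NeZero n] {g : Equiv.Perm (Fin n)} {CR piC : ℕ}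
    (hv : Valid w n piC) (hs : sortedOK w n CR piC = true) (hinv : Inv g CR) : g = 1 := by
  apply Equiv.ext
  intro v
  exact sorted_inj hv hs (g v) v (hinv v)

end Cfsg.Agent.Lib.Helper21.RR
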