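import Cfsg.Agent.Lib.Helper21.SteinerCounts

/-!
Bottom rows of the intersection triangle of an S(5,8,24): the number of blocks meeting a block
exactly in a prescribed subset of size 4 or 2.
-/

set_option autoImplicit false

namespace Cfsg.Agent.Lib.Helper21

open Cfsg Finset

variable {α : Type*} [Fintype α] [DecidableEq α]

theorem exact_inter_four (hα : Fintype.card α = 24) {B : Set (Finset α)}
    (hB : IsSteinerSystem 5 8 B) {b : Finset α} (hb : b ∈ B) {S : Finset α} (hS : S ⊆ b)
    (h4 : S.card = 4) : ((blocksFinset B).filter (fun c => b ∩ c = S)).card = 4 := by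
  classical
  have l4 := (lam_5_8_24 hα hB S).2.2.2.2 h4
  have : (blocksFinset B).filter (fun c => b ∩ c = S) = ((blocksFinset B).filter (S ⊆ ·)).erase b := by
    ext c
    simp only [mem_filter, mem_erase, mem_blocksFinset]
    constructor
    · rintro ⟨hc, hbc⟩
      refine ⟨?_, hc, ?_⟩
      · rintro rfl
        rw [inter_self] at hbc
        have := hB.1 c hc
        rw [hbc, h4] at this
        omega
      · rw [← hbc]; exact inter_subset_right
    · rintro ⟨hne, hc, hSc⟩
      refine ⟨hc, ?_⟩
      symm
      apply eq_of_subset_of_card_le (subset_inter hS hSc)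
      have := inter_card_lt hB hb hc (Ne.symm hne)
      omega
  rw [this, card_erase_of_mem, l4]
  rw [mem_filter, mem_blocksFinset]
  exact ⟨hb, hS⟩

theorem exact_inter_two (hα : Fintype.card α = 24) {B : Set (Finset α)}
    (hB : IsSteinerSystem 5 8 B) {b : Finset α} (hb : b ∈ B) {S : Finset α} (hS : S ⊆ b)
    (h2 : S.card = 2) : ((blocksFinset B).filter (fun c => b ∩ c = S)).card = 16 := by
  classical
  have l2 := (lam_5_8_24 hα hB S).2.2.1 h2
  set A := ((blocksFinset B).filter (S ⊆ ·)).erase b with hA
  have hAcard : A.card = 76 := by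
    rw [hA, card_erase_of_mem, l2]
    rw [mem_filter, mem_blocksFinset]
    exact ⟨hb, hS⟩
  have hAmem : ∀ c, c ∈ A ↔ c ≠ b ∧ c ∈ B ∧ S ⊆ c := by
    intro c
    simp only [hA, mem_erase, mem_filter, mem_blocksFinset]
  -- the members of A meet b in 2 or 4 points
  have hA24 : ∀ c ∈ A, (b ∩ c).card = 2 ∨ (b ∩ c).card = 4 := by
    intro c hc
    rw [hAmem] at hc
    have hge : 2 ≤ (b ∩ c).card := by
      rw [← h2]; exact card_le_card (subset_inter hS hc.2.2)
    rcases inter_5_8_24 hα hB hb hc.2.1 (Ne.symm hc.1) with h | h | h <;> omega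
  have hsplit : A.card = (A.filter (fun c => (b ∩ c).card = 2)).card
      + (A.filter (fun c => (b ∩ c).card = 4)).card := by
    rw [← card_union_of_disjoint]
    · congr 1
      ext c
      simp only [mem_union, mem_filter]
      constructor
      · intro hc
        rcases hA24 c hc with h | h
        · exact Or.inl ⟨hc, h⟩
        · exact Or.inr ⟨hc, h⟩
      · rintro (h | h) <;> exact h.1
    · rw [disjoint_left]
      intro c h1 h2'
      rw [mem_filter] at h1 h2'
      omega
  -- the first part is the set to count
  have h2set : A.filter (fun c => (b ∩ c).card = 2) = (blocksFinset B).filter (fun c => b ∩ c = S) := by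
    ext c
    simp only [mem_filter, hAmem, mem_blocksFinset]
    constructor
    · rintro ⟨⟨_, hc, hSc⟩, hcard⟩
      refine ⟨hc, ?_⟩
      symm
      apply eq_of_subset_of_card_le (subset_inter hS hSc)
      omega
    · rintro ⟨hc, hbc⟩
      refine ⟨⟨?_, hc, ?_⟩, ?_⟩
      · rintro rfl
        rw [inter_self] at hbc
        have := hB.1 c hc
        rw [hbc, h2] at this
        omega
      · rw [← hbc]; exact inter_subset_right
      · rw [hbc, h2]
  -- the second part is counted fibrewise over the 4-subsets of b containing S
  have h4card : (A.filter (fun c => (b ∩ c).card = 4)).card = 60 := by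
    have hmaps : ∀ c ∈ A.filter (fun c => (b ∩ c).card = 4),
        b ∩ c ∈ (b.powersetCard 4).filter (S ⊆ ·) := by
      intro c hc
      rw [mem_filter, hAmem] at hc
      rw [mem_filter, mem_powersetCard]
      exact ⟨⟨inter_subset_left, hc.2⟩, subset_inter hS hc.1.2.2⟩
    rw [card_eq_sum_card_fiberwise hmaps]
    rw [sum_congr rfl (g := fun _ => 4)]
    · rw [sum_const, card_filter_powersetCard_subset S b 4 hS (by omega), hB.1 b hb, h2]
      decide
    · intro T hT
      rw [mem_filter, mem_powersetCard] at hT
      have e4 := exact_inter_four hα hB hb hT.1.1 hT.1.2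
      have hset : (A.filter (fun c => (b ∩ c).card = 4)).filter (fun c => b ∩ c = T)
          = (blocksFinset B).filter (fun c => b ∩ c = T) := by
        ext c
        simp only [mem_filter, hAmem, mem_blocksFinset]
        constructor
        · rintro ⟨⟨⟨_, hc, _⟩, _⟩, hbc⟩
          exact ⟨hc, hbc⟩
        · rintro ⟨hc, hbc⟩
          refine ⟨⟨⟨?_, hc, ?_⟩, ?_⟩, hbc⟩
          · rintro rfl
            rw [inter_self] at hbc
            have := hB.1 c hc
            rw [hbc, hT.1.2] at this
            omega
          · rw [← hbc] at hT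
            exact hT.2.trans inter_subset_right
          · rw [hbc, hT.1.2]
      rw [hset, e4]
  rw [← h2set]
  omega

end Cfsg.Agent.Lib.Helper21
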