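import Cfsg.Agent.Lib.Helper21.GolayPerm
import Cfsg.Agent.Lib.Helper21.GolayRigid
import Cfsg.Agent.Lib.Helper21.GolayChain

/-!
Words in an arbitrary family of generators given by tables, evaluated on point positions.
-/

set_option autoImplicit false

namespace Cfsg.Agent.Lib.Helper21

open Cfsg
open scoped Pointwise

/-- A table permutation on point positions. -/
theorem permOfTab_ptN_lt (T TI : ℕ) (h : TabInv T TI) (i : ℕ) (hi : i < 24) :
    permOfTab T TI h (ptN i) = ptN (tabGet T i) ∧ tabGet T i < 24 := by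
  have h1 := (h ⟨i, hi⟩).1
  refine ⟨?_, h1⟩
  apply gEquiv.injective
  show gEquiv (tabMap T (ptN i)) = _
  rw [tabMap_apply h, gEquiv_ptN _ h1]
  apply Fin.ext
  show tabGet T ((gEquiv (ptN i) : Fin 24) : ℕ) = tabGet T i
  rw [gEquiv_ptN_val i hi]

/-- Evaluate a word in `k` letters on a point position through the tables `tq`. -/
def runG (tq : ℕ → ℕ) (k : ℕ) : ℕ → ℕ → ℕ → ℕ
  | 0, _, i => i
  | f + 1, w, i => if w ≤ 1 then i else runG tq k f (w / k) (tabGet (tq (w % k)) i)

/-- The permutation of a word in `k` letters. -/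
noncomputable def wordG (gen : ℕ → Equiv.Perm GolayPt) (k : ℕ) : ℕ → ℕ → Equiv.Perm GolayPt
  | 0, _ => 1
  | f + 1, w => if w ≤ 1 then 1 else wordG gen k f (w / k) * gen (w % k)

theorem wordG_induction (gen : ℕ → Equiv.Perm GolayPt) (k : ℕ) (C : Equiv.Perm GolayPt → Prop)
    (h1 : C 1) (hmul : ∀ g h, C g → C h → C (g * h)) (hgen : ∀ j, C (gen j)) (f w : ℕ) :
    C (wordG gen k f w) := by
  induction f generalizing w with
  | zero => exact h1
  | succ f ih =>
    rw [wordG]
    split
    · exact h1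
    · exact hmul _ _ (ih _) (hgen _)

theorem wordG_mem (H : Subgroup (Equiv.Perm GolayPt)) (gen : ℕ → Equiv.Perm GolayPt)
    (hgen : ∀ j, gen j ∈ H) (k f w : ℕ) : wordG gen k f w ∈ H :=
  wordG_induction gen k (fun g => g ∈ H) H.one_mem (fun _ _ hg hh => H.mul_mem hg hh) hgen f w

section Eval

variable (gen : ℕ → Equiv.Perm GolayPt) (tq : ℕ → ℕ)
  (hspec : ∀ j i, i < 24 → gen j (ptN i) = ptN (tabGet (tq j) i) ∧ tabGet (tq j) i < 24)

include hspec

theorem runG_lt (k f w i : ℕ) (hi : i < 24) : runG tq k f w i < 24 := by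
  induction f generalizing w i with
  | zero => exact hi
  | succ f ih =>
    rw [runG]
    split
    · exact hi
    · exact ih _ _ (hspec _ _ hi).2

theorem wordG_ptN (k f w i : ℕ) (hi : i < 24) :
    wordG gen k f w (ptN i) = ptN (runG tq k f w i) := by
  induction f generalizing w i with
  | zero => rfl
  | succ f ih =>
    rw [wordG, runG]
    split
    · rfl
    · rw [Equiv.Perm.mul_apply, (hspec _ _ hi).1, ih _ _ (hspec _ _ hi).2]

end Eval

/-- The image of a mask set under a permutation evaluated through a map of positions. -/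
theorem smul_maskFS_of_eval (g : Equiv.Perm GolayPt) (r : ℕ → ℕ)
    (hr : ∀ i < 24, g (ptN i) = ptN (r i) ∧ r i < 24) (D D' : ℕ) (hD : D < 2 ^ 24)
    (hD' : D' < 2 ^ 24) (hc : popc 24 D = popc 24 D')
    (h : ((List.range 24).all fun i => !D.testBit i || D'.testBit (r i)) = true) :
    g • maskFS D = maskFS D' := by
  apply Finset.eq_of_subset_of_card_le
  · intro p hp
    rw [← Finset.inv_smul_mem_iff] at hp
    have hq : g (g⁻¹ • p) = p := g.apply_symm_apply p
    generalize g⁻¹ • p = q at hp hq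
    rw [← hq, mem_maskFS]
    rw [mem_maskFS] at hp
    rw [List.all_eq_true] at h
    have h1 := h _ (List.mem_range.2 (gEquiv q).isLt)
    rw [hp] at h1
    have h2 : g q = ptN (r (gEquiv q : Fin 24)) := by
      rw [← (hr _ (gEquiv q).isLt).1, ptN_gEquiv]
    rw [h2, gEquiv_ptN_val _ (hr _ (gEquiv q).isLt).2]
    simpa using h1
  · rw [Finset.card_smul_finset, card_maskFS _ hD, card_maskFS _ hD', hc]

end Cfsg.Agent.Lib.Helper21
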